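import Cfsg.Agent.Omega.Lie.Out.Class
import Cfsg.Agent.Omega.Lie.Out.Orth
import Cfsg.Agent.Omega.Lie.Out.Exo
import Cfsg.Agent.StandardComponent.AltAut
import Cfsg.Agent.KFacts.He.Outer

/-!
# `OutNil` for groups of odd characteristic (step (1) of NIB)

* `outNil_of_pow` : the `2^n`-th powers of all automorphisms are inner;
* `outNil_alt`, `outNil_he`;
* `outNil_PSL` : `PSL n F` with `(F*)/(F*)^n` of order at most two (up to odd order);
* `outNil_PSU_nine`, `outNil_PSp_three`, `outNil_orth_three` : over `F_3`.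
-/

set_option autoImplicit false
set_option linter.style.haveILetI false

namespace Cfsg.Agent.OddHalf.NI3.Bad.OutPow

open Subgroup Cfsg Cfsg.Agent.Omega.Lie.OutT Cfsg.Agent.Schreier.Basic

open scoped commutatorElement

/-- an element of odd order some `2^n`-th power of which lies in `N` -/
theorem mem_of_pow_two_pow {B : Type*} [Group B] {N : Subgroup B} {t : B} (ht : Odd (orderOf t)) {n : ℕ}
    (h : t ^ 2 ^ n ∈ N) : t ∈ N := by
  have hc : Nat.Coprime (2 ^ n) (orderOf t) := Nat.Coprime.pow_left n (Nat.coprime_two_left.2 ht)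
  obtain ⟨k, hk⟩ := exists_pow_eq_self_of_coprime hc
  rw [← hk]
  exact N.pow_mem h k

/-- **Criterion**: the `2^n`-th powers of all automorphisms are inner. -/
theorem outNil_of_pow {L : Type*} [Group L] (n : ℕ)
    (h : ∀ φ : MulAut L, φ ^ 2 ^ n ∈ (MulAut.conj : L →* MulAut L).range) : OutNil L := by
  rw [outNil_iff]
  intro X T c
  have hn := conj_range_normal L
  refine c.le_of fun x _ t ht => ?_
  have ho : Odd (orderOf t) := by
    have h1 : orderOf (⟨t, ht⟩ : T) ∣ Nat.card T := orderOf_dvd_natCard _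
    rw [Subgroup.orderOf_mk] at h1
    exact Odd.of_dvd_nat c.odd h1
  have h1 : t ∈ (MulAut.conj : L →* MulAut L).range := mem_of_pow_two_pow ho (h t)
  have h2 := hn.conj_mem t h1 x⁻¹
  rw [inv_inv] at h2
  have e : x⁻¹ * (t * x * t⁻¹) = (x⁻¹ * t * x) * t⁻¹ := by group
  rw [e]
  exact mul_mem h2 (inv_mem h1)

/-- The squares of all automorphisms of `A_n`, `n ≥ 7`, are inner. -/
theorem sq_alt {n : ℕ} (hn : 7 ≤ n) (φ : MulAut ↥(alternatingGroup (Fin n))) :
    φ * φ ∈ (MulAut.conj : ↥(alternatingGroup (Fin n)) →* MulAut ↥(alternatingGroup (Fin n))).range := by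
  obtain ⟨m, rfl⟩ : ∃ m, n = m + 2 := ⟨n - 2, by omega⟩
  obtain ⟨σ, hσ⟩ := StandardComponent.AltAut.exists_conj (m := m) (by omega) φ
  have hs : σ * σ ∈ alternatingGroup (Fin (m + 2)) := by
    rw [Equiv.Perm.mem_alternatingGroup, map_mul]
    exact Int.units_mul_self _
  refine ⟨⟨σ * σ, hs⟩, ?_⟩
  apply MulEquiv.ext
  intro x
  apply Subtype.ext
  rw [MulAut.mul_apply, hσ, hσ]
  show σ * σ * (x : Equiv.Perm (Fin (m + 2))) * (σ * σ)⁻¹ = _
  group

theorem outNil_alt {n : ℕ} (hn : 7 ≤ n) : OutNil ↥(alternatingGroup (Fin n)) :=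
  outNil_of_pow 1 fun φ => by rw [pow_one, pow_two]; exact sq_alt hn φ

theorem outNil_he {K : Type*} [Group K] (h : Cfsg.Spor.IsoHe K) : OutNil K :=
  outNil_of_pow 1 fun φ => by rw [pow_one, pow_two]; exact KFacts.He.Outer.sq_inner h φ

/-! ### Linear groups -/

section PSL

open Matrix Cfsg.Agent.Schreier.ClassPSL
open Cfsg.Agent.ClassicalGeometry.AutPSL.Root Cfsg.Agent.ClassicalGeometry.AutPSL.Auto
  Cfsg.Agent.ClassicalGeometry.AutPSL.Main

variable {F : Type*} [Field F]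

/-- Scalar matrices. -/
def sc {ι : Type*} [Fintype ι] [DecidableEq ι] (s : Fˣ) : GL ι F :=
  Units.map (Matrix.scalar ι : F →+* Matrix ι ι F).toMonoidHom s

theorem cj_sc {ι : Type*} [Fintype ι] [DecidableEq ι] (s : Fˣ) :
    (cj (sc s) : MulAut (Matrix.SpecialLinearGroup ι F)) = 1 := by
  apply MulEquiv.ext
  intro x
  apply Subtype.ext
  have h1 : ((sc s : GL ι F) : Matrix ι ι F) * x.1 = x.1 * ((sc s : GL ι F) : Matrix ι ι F) :=
    (Matrix.scalar_commute (s : F) (fun r => mul_comm _ _) x.1).eq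
  show ((sc s : GL ι F) : Matrix ι ι F) * x.1 * (((sc s)⁻¹ : GL ι F) : Matrix ι ι F) = x.1
  rw [h1, mul_assoc, ← Units.val_mul, mul_inv_cancel, Units.val_one, mul_one]

theorem det_sc {n : ℕ} (s : Fˣ) : Matrix.GeneralLinearGroup.det (sc s : GL (Fin n) F) = s ^ n := by
  apply Units.ext
  rw [Matrix.GeneralLinearGroup.val_det_apply, Units.val_pow_eq_pow_val]
  show (Matrix.scalar (Fin n) (s : F)).det = _
  rw [Matrix.scalar_apply, Matrix.det_diagonal, Finset.prod_const, Finset.card_univ, Fintype.card_fin]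

theorem lift_cj_of_det_pow {n : ℕ} (A : GL (Fin n) F) {s : Fˣ} (h : s ^ n = Matrix.GeneralLinearGroup.det A) :
    lift (cj A) ∈ (MulAut.conj : Matrix.ProjectiveSpecialLinearGroup (Fin n) F →*
      MulAut (Matrix.ProjectiveSpecialLinearGroup (Fin n) F)).range := by
  have h1 : (cj A : MulAut (Matrix.SpecialLinearGroup (Fin n) F)) = cj ((sc s)⁻¹ * A) := by
    rw [map_mul, map_inv, cj_sc, inv_one, one_mul]
  rw [h1]
  apply lift_cj_of_det
  rw [map_mul, map_inv, det_sc, h, inv_mul_cancel]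

/-- `PSL n F`, `F*` modulo `n`-th powers of order at most two. -/
theorem outNil_PSL [Finite F] {n : ℕ} (hn : 2 ≤ n)
    (h : ∀ a b : Fˣ, (∃ s, s ^ n = a) ∨ (∃ s, s ^ n = b) ∨ ∃ s, s ^ n = a * b) :
    OutNil (Matrix.ProjectiveSpecialLinearGroup (Fin n) F) := by
  have := Fintype.ofFinite F
  obtain ⟨p, hp⟩ := CharP.exists F
  have hprime : Fact p.Prime := ⟨CharP.char_is_prime F p⟩
  rw [outNil_iff]
  intro X T c
  -- all automorphisms
  have hall : ∀ α : MulAut (Matrix.ProjectiveSpecialLinearGroup (Fin n) F),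
      ∃ a ∈ (cj : GL (Fin n) F →* MulAut (Matrix.SpecialLinearGroup (Fin n) F)).range,
        ∃ f : MulAut (Matrix.SpecialLinearGroup (Fin n) F),
          (∃ σ : F ≃+* F, f = fld σ ∨ f = fld σ * itr) ∧ α = lift (a * f) := by
    intro α
    rcases Nat.lt_or_ge n 3 with h | h
    · obtain rfl : n = 2 := by omega
      obtain ⟨A, σ, hA⟩ := surj_two p α
      exact ⟨_, ⟨A, rfl⟩, _, ⟨σ, Or.inl rfl⟩, hA⟩
    · rcases surj_three p h α with ⟨A, σ, hA⟩ | ⟨A, σ, hA⟩
      · exact ⟨_, ⟨A, rfl⟩, _, ⟨σ, Or.inl rfl⟩, hA⟩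
      · exact ⟨_, ⟨A, rfl⟩, _, ⟨σ, Or.inr rfl⟩, by rw [hA, mul_assoc]⟩
  have hF : ∀ f : MulAut (Matrix.SpecialLinearGroup (Fin n) F), (∃ σ : F ≃+* F, f = fld σ ∨ f = fld σ * itr) →
      ∀ x ∈ (cj : GL (Fin n) F →* MulAut (Matrix.SpecialLinearGroup (Fin n) F)).range,
        f * x * f⁻¹ ∈ (cj : GL (Fin n) F →* MulAut (Matrix.SpecialLinearGroup (Fin n) F)).range := by
    rintro f ⟨σ, rfl | rfl⟩ x hx
    · exact cj_norm_fld σ hx
    · have h1 : fld σ * itr * x * (fld σ * itr)⁻¹ = fld σ * (itr * x * itr⁻¹) * (fld σ)⁻¹ := by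
        group
      rw [h1]
      exact cj_norm_fld σ (cj_norm_itr hx)
  have hc : ∀ f g : MulAut (Matrix.SpecialLinearGroup (Fin n) F), (∃ σ : F ≃+* F, f = fld σ ∨ f = fld σ * itr) →
      (∃ σ : F ≃+* F, g = fld σ ∨ g = fld σ * itr) → f * g = g * f := by
    have hff := fun σ τ : F ≃+* F => fld_comm (ι := Fin n) σ τ
    have hif := fun σ : F ≃+* F => itr_mul_fld (ι := Fin n) σ
    rintro f g ⟨σ, rfl | rfl⟩ ⟨τ, rfl | rfl⟩
    · exact hff σ τ
    · rw [← mul_assoc, hff, mul_assoc, mul_assoc, hif]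
    · rw [mul_assoc, hif, ← mul_assoc, hff, mul_assoc]
    · rw [mul_assoc, ← mul_assoc itr, hif, mul_assoc, ← mul_assoc, hff, mul_assoc (fld τ) itr,
        ← mul_assoc itr, hif]
      simp only [mul_assoc]
  have h1 : X ≤ ((cj : GL (Fin n) F →* MulAut (Matrix.SpecialLinearGroup (Fin n) F)).range).map lift := by
    refine c.le_of fun x _ t _ => ?_
    obtain ⟨a, ha, f, hf, e1⟩ := hall x⁻¹
    obtain ⟨b, hb, g, hg, e2⟩ := hall t
    have e3 : x⁻¹ * (t * x * t⁻¹) = lift ⁅a * f, b * g⁆ := by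
      rw [map_commutatorElement, ← e1, ← e2, commutatorElement_def, inv_inv]
      simp only [mul_assoc]
    rw [e3]
    refine ⟨_, ?_, rfl⟩
    have h2 : ⁅a * f, b * g⁆ = a * (f * b * f⁻¹) * (g * a⁻¹ * g⁻¹) * b⁻¹ := by
      have h3 : f * g * f⁻¹ = g := by rw [hc f g hf hg, mul_inv_cancel_right]
      calc ⁅a * f, b * g⁆ = a * (f * b * f⁻¹) * (f * g * f⁻¹) * a⁻¹ * g⁻¹ * b⁻¹ := by
            rw [commutatorElement_def]; group
        _ = _ := by rw [h3]; group
    rw [h2]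
    exact mul_mem (mul_mem (mul_mem ha (hF f hf b hb)) (hF g hg _ (inv_mem ha))) (inv_mem hb)
  have hn' := conj_range_normal (Matrix.ProjectiveSpecialLinearGroup (Fin n) F)
  refine c.le_of_two' fun x hx y hy hxN hyN => ?_
  obtain ⟨_, ⟨A, rfl⟩, rfl⟩ := h1 hx
  obtain ⟨_, ⟨B, rfl⟩, rfl⟩ := h1 hy
  rcases h (Matrix.GeneralLinearGroup.det A) (Matrix.GeneralLinearGroup.det B) with ⟨s, hs⟩ | ⟨s, hs⟩ | ⟨s, hs⟩
  · exact absurd (lift_cj_of_det_pow A hs) hxN
  · exact absurd (lift_cj_of_det_pow B hs) hyN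
  · rw [← map_mul, ← map_mul]
    exact lift_cj_of_det_pow (A * B) (by rw [hs, map_mul])

/-- `L₂(q)`, `q` odd or even -/
theorem outNil_PSL_two (F : Type*) [Field F] [Finite F] : OutNil (Matrix.ProjectiveSpecialLinearGroup (Fin 2) F) := by
  refine outNil_PSL le_rfl fun a b => ?_
  obtain ⟨g, hg⟩ := IsCyclic.exists_generator (α := Fˣ)
  obtain ⟨i, hi⟩ := Subgroup.mem_zpowers_iff.1 (hg a)
  obtain ⟨j, hj⟩ := Subgroup.mem_zpowers_iff.1 (hg b)
  rcases Int.even_or_odd i with ⟨r, hr⟩ | ⟨r, hr⟩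
  · refine Or.inl ⟨g ^ r, ?_⟩
    rw [← hi, hr, pow_two, ← _root_.zpow_add]
  · rcases Int.even_or_odd j with ⟨k, hk⟩ | ⟨k, hk⟩
    · refine Or.inr (Or.inl ⟨g ^ k, ?_⟩)
      rw [← hj, hk, pow_two, ← _root_.zpow_add]
    · refine Or.inr (Or.inr ⟨g ^ (r + k + 1), ?_⟩)
      rw [← hi, ← hj, hr, hk, pow_two, ← _root_.zpow_add, ← _root_.zpow_add]
      congr 1
      ring

/-- the units of `F_3` -/
theorem units_three {F : Type*} [Field F] [Fintype F] (h3 : Fintype.card F = 3) (a : Fˣ) : a * a = 1 := by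
  have h1 : Nat.card Fˣ = 2 := by rw [Nat.card_units, Nat.card_eq_fintype_card, h3]
  have h2 : a ^ Nat.card Fˣ = 1 := pow_card_eq_one'
  rw [h1, pow_two] at h2
  exact h2

theorem units_three_eq {F : Type*} [Field F] [Fintype F] (h3 : Fintype.card F = 3) {a b : Fˣ} (ha : a ≠ 1)
    (hb : b ≠ 1) : a = b := by
  have key : ∀ c : Fˣ, c ≠ 1 → (c : F) = -1 := by
    intro c hc
    have h1 : (c : F) * c = 1 := by rw [← Units.val_mul, units_three h3, Units.val_one]
    rcases mul_self_eq_one_iff.1 h1 with h | h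
    · exact absurd (Units.ext h) hc
    · exact h
  exact Units.ext ((key a ha).trans (key b hb).symm)

/-- `L_n(3)` -/
theorem outNil_PSL_three {F : Type*} [Field F] [Fintype F] (h3 : Fintype.card F = 3) {n : ℕ} (hn : 2 ≤ n) :
    OutNil (Matrix.ProjectiveSpecialLinearGroup (Fin n) F) := by
  refine outNil_PSL hn fun a b => ?_
  by_cases ha : a = 1
  · exact Or.inl ⟨1, by rw [one_pow, ha]⟩
  · by_cases hb : b = 1
    · exact Or.inr (Or.inl ⟨1, by rw [one_pow, hb]⟩)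
    · refine Or.inr (Or.inr ⟨1, ?_⟩)
      rw [one_pow, units_three_eq h3 ha hb, units_three h3]

end PSL

/-! ### Unitary groups over `F_9` -/

section PSU

open Matrix Cfsg.Agent.Schreier.PSU Cfsg.Agent.ClassicalGeometry.PSUAutCount Cfsg.Agent.LieClassical.HermSiegel
open Cfsg.Agent.ClassicalGeometry.UnitAutBasic (pr pr_surjective)

theorem outNil_PSU_nine {F : Type*} [Field F] [Fintype F] (h9 : Fintype.card F = 9) {n : ℕ} (hn : 3 ≤ n) :
    OutNil (PSU n F 3) := by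
  have : Fact (Nat.Prime 3) := ⟨Nat.prime_three⟩
  have hF : Fintype.card F = 3 ^ 2 := by rw [h9]; norm_num
  have hρ : ∀ ρ : F ≃+* F, ρ * ρ = 1 := by
    intro ρ
    have h1 : Nat.card (F ≃+* F) = 2 := Lib.FieldAutCard.card_ringAut (p := 3) (f := 2) (by norm_num) hF
    have h2 : ρ ^ Nat.card (F ≃+* F) = 1 := pow_card_eq_one'
    rwa [h1, pow_two] at h2
  refine outNil_of_pow 4 fun α => ?_
  obtain ⟨A, ρ, h⟩ := ClassicalGeometry.PSUAutMain.exists_toAut hF hn (by omega) α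
  rw [toAut_eq A ρ] at h
  obtain ⟨A', hA'⟩ : ∃ A', f₂ ρ * f₁ A * (f₂ ρ)⁻¹ = f₁ A' := ⟨_, conj_field ρ A⟩
  have h1 : α * α = f₁ (A * A') := by
    calc α * α = f₁ A * (f₂ ρ * f₁ A * (f₂ ρ)⁻¹) * (f₂ ρ * f₂ ρ) := by rw [h]; group
      _ = f₁ (A * A') := by rw [hA', ← map_mul f₂, hρ, map_one, mul_one, map_mul]
  have h2 : α ^ 2 ^ 4 = f₁ ((A * A') ^ 8) := by
    rw [map_pow, ← h1, ← pow_two, ← pow_mul]
    norm_num
  rw [h2]
  have hdet : (gm ((A * A') ^ 8)).det = 1 := by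
    have h1 : (gm (A * A')).det ≠ 0 := by
      have h2 : (gm (A * A')).det * (gm (A * A')⁻¹).det = 1 := by rw [← det_mul, gm_mul_inv, det_one]
      exact left_ne_zero_of_mul_eq_one h2
    rw [gm_pow, det_pow]
    have h3 : (Units.mk0 _ h1) ^ Nat.card Fˣ = 1 := pow_card_eq_one'
    have h4 := congrArg Units.val h3
    rw [Units.val_pow_eq_pow_val, Units.val_mk0, Units.val_one, Nat.card_units, Nat.card_eq_fintype_card, h9] at h4
    exact h4
  let g : SU n F 3 := mkSU (gm ((A * A') ^ 8)) hdet (fun u v => herm_gm _ u v)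
  exact ⟨pr n F 3 g, (f₁_eq_conj ((A * A') ^ 8) g rfl).symm⟩

end PSU

/-- the automorphism group of `F_3` -/
theorem ringAut_three {F : Type*} [Field F] [Fintype F] (h3 : Fintype.card F = 3) (σ : F ≃+* F) :
    σ = RingEquiv.refl F := by
  have : Fact (Nat.Prime 3) := ⟨Nat.prime_three⟩
  have h1 : Nat.card (F ≃+* F) = 1 := Lib.FieldAutCard.card_ringAut (p := 3) (f := 1) le_rfl (by rw [h3]; norm_num)
  have h2 : σ ^ Nat.card (F ≃+* F) = 1 := pow_card_eq_one'
  rwa [h1, pow_one] at h2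

theorem mul_self_three {F : Type*} [Field F] [Fintype F] (h3 : Fintype.card F = 3) {a : F} (ha : a ≠ 0) :
    a * a = 1 := by
  have h1 := congrArg Units.val (units_three h3 (Units.mk0 a ha))
  simpa using h1

theorem two_ne_zero_three {F : Type*} [Field F] [Fintype F] (h3 : Fintype.card F = 3) : (2 : F) ≠ 0 := by
  intro h2
  have h1 : (Fintype.card F : F) = 0 := Nat.cast_card_eq_zero F
  rw [h3] at h1
  have h4 : (1 : F) = 0 := by
    have e : (1 : F) = ((3 : ℕ) : F) - 2 := by norm_num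
    rw [e, h1, h2, sub_zero]
  exact one_ne_zero h4

/-! ### Symplectic groups over `F_3` -/

section PSp

open Cfsg.Agent.Schreier.ClassPSp Cfsg.Agent.ClassicalGeometry.SympAutSemi

theorem outNil_PSp_three {F : Type*} [Field F] [Fintype F] (h3 : Fintype.card F = 3) {m : ℕ} (hm : 2 ≤ m) :
    OutNil (PSp m F) := by
  refine outNil_of_pow 1 fun α => ?_
  obtain ⟨g, hg⟩ := Cfsg.Agent.ClassicalGeometry.SympAutExists.exists_semi hm α
    (Cfsg.Agent.ClassicalGeometry.SympAutOddA.recog hm (Or.inr (two_ne_zero_three h3)) α)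
  rw [← hg, pow_one, ← map_pow]
  apply Psi_isom
  obtain ⟨φ, l, hl, h1⟩ := g.2
  rw [ringAut_three h3 φ] at h1
  have h2 := Omega.Lie.OutT.isSemi_pow h1 2
  rw [pow_two l, mul_self_three h3 hl] at h2
  exact h2

end PSp

/-! ### Orthogonal groups over `F_3` -/

section Orth

open QuadraticMap Cfsg.Agent.LieClassical.OrthCore Cfsg.Agent.LieClassical.OrthTrans
  Cfsg.Agent.LieClassical.OrthSimple Cfsg.Agent.LieClassical.OrthForms
  Cfsg.Agent.ClassicalGeometry.OrthSemi Cfsg.Agent.ClassicalGeometry.OrthSemiForms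
  Cfsg.Agent.Schreier.ClassPOmega

variable {F V : Type*} [Field F] [AddCommGroup V] [Module F V] {Q : QuadraticForm F V}

/-- squares of isometries -/
theorem O_sq [FiniteDimensional F V] (hG : Good Q) {g : V ≃ₗ[F] V} (hg : g ∈ O Q) : g * g ∈ E Q := by
  have hcl := O_eq_closure hG.nondeg
  rw [hcl] at hg
  induction hg using Subgroup.closure_induction with
  | mem x hx =>
    rcases hx with ⟨v, hv, rfl⟩ | ⟨u, w, hu, hw, rfl⟩
    · rw [refl_mul_self hv]; exact one_mem _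
    · exact mul_mem (siegel_mem_E hu hw) (siegel_mem_E hu hw)
  | one => rw [mul_one]; exact one_mem _
  | mul x y hx' hy' hx hy =>
    rw [← hcl] at hx' hy'
    have h1 : ⁅y, x⁆ ∈ E Q := hG.commutator_le_E (Subgroup.commutator_mem_commutator hy' hx')
    have e : x * y * (x * y) = (x * ⁅y, x⁆ * x⁻¹) * (x * x) * (y * y) := by
      rw [commutatorElement_def]; group
    rw [e]
    exact mul_mem (mul_mem (conj_mem_E hx' h1) hx) hy
  | inv x hx' hx =>
    rw [← mul_inv_rev]; exact inv_mem hx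

theorem outNil_P_three [Fintype F] (h3 : Fintype.card F = 3) [FiniteDimensional F V] (hG : Good Q)
    (hs : Function.Surjective (Psi Q)) : OutNil (↥(E Q) ⧸ Subgroup.center ↥(E Q)) := by
  refine outNil_of_pow 2 fun α => ?_
  obtain ⟨g, rfl⟩ := hs α
  obtain ⟨σ, l, h1⟩ := g.2
  rw [ringAut_three h3 σ] at h1
  have h2 := isSS_pow h1 2
  rw [pow_two l, mul_self_three h3 h1.ne] at h2
  have h4 : g ^ 2 ∈ isom Q := h2
  obtain ⟨n, hn, hgn⟩ := exists_lin h4
  have e : (Psi Q g) ^ 2 ^ 2 = Psi Q (g ^ 2 * g ^ 2) := by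
    rw [← map_pow, ← pow_add]
    norm_num
  rw [e]
  refine Psi_E (O_sq hG hn) fun v => ?_
  show (g ^ 2).1 ((g ^ 2).1 v) = n (n v)
  rw [hgn, hgn]

end Orth

section OrthRows

open QuadraticMap Cfsg.Agent.LieClassical.OrthCore Cfsg.Agent.LieClassical.OrthTrans
  Cfsg.Agent.LieClassical.OrthSimple Cfsg.Agent.LieClassical.OrthForms
  Cfsg.Agent.ClassicalGeometry.OrthSemi Cfsg.Agent.ClassicalGeometry.OrthSemiForms
  Cfsg.Agent.Schreier.ClassPOmega

variable {F : Type*} [Field F] [Fintype F]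

theorem outNil_odd_three (h3 : Fintype.card F = 3) {m : ℕ} (hm : 3 ≤ m) :
    OutNil (Cfsg.POmega F (Cfsg.quadFormOdd m F)) := by
  have h2 := two_ne_zero_three h3
  have hG := good_odd (F := F) (m := m) (by omega) h2
  have h1 := outNil_P_three h3 hG (Cfsg.Agent.AutOrth.Final.surjective_odd hm h2)
  have h3 := OutNil.of_equiv (pomegaEquiv hG).symm h1
  rwa [coe_oddForm] at h3

theorem outNil_minus_three (h3 : Fintype.card F = 3) {m : ℕ} (hm : 3 ≤ m) (a b : F)
    (hab : ∀ z₁ z₂ : F, z₁ ^ 2 + a * z₁ * z₂ + b * z₂ ^ 2 = 0 → z₁ = 0 ∧ z₂ = 0) :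
    OutNil (Cfsg.POmega F (Cfsg.quadFormMinus m F a b)) := by
  have hG := good_minus (F := F) (m := m) (by omega) a b hab
  have h1 := outNil_P_three h3 hG (Cfsg.Agent.AutOrth.Final.surjective_minus (by omega) hab)
  have h3 := OutNil.of_equiv (pomegaEquiv hG).symm h1
  rwa [coe_minusForm] at h3

end OrthRows

end Cfsg.Agent.OddHalf.NI3.Bad.OutPow
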