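import Cfsg.Agent.OddHalf.NI3.Sn
import Cfsg.Agent.OddHalf.Stmts
import Cfsg.Agent.OddHalf.Iface
import Cfsg.Agent.OddHalf.NI.Ex.Descend
import Cfsg.Agent.SignalizersComponents.IntrinsicDiag

/-!
# NI over `F₃`, THEOREM NIB, step (1): use of the unbalanced group theorem (S1311)

* `genFit_eq` : `F*(A) = N` for a simple normal subgroup `N` with `C(N) = 1`.
* `unb` : `X` simple, `α`, `β` commuting automorphisms, `α² = 1`, `β³ = 1`, not trivial, `β` trivial on a subgroup `F` of
  `fix α` normalised by `fix α` and with `x (β x)⁻¹ ∈ F` for all `x ∈ fix α`: `X` is in the list of S1311.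
-/

set_option autoImplicit false
set_option linter.style.haveILetI false

namespace Cfsg.Agent.OddHalf.NI3.Bad.Unb

open Subgroup Cfsg Cfsg.Agent.OddHalf.Iface Cfsg.Agent.SignalizersComponents
open Cfsg.Agent.OddHalf.NI.Ex (fix mem_fix)

universe u

/-- The conclusion of S1311. -/
def IsUnb (X : Type u) [Group X] : Prop :=
  LieOdd X ∨ (∃ n : ℕ, Odd n ∧ 7 ≤ n ∧ Nonempty (X ≃* ↥(alternatingGroup (Fin n)))) ∨
    (∃ (F : Type) (_ : Field F) (_ : Fintype F), Fintype.card F = 4 ∧
      Nonempty (X ≃* Matrix.ProjectiveSpecialLinearGroup (Fin 3) F)) ∨ Spor.IsoHe X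

theorem genFit_eq {A : Type*} [Group A] [Finite A] {N : Subgroup A} (hN : N.Normal) (hs : IsSimpleGroup N)
    (hna : ¬ IsMulCommutative N) (hc : centralizer (N : Set A) = ⊥) : generalizedFittingSubgroup A = N := by
  have hNc : IsComponent N := ⟨hN.isSubnormal, IntrinsicDiag.quasisimple_of_simple hs hna⟩
  have hNl : N ≤ layer A := Components.component_le_layer hNc
  have hl : layer A ≤ N := by
    rw [Components.layer_le_iff]
    intro L hL
    by_contra hne
    have hLN : L ≠ N := fun h => hne (h ▸ le_rfl)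
    have h1 := Components.component_le_centralizer_of_ne hL hNc hLN
    rw [hc, le_bot_iff] at h1
    exact Components.component_ne_bot hL h1
  have hf : fittingSubgroup A ≤ N := by
    have h1 : fittingSubgroup A ≤ centralizer (N : Set A) := by
      rw [le_centralizer_iff]
      exact hNl.trans Components.layer_le_centralizer_fitting
    rw [hc, le_bot_iff] at h1
    rw [h1]; exact bot_le
  exact le_antisymm (sup_le hl hf) (hNl.trans le_sup_left)


section Transfer

variable {X Y : Type u} [Group X] [Group Y]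

theorem IsUnb.congr (e : X ≃* Y) (h : IsUnb X) : IsUnb Y := by
  rcases h with ⟨p, h1, h2, h3⟩ | ⟨n, h1, h2, ⟨f⟩⟩ | ⟨F, i, j, h1, ⟨f⟩⟩ | ⟨⟨f⟩⟩
  · exact Or.inl ⟨p, h1, h2, Known.isLieTypeChar_congr e h3⟩
  · exact Or.inr (Or.inl ⟨n, h1, h2, ⟨e.symm.trans f⟩⟩)
  · exact Or.inr (Or.inr (Or.inl ⟨F, i, j, h1, ⟨e.symm.trans f⟩⟩))
  · exact Or.inr (Or.inr (Or.inr (⟨e.symm.trans f⟩ : Nonempty _)))

end Transfer

section

variable {X : Type u} [Group X]

theorem conj_mul_eq (α : MulAut X) (x : X) : α * MulAut.conj x = MulAut.conj (α x) * α := by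
  ext y
  simp [MulAut.conj_apply]

/-- **S1311 for commuting automorphisms.** -/
theorem unb (h1311 : Stmts.P1311.{u}) [Finite X] (hs : IsSimpleGroup X) (hna : ¬ IsMulCommutative X)
    {α β : MulAut X} (hα : α * α = 1) (hα1 : α ≠ 1) (hβ : β * β * β = 1) (hβ1 : β ≠ 1) (hc : α * β = β * α)
    (F : Subgroup X) (hFn : ∀ x, α x = x → ∀ f ∈ F, x * f * x⁻¹ ∈ F) (hFβ : ∀ f ∈ F, β f = f)
    (hFα : ∀ f ∈ F, α f = f) (hFx : ∀ x, α x = x → x * (β x)⁻¹ ∈ F) : IsUnb X := by
  haveI : Fact (Nat.Prime 2) := ⟨Nat.prime_two⟩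
  have hZ : center X = ⊥ := by
    rcases hs.eq_bot_or_eq_top_of_normal (center X) inferInstance with h | h
    · exact h
    · exfalso
      apply hna
      refine ⟨⟨fun a b => ?_⟩⟩
      exact mem_center_iff.mp (h ▸ mem_top b : b ∈ center X) a
  have hinj : Function.Injective (MulAut.conj : X →* MulAut X) := by
    rw [injective_iff_map_eq_one]
    intro x hx
    rw [← mem_bot, ← hZ, mem_center_iff]
    intro y
    have h1 := DFunLike.congr_fun hx y
    rw [MulAut.conj_apply, MulAut.one_apply, mul_inv_eq_iff_eq_mul] at h1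
    exact h1.symm
  set I : Subgroup (MulAut X) := (MulAut.conj : X →* MulAut X).range with hI
  have hIn : I.Normal := by
    refine ⟨?_⟩
    rintro _ ⟨x, rfl⟩ g
    exact ⟨g x, by rw [conj_mul_eq, mul_inv_cancel_right]⟩
  set K : Subgroup (MulAut X) := closure {α, β} with hK
  have hKc : ∀ k ∈ K, k * α = α * k := by
    intro k hk
    have h1 : K ≤ centralizer ({α} : Set (MulAut X)) := by
      rw [hK, closure_le]
      rintro k (rfl | rfl)
      · exact mem_centralizer_singleton_iff.2 rfl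
      · exact mem_centralizer_singleton_iff.2 hc.symm
    exact mem_centralizer_singleton_iff.1 (h1 hk)
  have hKb : ∀ k ∈ K, k * β = β * k := by
    intro k hk
    have h1 : K ≤ centralizer ({β} : Set (MulAut X)) := by
      rw [hK, closure_le]
      rintro k (rfl | rfl)
      · exact mem_centralizer_singleton_iff.2 hc
      · exact mem_centralizer_singleton_iff.2 rfl
    exact mem_centralizer_singleton_iff.1 (h1 hk)
  have hKF : ∀ k ∈ K, ∀ f ∈ F, k f = f := by
    intro k hk f hf
    have h1 : K ≤ MulAction.stabilizer (MulAut X) f := by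
      rw [hK, closure_le]
      rintro k (rfl | rfl)
      · exact hFα f hf
      · exact hFβ f hf
    exact h1 hk
  set A : Subgroup (MulAut X) := I ⊔ K with hA
  have hIA : I ≤ A := le_sup_left
  have hαA : α ∈ A := (le_sup_right : K ≤ A) (subset_closure (Or.inl rfl))
  have hβA : β ∈ A := (le_sup_right : K ≤ A) (subset_closure (Or.inr rfl))
  -- the elements of `C_A(α)`
  have hdec : ∀ c ∈ centralizer ({α} : Set (MulAut X)) ⊓ A, ∃ x : X, α x = x ∧ ∃ k ∈ K, c = MulAut.conj x * k := by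
    intro c hc0
    have hc1 := (mem_inf.1 hc0).1
    have hc2 : c ∈ I ⊔ K := (mem_inf.1 hc0).2
    obtain ⟨_, ⟨x, rfl⟩, k, hk, rfl⟩ := (Subgroup.mem_sup_of_normal_left).1 hc2
    refine ⟨x, ?_, k, hk, rfl⟩
    apply hinj
    rw [mem_centralizer_singleton_iff] at hc1
    have h1 : MulAut.conj x * α * k = MulAut.conj (α x) * α * k := by
      calc MulAut.conj x * α * k = MulAut.conj x * k * α := by rw [mul_assoc, ← hKc k hk, mul_assoc]
        _ = α * (MulAut.conj x * k) := hc1
        _ = MulAut.conj (α x) * α * k := by rw [← mul_assoc, conj_mul_eq]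
    exact (mul_right_cancel (mul_right_cancel h1)).symm
  -- the subnormal chain
  set N : Subgroup (MulAut X) := F.map (MulAut.conj : X →* MulAut X) with hN
  set W : Subgroup (MulAut X) := N ⊔ zpowers β with hW
  have hWC : W ≤ centralizer ({α} : Set (MulAut X)) ⊓ A := by
    refine sup_le ?_ ?_
    · rintro _ ⟨f, hf, rfl⟩
      refine mem_inf.2 ⟨?_, hIA ⟨f, rfl⟩⟩
      rw [mem_centralizer_singleton_iff]
      show MulAut.conj f * α = α * MulAut.conj f
      rw [conj_mul_eq, hFα f hf]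
    · rw [zpowers_le]
      exact ⟨mem_centralizer_singleton_iff.2 hc.symm, hβA⟩
  have s1 : Sn (zpowers β) W := by
    refine Sn.of_normal le_sup_right (sup_le ?_ le_normalizer)
    refine le_trans ?_ (centralizer_le_normalizer _)
    rintro _ ⟨f, hf, rfl⟩
    rw [mem_centralizer_iff]
    rintro _ ⟨n, rfl⟩
    have h1 : Commute β (MulAut.conj f) := by
      show β * MulAut.conj f = MulAut.conj f * β
      rw [conj_mul_eq, hFβ f hf]
    exact (h1.zpow_left n).eq
  have s2 : Sn W (centralizer ({α} : Set (MulAut X)) ⊓ A) := by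
    refine Sn.of_normal hWC ?_
    have key : ∀ c ∈ centralizer ({α} : Set (MulAut X)) ⊓ A, W ≤ W.comap (MulAut.conj c).toMonoidHom := by
      intro c hc'
      obtain ⟨x, hx, k, hk, rfl⟩ := hdec c hc'
      refine sup_le ?_ ?_
      · rintro _ ⟨f, hf, rfl⟩
        rw [mem_comap]
        have h1 : (MulAut.conj (MulAut.conj x * k)).toMonoidHom (MulAut.conj f) = MulAut.conj (x * f * x⁻¹) := by
          show MulAut.conj x * k * MulAut.conj f * (MulAut.conj x * k)⁻¹ = _
          rw [mul_assoc (MulAut.conj x), conj_mul_eq, hKF k hk f hf, map_mul, map_mul, map_inv]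
          group
        rw [h1]
        exact mem_sup_left ⟨_, hFn x hx f hf, rfl⟩
      · rw [zpowers_le, mem_comap]
        have h1 : (MulAut.conj (MulAut.conj x * k)).toMonoidHom β = MulAut.conj (x * (β x)⁻¹) * β := by
          show MulAut.conj x * k * β * (MulAut.conj x * k)⁻¹ = _
          have h2 : β * (MulAut.conj x)⁻¹ = (MulAut.conj (β x))⁻¹ * β := by
            rw [eq_inv_mul_iff_mul_eq, ← mul_assoc, ← conj_mul_eq, mul_inv_cancel_right]
          rw [mul_assoc (MulAut.conj x), hKb k hk, mul_inv_rev, map_mul, map_inv]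
          calc MulAut.conj x * (β * k) * (k⁻¹ * (MulAut.conj x)⁻¹) = MulAut.conj x * (β * (MulAut.conj x)⁻¹) := by group
            _ = MulAut.conj x * (MulAut.conj (β x))⁻¹ * β := by rw [h2]; group
        rw [h1]
        exact mul_mem (mem_sup_left ⟨_, hFx x hx, rfl⟩) (mem_sup_right (mem_zpowers β))
    intro c hc'
    rw [Cit.mem_normalizer_iff_cj]
    apply le_antisymm
    · rw [Cit.cj_def, map_le_iff_le_comap]
      exact key c hc'
    · intro y hy
      rw [Cit.mem_cj]
      have h1 := key c⁻¹ (inv_mem hc') hy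
      rw [mem_comap] at h1
      have h2 : (MulAut.conj c⁻¹).toMonoidHom y = c⁻¹ * y * c := by
        show c⁻¹ * y * c⁻¹⁻¹ = _
        rw [inv_inv]
      rwa [h2] at h1
  have s3 := (s1.trans s2).comap A.subtype
  -- `F*(A)`
  have hα' : orderOf (⟨α, hαA⟩ : ↥A) = 2 := by
    refine orderOf_eq_prime ?_ ?_
    · rw [pow_two]; exact Subtype.ext hα
    · intro h; exact hα1 (congrArg Subtype.val h)
  let e1 : X ≃* ↥I := MulEquiv.ofBijective (MulAut.conj : X →* MulAut X).rangeRestrict
    ⟨fun a b h => hinj (congrArg Subtype.val h), MonoidHom.rangeRestrict_surjective _⟩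
  let e2 : ↥I ≃* ↥(I.subgroupOf A) := (subgroupOfEquivOfLe hIA).symm
  have hIAn : (I.subgroupOf A).Normal := inferInstance
  haveI hsI : IsSimpleGroup ↥(I.subgroupOf A) := by
    haveI := hs
    exact (e1.trans e2).symm.isSimpleGroup
  have hnaI : ¬ IsMulCommutative ↥(I.subgroupOf A) := by
    intro h
    apply hna
    refine ⟨⟨fun a b => ?_⟩⟩
    apply (e1.trans e2).injective
    rw [map_mul, map_mul]
    exact h.is_comm.comm _ _
  have hcen : centralizer ((I.subgroupOf A : Subgroup ↥A) : Set ↥A) = ⊥ := by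
    rw [eq_bot_iff]
    intro g hg
    rw [mem_bot]
    apply Subtype.ext
    show (g : MulAut X) = 1
    ext x
    rw [MulAut.one_apply]
    have h1 := mem_centralizer_iff.1 hg ⟨MulAut.conj x, hIA ⟨x, rfl⟩⟩ (show MulAut.conj x ∈ I from ⟨x, rfl⟩)
    have h2 : MulAut.conj x * (g : MulAut X) = g * MulAut.conj x := congrArg Subtype.val h1
    rw [conj_mul_eq] at h2
    exact (hinj (mul_right_cancel h2)).symm
  have hF := genFit_eq hIAn hsI hnaI hcen
  -- the core
  have hcore : centralizerPPrimeCore 2 (⟨α, hαA⟩ : ↥A) ≠ ⊥ := by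
    intro h
    have h0 := (Subgroup.map_eq_bot_iff_of_injective _
      (centralizer ({(⟨α, hαA⟩ : ↥A)} : Set ↥A)).subtype_injective).1 h
    have h2 : (centralizer ({α} : Set (MulAut X)) ⊓ A).comap A.subtype =
        centralizer ({(⟨α, hαA⟩ : ↥A)} : Set ↥A) := by
      ext x
      rw [mem_comap, mem_inf]
      simp only [coe_subtype, mem_centralizer_singleton_iff]
      constructor
      · rintro ⟨h3, -⟩
        exact Subtype.ext h3
      · intro h3
        exact ⟨congrArg Subtype.val h3, x.2⟩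
    rw [h2] at s3
    have h3 := CompBasic.subnormal_coprime_le_pPrimeCore (p := 2) s3.2 ?_
    · rw [h0, le_bot_iff] at h3
      have hβC : (⟨β, hβA⟩ : ↥A) ∈ centralizer ({(⟨α, hαA⟩ : ↥A)} : Set ↥A) :=
        mem_centralizer_singleton_iff.2 (Subtype.ext hc.symm)
      have h4 : (⟨⟨β, hβA⟩, hβC⟩ : ↥(centralizer ({(⟨α, hαA⟩ : ↥A)} : Set ↥A))) ∈
          ((zpowers β).comap A.subtype).subgroupOf (centralizer ({(⟨α, hαA⟩ : ↥A)} : Set ↥A)) := mem_zpowers β
      rw [h3, mem_bot] at h4
      exact hβ1 (congrArg Subtype.val (congrArg Subtype.val h4))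
    · have h5 : Nat.card (((zpowers β).comap A.subtype).subgroupOf (centralizer ({(⟨α, hαA⟩ : ↥A)} : Set ↥A))) ∣
          Nat.card (zpowers β) := by
        refine (Subgroup.card_comap_dvd_of_injective _ _ (subtype_injective _)).trans ?_
        exact Subgroup.card_comap_dvd_of_injective _ _ (subtype_injective _)
      rw [Nat.card_zpowers] at h5
      exact Nat.Coprime.of_dvd_left h5 ((Nat.coprime_two_right).2 (odd_of_cube hβ))
  -- conclusion
  have hs' : IsSimpleGroup ↥(generalizedFittingSubgroup ↥A) := by rw [hF]; exact hsI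
  have hna' : ¬ IsMulCommutative ↥(generalizedFittingSubgroup ↥A) := by rw [hF]; exact hnaI
  have h5 : IsUnb ↥(generalizedFittingSubgroup ↥A) := h1311 hs' hna' ⟨α, hαA⟩ hα' hcore
  exact h5.congr ((MulEquiv.subgroupCongr hF).trans (e1.trans e2).symm)

end

section

open Cfsg.Agent.OddHalf.NI.Ex (bar bar_mk bar_mul bar_one eq_one_of_bar)

variable {L : Type u} [Group L] [Finite L]

/-- **S1311 for quasisimple groups.** -/
theorem unbQ (h1311 : Stmts.P1311.{u}) (hq : IsQuasisimple L) {α β : MulAut L} (hα : α * α = 1)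
    (hβ : β * β * β = 1) (hβ1 : β ≠ 1) (hc : α * β = β * α) (hf : ∀ x, α x = x → β x = x)
    (hz : ∀ x ∈ center L, β x = x) : IsUnb (L ⧸ center L) := by
  have hp : commutator L = ⊤ := hq.1.commutator_eq_top
  have hmk : ∀ x y : L, (x : L ⧸ center L) = (y : L ⧸ center L) → ∃ ζ ∈ center L, x * ζ = y := by
    intro x y h
    exact ⟨x⁻¹ * y, QuotientGroup.eq.1 h, by group⟩
  have key : ∀ l ζ : L, ζ ∈ center L → α l = l * ζ → ∀ f, α f = f → α (l * f * l⁻¹) = l * f * l⁻¹ := by
    intro l ζ hζ hl f hf'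
    rw [map_mul, map_mul, map_inv, hl, hf']
    have h1 : ζ * f = f * ζ := (mem_center_iff.1 hζ f).symm
    calc l * ζ * f * (l * ζ)⁻¹ = l * (ζ * f) * ζ⁻¹ * l⁻¹ := by group
      _ = l * f * l⁻¹ := by rw [h1]; group
  refine unb h1311 hq.2 (Soft.quo_na hq) (α := bar α) (β := bar β) ?_ ?_ ?_ ?_ ?_
    ((fix α).map (QuotientGroup.mk' (center L))) ?_ ?_ ?_ ?_
  · rw [← bar_mul, hα, bar_one]
  · intro h
    have h1 := eq_one_of_bar hp h
    apply hβ1
    ext x
    exact hf x (by rw [h1, MulAut.one_apply])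
  · rw [← bar_mul, ← bar_mul, hβ, bar_one]
  · exact fun h => hβ1 (eq_one_of_bar hp h)
  · rw [← bar_mul, ← bar_mul, hc]
  · intro x hx
    obtain ⟨l, rfl⟩ := QuotientGroup.mk_surjective x
    rintro _ ⟨f, hf', rfl⟩
    rw [bar_mk] at hx
    obtain ⟨ζ, hζ, h1⟩ := hmk _ _ hx.symm
    exact ⟨l * f * l⁻¹, key l ζ hζ h1.symm f hf', rfl⟩
  · rintro _ ⟨f, hf', rfl⟩
    show bar β (f : L ⧸ center L) = (f : L ⧸ center L)
    rw [bar_mk, hf f hf']
  · rintro _ ⟨f, hf', rfl⟩
    show bar α (f : L ⧸ center L) = (f : L ⧸ center L)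
    rw [bar_mk, show α f = f from hf']
  · intro x hx
    obtain ⟨l, rfl⟩ := QuotientGroup.mk_surjective x
    rw [bar_mk] at hx
    obtain ⟨ζ, hζ, h1⟩ := hmk _ _ hx.symm
    refine ⟨l * (β l)⁻¹, ?_, rfl⟩
    show α (l * (β l)⁻¹) = l * (β l)⁻¹
    have h2 : α (β l) = β l * ζ := by
      have h3 : α (β l) = β (α l) := DFunLike.congr_fun hc l
      rw [h3, ← h1, map_mul, hz ζ hζ]
    rw [map_mul, map_inv, h2, ← h1]
    have h4 : ζ * (β l)⁻¹ = (β l)⁻¹ * ζ := (mem_center_iff.1 hζ _).symm
    calc l * ζ * (β l * ζ)⁻¹ = l * (ζ * ζ⁻¹) * (β l)⁻¹ := by group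
      _ = l * (β l)⁻¹ := by group

end

end Cfsg.Agent.OddHalf.NI3.Bad.Unb
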