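import Cfsg.Agent.OddHalf.NI3.Bad.Defs
import Cfsg.Agent.OddHalf.NI3.Ex.Cut
import Cfsg.Agent.OddHalf.NI3.Niv3Lib
import Cfsg.Agent.OddHalf.NI.Niv
import Cfsg.Agent.OddHalf.NI.Rows
import Cfsg.Agent.S0280
import Cfsg.Agent.OddHalf.U2.MultOf
import Cfsg.Agent.KFacts.MulOdd.ThreeOdd

/-!
# The bad types over the field with three elements: consumers of THEOREM NIB (helper656)

`NIB` (bb ODD #14136, helper515): `2.U₄(3)` is not a component of `C(y)`, `y` its central involution.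

* `nivb`: `2.U₄(3)` is not a component of the centralizer of `⟨t, y⟩`, `y` its central involution;
* `HasU K`: `K` contains a component `2.U₄(3) ∋ y` of `C_K(y)`; `noU`: no component of an involution centralizer has it;
* `rowU43`: the row `2.U₄(3)` of U2;
* `small6`: a standard simple `K` of type `Rk 3` is `L₃(3)`, `U₃(3)`, `L₄(3)`, `U₄(3)`, `PSp₄(3)` or `G₂(3)`;
* `three_of`: the rows over `F₃` of D6.
-/

set_option autoImplicit false
set_option linter.style.haveILetI false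

namespace Cfsg.Agent.OddHalf.NI3.Bad

open Subgroup Cfsg Cfsg.Agent.OddHalf.Iface Cfsg.Agent.SignalizersComponents Cfsg.Agent.OddHalf.LieOddFam
  Cfsg.Agent.OddHalf.D9.Cut
open Cfsg.Agent.OddHalf.D3 (cj Comp FT mem_cs)
open Cfsg.Agent.OddHalf.NI (CompIn Dg pump2 bl_core compIn_of_comp compIn_of_comp_sub compIn_of_centralizes)
open Cfsg.Agent.OddHalf.NI.Ex (exc altCover_comp rankOne_false auto auto_mul fix fix_auto)
open Cfsg.Agent.OddHalf.NI.Final (comp_of_compOf compOf_of_comp CompIn.of_inf)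
open Cfsg.Agent.OddHalf.NI3.Final (quoCongr simple_of_center)
open Cfsg.Agent.KFacts.MulDef (NoDouble)

universe u

/-- `M` is the double cover of `U₄(3)`. -/
def TwoU (M : Type*) [Group M] : Prop := Nat.card ↥(center M) = 2 ∧ XU43 (M ⧸ center M)

/-- What is used besides `NIB`. -/
structure Given : Prop where
  ft : ∀ (G : Type u) [Group G] [Finite G], FT G
  noThree : NoThree.{u}
  noBig : NI.NoBig.{u}
  f13c : F13c.{u}
  gw : RankOne.GW.{u}
  p1738 : Stmts.P1738.{u}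
  d5 : D5cover.{u}
  mult : D9.Cut.Mult.{u}
  rows3 : Ex.Rows3.{u}

/-! ### Types -/

theorem xU43_rk {X : Type*} [Group X] (h : XU43 X) : Rk X 3 := by
  obtain ⟨F, _, _, hF, f⟩ := h
  exact Or.inr (Or.inr (Or.inl ⟨F, _, _, 4, by simpa using hF, by norm_num, f⟩))

theorem xU43_cov {X : Type*} [Group X] (h : XU43 X) : Cov3 X := by
  obtain ⟨F, _, _, hF, f⟩ := h
  exact Or.inr (Or.inl ⟨F, _, _, 4, hF, le_rfl, f⟩)

theorem xU43_congr {X Y : Type*} [Group X] [Group Y] (e : X ≃* Y) (h : XU43 X) : XU43 Y := by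
  obtain ⟨F, i1, i2, hF, ⟨f⟩⟩ := h
  exact ⟨F, i1, i2, hF, ⟨e.symm.trans f⟩⟩

/-- The types over `F₃` outside of `Cov3` have odd multiplier. -/
theorem noDouble_of_rk {X : Type u} [Group X] (h : Rk X 3) (hc : ¬ Cov3 X) : NoDouble X := by
  rcases h with h | h | h | h | h | h | h | h | h | h | h | h | h
  · obtain ⟨F, _, _, n, h1, h2, ⟨e⟩⟩ := h
    by_cases h3 : n = 3
    · subst h3
      exact (KFacts.MulOdd.TypeA.noDouble_L33 (by rw [Nat.card_eq_fintype_card, h1])).congr e.symm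
    · exact absurd (Or.inl ⟨F, _, _, n, h1, by omega, ⟨e⟩⟩) hc
  · exact absurd (Or.inr (Or.inr (Or.inl h))) hc
  · obtain ⟨F, _, _, n, h1, h2, ⟨e⟩⟩ := h
    have h1' : Fintype.card F = 9 := by simpa using h1
    by_cases h3 : n = 3
    · subst h3
      exact (KFacts.MulOdd.UThree.noDouble_U33 h1').congr e.symm
    · exact absurd (Or.inr (Or.inl ⟨F, _, _, n, h1', by omega, ⟨e⟩⟩)) hc
  · exact absurd (Or.inr (Or.inr (Or.inr (Or.inl h)))) hc
  · exact absurd (Or.inr (Or.inr (Or.inr (Or.inr (Or.inl h))))) hc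
  · exact absurd (Or.inr (Or.inr (Or.inr (Or.inr (Or.inr (Or.inl h)))))) hc
  · obtain ⟨F, _, _, hF, ⟨e⟩⟩ := h
    haveI : CharP F 3 := KFacts.MulOdd.ThreeOdd.charP_three (n := 1) (by rw [hF]; norm_num)
    exact (KFacts.MulOdd.Main.noDouble (KFacts.MulOdd.InstChev.inst_G2 F 3 (by norm_num))).congr e.symm
  · obtain ⟨F, _, _, hF, ⟨e⟩⟩ := h
    haveI : CharP F 3 := KFacts.MulOdd.ThreeOdd.charP_three (n := 1) (by rw [hF]; norm_num)
    exact (KFacts.MulOdd.Main.noDouble (KFacts.MulOdd.InstChev.inst_F4 F 3 (by norm_num))).congr e.symm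
  · obtain ⟨F, _, _, hF, ⟨e⟩⟩ := h
    haveI : CharP F 3 := KFacts.MulOdd.ThreeOdd.charP_three (n := 1) (by rw [hF]; norm_num)
    exact (KFacts.MulOdd.Main.noDouble (KFacts.MulOdd.InstChev.inst_E6 F 3 (by norm_num)
      (by rw [Nat.card_eq_fintype_card, hF]; norm_num))).congr e.symm
  · exact absurd (Or.inr (Or.inr (Or.inr (Or.inr (Or.inr (Or.inr h)))))) hc
  · obtain ⟨F, _, _, hF, ⟨e⟩⟩ := h
    haveI : CharP F 3 := KFacts.MulOdd.ThreeOdd.charP_three (n := 1) (by rw [hF]; norm_num)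
    exact (KFacts.MulOdd.Main.noDouble (KFacts.MulOdd.InstChev.inst_E8 F 3 (by norm_num))).congr e.symm
  · obtain ⟨F, _, _, hF, ⟨e⟩⟩ := h
    haveI : CharP F 3 := KFacts.MulOdd.ThreeOdd.charP_three (n := 2) hF
    exact (KFacts.MulOdd.Main.noDouble (KFacts.MulOdd.InstTw.inst_E6 (q := 3) Nat.prime_three.isPrimePow 3
      (by norm_num) hF (by norm_num))).congr e.symm
  · obtain ⟨F, _, _, hF, ⟨e⟩⟩ := h
    haveI : CharP F 3 := KFacts.MulOdd.ThreeOdd.charP_three (n := 3) hF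
    exact (KFacts.MulOdd.Main.noDouble (KFacts.MulOdd.InstTw.inst_D4 (q := 3) Nat.prime_three.isPrimePow 3
      (by norm_num) hF)).congr e.symm

/-! ### Components of type `Rk 3` with nontrivial centre -/

/-- A component with nontrivial centre of an involution centralizer of type `Rk 3` is `2.U₄(3)`. -/
theorem twoU_of_rk (H : Given.{u}) {G : Type u} [Group G] (C : Ctx G) {t : G} {K : Subgroup G} (ht : orderOf t = 2)
    (hK : Comp t K) (hz : center ↥K ≠ ⊥) (hr : Rk (↥K ⧸ center ↥K) 3) : TwoU ↥K := by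
  by_contra hb
  have := C.fin
  have hc : CompOf t K := compOf_of_comp hK
  have hz2 : IsPGroup 2 ↥(center ↥K) := Soft.CompOf.center_isPGroup (C.bal t ht) hc
  by_cases h3 : Cov3 (↥K ⧸ center ↥K)
  · exact H.noThree G C t K ht hc (H.f13c ↥K hK.quasi hz2 hz h3 hb)
  · exact KFacts.MulOdd.Rows.not_qsTwo (noDouble_of_rk hr h3) ⟨inferInstance, hK.quasi, hz2, hz⟩

/-- The centre of a component `N ∋ y` of `C(y)`. -/
theorem mem_center {G : Type u} [Group G] {y : G} {N : Subgroup G} (hN : Comp y N) (hyN : y ∈ N) :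
    (⟨y, hyN⟩ : ↥N) ∈ center ↥N := by
  rw [mem_center_iff]
  intro g
  exact Subtype.ext (mem_centralizer_singleton_iff.mp (hN.le g.2))

theorem center_ne_bot {N : Type u} [Group N] {y : N} (hy : orderOf y = 2) (hyZ : y ∈ center N) : center N ≠ ⊥ := by
  intro h
  rw [h, mem_bot] at hyZ
  rw [hyZ, orderOf_one] at hy
  omega

/-- **The vertical case.** `M` is a component of `C(t) ∩ C(y)`, `y ∈ M`, of type `Rk 3`, `M < N = N^t`, `N` a
component of `C(y)`: then `N` is `2.U₄(3)`. -/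
theorem vertical (H : Given.{u}) {G : Type u} [Group G] (C : Ctx G) {t y : G} {M N : Subgroup G} (hyM : y ∈ M)
    (ht : orderOf t = 2) (hy : orderOf y = 2) (hM : CompIn (centralizer ({t} : Set G) ⊓ centralizer ({y} : Set G)) M)
    (hr : Rk (↥M ⧸ center ↥M) 3) (hN : Comp y N) (hlt : M < N) (hinv : cj t N = N) : TwoU ↥N := by
  by_contra hb
  have := C.fin
  have := C.simple
  have hc : CompOf y N := compOf_of_comp hN
  have hq : IsQuasisimple ↥N := hN.quasi
  have hyN : y ∈ N := hlt.le hyM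
  have hyZ := mem_center hN hyN
  have hyo : orderOf (⟨y, hyN⟩ : ↥N) = 2 := by rw [Subgroup.orderOf_mk]; exact hy
  have hzne : center ↥N ≠ ⊥ := center_ne_bot hyo hyZ
  have hz : IsPGroup 2 ↥(center ↥N) := Soft.CompOf.center_isPGroup (C.bal y hy) hc
  have hrk : ¬ PRankLE 2 1 ↥N := fun h => rankOne_false H.gw C hy hc hyN h
  have hna := Soft.quo_na hq
  have hNtop : N ≠ ⊤ := Soft.CompOf.ne_top C.na hy hc
  have hs : IsSimpleGroup (↥N ⧸ center ↥N) := hq.2
  have hK : IsKnownSimple' (↥N ⧸ center ↥N) := Known.known_quotient C.kproper N hNtop (center ↥N) hs hna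
  -- the order of `M / Z(M)`
  have hyMZ : (⟨y, hyM⟩ : ↥M) ∈ center ↥M := by
    rw [mem_center_iff]
    intro g
    exact Subtype.ext (mem_centralizer_singleton_iff.mp (hM.le g.2).2)
  obtain ⟨h81, hg2⟩ := Card81.card81q hM.quasi.1.commutator_eq_top hr hyMZ (by rw [Subgroup.orderOf_mk]; exact hy)
  by_cases halt : IsAlternating (↥N ⧸ center ↥N)
  · obtain ⟨n, hn, f⟩ := halt
    obtain ⟨h8, hcov⟩ := H.d5 ↥N inferInstance hq hz hzne hrk n hn f
    exact altCover_comp H.p1738 C hy hc hyN n h8 hcov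
  by_cases hodd : LieOdd (↥N ⧸ center ↥N)
  · have hQ : U2.Cut.QsTwo ↥N := ⟨inferInstance, hq, hz, hzne⟩
    rcases lieOdd_cases hodd halt with h | h | h | ⟨q, hOq, h⟩
    · exact hrk (U2.MultOf.mult.l2 ↥N hQ (Or.inl h))
    · exact hrk (U2.MultOf.mult.l2 ↥N hQ (Or.inr h))
    · exact U2.MultOf.mult.ree ↥N hQ h
    · by_cases h3 : q = 3
      · subst h3
        exact hb (twoU_of_rk H C hy hN hzne h)
      · exact H.noBig G C y N hy hc (NI.Rows.lieBig_of_rk hOq (hOq.ne_four h3) h)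
  have hX : LieTwo (↥N ⧸ center ↥N) ∨ IsSporadicGroup (↥N ⧸ center ↥N) := by
    rcases Known.classify hna hK with h | h | h | h
    · exact absurd h halt
    · exact absurd h hodd
    · exact Or.inl ⟨h, halt, hodd⟩
    · exact Or.inr h
  -- the configuration in `N`
  have hcs : CompIn (fix (auto t N hinv)) (M.subgroupOf N) := by
    rw [fix_auto]
    refine CompIn.subgroupOf (hM.mono ?_ ?_) inf_le_left
    · exact le_inf hlt.le (hM.le.trans inf_le_left)
    · exact le_inf inf_le_right (inf_le_left.trans hN.le)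
  have htop : M.subgroupOf N ≠ ⊤ := by
    intro h1
    rw [subgroupOf_eq_top] at h1
    exact absurd h1 (not_le_of_gt hlt)
  have e : (↥M ⧸ center ↥M) ≃* (↥(M.subgroupOf N) ⧸ center ↥(M.subgroupOf N)) :=
    quoCongr (subgroupOfEquivOfLe hlt.le).symm
  have ncf : Ex.No3 (↥N ⧸ center ↥N) → False :=
    Ex.false_of_no3 hq (auto_mul ht hinv) hcs htop (rk_congr e hr) (by rwa [← Nat.card_congr e.toEquiv])
      (fun h => hg2 (Ex.fG2_congr e.symm h))
  have R := H.rows3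
  rcases exc H.mult hq hz hzne hX with h | h | h
  · rcases h with h | h | h | h | h | h | h | h | h | h | h | h | h | h
    · exact ncf (R.u62 _ hs hna h)
    · exact ncf (R.sp62 _ hs hna h)
    · exact ncf (R.o82 _ hs hna h)
    · exact ncf (R.g24 _ hs hna h)
    · exact ncf (R.f42 _ hs hna h)
    · exact ncf (R.te62 _ hs hna h)
    · exact ncf (R.m12 _ hs hna h)
    · exact ncf (R.j2 _ hs hna h)
    · exact ncf (R.hs _ hs hna h)
    · exact ncf (R.suz _ hs hna h)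
    · exact ncf (R.ru _ hs hna h)
    · exact ncf (R.fi22 _ hs hna h)
    · exact ncf (R.co1 _ hs hna h)
    · exact ncf (R.b _ hs hna h)
  · rcases h with h | h
    · exact ncf (R.l34 _ hs hna h)
    · exact ncf (R.m22 _ hs hna h)
  · exact ncf (R.sz _ hs hna h)

/-! ### The diagonal case -/

section Diag

variable {G : Type u} [Group G]

/-- `D → M`, `d ↦ d d^t` -/
def dgHom {M D : Subgroup G} {t : G} (h : Dg M D t) : ↥D →* ↥M where
  toFun d := ⟨d * (t * d * t⁻¹), h.mem d d.2⟩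
  map_one' := by
    apply Subtype.ext
    change (1 : G) * (t * 1 * t⁻¹) = 1
    group
  map_mul' a b := by
    apply Subtype.ext
    change (a * b : G) * (t * (a * b) * t⁻¹) = (a * (t * a * t⁻¹)) * (b * (t * b * t⁻¹))
    have h1 : (b : G) * (t * a * t⁻¹) = (t * a * t⁻¹) * b := D3.comm_elt h.comm b.2 (D3.conj_mem_cj a.2)
    calc (a * b : G) * (t * (a * b) * t⁻¹) = a * (b * (t * a * t⁻¹)) * (t * b * t⁻¹) := by group
      _ = a * ((t * a * t⁻¹) * b) * (t * b * t⁻¹) := by rw [h1]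
      _ = _ := by group

theorem dgHom_apply {M D : Subgroup G} {t : G} (h : Dg M D t) (d : ↥D) :
    ((dgHom h d : ↥M) : G) = d * (t * d * t⁻¹) := rfl

theorem dgHom_surj {M D : Subgroup G} {t : G} (h : Dg M D t) : Function.Surjective (dgHom h) := by
  rintro ⟨x, hx⟩
  obtain ⟨d, hd, hxd⟩ := h.ex x hx
  exact ⟨⟨d, hd⟩, Subtype.ext hxd.symm⟩

/-- A central element of `M` is `d d^t` with `d ∈ Z(D)`. -/
theorem dg_center {M D : Subgroup G} {t : G} (h : Dg M D t) {x : G} (hx : x ∈ M)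
    (hxZ : (⟨x, hx⟩ : ↥M) ∈ center ↥M) :
    ∃ d : G, ∃ hd : d ∈ D, (⟨d, hd⟩ : ↥D) ∈ center ↥D ∧ x = d * (t * d * t⁻¹) := by
  have hcm : ∀ a ∈ D, ∀ b ∈ D, a * (t * b * t⁻¹) = (t * b * t⁻¹) * a := fun a ha b hb =>
    D3.comm_elt h.comm ha (D3.conj_mem_cj hb)
  obtain ⟨d, hd, rfl⟩ := h.ex x hx
  refine ⟨d, hd, ?_, rfl⟩
  have key : ∀ g : ↥D, (MulAut.conj (⟨d, hd⟩ : ↥D)) g * g⁻¹ ∈ center ↥D := by
    intro g
    have h1 : ((g : G) * (t * g * t⁻¹)) * (d * (t * d * t⁻¹)) = (d * (t * d * t⁻¹)) * ((g : G) * (t * g * t⁻¹)) :=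
      congrArg Subtype.val (mem_center_iff.mp hxZ ⟨_, h.mem g g.2⟩)
    have e1 := hcm d hd g g.2
    have e2 := hcm g g.2 d hd
    have h2 : d * g * (d⁻¹ * (g : G)⁻¹) = (t * (d * g * (d⁻¹ * (g : G)⁻¹)) * t⁻¹)⁻¹ := by
      rw [eq_inv_iff_mul_eq_one]
      have h3 : (g : G) * d * (t * (g * d) * t⁻¹) = d * g * (t * (d * g) * t⁻¹) := by
        calc (g : G) * d * (t * (g * d) * t⁻¹) = g * (d * (t * g * t⁻¹)) * (t * d * t⁻¹) := by group
          _ = g * ((t * g * t⁻¹) * d) * (t * d * t⁻¹) := by rw [e1]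
          _ = ((g : G) * (t * g * t⁻¹)) * (d * (t * d * t⁻¹)) := by group
          _ = (d * (t * d * t⁻¹)) * ((g : G) * (t * g * t⁻¹)) := h1
          _ = d * ((t * d * t⁻¹) * g) * (t * g * t⁻¹) := by group
          _ = d * (g * (t * d * t⁻¹)) * (t * g * t⁻¹) := by rw [e2]
          _ = d * g * (t * (d * g) * t⁻¹) := by group
      have e3 := hcm (d⁻¹ * (g : G)⁻¹) (D.mul_mem (D.inv_mem hd) (D.inv_mem g.2)) (d * g) (D.mul_mem hd g.2)
      calc d * g * (d⁻¹ * (g : G)⁻¹) * (t * (d * g * (d⁻¹ * (g : G)⁻¹)) * t⁻¹)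
          = d * g * ((d⁻¹ * (g : G)⁻¹) * (t * (d * g) * t⁻¹)) * (t * (d⁻¹ * (g : G)⁻¹) * t⁻¹) := by group
        _ = d * g * ((t * (d * g) * t⁻¹) * (d⁻¹ * (g : G)⁻¹)) * (t * (d⁻¹ * (g : G)⁻¹) * t⁻¹) := by rw [e3]
        _ = (d * g * (t * (d * g) * t⁻¹)) * ((d⁻¹ * (g : G)⁻¹) * (t * (d⁻¹ * (g : G)⁻¹) * t⁻¹)) := by group
        _ = ((g : G) * d * (t * (g * d) * t⁻¹)) * ((d⁻¹ * (g : G)⁻¹) * (t * (d⁻¹ * (g : G)⁻¹) * t⁻¹)) := by rw [h3]
        _ = (g : G) * d * ((t * (g * d) * t⁻¹) * (d⁻¹ * (g : G)⁻¹)) * (t * (d⁻¹ * (g : G)⁻¹) * t⁻¹) := by group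
        _ = (g : G) * d * ((d⁻¹ * (g : G)⁻¹) * (t * (g * d) * t⁻¹)) * (t * (d⁻¹ * (g : G)⁻¹) * t⁻¹) := by
            rw [hcm (d⁻¹ * (g : G)⁻¹) (D.mul_mem (D.inv_mem hd) (D.inv_mem g.2)) (g * d) (D.mul_mem g.2 hd)]
        _ = 1 := by group
    rw [mem_center_iff]
    intro a
    apply Subtype.ext
    change (a : G) * (d * g * d⁻¹ * (g : G)⁻¹) = d * g * d⁻¹ * (g : G)⁻¹ * a
    have h4 : d * g * d⁻¹ * (g : G)⁻¹ = d * g * (d⁻¹ * (g : G)⁻¹) := by group
    have h5 := hcm a a.2 (d * g * (d⁻¹ * (g : G)⁻¹))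
      (D.mul_mem (D.mul_mem hd g.2) (D.mul_mem (D.inv_mem hd) (D.inv_mem g.2)))
    rw [h4, h2]
    exact ((show Commute (a : G) _ from h5).inv_right).eq
  have hfix := Cfsg.Agent.S1304.result (h.quasi.1.commutator_eq_top) (MulAut.conj (⟨d, hd⟩ : ↥D)) key
  rw [mem_center_iff]
  intro g
  have h1 := hfix g
  rw [MulAut.conj_apply, mul_inv_eq_iff_eq_mul] at h1
  exact h1.symm

theorem card_xU43 {X : Type*} [Group X] (h : XU43 X) : Nat.card X = 3265920 := by
  obtain ⟨F, _, _, hF, ⟨e⟩⟩ := h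
  rw [Nat.card_congr e.toEquiv]
  have h1 := Cfsg.Agent.S0280.result (F := F) (q := 3) (by rw [hF]; norm_num) 4 (by norm_num)
  norm_num [Finset.prod_range_succ, Nat.even_iff] at h1
  omega

theorem card_eq_mul {N : Type*} [Group N] (h : TwoU N) : Nat.card N = 2 * 3265920 := by
  rw [← Subgroup.card_mul_index (center N), h.1]
  exact congrArg (2 * ·) (card_xU43 h.2)

/-- `2.U₄(3)` is not a proper subgroup of `2.U₄(3)`. -/
theorem not_lt {M N : Subgroup G} [Finite G] (hM : TwoU ↥M) (hN : TwoU ↥N) : ¬ M < N := by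
  intro h
  have h1 := card_eq_mul hM
  have h2 := card_eq_mul hN
  have h3 : M = N := Subgroup.eq_of_le_of_card_ge h.le (by rw [h1, h2])
  exact h.ne h3

end Diag

/-- `2.U₄(3)` in the centralizer of a four-group -/
theorem nivb (H : Given.{u}) (hN : NIB.{u}) {G : Type u} [Group G] (C : Ctx G) {t y : G} {M : Subgroup G}
    (hyM : y ∈ M) (ht : orderOf t = 2) (hy : orderOf y = 2) (hcomm : t * y = y * t)
    (hM : CompIn (centralizer ({t} : Set G) ⊓ centralizer ({y} : Set G)) M) (hU : TwoU ↥M) : False := by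
  haveI := C.fin
  have hFT := H.ft G
  have hB := bl_core hFT C.bal
  by_cases hty : t = y
  · subst hty
    rw [inf_idem] at hM
    exact hN G C t M hy hM.toComp hyM ⟨hM.quasi, hU⟩
  have hM' : CompIn (centralizer ({y} : Set G) ⊓ centralizer ({t} : Set G)) M := by rwa [inf_comm]
  obtain ⟨D, hD, h | ⟨hlt, hcj⟩ | h⟩ := pump2 hFT hB hy ht hcomm.symm hM'
  · subst h
    exact hN G C y M hy hD hyM ⟨hD.quasi, hU⟩
  · exact not_lt hU (vertical H C hyM ht hy hM (xU43_rk hU.2) hD hlt hcj) hlt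
  -- diagonal
  have hyZ : (⟨y, hyM⟩ : ↥M) ∈ center ↥M := by
    rw [mem_center_iff]
    intro g
    exact Subtype.ext (mem_cs.mp (hM.le g.2).2)
  haveI : Nontrivial ↥M := by
    refine ⟨⟨⟨y, hyM⟩, 1, fun e => ?_⟩⟩
    have h1 : y = 1 := congrArg Subtype.val e
    rw [h1, orderOf_one] at hy
    omega
  obtain ⟨e⟩ := Ex.quo_equiv (dgHom h) (dgHom_surj h) hD.quasi
  have hDU : XU43 (↥D ⧸ center ↥D) := xU43_congr e.symm hU.2
  have hz : center ↥D ≠ ⊥ := by
    intro hbot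
    have h1 := Subgroup.card_mul_index (center ↥D)
    have h2 := Subgroup.card_mul_index (center ↥M)
    have h3 : (center ↥D).index = (center ↥M).index := Nat.card_congr e.toEquiv
    rw [hbot, Subgroup.card_bot, one_mul] at h1
    rw [hU.1] at h2
    have h4 : Nat.card ↥M ≤ Nat.card ↥D := Nat.card_le_card_of_surjective _ (dgHom_surj h)
    have h5 : 0 < (center ↥M).index := Nat.pos_of_ne_zero Subgroup.index_ne_zero_of_finite
    rw [hbot] at h3
    omega
  have hD2 : TwoU ↥D := twoU_of_rk H C hy hD hz (xU43_rk hDU)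
  obtain ⟨d, hd, hdZ, hyd⟩ := dg_center h hyM hyZ
  -- `d` is an involution
  have hd1 : d ≠ 1 := by
    rintro rfl
    have h1 : y = 1 := by rw [hyd]; group
    rw [h1, orderOf_one] at hy
    omega
  have hdo : orderOf d = 2 := by
    have h1 : orderOf (⟨⟨d, hd⟩, hdZ⟩ : ↥(center ↥D)) ∣ 2 := by
      have := orderOf_dvd_natCard (⟨⟨d, hd⟩, hdZ⟩ : ↥(center ↥D))
      rwa [hD2.1] at this
    have h2 : orderOf (⟨⟨d, hd⟩, hdZ⟩ : ↥(center ↥D)) = orderOf d := by
      rw [Subgroup.orderOf_mk, Subgroup.orderOf_mk]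
    rw [h2] at h1
    rcases (Nat.dvd_prime Nat.prime_two).mp h1 with h3 | h3
    · exact absurd (orderOf_eq_one_iff.mp h3) hd1
    · exact h3
  have hdD : d ∈ centralizer (D : Set G) := by
    rw [mem_centralizer_iff]
    intro a ha
    exact congrArg Subtype.val (mem_center_iff.mp hdZ ⟨a, ha⟩)
  have hyd' : y * d = d * y := (mem_cs.mp (hD.le hd)).symm
  have hDin : CompIn (centralizer ({y} : Set G) ⊓ centralizer ({d} : Set G)) D := compIn_of_centralizes hD hdD
  have hDin' : CompIn (centralizer ({d} : Set G) ⊓ centralizer ({y} : Set G)) D := by rwa [inf_comm]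
  obtain ⟨A, hA, h' | ⟨hlt, hcj⟩ | h'⟩ := pump2 hFT hB hdo hy hyd'.symm hDin'
  · subst h'
    exact hN G C d D hdo hA hd ⟨hA.quasi, hD2⟩
  · exact not_lt hD2 (vertical H C hd hy hdo hDin (xU43_rk hD2.2) hA hlt hcj) hlt
  · -- `A` is centralized by `D^t`, `d` and `y = d d^t`
    have hDtc : cj t D ≤ centralizer (D : Set G) := D3.comm_symm h.comm
    have hDt : cj t D ≤ centralizer (A : Set G) := by
      refine h'.perfect_centralizes hyd' hA ?_ hDtc ?_
      · intro x hx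
        exact mem_cs.mpr (mem_centralizer_iff.mp (hDtc hx) d hd).symm
      · have h1 : CompIn (centralizer ({y} : Set G)) (cj t D) := compIn_of_comp (hD.conj_of_comm hcomm)
        exact h1.perfect
    have h1 : t * d * t⁻¹ ∈ centralizer (A : Set G) := hDt (D3.conj_mem_cj hd)
    have h2 : d ∈ centralizer (A : Set G) := hA.mem
    have h3 : y ∈ centralizer (A : Set G) := by rw [hyd]; exact mul_mem h2 h1
    apply h'.ne
    exact D3.mem_normalizer_iff_cj.mp (centralizer_le_normalizer _ h3)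

/-! ### The order-free form -/

/-- `K` contains a component `2.U₄(3) ∋ y` of `C_K(y)`. -/
def HasU (K : Type*) [Group K] : Prop :=
  ∃ (y : K) (M : Subgroup K), y ∈ M ∧ orderOf y = 2 ∧ CompIn (centralizer ({y} : Set K)) M ∧ TwoU ↥M

/-- No component of an involution centralizer has `HasU`. -/
def NoU : Prop :=
  ∀ (G : Type u) [Group G], Ctx G → ∀ (t : G) (K : Subgroup G), orderOf t = 2 → CompOf t K → ¬ HasU ↥K

theorem twoU_congr {M N : Type*} [Group M] [Group N] (e : M ≃* N) (h : TwoU M) : TwoU N :=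
  ⟨by rw [← h.1]; exact Nat.card_congr (Subgroup.centerCongr e).symm.toEquiv, xU43_congr (quoCongr e) h.2⟩

theorem noU (H : Given.{u}) (hN : NIB.{u}) : NoU.{u} := by
  rintro G _ C t K ht hK ⟨y, M, hyM, hy, hM, hU⟩
  have := C.fin
  have hyo : orderOf (y : G) = 2 := by rw [Subgroup.orderOf_coe, hy]
  have h1 : CompIn (K ⊓ centralizer ({(y : G)} : Set G)) (M.map K.subtype) := compIn_of_comp_sub hM.toComp
  have h2 : CompIn (centralizer ({t} : Set G)) K := compIn_of_comp (comp_of_compOf hK)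
  have h4 : CompIn (centralizer ({t} : Set G) ⊓ centralizer ({(y : G)} : Set G)) (M.map K.subtype) := by
    refine CompIn.of_inf h2 inf_le_left ?_
    refine h1.mono ?_ ?_
    · exact le_inf (map_subtype_le M) (le_inf ((map_subtype_le M).trans hK.1) (h1.le.trans inf_le_right))
    · exact le_inf inf_le_left (inf_le_right.trans inf_le_right)
  have hcomm : t * (y : G) = y * t := (mem_centralizer_singleton_iff.mp (hK.1 y.2)).symm
  exact nivb H hN C (mem_map_of_mem K.subtype hyM) ht hyo hcomm h4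
    (twoU_congr (M.equivMapOfInjective K.subtype K.subtype_injective) hU)

/-- `K = 2.U₄(3)` has `HasU`. -/
theorem HasU.self {K : Type*} [Group K] [Finite K] (hq : IsQuasisimple K) (h : TwoU K) : HasU K := by
  haveI : Fact (Nat.Prime 2) := ⟨Nat.prime_two⟩
  obtain ⟨z, hz⟩ := exists_prime_orderOf_dvd_card' (G := ↥(center K)) 2 (by rw [h.1])
  have hc : centralizer ({(z : K)} : Set K) = ⊤ := by
    rw [eq_top_iff]
    intro g _
    exact mem_cs.mpr (mem_center_iff.mp z.2 g)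
  refine ⟨z, ⊤, mem_top _, by rw [Subgroup.orderOf_coe]; exact hz, ?_, twoU_congr Subgroup.topEquiv.symm h⟩
  rw [hc]
  refine ⟨le_rfl, ?_, ?_⟩
  · have h1 : (⊤ : Subgroup K).subgroupOf ⊤ = ⊤ := by ext x; simp
    rw [h1]
    exact Subgroup.IsSubnormal.top
  · exact Components.isQuasisimple_of_mulEquiv
      ((subgroupOfEquivOfLe (le_refl (⊤ : Subgroup K))).trans Subgroup.topEquiv).symm hq

/-- **The row `2.U₄(3)` of U2.** -/
theorem rowU43 (h : NoU.{u}) : Final.RowU43.{u} := by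
  intro G _ C K S h2 hU
  have := C.fin
  obtain ⟨t, ht, hK⟩ := S.comp
  exact h G C t K ht hK (HasU.self (Soft.CompOf.quasisimple hK) ⟨h2, hU⟩)

/-! ### The rows -/

/-- `L₃(3)`, `U₃(3)`, `L₄(3)`, `U₄(3)`, `PSp₄(3)`, `G₂(3)` -/
def Small6 (X : Type*) [Group X] : Prop :=
  (∃ (F : Type) (_ : Field F) (_ : Fintype F), Fintype.card F = 3 ∧
    Nonempty (X ≃* Matrix.ProjectiveSpecialLinearGroup (Fin 3) F)) ∨
  (∃ (F : Type) (_ : Field F) (_ : Fintype F), Fintype.card F = 9 ∧ Nonempty (X ≃* PSU 3 F 3)) ∨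
  (∃ (F : Type) (_ : Field F) (_ : Fintype F), Fintype.card F = 3 ∧
    Nonempty (X ≃* Matrix.ProjectiveSpecialLinearGroup (Fin 4) F)) ∨
  (∃ (F : Type) (_ : Field F) (_ : Fintype F), Fintype.card F = 9 ∧ Nonempty (X ≃* PSU 4 F 3)) ∨
  (∃ (F : Type) (_ : Field F) (_ : Fintype F), Fintype.card F = 3 ∧ Nonempty (X ≃* PSp 2 F)) ∨
  FG2 X 3

theorem small_cases {X : Type*} [Group X] (h : Small3 X) : Small6 X ∨ XO7 X ∨ XO8p X ∨ XO8m X := by
  rcases h with h | h | h | h | h | h | h | h | h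
  · exact Or.inl (Or.inl h)
  · exact Or.inl (Or.inr (Or.inl h))
  · exact Or.inl (Or.inr (Or.inr (Or.inl h)))
  · exact Or.inl (Or.inr (Or.inr (Or.inr (Or.inl h))))
  · exact Or.inl (Or.inr (Or.inr (Or.inr (Or.inr (Or.inl h)))))
  · exact Or.inl (Or.inr (Or.inr (Or.inr (Or.inr (Or.inr h)))))
  · exact Or.inr (Or.inl h)
  · exact Or.inr (Or.inr (Or.inl h))
  · exact Or.inr (Or.inr (Or.inr h))

/-- **K-facts**: `Ω₆⁻(3) = 2.U₄(3)` in `Ω₇(3)`, `PΩ₈^±(3)`. -/
structure OrthU : Prop where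
  o7 : ∀ (K : Type u) [Group K], XO7 K → HasU K
  o8p : ∀ (K : Type u) [Group K], XO8p K → HasU K
  o8m : ∀ (K : Type u) [Group K], XO8m K → HasU K

/-- What gives the rows over `F₃`. -/
structure Nodes : Prop where
  noThree : NoThree.{u}
  noU : NoU.{u}
  f13 : F13.{u}
  orth : OrthU.{u}

/-- A simple component of an involution centralizer of type `Rk 3` is one of six groups. -/
theorem small6_comp (N : Nodes.{u}) {G : Type u} [Group G] (C : Ctx G) {t : G} {K : Subgroup G} (ht : orderOf t = 2)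
    (hK : CompOf t K) (hs : IsSimpleGroup ↥K) (hr : Rk ↥K 3) : Small6 ↥K := by
  have := C.fin
  by_contra h6
  have h3 : ¬ Small3 ↥K := by
    intro h3
    rcases small_cases h3 with h | h | h | h
    · exact h6 h
    · exact N.noU G C t K ht hK (N.orth.o7 _ h)
    · exact N.noU G C t K ht hK (N.orth.o8p _ h)
    · exact N.noU G C t K ht hK (N.orth.o8m _ h)
  exact N.noThree G C t K ht hK (N.f13 ↥K hs hr h3).hasY

/-- A standard `K`, `Z(K) = 1`, of type `Rk 3` is one of six groups. -/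
theorem small6 (N : Nodes.{u}) {G : Type u} [Group G] (C : Ctx G) {K : Subgroup G} (S : Std0 G K)
    (hz : center ↥K = ⊥) (hr : Rk ↥K 3) : Small6 ↥K := by
  obtain ⟨t, ht, hK⟩ := S.comp
  exact small6_comp N C ht hK (simple_of_center hz S.simple) hr

/-- **Row `Rk K 3` of D6** from the row of the six small groups. -/
theorem d6_three (N : Nodes.{u}) (h : D6.Cut.Row.{u} (fun X _ => Small6 X)) : D6.Cut.Row.{u} (fun X _ => Rk X 3) :=
  fun G _ C K S hc hz hr => h G C K S hc hz (small6 N C S.toStd0 hz hr)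

/-- The six small rows of D6. -/
structure SixRows : Prop where
  l3 : D6.Cut.Row.{u} (fun X _ => ∃ (F : Type) (_ : Field F) (_ : Fintype F), Fintype.card F = 3 ∧
    Nonempty (X ≃* Matrix.ProjectiveSpecialLinearGroup (Fin 3) F))
  u3 : D6.Cut.Row.{u} (fun X _ => ∃ (F : Type) (_ : Field F) (_ : Fintype F), Fintype.card F = 9 ∧
    Nonempty (X ≃* PSU 3 F 3))
  l4 : D6.Cut.Row.{u} (fun X _ => ∃ (F : Type) (_ : Field F) (_ : Fintype F), Fintype.card F = 3 ∧
    Nonempty (X ≃* Matrix.ProjectiveSpecialLinearGroup (Fin 4) F))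
  u4 : D6.Cut.Row.{u} (fun X _ => ∃ (F : Type) (_ : Field F) (_ : Fintype F), Fintype.card F = 9 ∧
    Nonempty (X ≃* PSU 4 F 3))
  sp4 : D6.Cut.Row.{u} (fun X _ => ∃ (F : Type) (_ : Field F) (_ : Fintype F), Fintype.card F = 3 ∧
    Nonempty (X ≃* PSp 2 F))
  g2 : D6.Cut.Row.{u} (fun X _ => FG2 X 3)

theorem SixRows.row (R : SixRows.{u}) : D6.Cut.Row.{u} (fun X _ => Small6 X) := by
  intro G _ C K S hc hz h
  rcases h with h | h | h | h | h | h
  · exact R.l3 G C K S hc hz h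
  · exact R.u3 G C K S hc hz h
  · exact R.l4 G C K S hc hz h
  · exact R.u4 G C K S hc hz h
  · exact R.sp4 G C K S hc hz h
  · exact R.g2 G C K S hc hz h

/-- **The rows over `F₃` of D6.** -/
theorem three (N : Nodes.{u}) (R : SixRows.{u}) : D6.Cut.Row.{u} (fun X _ => Rk X 3) := d6_three N R.row

/-- All the fields of `D6.Cut.Three`. -/
theorem three_of (N : Nodes.{u}) (R : SixRows.{u}) : D6.Cut.Three.{u} := by
  have h := three N R
  refine ⟨R.l3, R.u3, R.l4, R.u4, R.sp4, R.g2, ?_, ?_, ?_, ?_, ?_, ?_, ?_, ?_, ?_, ?_, ?_, ?_⟩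
  · refine h.mono ?_
    rintro X _ ⟨F, i, j, n, h1, h2, f⟩
    exact Or.inl ⟨F, i, j, n, h1, by omega, f⟩
  · refine h.mono ?_
    rintro X _ ⟨F, i, j, n, h1, h2, f⟩
    exact Or.inr (Or.inr (Or.inl ⟨F, i, j, n, by simpa using h1, by omega, f⟩))
  · refine h.mono ?_
    rintro X _ ⟨F, i, j, n, h1, h2, f⟩
    exact Or.inr (Or.inl ⟨F, i, j, n, h1, by omega, f⟩)
  · exact h.mono fun X _ h => Or.inr (Or.inr (Or.inr (Or.inl h)))
  · exact h.mono fun X _ h => Or.inr (Or.inr (Or.inr (Or.inr (Or.inl h))))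
  · exact h.mono fun X _ h => Or.inr (Or.inr (Or.inr (Or.inr (Or.inr (Or.inl h)))))
  · exact h.mono fun X _ h => Or.inr (Or.inr (Or.inr (Or.inr (Or.inr (Or.inr (Or.inr (Or.inl h)))))))
  · exact h.mono fun X _ h => Or.inr (Or.inr (Or.inr (Or.inr (Or.inr (Or.inr (Or.inr (Or.inr (Or.inl h))))))))
  · exact h.mono fun X _ h =>
      Or.inr (Or.inr (Or.inr (Or.inr (Or.inr (Or.inr (Or.inr (Or.inr (Or.inr (Or.inl h)))))))))
  · exact h.mono fun X _ h =>
      Or.inr (Or.inr (Or.inr (Or.inr (Or.inr (Or.inr (Or.inr (Or.inr (Or.inr (Or.inr (Or.inl h))))))))))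
  · exact h.mono fun X _ h =>
      Or.inr (Or.inr (Or.inr (Or.inr (Or.inr (Or.inr (Or.inr (Or.inr (Or.inr (Or.inr (Or.inr (Or.inl h)))))))))))
  · exact h.mono fun X _ h =>
      Or.inr (Or.inr (Or.inr (Or.inr (Or.inr (Or.inr (Or.inr (Or.inr (Or.inr (Or.inr (Or.inr (Or.inr h)))))))))))

end Cfsg.Agent.OddHalf.NI3.Bad
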