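import Cfsg.Agent.OddHalf.NI3.Bad.Defs

/-!
# NI over `F₃`, THEOREM NIB: first consequences of the configuration

* `Cfg.rot` : the rotation.
* `Cfg.snA`, `Cfg.snB` : `A`, `B` are subnormal in `C(z) ∩ C(y)` and in `C(z) ∩ C(e)`, `z = a b`, `y = z e`.
* `Cfg.clA`, `Cfg.clB` : `(z, A)`, `(z, B)` are classical pairs of `C(e)`.
* `PP z` : `O₂(C(z))` as a subgroup of `G`.
* `Cfg.pos` : the position in the component `D` of `C(a)` containing `A^c`, `B^c`.
-/

set_option autoImplicit false
set_option linter.style.haveILetI false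

namespace Cfsg.Agent.OddHalf.NI3.Bad

open Subgroup Cfsg Cfsg.Agent.OddHalf.Iface Cfsg.Agent.OddHalf.LieOddFam
open Cfsg.Agent.OddHalf.D3 (Comp)
open Cfsg.Agent.OddHalf.NI (CompIn)
open Cfsg.Agent.Cit (cj)

universe u

/-- `O₂(C(z))` as a subgroup of `G` -/
noncomputable def PP {G : Type*} [Group G] (z : G) : Subgroup G :=
  (pCore 2 ↥(centralizer ({z} : Set G))).map (centralizer ({z} : Set G)).subtype

section

variable {G : Type*} [Group G]

theorem PP_le (z : G) : PP z ≤ centralizer ({z} : Set G) := map_subtype_le _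

theorem mem_PP {z x : G} (hx : x ∈ centralizer ({z} : Set G)) :
    x ∈ PP z ↔ (⟨x, hx⟩ : ↥(centralizer ({z} : Set G))) ∈ pCore 2 ↥(centralizer ({z} : Set G)) := by
  constructor
  · rintro ⟨y, hy, hyx⟩
    have : y = ⟨x, hx⟩ := Subtype.ext hyx
    rwa [← this]
  · intro h
    exact ⟨_, h, rfl⟩

theorem PP_comm {z x : G} (hx : x ∈ PP z) : x * z = z * x :=
  mem_centralizer_singleton_iff.1 (PP_le z hx)

/-- `C(z) ∩ C(z') = C(z) ∩ C(z z')` -/
theorem cent_inf_eq {z w : G} :
    centralizer ({z} : Set G) ⊓ centralizer ({z * w} : Set G) = centralizer ({z} : Set G) ⊓ centralizer ({w} : Set G) := by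
  ext x
  simp only [mem_inf, mem_centralizer_singleton_iff]
  constructor
  · rintro ⟨h1, h2⟩
    refine ⟨h1, ?_⟩
    have h3 : z * (x * w) = z * (w * x) := by
      calc z * (x * w) = (z * x) * w := by group
        _ = (x * z) * w := by rw [h1]
        _ = x * (z * w) := by group
        _ = z * w * x := h2
        _ = z * (w * x) := by group
    exact mul_left_cancel h3
  · rintro ⟨h1, h2⟩
    refine ⟨h1, ?_⟩
    calc x * (z * w) = (x * z) * w := by group
      _ = z * (x * w) := by rw [h1]; group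
      _ = z * w * x := by rw [h2]; group

end

section

variable {G : Type*} [Group G] {N : Subgroup G} {a b e : G} {A B : Subgroup G}

namespace Sheet

/-- rotation of the frame -/
theorem rotate (h : Sheet N a b e A B) {c : G} (hc : c ∈ N) (h1 : c * a * c⁻¹ = b) (h2 : c * b * c⁻¹ = e)
    (h3 : c * e * c⁻¹ = a) : Sheet N b e a (cj c A) (cj c B) := by
  have := h.conj c
  rwa [h.cj_self hc, h1, h2, h3] at this

theorem y_eq (h : Sheet N a b e A B) : b * e * a = a * b * e := by
  rw [mul_assoc, ← h.ae, ← mul_assoc, ← h.ab]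

theorem ez (h : Sheet N a b e A B) : a * b * e = e * (a * b) := by
  rw [mul_assoc, h.be, ← mul_assoc, h.ae, mul_assoc]

/-- `a b · b = a` etc. -/
theorem z_a (h : Sheet N a b e A B) : a * b * a = b := by
  rw [h.ab, mul_assoc, h.aa, mul_one]

end Sheet

namespace Cfg

theorem rotate (h : Cfg N a b e A B) {c : G} (hc : c ∈ N) (h1 : c * a * c⁻¹ = b) (h2 : c * b * c⁻¹ = e)
    (h3 : c * e * c⁻¹ = a) : Cfg N b e a (cj c A) (cj c B) where
  toSheet := h.toSheet.rotate hc h1 h2 h3
  comp := by rw [h.y_eq]; exact h.comp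

/-- `N ∩ C(z)` is subnormal in `C(y) ∩ C(z)` -/
theorem sn_inf (h : Cfg N a b e A B) :
    Sn (N ⊓ centralizer ({a * b} : Set G)) (centralizer ({a * b * e} : Set G) ⊓ centralizer ({a * b} : Set G)) :=
  Sn.inf ⟨h.comp.le, h.comp.comp.1⟩ _

/-- `A` is subnormal in `C(z) ∩ C(y)` -/
theorem snA_y (h : Cfg N a b e A B) :
    Sn A (centralizer ({a * b} : Set G) ⊓ centralizer ({a * b * e} : Set G)) := by
  rw [inf_comm]; exact h.snA.trans h.sn_inf

theorem snB_y (h : Cfg N a b e A B) :
    Sn B (centralizer ({a * b} : Set G) ⊓ centralizer ({a * b * e} : Set G)) := by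
  rw [inf_comm]; exact h.snB.trans h.sn_inf

/-- `A` is subnormal in `C(z) ∩ C(e)` -/
theorem snA_e (h : Cfg N a b e A B) :
    Sn A (centralizer ({a * b} : Set G) ⊓ centralizer ({e} : Set G)) := by
  rw [← cent_inf_eq]; exact h.snA_y

theorem snB_e (h : Cfg N a b e A B) :
    Sn B (centralizer ({a * b} : Set G) ⊓ centralizer ({e} : Set G)) := by
  rw [← cent_inf_eq]; exact h.snB_y

theorem A_le_z (h : Cfg N a b e A B) : A ≤ centralizer ({a * b} : Set G) := h.snA_y.le.trans inf_le_left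
theorem B_le_z (h : Cfg N a b e A B) : B ≤ centralizer ({a * b} : Set G) := h.snB_y.le.trans inf_le_left
theorem A_le_e (h : Cfg N a b e A B) : A ≤ centralizer ({e} : Set G) := h.snA_e.le.trans inf_le_right
theorem B_le_e (h : Cfg N a b e A B) : B ≤ centralizer ({e} : Set G) := h.snB_e.le.trans inf_le_right

end Cfg

/-- passing to the centralizer of an involution: classical pairs of `C(e)` -/
theorem cl_of_sn {z e : G} {J : Subgroup G} (hp : IsPr J z)
    (hs : Sn J (centralizer ({z} : Set G) ⊓ centralizer ({e} : Set G))) :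
    Cl (⟨z, hs.le.trans inf_le_right hp.mem⟩ : ↥(centralizer ({e} : Set G)))
      (J.subgroupOf (centralizer ({e} : Set G))) := by
  have hJ : J ≤ centralizer ({e} : Set G) := hs.le.trans inf_le_right
  refine ⟨hp.subgroupOf hJ, ?_⟩
  have h1 := hs.comap (centralizer ({e} : Set G)).subtype
  have h2 : (centralizer ({z} : Set G) ⊓ centralizer ({e} : Set G)).comap (centralizer ({e} : Set G)).subtype =
      centralizer ({(⟨z, hJ hp.mem⟩ : ↥(centralizer ({e} : Set G)))} : Set ↥(centralizer ({e} : Set G))) := by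
    ext x
    rw [mem_comap, mem_inf]
    simp only [coe_subtype, mem_centralizer_singleton_iff]
    constructor
    · rintro ⟨h3, -⟩
      exact Subtype.ext h3
    · intro h3
      exact ⟨congrArg Subtype.val h3, mem_centralizer_singleton_iff.1 x.2⟩
  rw [h2] at h1
  exact h1

namespace Cfg

/-- `(z, A)` is a classical pair of `C(e)` -/
theorem clA (h : Cfg N a b e A B) :
    Cl (⟨a * b, h.A_le_e h.prA.mem⟩ : ↥(centralizer ({e} : Set G))) (A.subgroupOf (centralizer ({e} : Set G))) :=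
  cl_of_sn h.prA h.snA_e

theorem clB (h : Cfg N a b e A B) :
    Cl (⟨a * b, h.B_le_e h.prB.mem⟩ : ↥(centralizer ({e} : Set G))) (B.subgroupOf (centralizer ({e} : Set G))) :=
  cl_of_sn h.prB h.snB_e

/-- **The position** in a subgroup `D ∋ A^c, B^c` of `C(a)`. -/
theorem pos (h : Cfg N a b e A B) {c : G} (hc : c ∈ N) (h1 : c * a * c⁻¹ = b) (h2 : c * b * c⁻¹ = e)
    (h3 : c * e * c⁻¹ = a) {D : Subgroup G} (hD : D ≤ centralizer ({a} : Set G)) (hA : cj c A ≤ D)
    (hB : cj c B ≤ D) (hbD : b ∈ D) (hxD : b * e ∈ D) :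
    Pos (⟨b * e, hxD⟩ : D) ((cj c A).subgroupOf D) ((cj c B).subgroupOf D) ⟨b, hbD⟩ := by
  have h' := h.rotate hc h1 h2 h3
  have key : ∀ J : Subgroup G, IsPr J (b * e) → J ≤ D →
      Sn J (centralizer ({b * e} : Set G) ⊓ centralizer ({a} : Set G)) → Cl (⟨b * e, hxD⟩ : D) (J.subgroupOf D) := by
    intro J hp hJ hs
    refine ⟨hp.subgroupOf hJ, ?_⟩
    have hs' : Sn J (centralizer ({b * e} : Set G) ⊓ D) :=
      hs.restrict (inf_le_inf_left _ hD) (le_inf (hs.le.trans inf_le_left) hJ)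
    have h4 := hs'.comap D.subtype
    have h5 : (centralizer ({b * e} : Set G) ⊓ D).comap D.subtype =
        centralizer ({(⟨b * e, hxD⟩ : D)} : Set ↥D) := by
      ext x
      rw [mem_comap, mem_inf]
      simp only [coe_subtype, mem_centralizer_singleton_iff]
      constructor
      · rintro ⟨h6, -⟩
        exact Subtype.ext h6
      · intro h6
        exact ⟨congrArg Subtype.val h6, x.2⟩
    rw [h5] at h4
    exact h4
  refine ⟨key _ h'.prA hA h'.snA_e, key _ h'.prB hB h'.snB_e, ?_, ?_⟩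
  · intro x hx
    rw [mem_centralizer_iff]
    intro y hy
    exact Subtype.ext (h'.AB y hy x hx)
  · obtain ⟨p, hp, q, hq, h4, h5, h6⟩ := h'.a_eq
    exact ⟨⟨p, hA hp⟩, hp, ⟨q, hB hq⟩, hq, Subtype.ext h4, Subtype.ext h5, Subtype.ext h6⟩

/-- no classical pair in `G` -/
theorem not_cl {G : Type u} [Group G] (C : Ctx G) {x : G} {J : Subgroup G} : ¬ Cl x J := by
  intro h
  have := C.fin
  obtain ⟨e⟩ := h.pr.quot
  exact C.classical x J h.pr.ord ⟨h.sn.1, h.pr.mem, h.sn.2⟩
    (Or.inl ⟨ZMod 3, inferInstance, inferInstance, by rw [ZMod.card]; decide, ⟨e⟩⟩)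

end Cfg

end

end Cfsg.Agent.OddHalf.NI3.Bad
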