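import Cfsg.Agent.OddHalf.NI3.Bad.Use
import Cfsg.Agent.OddHalf.NI.RowsD4

/-!
# The rows over the field with three elements of D4 (helper656)

`d4_three`: the hypothesis `h3` of `NI.RowsD4.rowsOdd_of` from the row of the six small groups.
-/

set_option autoImplicit false

namespace Cfsg.Agent.OddHalf.NI3.Bad

open Subgroup Cfsg Cfsg.Agent.OddHalf.Iface Cfsg.Agent.OddHalf.LieOddFam

universe u

/-- **Row `Rk K 3` of D4** from the row of the six small groups. -/
theorem d4_three (N : Nodes.{u}) (h : D4.Cut.Row1.{u} (fun K _ => Small6 K)) :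
    D4.Cut.Row1.{u} (fun K _ => Rk K 3) :=
  fun G _ C K S hr hz h3 => h G C K S hr hz (small6 N C S.toStd0 hz h3)

end Cfsg.Agent.OddHalf.NI3.Bad
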