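import Cfsg.Agent.OddHalf.NI3.Bad.CoreThree
import Cfsg.Agent.OddHalf.NI3.Step
import Cfsg.Agent.SignalizersComponents.LocalLayer

/-!
# THEOREM NIB, step (3): the rows (3a), (3a'), (3b), (3c) at the level of `H = C(z)`

`Loc J₁ J₂ z f e` : `J₁, J₂ ≅ SL₂(3)` commuting, with the same central involution `z` of `H`, subnormal in `C_H(e)`,
`O₂(J₁), O₂(J₂) ≤ P = O₂(H)`, `f = p q` with `p ∈ J₁`, `q ∈ J₂` of order 4.

* `Loc.falseA` : there is no `SL₂(3)` subnormal in `C_H(z f)` with involution `z f`;
* `Loc.falseA'` : `z f` is not in a component of `C_H(f)`;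
* `Loc.subB` : if `e` lies in a component `E` of `C_H(f)` and `Aut(E)` has no element of order 3 trivial on `C_E(e)`,
  then `J₁` is subnormal in `H`;
* `Loc.subC` : if `e` lies in a subnormal subgroup `A₄` of `C_H(f)`, then `J₁` is subnormal in `H`.
-/

set_option autoImplicit false

namespace Cfsg.Agent.OddHalf.NI3.Bad.HLoc

open Subgroup Cfsg Cfsg.Agent.Cit Cfsg.Agent.Cit.SolvTwo Cfsg.Agent.Cit.SLThree Cfsg.Agent.OddHalf.NI3.Bad.CoreThree
open Cfsg.Agent.SignalizersComponents

/-- a perfect finite group is generated by its elements of odd order -/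
theorem closure_odd {Y : Type*} [Group Y] [Finite Y] (hperf : commutator Y = ⊤) :
    closure {y : Y | Odd (orderOf y)} = ⊤ := by
  have hp : Fact (Nat.Prime 2) := ⟨Nat.prime_two⟩
  set N : Subgroup Y := closure {y : Y | Odd (orderOf y)} with hN
  have hn : N.Normal := by
    refine ⟨fun a ha g => ?_⟩
    have h1 : N.map (MulAut.conj g).toMonoidHom ≤ N := by
      rw [hN, MonoidHom.map_closure, closure_le]
      rintro _ ⟨y, hy, rfl⟩
      apply Subgroup.subset_closure
      show Odd (orderOf ((MulAut.conj g).toMonoidHom y))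
      rw [orderOf_injective _ (MulAut.conj g).injective]
      exact hy
    exact h1 ⟨a, ha, rfl⟩
  have h2 : IsPGroup 2 (Y ⧸ N) := by
    intro x
    obtain ⟨y, rfl⟩ := QuotientGroup.mk_surjective x
    obtain ⟨n, m, hm, hnm⟩ := Nat.exists_eq_two_pow_mul_odd (n := orderOf y) (orderOf_pos y).ne'
    refine ⟨n, ?_⟩
    rw [← QuotientGroup.mk_pow, QuotientGroup.eq_one_iff]
    apply Subgroup.subset_closure
    show Odd (orderOf (y ^ 2 ^ n))
    refine hm.of_dvd_nat (orderOf_dvd_of_pow_eq_one ?_)
    rw [← pow_mul, ← hnm, pow_orderOf_eq_one]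
  have h3 : commutator (Y ⧸ N) = ⊤ := by
    have h1 : (commutator Y).map (QuotientGroup.mk' N) = commutator (Y ⧸ N) := by
      rw [_root_.commutator_def, _root_.commutator_def, Subgroup.map_commutator,
        ← MonoidHom.range_eq_map,
        MonoidHom.range_eq_top.mpr (QuotientGroup.mk'_surjective N)]
    rw [← h1, hperf, ← MonoidHom.range_eq_map,
      MonoidHom.range_eq_top.mpr (QuotientGroup.mk'_surjective N)]
  by_contra hne
  have hnt : Nontrivial (Y ⧸ N) := QuotientGroup.nontrivial_iff.2 hne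
  have := h2.isNilpotent
  have h4 : commutator (Y ⧸ N) < ⊤ := by
    exact Group.IsSolvable.commutator_lt_top_of_nontrivial (Y ⧸ N)
  exact h4.ne h3

section

variable {H : Type*} [Group H] [Finite H]

/-- a quasisimple subnormal subgroup of `C_H(f)`, `f ∈ O₂(H)` an involution, centralises `O₂(H)` -/
theorem comm_P {E : Subgroup H} {f : H} (hE : Sn E (centralizer ({f} : Set H))) (hq : IsQuasisimple ↥E)
    (hf : f ∈ pCore 2 H) (hff : f * f = 1) : E ≤ centralizer (pCore 2 H : Set H) := by
  have : Fact (Nat.Prime 2) := ⟨Nat.prime_two⟩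
  set P : Subgroup H := pCore 2 H with hPdef
  have hPn : P.Normal := Lib.Cores.pCore_normal 2
  have hP : IsPGroup 2 P := Lib.Cores.pCore_isPGroup 2
  set C := centralizer ({f} : Set H) with hC
  have hcomp : IsComponent (E.subgroupOf C) :=
    ⟨hE.2, LayerBasic.quasisimple_congr (subgroupOfEquivOfLe hE.1).symm hq⟩
  have hPC : (P.subgroupOf C).Normal := inferInstance
  have hPC2 : IsPGroup 2 (P.subgroupOf C) := hP.comap_subtype
  have h1 := LocalLayer.component_commutator_pGroup hcomp hPC hPC2
  rw [commutator_eq_bot_iff_le_centralizer] at h1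
  have h2 : ∀ x ∈ E, ∀ p ∈ P, p * f = f * p → x * p = p * x := by
    intro x hx p hp hpf
    have hpC : p ∈ C := mem_centralizer_singleton_iff.2 hpf
    have h3 := mem_centralizer_iff.1 (h1 (mem_subgroupOf.2 hx : (⟨x, hE.1 hx⟩ : C) ∈ E.subgroupOf C)) ⟨p, hpC⟩
      (mem_subgroupOf.2 hp)
    exact (congrArg Subtype.val h3).symm
  have hodd : ∀ x ∈ E, Odd (orderOf x) → x ∈ centralizer (P : Set H) := by
    intro x hx ho
    have h3 : zpowers x ≤ centralizer (P : Set H) := by
      refine SolvTwo.le_cent (z := f) hff (W := zpowers x) (P := P) hP ?_ ?_ ?_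
      · rw [Nat.card_zpowers]
        exact Nat.coprime_two_right.2 ho
      · rintro w ⟨n, rfl⟩
        have : Commute x f := mem_centralizer_singleton_iff.1 (hE.1 hx)
        exact (this.zpow_left n).eq
      · rintro p hp hpf w ⟨n, rfl⟩
        have : Commute p x := (h2 x hx p hp hpf).symm
        exact (this.zpow_right n).eq
    exact h3 (mem_zpowers x)
  intro x hx
  have h3 := closure_odd (Y := ↥E) hq.1.commutator_eq_top
  have h4 : (⟨x, hx⟩ : E) ∈ closure {y : E | Odd (orderOf y)} := by rw [h3]; trivial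
  have h5 : closure {y : E | Odd (orderOf y)} ≤ (centralizer (P : Set H)).comap E.subtype := by
    rw [closure_le]
    intro y hy
    refine hodd _ y.2 ?_
    have hy' : Odd (orderOf y) := hy
    rwa [← orderOf_coe] at hy'
  exact h5 h4

/-- ... and is a component of `H` -/
theorem component {E : Subgroup H} {f : H} (hE : Sn E (centralizer ({f} : Set H))) (hq : IsQuasisimple ↥E)
    (hf : f ∈ pCore 2 H) (hff : f * f = 1) : IsComponent E := by
  have h1 := comm_P hE hq hf hff
  have hPn : (pCore 2 H).Normal := Lib.Cores.pCore_normal 2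
  have hCn : (centralizer (pCore 2 H : Set H)).Normal := inferInstance
  exact ⟨(hE.restrict (centralizer_le (Set.singleton_subset_iff.2 hf)) h1).isSubnormal hCn.isSubnormal, hq⟩

/-- (L2) a classical pair `(b, J)` with `b ∈ O₂(H)` has `b ∈ Z(O₂(H))` -/
theorem central_cl {J : Subgroup H} {b : H} (h : Cl b J) (hb : b ∈ pCore 2 H) :
    ∀ p ∈ pCore 2 H, p * b = b * p := by
  have : Fact (Nat.Prime 2) := ⟨Nat.prime_two⟩
  obtain ⟨i, j, d, s⟩ := h.pr.sl
  set P : Subgroup H := pCore 2 H with hPdef
  have hPn : P.Normal := Lib.Cores.pCore_normal 2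
  have hP : IsPGroup 2 P := Lib.Cores.pCore_isPGroup 2
  have hbb : b * b = 1 := s.q.z2
  have hn : J ≤ normalizer (P : Set H) := by rw [normalizer_eq_top_iff.2 hPn]; exact le_top
  have hJb : ∀ x ∈ J, x * b = b * x := fun x hx => s.comm_z hx
  by_cases hQ : ∀ y ∈ J, y * y = b → y ∈ P
  · -- `C_P(b)` is self-normalising
    have hi : i ∈ P := hQ i s.hi s.q.i2
    have hj : j ∈ P := hQ j s.hj s.q.j2
    set X : Subgroup H := P ⊓ centralizer ({b} : Set H) with hXdef
    suffices hX : X = P by
      intro p hp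
      rw [← hX] at hp
      exact mem_centralizer_singleton_iff.1 hp.2
    by_contra hne
    obtain ⟨n, hnP, hnX, hn1⟩ := GTwoFour.OuterFour.exists_norm_grow hP inf_le_left hne
    have hn' : n ∈ normalizer (X : Set H) := mem_normalizer_fintype fun x hx => hn1 x hx
    have vX : ∀ x ∈ X, d * x * d⁻¹ ∈ X := fun x hx =>
      (mem_normalizer_iff.1 (le_norm_inf h.sn.1 hn s.hd) x).1 hx
    have h1 := coset_mem h.pr s h.sn hP hn hi hb hnP hn'
    obtain ⟨x, hx, hxv⟩ := exists_fixed (hP.to_le inf_le_left) s.d3 vX h1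
    have hmP : n * x ∈ P := mul_mem hnP hx.1
    have hm' : n * x ∈ normalizer (X : Set H) := mul_mem hn' (le_normalizer hx)
    have c1 := comm_of_normX s h.sn hP hn hi hj hmP hm' hxv.symm
    have h2 : n * x * b = b * (n * x) := by
      rw [← s.q.i2]
      exact ((show Commute (n * x) i from c1.1).mul_right (show Commute (n * x) i from c1.1)).eq
    apply hnX
    have h3 : n = n * x * x⁻¹ := by group
    rw [h3]
    exact mul_mem (show n * x ∈ X from ⟨hmP, mem_centralizer_singleton_iff.2 h2⟩) (inv_mem hx)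
  · -- `d` centralises `P`
    have h1 : ∀ v ∈ J, v * v * v = 1 → v ∈ centralizer (P : Set H) := by
      intro v hv hv3
      have h3 : zpowers v ≤ centralizer (P : Set H) := by
        refine SolvTwo.le_cent (z := b) hbb (W := zpowers v) (P := P) hP ?_ ?_ ?_
        · rw [Nat.card_zpowers]
          exact Nat.coprime_two_right.2 (odd_of_cube hv3)
        · rintro w ⟨n, rfl⟩
          have : Commute v b := hJb v hv
          exact (this.zpow_left n).eq
        · rintro p hp hpb w ⟨n, rfl⟩
          have h4 : v * p = p * v := by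
            refine NI3.T3.comm_of_sn h.pr.t3 h.sn (P := P ⊓ centralizer ({b} : Set H)) inf_le_right
              (hP.to_le inf_le_left) (le_norm_inf h.sn.1 hn) ?_ hv hv3 ⟨hp, mem_centralizer_singleton_iff.2 hpb⟩
            intro h5
            exact hQ fun y hy hyb => (h5 y hy hyb).1
          have : Commute p v := h4.symm
          exact (this.zpow_right n).eq
      exact h3 (mem_zpowers v)
    have h2 : J ≤ centralizer (P : Set H) := h.pr.le_of_cube h1
    intro p hp
    exact mem_centralizer_iff.1 (h2 h.pr.mem) p hp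

end

/-- the local situation in `H = C(z)` -/
structure Loc {H : Type*} [Group H] (J₁ J₂ : Subgroup H) (z f e : H) : Prop where
  p1 : IsPr J₁ z
  p2 : IsPr J₂ z
  comm : ∀ x ∈ J₁, ∀ y ∈ J₂, x * y = y * x
  sn1 : Sn J₁ (centralizer ({e} : Set H))
  sn2 : Sn J₂ (centralizer ({e} : Set H))
  P1 : ∀ x ∈ J₁, x * x = z → x ∈ pCore 2 H
  P2 : ∀ x ∈ J₂, x * x = z → x ∈ pCore 2 H
  dec : ∃ p ∈ J₁, ∃ q ∈ J₂, p * p = z ∧ q * q = z ∧ f = p * q

namespace Loc

variable {H : Type*} [Group H] [Finite H] {J₁ J₂ : Subgroup H} {z f e : H} (h : Loc J₁ J₂ z f e)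

include h

omit [Finite H] in
theorem zz : z * z = 1 := h.p1.t3.z_sq

omit [Finite H] in
theorem f_mem : f ∈ pCore 2 H := by
  obtain ⟨p, hp, q, hq, hpp, hqq, rfl⟩ := h.dec
  exact mul_mem (h.P1 p hp hpp) (h.P2 q hq hqq)

omit [Finite H] in
theorem z_mem : z ∈ pCore 2 H := by
  obtain ⟨p, hp, q, hq, hpp, hqq, rfl⟩ := h.dec
  rw [← hpp]
  exact mul_mem (h.P1 p hp hpp) (h.P1 p hp hpp)

omit [Finite H] in
theorem ff : f * f = 1 := by
  obtain ⟨p, hp, q, hq, hpp, hqq, rfl⟩ := h.dec
  calc p * q * (p * q) = p * (q * p) * q := by group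
    _ = (p * p) * (q * q) := by rw [← h.comm p hp q hq]; group
    _ = 1 := by rw [hpp, hqq, h.zz]

omit [Finite H] in
/-- `z f` does not centralise `O₂(J₁)` -/
theorem not_central (hc : ∀ p ∈ pCore 2 H, p * (z * f) = z * f * p) : False := by
  obtain ⟨p, hp, q, hq, hpp, hqq, rfl⟩ := h.dec
  obtain ⟨x, hx, y, hy, hxx, hyy, hxy⟩ := h.p1.t3.ex4
  -- every element of order 4 of `J₁` commutes with `p`
  have key : ∀ y ∈ J₁, y * y = z → y * p = p * y := by
    intro y hy hyy
    have h1 := hc y (h.P1 y hy hyy)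
    have hyz : y * z = z * y := by rw [← hyy, mul_assoc]
    have hyq := h.comm y hy q hq
    have h2 : z * (y * p) * q = z * (p * y) * q := by
      calc z * (y * p) * q = (z * y) * p * q := by group
        _ = y * (z * (p * q)) := by rw [← hyz]; group
        _ = z * p * (q * y) := by rw [h1]; group
        _ = z * (p * y) * q := by rw [← hyq]; group
    exact mul_left_cancel (mul_right_cancel h2)
  obtain ⟨g, hg, hgx⟩ := h.p1.t3.conj p hp x hx hpp hxx
  have h1 := key (g⁻¹ * y * g) (mul_mem (mul_mem (inv_mem hg) hy) hg) (by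
    calc g⁻¹ * y * g * (g⁻¹ * y * g) = g⁻¹ * (y * y) * g := by group
      _ = g⁻¹ * (z * g) := by rw [hyy]; group
      _ = g⁻¹ * (g * z) := by rw [h.p1.comm_z hg]
      _ = z := by group)
  apply hxy
  rw [← hgx]
  calc g * p * g⁻¹ * y = g * (p * (g⁻¹ * y * g)) * g⁻¹ := by group
    _ = y * (g * p * g⁻¹) := by rw [← h1]; group

/-- **(3a)** -/
theorem falseA {J : Subgroup H} (hJ : Cl (z * f) J) : False :=
  h.not_central (central_cl hJ (mul_mem h.z_mem h.f_mem))

/-- **(3a')** -/
theorem falseA' {E : Subgroup H} (hE : Sn E (centralizer ({f} : Set H))) (hq : IsQuasisimple ↥E)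
    (hm : z * f ∈ E) : False :=
  h.not_central fun p hp => mem_centralizer_iff.1 (comm_P hE hq h.f_mem h.ff hm) p hp

/-- **(3b)** -/
theorem subB (hO : pPrimeCore 2 ↥(centralizer ({e} : Set H)) = ⊥) {E : Subgroup H}
    (hE : Sn E (centralizer ({f} : Set H))) (hq : IsQuasisimple ↥E) (he : e ∈ E)
    (hα : ∀ α : MulAut ↥E, α ^ 3 = 1 → (∀ g : ↥E, (g : H) * e = e * g → α g = g) → α = 1) : J₁.IsSubnormal := by
  have : Fact (Nat.Prime 2) := ⟨Nat.prime_two⟩
  have hc := component hE hq h.f_mem h.ff
  have hEP := comm_P hE hq h.f_mem h.ff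
  have hJc : IsPr (J₁.subgroupOf (centralizer ({e} : Set H))) (⟨z, h.sn1.1 h.p1.mem⟩ : centralizer ({e} : Set H)) :=
    h.p1.subgroupOf h.sn1.1
  -- components in `C(e)`
  have hL : ∀ L : Subgroup H, IsComponent L → L ≤ centralizer ({e} : Set H) → ∀ x ∈ J₁, ∀ l ∈ L, x * l = l * x := by
    intro L hL hLe x hx l hl
    have h2 := comm_component hJc h.sn1.2 (Components.isComponent_subgroupOf hLe hL)
    exact congrArg Subtype.val (h2 ⟨x, h.sn1.1 hx⟩ hx ⟨l, hLe hl⟩ hl)
  -- `J₁` commutes with `E`
  have hJE : J₁ ≤ centralizer (E : Set H) := by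
    by_cases hEe : E ≤ centralizer ({e} : Set H)
    · intro x hx
      rw [mem_centralizer_iff]
      intro y hy
      exact (hL E hc hEe x hx y hy).symm
    -- `J₁` normalises `E`
    have hn : J₁ ≤ normalizer (E : Set H) := by
      intro x hx
      rw [mem_normalizer_iff_cj]
      by_contra hne
      apply hEe
      have h1 : IsComponent (Cit.cj x E) := Comp.isComponent_cj hc x
      have h2 := Components.component_le_centralizer_of_ne h1 hc hne
      have h3 : e ∈ Cit.cj x E := by
        rw [Cit.mem_cj]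
        have h4 : x * e = e * x := mem_centralizer_singleton_iff.1 (h.sn1.1 hx)
        have h5 : x⁻¹ * e * x = e := by
          calc x⁻¹ * e * x = x⁻¹ * (e * x) := by group
            _ = e := by rw [← h4]; group
        rw [h5]; exact he
      intro y hy
      rw [mem_centralizer_singleton_iff]
      exact mem_centralizer_iff.1 (h2 h3) y hy
    refine h.p1.le_of_cube fun v hv hv3 => ?_
    -- `v` centralises `C_E(e)`
    have hfix : ∀ c ∈ E, c * e = e * c → v * c = c * v := by
      intro c hcE hce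
      have hcC : c ∈ centralizer ({e} : Set H) := mem_centralizer_singleton_iff.2 hce
      have h4 := comm_subnormal hO hJc h.sn1.2 (C := E.subgroupOf (centralizer ({e} : Set H)))
        (hc.1.comap _) ?_ ?_ (v := ⟨v, h.sn1.1 hv⟩) hv (Subtype.ext hv3) ⟨c, hcC⟩ hcE
      · exact congrArg Subtype.val h4
      · intro g hg
        rw [mem_normalizer_iff]
        intro k
        exact mem_normalizer_iff.1 (hn hg) k
      · intro h5
        obtain ⟨x, hx, y, hy, hxx, hyy, hxy⟩ := h.p1.t3.ex4
        have h6 : x ∈ E := h5 ⟨x, h.sn1.1 hx⟩ hx (Subtype.ext hxx)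
        exact hxy (mem_centralizer_iff.1 (hEP h6) y (h.P1 y hy hyy)).symm
    -- the automorphism
    have hvn := hn hv
    let α : MulAut ↥E := E.normalizerMonoidHom ⟨v, hvn⟩
    have hα' : ∀ g : ↥E, ((α g : ↥E) : H) = v * g * v⁻¹ := fun g => rfl
    have h1 : α = 1 := by
      refine hα α ?_ ?_
      · ext g
        rw [pow_succ, pow_succ, pow_one]
        show ((α (α (α g)) : ↥E) : H) = g
        rw [hα', hα', hα']
        calc v * (v * (v * g * v⁻¹) * v⁻¹) * v⁻¹ = (v * v * v) * g * (v * v * v)⁻¹ := by group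
          _ = g := by rw [hv3]; group
      · intro g hg
        apply Subtype.ext
        rw [hα', hfix g g.2 hg]; group
    rw [mem_centralizer_iff]
    intro y hy
    have h2 := hα' ⟨y, hy⟩
    rw [h1] at h2
    have h3 : y = v * y * v⁻¹ := h2
    calc y * v = (v * y * v⁻¹) * v := by rw [← h3]
      _ = v * y := by group
  -- `J₁` centralises the layer
  have hJL : J₁ ≤ centralizer (layer H : Set H) := by
    rw [le_centralizer_iff, Components.layer_le_iff]
    intro L hLc
    by_cases hLE : L = E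
    · rw [hLE, ← le_centralizer_iff]; exact hJE
    have h1 := Components.component_le_centralizer_of_ne hLc hc hLE
    have hLe : L ≤ centralizer ({e} : Set H) := h1.trans (centralizer_le (Set.singleton_subset_iff.2 he))
    intro l hl
    rw [mem_centralizer_iff]
    intro x hx
    exact hL L hLc hLe x hx l hl
  have hn : (centralizer (layer H : Set H)).Normal := by
    have := Components.layer_normal (G := H)
    infer_instance
  refine (h.sn1.restrict ?_ hJL).isSubnormal hn.isSubnormal
  exact centralizer_le (Set.singleton_subset_iff.2 (Components.component_le_layer hc he))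

/-- **(3c)** -/
theorem subC (hee : e * e = 1) (he1 : e ≠ 1) {E : Subgroup H} (hE : Sn E (centralizer ({f} : Set H))) (he : e ∈ E)
    (hiso : Nonempty (↥E ≃* ↥(alternatingGroup (Fin 4)))) : J₁.IsSubnormal := by
  have : Fact (Nat.Prime 2) := ⟨Nat.prime_two⟩
  obtain ⟨iso⟩ := hiso
  have hA := Alt4.of_equiv iso
  obtain ⟨heP, hfe⟩ := alt4_le hA hE h.f_mem h.ff he hee he1
  have hPn : (pCore 2 H).Normal := Lib.Cores.pCore_normal 2
  have hP : IsPGroup 2 (pCore 2 H) := Lib.Cores.pCore_isPGroup 2
  have hn : ∀ J : Subgroup H, J ≤ normalizer (pCore 2 H : Set H) := fun J => by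
    rw [normalizer_eq_top_iff.2 hPn]; exact le_top
  obtain ⟨i₁, j₁, d₁, s1⟩ := h.p1.sl
  obtain ⟨i₂, j₂, d₂, s2⟩ := h.p2.sl
  have hc : ∀ p ∈ pCore 2 H, p * e = e * p := by
    refine central_of hP h.p1 h.p2 s1 s2 (hn _) (hn _) h.sn1 h.sn2 h.comm (h.P1 _ s1.hi s1.q.i2) (h.P1 _ s1.hj s1.q.j2)
      (h.P2 _ s2.hi s2.q.i2) (h.P2 _ s2.hj s2.q.j2) heP ?_
    intro c hcP ci1 cj1 ci2 cj2
    refine hfe c hcP ?_
    obtain ⟨p, hp, q, hq, hpp, hqq, rfl⟩ := h.dec
    have m1 : p ∈ closure ({i₁, j₁} : Set H) := by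
      refine s1.mem_Q hp hP ?_ (h.P1 p hp hpp)
      rw [closure_le]
      rintro y (rfl | rfl)
      · exact h.P1 _ s1.hi s1.q.i2
      · exact h.P1 _ s1.hj s1.q.j2
    have m2 : q ∈ closure ({i₂, j₂} : Set H) := by
      refine s2.mem_Q hq hP ?_ (h.P2 q hq hqq)
      rw [closure_le]
      rintro y (rfl | rfl)
      · exact h.P2 _ s2.hi s2.q.i2
      · exact h.P2 _ s2.hj s2.q.j2
    have k1 : closure ({i₁, j₁} : Set H) ≤ centralizer ({c} : Set H) := by
      rw [closure_le]
      rintro y (rfl | rfl)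
      · exact mem_centralizer_singleton_iff.2 ci1.symm
      · exact mem_centralizer_singleton_iff.2 cj1.symm
    have k2 : closure ({i₂, j₂} : Set H) ≤ centralizer ({c} : Set H) := by
      rw [closure_le]
      rintro y (rfl | rfl)
      · exact mem_centralizer_singleton_iff.2 ci2.symm
      · exact mem_centralizer_singleton_iff.2 cj2.symm
    have k3 : Commute c p := (mem_centralizer_singleton_iff.1 (k1 m1)).symm
    have k4 : Commute c q := (mem_centralizer_singleton_iff.1 (k2 m2)).symm
    exact (k3.mul_right k4).eq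
  exact subnormal_of_central hP h.p1 h.sn1 heP hc

end Loc

end Cfsg.Agent.OddHalf.NI3.Bad.HLoc
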