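import Cfsg.Agent.OddHalf.NI3.Bad.StepTwoCfg
import Cfsg.Agent.OddHalf.NI3.Bad.HLoc

/-!
# THEOREM NIB, step (3d) (a1): the components of `C(z)` commute with `N` (helper967's text, typed by helper289)

* `layer_comm` : `N` a component of `C(y)`, `z ∈ N` an involution with `C_N(z)` solvable; a component `L` of `C(z)` which
  centralises `y` centralises `N`.
* `PP_comm_comp` : `O₂(C(z))` centralises the components of `C(z)`.
* `Cfg.layer_comm` : `Cfg N a b e A B`, `e ∈ O₂(C(a b))`: every component of `C(a b)` centralises `N`.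
* `Cfg.hE`, `Cfg.hE'` : the hypotheses `hE₁`, `hE₂` of `caseA_G`.
* `mem_PP_of_comm` : `O(C(z)) = 1`; an element of `C(z)` which centralises `O₂(C(z))` and the components lies in
  `O₂(C(z))`.
-/

set_option autoImplicit false
set_option linter.style.haveILetI false

namespace Cfsg.Agent.OddHalf.NI3.Bad

open Subgroup Cfsg Cfsg.Agent.Cit Cfsg.Agent.OddHalf.Iface Cfsg.Agent.OddHalf.LieOddFam
open Cfsg.Agent.SignalizersComponents
open Cfsg.Agent.OddHalf.D3 (Comp FT BL)
open Cfsg.Agent.OddHalf.NI (CompIn Dg pump2)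

universe u

/-- a solvable group has no quasisimple subgroup -/
theorem not_le_of_solvable {G : Type*} [Group G] {K X : Subgroup G} (hX : Group.IsSolvable ↥X)
    (hK : IsQuasisimple ↥K) : ¬ K ≤ X := by
  intro h
  exact Components.quasisimple_not_isSolvable hK
    (Group.isSolvable_of_isSolvable_injective (Subgroup.inclusion_injective h))

/-- **(a1)** -/
theorem layer_comm {G : Type*} [Group G] [Finite G] (hFT : FT G) (hB : BL G) {y z : G} {N L : Subgroup G}
    (hN : Comp y N) (hyo : orderOf y = 2) (hz : z ∈ N) (hzo : orderOf z = 2)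
    (hs : Group.IsSolvable ↥(N ⊓ centralizer ({z} : Set G))) (hL : Comp z L)
    (hLy : L ≤ centralizer ({y} : Set G)) : L ≤ centralizer (N : Set G) := by
  have hyz : y * z = z * y := (mem_centralizer_singleton_iff.1 (hN.le hz)).symm
  have hin : CompIn (centralizer ({y} : Set G) ⊓ centralizer ({z} : Set G)) L :=
    (NI.compIn_of_comp hL).mono (le_inf hLy hL.le) inf_le_right
  obtain ⟨D, hD, hcase⟩ := pump2 hFT hB hyo hzo hyz hin
  by_cases hDN : D = N
  · subst hDN
    exfalso
    rcases hcase with h | h | h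
    · exact not_le_of_solvable hs hL.quasi (le_inf h.le hL.le)
    · exact not_le_of_solvable hs hL.quasi (le_inf h.1.le hL.le)
    · exact h.ne (D3.cj_eq_of_mem hz)
  · have hc := hD.comm hN hDN
    rcases hcase with h | h | h
    · rwa [h]
    · exact h.1.le.trans hc
    · exfalso
      apply h.ne
      apply le_antisymm
      · rintro _ ⟨d, hd, rfl⟩
        have h1 : d * z = z * d := (mem_centralizer_iff.1 (hc hd) z hz).symm
        show z * d * z⁻¹ ∈ D
        rw [← h1, mul_inv_cancel_right]
        exact hd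
      · intro d hd
        refine ⟨d, hd, ?_⟩
        have h1 : d * z = z * d := (mem_centralizer_iff.1 (hc hd) z hz).symm
        show z * d * z⁻¹ = d
        rw [← h1, mul_inv_cancel_right]

/-- `O₂(C(z))` centralises the components of `C(z)` -/
theorem PP_comm_comp {G : Type*} [Group G] [Finite G] {z : G} {L : Subgroup G} (hL : Comp z L) {q l : G}
    (hq : q ∈ PP z) (hl : l ∈ L) : q * l = l * q := by
  have hPn : (pCore 2 ↥(centralizer ({z} : Set G))).Normal := Lib.Cores.pCore_normal 2
  have hPp := Lib.Cores.pCore_isPGroup 2 (G := ↥(centralizer ({z} : Set G)))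
  rcases Components.component_le_or_commutator_eq_bot hL.comp hPn.isSubnormal with h4 | h4
  · exfalso
    haveI : Group.IsNilpotent (pCore 2 ↥(centralizer ({z} : Set G))) := hPp.isNilpotent
    have h5 : Group.IsSolvable (pCore 2 ↥(centralizer ({z} : Set G))) := inferInstance
    have h6 : Group.IsSolvable ↥(L.subgroupOf (centralizer ({z} : Set G))) :=
      Group.isSolvable_of_isSolvable_injective (Subgroup.inclusion_injective h4)
    exact Components.quasisimple_not_isSolvable hL.comp.2 h6
  · rw [commutator_eq_bot_iff_le_centralizer] at h4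
    have hqC := PP_le z hq
    have hlC := hL.le hl
    have h5 := mem_centralizer_iff.1 (h4 (show (⟨l, hlC⟩ : ↥(centralizer ({z} : Set G))) ∈ L.subgroupOf _ from hl))
      ⟨q, hqC⟩ ((mem_PP hqC).1 hq)
    exact congrArg Subtype.val h5

/-- an element of `C(z)` which centralises `O₂(C(z))` and the components lies in `O₂(C(z))` -/
theorem mem_PP_of_comm {G : Type*} [Group G] [Finite G] {z : G}
    (hO : pPrimeCore 2 ↥(centralizer ({z} : Set G)) = ⊥) {g : G} (hg : g * z = z * g)
    (hP : ∀ q ∈ PP z, g * q = q * g) (hE : ∀ L : Subgroup G, Comp z L → ∀ x ∈ L, g * x = x * g) : g ∈ PP z := by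
  have hgC : g ∈ centralizer ({z} : Set G) := mem_centralizer_singleton_iff.2 hg
  rw [mem_PP hgC]
  apply OneComp.centralizer_genFit_le hO
  refine OneComp.mem_centralizer_genFit hO (fun L hL => ?_) ?_
  · rw [mem_centralizer_iff]
    intro l hl
    have hLm : Comp z (L.map (centralizer ({z} : Set G)).subtype) := by
      refine ⟨map_subtype_le _, ?_⟩
      rwa [Subgroup.subgroupOf, Subgroup.comap_map_eq_self_of_injective (subtype_injective _)]
    exact Subtype.ext (hE _ hLm l ⟨l, hl, rfl⟩).symm
  · rw [mem_centralizer_iff]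
    intro q hq
    exact Subtype.ext (hP q ⟨q, hq, rfl⟩).symm

section

variable {G : Type u} [Group G] [Finite G] {N : Subgroup G} {a b e : G} {A B : Subgroup G}

/-- **(a1)** for a configuration: if `e ∈ O₂(C(a b))`, every component of `C(a b)` centralises `N` -/
theorem Cfg.layer_comm (hFT : FT G) (hB : BL G) (h : Cfg N a b e A B) (he : e ∈ PP (a * b)) {L : Subgroup G}
    (hL : Comp (a * b) L) : L ≤ centralizer (N : Set G) := by
  refine Bad.layer_comm hFT hB h.comp h.y_ord h.zN h.z_ord h.sol hL ?_
  · intro l hl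
    rw [mem_centralizer_singleton_iff]
    have h1 : l * e = e * l := (PP_comm_comp hL he hl).symm
    have h2 : l * (a * b) = (a * b) * l := mem_centralizer_singleton_iff.1 (hL.le hl)
    calc l * (a * b * e) = (l * (a * b)) * e := by group
      _ = (a * b) * (l * e) := by rw [h2]; group
      _ = a * b * e * l := by rw [h1]; group

/-- hypothesis `hE₁` of `caseA_G` -/
theorem Cfg.hE (hFT : FT G) (hB : BL G) (h : Cfg N a b e A B) (he : e ∈ PP (a * b)) :
    ∀ L : Subgroup G, Comp (a * b) L → ∀ x ∈ A, ∀ y ∈ L, x * y = y * x := fun _ hL x hx _ hy =>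
  mem_centralizer_iff.1 (h.layer_comm hFT hB he hL hy) x (h.AN hx)

/-- hypothesis `hE₂` of `caseA_G` -/
theorem Cfg.hE' (hFT : FT G) (hB : BL G) (h : Cfg N a b e A B) (he : e ∈ PP (a * b)) :
    ∀ L : Subgroup G, Comp (a * b) L → ∀ x ∈ B, ∀ y ∈ L, x * y = y * x := fun _ hL x hx _ hy =>
  mem_centralizer_iff.1 (h.layer_comm hFT hB he hL hy) x (h.BN hx)

end

end Cfsg.Agent.OddHalf.NI3.Bad
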