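import Cfsg.Agent.OddHalf.NI3.Bad.SLAct
import Cfsg.Agent.OddHalf.NI3.Bad.Basic
import Cfsg.Agent.TwoFusion.ClosedFunctor

/-!
# THEOREM NIB: the two factors of `C_N(z)` (helper967, after helper931's `RowD`)

`Sheet N a b e A B`, `z = a b` : `O(C_N(z)) = 1`; every `SL₂(3)` with involution `z` which is subnormal in `C_N(z)` is
`A` or `B`; elements which normalise `N` and commute with `z` permute `{A, B}`; two frames with the same `z` have the
same factors.
-/

set_option autoImplicit false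
set_option linter.style.haveILetI false
set_option linter.unusedSectionVars false

namespace Cfsg.Agent.OddHalf.NI3.Bad.ATwo

open Subgroup Cfsg Cfsg.Agent.Cit Cfsg.Agent.Cit.SolvTwo Cfsg.Agent.SignalizersComponents

section

variable {G : Type*} [Group G] {N : Subgroup G} {a b e : G} {A B : Subgroup G}

theorem sq_of_comm (h : Sheet N a b e A B) {g : G} (hg : g ∈ N) (h1 : ∀ x ∈ A, g * x = x * g)
    (h2 : ∀ x ∈ B, g * x = x * g) : g * g = 1 := by
  rcases h.cAB g hg h1 h2 with h3 | h3 | h3 | h3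
  · rw [h3, one_mul]
  · rw [h3, h.zz]
  · rw [h3, h.ee]
  · rw [h3, h.yy]

theorem not_both (h : Sheet N a b e A B) {x : G} {J : Subgroup G} (hJ : IsPr J x) (hJN : J ≤ N)
    (h1 : ∀ g ∈ J, ∀ c ∈ A, g * c = c * g) (h2 : ∀ g ∈ J, ∀ c ∈ B, g * c = c * g) : False := by
  obtain ⟨p, hp, -, -, hpp, -⟩ := hJ.t3.ex4
  have h3 := sq_of_comm h (hJN hp) (h1 p hp) (h2 p hp)
  rw [hpp] at h3
  exact hJ.t3.z_ne h3

variable [Finite G]

/-- `O(C_N(z)) = 1` -/
theorem core_eq_bot (h : Sheet N a b e A B) :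
    pPrimeCore 2 ↥(N ⊓ centralizer ({a * b} : Set G) : Subgroup G) = ⊥ := by
  haveI : Fact (Nat.Prime 2) := ⟨Nat.prime_two⟩
  set C : Subgroup G := N ⊓ centralizer ({a * b} : Set G) with hC
  have hn : (pPrimeCore 2 C).Normal := Lib.Cores.pPrimeCore_normal 2
  have hodd : ¬ 2 ∣ Nat.card (pPrimeCore 2 C) := not_two_dvd_oddCore C
  have hO2 : ∀ o ∈ pPrimeCore 2 C, ∀ p ∈ pCore 2 C, o * p = p * o := by
    intro o ho p hp
    have hn2 : (pCore 2 C).Normal := Lib.Cores.pCore_normal 2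
    have h1 : o * p * o⁻¹ * p⁻¹ ∈ pCore 2 C ⊓ pPrimeCore 2 C := by
      refine Subgroup.mem_inf.2 ⟨mul_mem (hn2.conj_mem p hp o) (inv_mem hp), ?_⟩
      have h2 := mul_mem ho (hn.conj_mem _ (inv_mem ho) p)
      have h3 : o * p * o⁻¹ * p⁻¹ = o * (p * o⁻¹ * p⁻¹) := by group
      rwa [h3]
    rw [Lib.Cores.pCore_inf_pPrimeCore 2, mem_bot, mul_inv_eq_one, mul_inv_eq_iff_eq_mul] at h1
    exact h1
  have hsq : ∀ o ∈ pPrimeCore 2 C, o * o = 1 → o = 1 := by
    intro o ho h2
    by_contra hne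
    apply hodd
    have h3 : orderOf o = 2 := orderOf_eq_prime (by rw [pow_two, h2]) hne
    have h4 := _root_.orderOf_dvd_natCard (⟨o, ho⟩ : pPrimeCore 2 C)
    rwa [Subgroup.orderOf_mk, h3] at h4
  -- elements of `O(C) ∩ A B` are trivial
  have key : ∀ o ∈ pPrimeCore 2 C, ∀ x ∈ A, ∀ y ∈ B, (o : G) = x * y → o = 1 := by
    intro o ho x hx y hy hoxy
    have hx1 : x = 1 ∨ x = a * b := by
      refine h.prA.t3.cen x hx fun q hq hqq => ?_
      have hqP := (h.prA.subgroupOf h.snA.1).mem_pCore h.snA.2 (y := ⟨q, h.snA.1 hq⟩) hq (Subtype.ext hqq)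
      have h3 : (o : G) * q = q * o := congrArg Subtype.val (hO2 o ho _ hqP)
      rw [hoxy] at h3
      have h4 : y * q = q * y := (h.AB q hq y hy).symm
      have h5 : x * q * y = q * x * y := by
        calc x * q * y = x * (y * q) := by rw [h4]; group
          _ = q * (x * y) := by rw [← h3]; group
          _ = q * x * y := by group
      exact mul_right_cancel h5
    have hy1 : y = 1 ∨ y = a * b := by
      refine h.prB.t3.cen y hy fun q hq hqq => ?_
      have hqP := (h.prB.subgroupOf h.snB.1).mem_pCore h.snB.2 (y := ⟨q, h.snB.1 hq⟩) hq (Subtype.ext hqq)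
      have h3 : (o : G) * q = q * o := congrArg Subtype.val (hO2 o ho _ hqP)
      rw [hoxy] at h3
      have h4 : x * q = q * x := h.AB x hx q hq
      have h5 : x * (y * q) = x * (q * y) := by
        calc x * (y * q) = x * y * q := by group
          _ = q * (x * y) := h3
          _ = (q * x) * y := by group
          _ = x * (q * y) := by rw [← h4]; group
      exact mul_left_cancel h5
    refine hsq o ho (Subtype.ext ?_)
    show (o : G) * o = 1
    have hz := h.zz
    rw [hoxy]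
    rcases hx1 with rfl | rfl <;> rcases hy1 with rfl | rfl
    · simp
    · rw [one_mul, hz]
    · rw [mul_one, hz]
    · rw [hz, one_mul]
  -- `A B` as a set
  have hAB : ∀ g ∈ A ⊔ B, ∃ x ∈ A, ∃ y ∈ B, g = x * y := fun g hg =>
    (Cfsg.Agent.TwoFusion.ClosedFunctor.mem_sup_of_comm h.AB).1 hg
  have hcen : ∀ o ∈ pPrimeCore 2 C, ∀ g ∈ A ⊔ B, (o : G) * g = g * o := by
    intro o ho g hg
    have hgC : g ∈ C := (sup_le h.snA.1 h.snB.1) hg
    have hoC : (o : G) ∈ C := o.2
    have h1 : (o : G) * g * (o : G)⁻¹ ∈ A ⊔ B := by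
      have h2 := h.nor (o : G) hoC.1 (mem_centralizer_singleton_iff.1 hoC.2)
      rw [← h2]
      exact conj_mem_cj hg
    have h3 : (o : G) * g * (o : G)⁻¹ * g⁻¹ ∈ A ⊔ B := mul_mem h1 (inv_mem hg)
    have h4 : o * ⟨g, hgC⟩ * o⁻¹ * (⟨g, hgC⟩ : C)⁻¹ ∈ pPrimeCore 2 C := by
      have h5 := mul_mem ho (hn.conj_mem _ (inv_mem ho) (⟨g, hgC⟩ : C))
      have h6 : o * ⟨g, hgC⟩ * o⁻¹ * (⟨g, hgC⟩ : C)⁻¹ = o * (⟨g, hgC⟩ * o⁻¹ * (⟨g, hgC⟩ : C)⁻¹) := by group
      rwa [h6]
    obtain ⟨x, hx, y, hy, hxy⟩ := hAB _ h3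
    have h7 := key _ h4 x hx y hy hxy
    have h8 : (o : G) * g * (o : G)⁻¹ * g⁻¹ = 1 := congrArg Subtype.val h7
    rw [mul_inv_eq_one, mul_inv_eq_iff_eq_mul] at h8
    exact h8
  rw [eq_bot_iff]
  intro o ho
  rw [mem_bot]
  refine hsq o ho (Subtype.ext ?_)
  have hoC : (o : G) ∈ C := o.2
  exact sq_of_comm h hoC.1 (fun x hx => hcen o ho x (mem_sup_left hx)) (fun x hx => hcen o ho x (mem_sup_right hx))

/-- an `SL₂(3)` with involution `z`, subnormal in `C_N(z)`, is `A` or `B` -/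
theorem eq_of_sn (h : Sheet N a b e A B) {J : Subgroup G} (hJ : IsPr J (a * b))
    (hs : Sn J (N ⊓ centralizer ({a * b} : Set G))) : J = A ∨ J = B := by
  set C : Subgroup G := N ⊓ centralizer ({a * b} : Set G) with hC
  have hO : oddCore ↥C = ⊥ := core_eq_bot h
  have hz : ∀ x : C, x * ⟨a * b, h.snA.1 h.prA.mem⟩ = ⟨a * b, h.snA.1 h.prA.mem⟩ * x := fun x =>
    Subtype.ext (mem_centralizer_singleton_iff.1 (mem_inf.1 x.2).2)
  have kJ := hJ.subgroupOf hs.1
  have kA := h.prA.subgroupOf h.snA.1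
  have kB := h.prB.subgroupOf h.snB.1
  rcases SLThree.eq_or_cm hO hz kJ.isSl kA.isSl hs.2 h.snA.2 with h1 | h1
  · left
    have := congrArg (fun K : Subgroup C => K.map C.subtype) h1
    rwa [map_subgroupOf_eq_of_le hs.1, map_subgroupOf_eq_of_le h.snA.1] at this
  rcases SLThree.eq_or_cm hO hz kJ.isSl kB.isSl hs.2 h.snB.2 with h2 | h2
  · right
    have := congrArg (fun K : Subgroup C => K.map C.subtype) h2
    rwa [map_subgroupOf_eq_of_le hs.1, map_subgroupOf_eq_of_le h.snB.1] at this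
  exfalso
  refine not_both h hJ (hs.1.trans inf_le_left) ?_ ?_
  · intro g hg c hc
    exact congrArg Subtype.val (h1 ⟨g, hs.1 hg⟩ hg ⟨c, h.snA.1 hc⟩ hc)
  · intro g hg c hc
    exact congrArg Subtype.val (h2 ⟨g, hs.1 hg⟩ hg ⟨c, h.snB.1 hc⟩ hc)

omit [Finite G] in
theorem ne_AB (h : Sheet N a b e A B) : A ≠ B := by
  rintro rfl
  obtain ⟨p, hp, q, hq, -, -, hpq⟩ := h.prA.t3.ex4
  exact hpq (h.AB p hp q hq)

omit [Finite G] in
theorem cj_cent {g x : G} (hg : g * x = x * g) : cj g (centralizer ({x} : Set G)) = centralizer ({x} : Set G) := by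
  ext y
  rw [mem_cj, mem_centralizer_singleton_iff, mem_centralizer_singleton_iff]
  have e1 : g⁻¹ * x = x * g⁻¹ := (show Commute g x from hg).inv_left.eq
  constructor
  · intro h1
    calc y * x = g * (g⁻¹ * y * g) * (g⁻¹ * x) := by group
      _ = g * (g⁻¹ * y * g * x) * g⁻¹ := by rw [e1]; group
      _ = g * x * (g⁻¹ * y * g) * g⁻¹ := by rw [h1]; group
      _ = x * y := by rw [hg]; group
  · intro h1
    calc g⁻¹ * y * g * x = g⁻¹ * y * (g * x) := by group
      _ = g⁻¹ * (y * x) * g := by rw [hg]; group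
      _ = (g⁻¹ * x) * y * g := by rw [h1]; group
      _ = x * (g⁻¹ * y * g) := by rw [e1]; group

/-- elements which normalise `N` and commute with `z` permute `{A, B}` -/
theorem perm (h : Sheet N a b e A B) {g : G} (hg : cj g N = N) (hz : g * (a * b) = a * b * g) :
    (cj g A = A ∧ cj g B = B) ∨ (cj g A = B ∧ cj g B = A) := by
  have hzg : g * (a * b) * g⁻¹ = a * b := by rw [hz]; group
  have e1 : cj g (N ⊓ centralizer ({a * b} : Set G)) = N ⊓ centralizer ({a * b} : Set G) := by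
    rw [Cit.cj_def, Subgroup.map_inf _ _ _ (MulAut.conj g).injective, ← Cit.cj_def, ← Cit.cj_def, hg, cj_cent hz]
  have pA : IsPr (cj g A) (a * b) := by
    have h2 := h.prA.map (MulAut.conj g).toMonoidHom (by
      intro h3
      exact h.z_ne ((MulAut.conj g).injective (by simpa using h3)))
    have h4 : (MulAut.conj g).toMonoidHom (a * b) = a * b := hzg
    rwa [h4] at h2
  have pB : IsPr (cj g B) (a * b) := by
    have h2 := h.prB.map (MulAut.conj g).toMonoidHom (by
      intro h3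
      exact h.z_ne ((MulAut.conj g).injective (by simpa using h3)))
    have h4 : (MulAut.conj g).toMonoidHom (a * b) = a * b := hzg
    rwa [h4] at h2
  have sA := h.snA.cj g
  have sB := h.snB.cj g
  rw [e1] at sA sB
  have hne : cj g A ≠ cj g B := fun h3 => ne_AB h (by
    have := congrArg (cj g⁻¹) h3
    rwa [← cj_mul, ← cj_mul, inv_mul_cancel, cj_one, cj_one] at this)
  rcases eq_of_sn h pA sA with h1 | h1 <;> rcases eq_of_sn h pB sB with h2 | h2
  · exact absurd (h1.trans h2.symm) hne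
  · exact Or.inl ⟨h1, h2⟩
  · exact Or.inr ⟨h1, h2⟩
  · exact absurd (h1.trans h2.symm) hne

/-- two frames of `N` with the same `z` -/
theorem unique (h : Sheet N a b e A B) {a' b' e' : G} {A' B' : Subgroup G} (h' : Sheet N a' b' e' A' B')
    (hz : a' * b' = a * b) : (A' = A ∧ B' = B) ∨ (A' = B ∧ B' = A) := by
  have pA := h'.prA
  have pB := h'.prB
  have sA := h'.snA
  have sB := h'.snB
  rw [hz] at pA pB sA sB
  rcases eq_of_sn h pA sA with h1 | h1 <;> rcases eq_of_sn h pB sB with h2 | h2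
  · exact absurd (h1.trans h2.symm) (ne_AB h')
  · exact Or.inl ⟨h1, h2⟩
  · exact Or.inr ⟨h1, h2⟩
  · exact absurd (h1.trans h2.symm) (ne_AB h')

end

end Cfsg.Agent.OddHalf.NI3.Bad.ATwo
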