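import Cfsg.Agent.OddHalf.NI3.Bad.APerm

/-!
# THEOREM NIB, (3d)(a2): the torus of a frame (bb ODD #16572, helper967)

`Tor N a b e A B p q c` : `p ∈ A`, `q ∈ B` of order 4, `a = p q`, `c ∈ N` the rotation `a → b → e → a`, `p` commutes with
`c⁻¹ p c`.
* `Tor.conj_five` : an involution `x₁ x₂` of `O₂(A) O₂(B)` commuting with `a` conjugates `c⁻¹ p c` to `c⁻¹ q c`;
* `Tor.conj_seven` : and `c p c⁻¹` to `(c q c⁻¹)⁻¹`;
* `Tor.rot_or_refl` : an element which normalises `N` and centralises `A`, `B` fixes `p₅ = c⁻¹ p c` (rotation) or maps it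
  to `(c⁻¹ q c)⁻¹` (reflection);
* `Tor.refl_sq` : the square of a reflection centralises `c⁻¹ A c`, `c⁻¹ B c`;
* `Tor.false_of_refl` : a reflection `f`, `f² = 1`, with `p` in a 2-subgroup normalised by `C(f)`: contradiction.
-/

set_option autoImplicit false
set_option linter.style.haveILetI false
set_option linter.unusedSectionVars false

namespace Cfsg.Agent.OddHalf.NI3.Bad.ATwo

open Subgroup Cfsg Cfsg.Agent.Cit Cfsg.Agent.Cit.SolvTwo

structure Tor {G : Type*} [Group G] (N : Subgroup G) (a b e : G) (A B : Subgroup G) (p q c : G) : Prop where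
  pA : p ∈ A
  qB : q ∈ B
  cN : c ∈ N
  pp : p * p = a * b
  qq : q * q = a * b
  pq : a = p * q
  ca : c * a * c⁻¹ = b
  cb : c * b * c⁻¹ = e
  ce : c * e * c⁻¹ = a
  pc : p * (c⁻¹ * p * c) = c⁻¹ * p * c * p

section Basic

variable {G : Type*} [Group G] {N : Subgroup G} {a b e : G} {A B : Subgroup G}

theorem A_comm_z (h : Sheet N a b e A B) {x : G} (hx : x ∈ A) : x * (a * b) = a * b * x := h.prA.comm_z hx
theorem B_comm_z (h : Sheet N a b e A B) {x : G} (hx : x ∈ B) : x * (a * b) = a * b * x := h.prB.comm_z hx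

/-- elements of `N` commuting with `z` commute with `e` -/
theorem comm_e (h : Sheet N a b e A B) {x : G} (hx : x ∈ N) (hz : x * (a * b) = a * b * x) : x * e = e * x := by
  have h1 := h.y_comm x hx
  have h2 : a * b * (x * e) = a * b * (e * x) := by
    calc a * b * (x * e) = (a * b * x) * e := by group
      _ = x * (a * b * e) := by rw [← hz]; group
      _ = a * b * (e * x) := by rw [h1]; group
  exact mul_left_cancel h2

theorem A_comm_e (h : Sheet N a b e A B) {x : G} (hx : x ∈ A) : x * e = e * x := comm_e h (h.AN hx) (A_comm_z h hx)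
theorem B_comm_e (h : Sheet N a b e A B) {x : G} (hx : x ∈ B) : x * e = e * x := comm_e h (h.BN hx) (B_comm_z h hx)

theorem b_eq (h : Sheet N a b e A B) : b = a * (a * b) := by rw [← mul_assoc, h.aa, one_mul]

theorem ne_one (h : Sheet N a b e A B) : a ≠ 1 ∧ b ≠ 1 ∧ e ≠ 1 ∧ a ≠ b ∧ b ≠ e ∧ a ≠ e := by
  obtain ⟨c, -, h1, h2, h3⟩ := h.rot
  have hab : a ≠ b := fun h4 => h.z_ne (by rw [← h4, h.aa])
  have cinj : ∀ x y : G, c * x * c⁻¹ = c * y * c⁻¹ → x = y := fun x y h4 => mul_left_cancel (mul_right_cancel h4)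
  have hbe : b ≠ e := fun h4 => hab (cinj _ _ (by rw [h1, h2, h4]))
  have hea : e ≠ a := fun h4 => hbe (cinj _ _ (by rw [h2, h3, h4]))
  have ha1 : a ≠ 1 := by
    intro h4
    apply hab
    rw [← h1, h4]; group
  have hb1 : b ≠ 1 := by
    intro h4
    apply hbe
    rw [← h2, h4]; group
  have he1 : e ≠ 1 := by
    intro h4
    apply hea
    rw [← h3, h4]; group
  exact ⟨ha1, hb1, he1, hab, hbe, fun h4 => hea h4.symm⟩

/-- anticommuting elements of order 4 -/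
theorem anti {J : Subgroup G} {z : G} (h : IsPr J z) {x y : G} (hx : x ∈ J) (hxz : x * x = z) (hy : y ∈ J)
    (hyz : y * y = z) (hn : x * y ≠ y * x) : y * x = z * (x * y) := by
  obtain ⟨i, j, d, hl⟩ := h.sl
  rcases q_conj_four hl h.t3 hy hyz hx hxz with h1 | h1
  · exact absurd (mul_inv_eq_iff_eq_mul.1 h1).symm hn
  · rw [← mul_assoc]; exact mul_inv_eq_iff_eq_mul.1 h1

/-- `s = x₁ x₂` -/
theorem s_comm (h : Sheet N a b e A B) {p q x₁ x₂ : G} (hp : p ∈ A) (hq : q ∈ B) (hpz : p * p = a * b)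
    (hqz : q * q = a * b) (hx₁ : x₁ ∈ A) (hx₂ : x₂ ∈ B) (h₁ : x₁ * x₁ = a * b) (h₂ : x₂ * x₂ = a * b)
    (n₁ : p * x₁ ≠ x₁ * p) (n₂ : q * x₂ ≠ x₂ * q) : x₁ * x₂ * (p * q) = p * q * (x₁ * x₂) := by
  have e1 := anti h.prA hp hpz hx₁ h₁ n₁
  have e2 := anti h.prB hq hqz hx₂ h₂ n₂
  have c1 : x₂ * p = p * x₂ := (h.AB p hp x₂ hx₂).symm
  have c2 : x₁ * q = q * x₁ := h.AB x₁ hx₁ q hq
  have zA := A_comm_z h hp
  calc x₁ * x₂ * (p * q) = x₁ * (x₂ * p) * q := by group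
    _ = (x₁ * p) * (x₂ * q) := by rw [c1]; group
    _ = a * b * (p * x₁) * (a * b * (q * x₂)) := by rw [e1, e2]
    _ = a * b * (p * (x₁ * (a * b)) * (q * x₂)) := by group
    _ = a * b * (p * (a * b) * x₁ * (q * x₂)) := by rw [A_comm_z h hx₁]; group
    _ = a * b * (a * b) * (p * (x₁ * q) * x₂) := by rw [zA]; group
    _ = p * q * (x₁ * x₂) := by rw [h.zz, one_mul, c2]; group

theorem s_sq (h : Sheet N a b e A B) {x₁ x₂ : G} (hx₁ : x₁ ∈ A) (hx₂ : x₂ ∈ B) (h₁ : x₁ * x₁ = a * b)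
    (h₂ : x₂ * x₂ = a * b) : (x₁ * x₂) * (x₁ * x₂) = 1 := by
  have c1 : x₂ * x₁ = x₁ * x₂ := (h.AB x₁ hx₁ x₂ hx₂).symm
  calc (x₁ * x₂) * (x₁ * x₂) = x₁ * (x₂ * x₁) * x₂ := by group
    _ = (x₁ * x₁) * (x₂ * x₂) := by rw [c1]; group
    _ = 1 := by rw [h₁, h₂, h.zz]

variable [Finite G]

/-- if `P` normalises `N`, commutes with `z`, `p`, `q` and `P²` acts on `A` as `p` and on `B` as `q`, then
`s P s⁻¹ = a P` or `b P` -/
theorem twist (h : Sheet N a b e A B) {p q : G} (hp : p ∈ A) (hq : q ∈ B) (hpz : p * p = a * b) (hqz : q * q = a * b)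
    (hpq : a = p * q) {P : G} (hPN : cj P N = N) (hPz : P * (a * b) = a * b * P) (hPp : P * p = p * P)
    (hPA : ∀ x ∈ A, P * P * x * (P * P)⁻¹ = p * x * p⁻¹) (hPB : ∀ x ∈ B, P * P * x * (P * P)⁻¹ = q * x * q⁻¹)
    (hPa : P * a = a * P) {x₁ x₂ : G} (hx₁ : x₁ ∈ A) (hx₂ : x₂ ∈ B) (h₁ : x₁ * x₁ = a * b) (h₂ : x₂ * x₂ = a * b)
    (n₁ : p * x₁ ≠ x₁ * p) (n₂ : q * x₂ ≠ x₂ * q) :
    (cj P A = A ∧ cj P B = B ∧ P * q = q * P) ∧
      (x₁ * x₂ * P * (x₁ * x₂)⁻¹ = a * P ∨ x₁ * x₂ * P * (x₁ * x₂)⁻¹ = b * P) := by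
  have hPq : P * q = q * P := by
    have e1 : q = p⁻¹ * a := by rw [hpq]; group
    have e2 : P * p⁻¹ = p⁻¹ * P := (show Commute P p from hPp).inv_right.eq
    rw [e1]
    calc P * (p⁻¹ * a) = (P * p⁻¹) * a := by group
      _ = p⁻¹ * (P * a) := by rw [e2]; group
      _ = p⁻¹ * a * P := by rw [hPa]; group
  have hAB : cj P A = A ∧ cj P B = B := by
    rcases perm h hPN hPz with h3 | h3
    · exact h3
    · exfalso
      have h4 : P * p * P⁻¹ ∈ cj P A := conj_mem_cj hp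
      rw [h3.1, hPp, mul_inv_cancel_right] at h4
      obtain ⟨y, hy, y', hy', hyz, hyz', hyn⟩ := h.prA.t3.ex4
      -- `p ∈ A ∩ B` is central in `A`
      have h5 : p = 1 ∨ p = a * b := h.prA.t3.cen p hp fun y hy _ => (h.AB y hy p h4).symm
      rcases h5 with h5 | h5
      · rw [h5, one_mul] at hpz; exact h.z_ne hpz.symm
      · rw [h5, h.zz] at hpz; exact h.z_ne hpz.symm
  refine ⟨⟨hAB.1, hAB.2, hPq⟩, ?_⟩
  have k1 := outer_conj h.prA hAB.1 hp hpz hPp hPA hx₁ h₁ n₁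
  have k2 := outer_conj h.prB hAB.2 hq hqz hPq hPB hx₂ h₂ n₂
  set s := x₁ * x₂ with hs
  have ss : s * s = 1 := s_sq h hx₁ hx₂ h₁ h₂
  have sa : s * a = a * s := by rw [hpq]; exact s_comm h hp hq hpz hqz hx₁ hx₂ h₁ h₂ n₁ n₂
  have si : s⁻¹ = s := inv_eq_of_mul_eq_one_right ss
  have c2 : x₁ * q = q * x₁ := h.AB x₁ hx₁ q hq
  have em : P * s * P⁻¹ = (P * x₁ * P⁻¹) * (P * x₂ * P⁻¹) := by rw [hs]; group
  have zx : ∀ x ∈ A, x * (a * b) = a * b * x := fun x hx => A_comm_z h hx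
  have zs : s * (a * b) = a * b * s := by
    rw [hs, mul_assoc, B_comm_z h hx₂, ← mul_assoc, A_comm_z h hx₁]; group
  have key : P * s * P⁻¹ = a * s ∨ P * s * P⁻¹ = b * s := by
    have e0 : (p * x₁) * (q * x₂) = a * s := by
      calc (p * x₁) * (q * x₂) = p * (x₁ * q) * x₂ := by group
        _ = a * s := by rw [c2, hpq, hs]; group
    have zpx : (p * x₁) * (a * b) = a * b * (p * x₁) := zx _ (mul_mem hp hx₁)
    have ezb : a * b * (a * s) = b * s := by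
      have : a * b * a = b := by
        rw [mul_assoc, ← h.ab, ← mul_assoc, h.aa, one_mul]
      rw [← mul_assoc, this]
    rcases k1 with k1 | k1 <;> rcases k2 with k2 | k2
    · left; rw [em, k1, k2, e0]
    · right
      rw [em, k1, k2]
      calc p * x₁ * (a * b * (q * x₂)) = (p * x₁) * (a * b) * (q * x₂) := by group
        _ = a * b * ((p * x₁) * (q * x₂)) := by rw [zpx]; group
        _ = b * s := by rw [e0, ezb]
    · right
      rw [em, k1, k2]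
      calc a * b * (p * x₁) * (q * x₂) = a * b * ((p * x₁) * (q * x₂)) := by group
        _ = b * s := by rw [e0, ezb]
    · left
      rw [em, k1, k2]
      calc a * b * (p * x₁) * (a * b * (q * x₂)) = a * b * ((p * x₁) * (a * b)) * (q * x₂) := by group
        _ = (a * b) * (a * b) * ((p * x₁) * (q * x₂)) := by rw [zpx]; group
        _ = a * s := by rw [h.zz, one_mul, e0]
  -- from `P s P⁻¹ = u s` to `s P s⁻¹ = u P`
  have fin : ∀ u : G, s * u = u * s → P * s * P⁻¹ = u * s → s * P * s⁻¹ = u * P := by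
    intro u hu h3
    have h4 : P * s = u * s * P := mul_inv_eq_iff_eq_mul.1 h3
    calc s * P * s⁻¹ = s * (P * s) := by rw [si]; group
      _ = (s * u) * s * P := by rw [h4]; group
      _ = u * (s * s) * P := by rw [hu]; group
      _ = u * P := by rw [ss, mul_one]
  rcases key with k | k
  · exact Or.inl (fin a sa k)
  · refine Or.inr (fin b ?_ k)
    rw [b_eq h, ← mul_assoc, sa, mul_assoc, zs]; group

end Basic

/-! ### The torus -/

section

variable {G : Type*} [Group G] {N : Subgroup G} {a b e : G} {A B : Subgroup G} {p q c : G}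

namespace Tor

theorem ca' (t : Tor N a b e A B p q c) : c⁻¹ * a * c = e := by rw [← t.ce]; group
theorem cb' (t : Tor N a b e A B p q c) : c⁻¹ * b * c = a := by
  have := t.ca
  calc c⁻¹ * b * c = c⁻¹ * (c * a * c⁻¹) * c := by rw [t.ca]
    _ = a := by group
theorem ce' (t : Tor N a b e A B p q c) : c⁻¹ * e * c = b := by
  calc c⁻¹ * e * c = c⁻¹ * (c * b * c⁻¹) * c := by rw [t.cb]
    _ = b := by group

/-- conjugation by the rotation -/
theorem conj (t : Tor N a b e A B p q c) : Tor N b e a (cj c A) (cj c B) (c * p * c⁻¹) (c * q * c⁻¹) c where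
  pA := conj_mem_cj t.pA
  qB := conj_mem_cj t.qB
  cN := t.cN
  pp := by
    calc c * p * c⁻¹ * (c * p * c⁻¹) = c * (p * p) * c⁻¹ := by group
      _ = (c * a * c⁻¹) * (c * b * c⁻¹) := by rw [t.pp]; group
      _ = b * e := by rw [t.ca, t.cb]
  qq := by
    calc c * q * c⁻¹ * (c * q * c⁻¹) = c * (q * q) * c⁻¹ := by group
      _ = (c * a * c⁻¹) * (c * b * c⁻¹) := by rw [t.qq]; group
      _ = b * e := by rw [t.ca, t.cb]
  pq := by
    calc b = c * a * c⁻¹ := t.ca.symm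
      _ = c * (p * q) * c⁻¹ := by rw [← t.pq]
      _ = c * p * c⁻¹ * (c * q * c⁻¹) := by group
  ca := t.cb
  cb := t.ce
  ce := t.ca
  pc := by
    have h1 := t.pc
    calc c * p * c⁻¹ * (c⁻¹ * (c * p * c⁻¹) * c) = c * (p * (c⁻¹ * p * c)) * c⁻¹ := by group
      _ = c * (c⁻¹ * p * c * p) * c⁻¹ := by rw [h1]
      _ = c⁻¹ * (c * p * c⁻¹) * c * (c * p * c⁻¹) := by group

variable (h : Sheet N a b e A B) (t : Tor N a b e A B p q c)

theorem p_a (t : Tor N a b e A B p q c) (h : Sheet N a b e A B) : p * a = a * p := by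
  rw [t.pq, ← mul_assoc, mul_assoc p q p, ← h.AB p t.pA q t.qB, mul_assoc]

theorem q_a (t : Tor N a b e A B p q c) (h : Sheet N a b e A B) : q * a = a * q := by
  rw [t.pq, ← mul_assoc, ← h.AB p t.pA q t.qB]

theorem p_b (t : Tor N a b e A B p q c) (h : Sheet N a b e A B) : p * b = b * p := by
  rw [b_eq h, ← mul_assoc, t.p_a h, mul_assoc, A_comm_z h t.pA]; group

theorem q_b (t : Tor N a b e A B p q c) (h : Sheet N a b e A B) : q * b = b * q := by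
  rw [b_eq h, ← mul_assoc, t.q_a h, mul_assoc, B_comm_z h t.qB]; group

theorem p_e (t : Tor N a b e A B p q c) (h : Sheet N a b e A B) : p * e = e * p := A_comm_e h t.pA
theorem q_e (t : Tor N a b e A B p q c) (h : Sheet N a b e A B) : q * e = e * q := B_comm_e h t.qB

theorem conj_comm {x y : G} (hxy : x * y = y * x) (g : G) : (g⁻¹ * x * g) * (g⁻¹ * y * g) = (g⁻¹ * y * g) * (g⁻¹ * x * g) := by
  calc (g⁻¹ * x * g) * (g⁻¹ * y * g) = g⁻¹ * (x * y) * g := by group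
    _ = g⁻¹ * (y * x) * g := by rw [hxy]
    _ = (g⁻¹ * y * g) * (g⁻¹ * x * g) := by group

theorem conj_comm' {x y : G} (hxy : x * y = y * x) (g : G) : (g * x * g⁻¹) * (g * y * g⁻¹) = (g * y * g⁻¹) * (g * x * g⁻¹) := by
  calc (g * x * g⁻¹) * (g * y * g⁻¹) = g * (x * y) * g⁻¹ := by group
    _ = g * (y * x) * g⁻¹ := by rw [hxy]
    _ = (g * y * g⁻¹) * (g * x * g⁻¹) := by group

theorem p5_e (t : Tor N a b e A B p q c) (h : Sheet N a b e A B) : c⁻¹ * p * c * e = e * (c⁻¹ * p * c) := by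
  have := conj_comm (t.p_a h) c
  rwa [t.ca'] at this

theorem p5_a (t : Tor N a b e A B p q c) (h : Sheet N a b e A B) : c⁻¹ * p * c * a = a * (c⁻¹ * p * c) := by
  have := conj_comm (t.p_b h) c
  rwa [t.cb'] at this

theorem p5_b (t : Tor N a b e A B p q c) (h : Sheet N a b e A B) : c⁻¹ * p * c * b = b * (c⁻¹ * p * c) := by
  have := conj_comm (t.p_e h) c
  rwa [t.ce'] at this

theorem q5_e (t : Tor N a b e A B p q c) (h : Sheet N a b e A B) : c⁻¹ * q * c * e = e * (c⁻¹ * q * c) := by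
  have := conj_comm (t.q_a h) c
  rwa [t.ca'] at this

theorem p7_b (t : Tor N a b e A B p q c) (h : Sheet N a b e A B) : c * p * c⁻¹ * b = b * (c * p * c⁻¹) := by
  have := conj_comm' (t.p_a h) c
  rwa [t.ca] at this

theorem p7_e (t : Tor N a b e A B p q c) (h : Sheet N a b e A B) : c * p * c⁻¹ * e = e * (c * p * c⁻¹) := by
  have := conj_comm' (t.p_b h) c
  rwa [t.cb] at this

theorem p7_a (t : Tor N a b e A B p q c) (h : Sheet N a b e A B) : c * p * c⁻¹ * a = a * (c * p * c⁻¹) := by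
  have := conj_comm' (t.p_e h) c
  rwa [t.ce] at this

theorem p7_p (t : Tor N a b e A B p q c) : c * p * c⁻¹ * p = p * (c * p * c⁻¹) := by
  have := conj_comm' t.pc c
  have e1 : c * (c⁻¹ * p * c) * c⁻¹ = p := by group
  rwa [e1] at this

theorem p5N (t : Tor N a b e A B p q c) (h : Sheet N a b e A B) : c⁻¹ * p * c ∈ N :=
  mul_mem (mul_mem (inv_mem t.cN) (h.AN t.pA)) t.cN

theorem p7N (t : Tor N a b e A B p q c) (h : Sheet N a b e A B) : c * p * c⁻¹ ∈ N :=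
  mul_mem (mul_mem t.cN (h.AN t.pA)) (inv_mem t.cN)

theorem p5_sq (t : Tor N a b e A B p q c) : c⁻¹ * p * c * (c⁻¹ * p * c) = e * a := by
  calc c⁻¹ * p * c * (c⁻¹ * p * c) = c⁻¹ * (p * p) * c := by group
    _ = (c⁻¹ * a * c) * (c⁻¹ * b * c) := by rw [t.pp]; group
    _ = e * a := by rw [t.ca', t.cb']

theorem q5_sq (t : Tor N a b e A B p q c) : c⁻¹ * q * c * (c⁻¹ * q * c) = e * a := by
  calc c⁻¹ * q * c * (c⁻¹ * q * c) = c⁻¹ * (q * q) * c := by group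
    _ = (c⁻¹ * a * c) * (c⁻¹ * b * c) := by rw [t.qq]; group
    _ = e * a := by rw [t.ca', t.cb']

theorem p5q5 (t : Tor N a b e A B p q c) : c⁻¹ * p * c * (c⁻¹ * q * c) = e := by
  calc c⁻¹ * p * c * (c⁻¹ * q * c) = c⁻¹ * (p * q) * c := by group
    _ = e := by rw [← t.pq, t.ca']

theorem p7_sq (t : Tor N a b e A B p q c) : c * p * c⁻¹ * (c * p * c⁻¹) = b * e := t.conj.pp

/-- `q₅ = a p₅` -/
theorem q5_eq (t : Tor N a b e A B p q c) (h : Sheet N a b e A B) : c⁻¹ * q * c = a * (c⁻¹ * p * c) := by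
  apply mul_left_cancel (a := c⁻¹ * p * c)
  rw [t.p5q5]
  calc e = e * (a * a) := by rw [h.aa, mul_one]
    _ = c⁻¹ * p * c * (c⁻¹ * p * c) * a := by rw [t.p5_sq]; group
    _ = c⁻¹ * p * c * (a * (c⁻¹ * p * c)) := by rw [← t.p5_a h]; group

/-- `q₅⁻¹ = e p₅` -/
theorem q5_inv (t : Tor N a b e A B p q c) (h : Sheet N a b e A B) : (c⁻¹ * q * c)⁻¹ = e * (c⁻¹ * p * c) := by
  rw [inv_eq_iff_mul_eq_one]
  have h1 := t.p5q5
  have h2 : c⁻¹ * q * c * (c⁻¹ * p * c) = e := by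
    rw [t.q5_eq h, mul_assoc, t.p5_sq, ← mul_assoc, h.ae, mul_assoc, h.aa, mul_one]
  calc c⁻¹ * q * c * (e * (c⁻¹ * p * c)) = (c⁻¹ * q * c * e) * (c⁻¹ * p * c) := by group
    _ = e * (c⁻¹ * q * c * (c⁻¹ * p * c)) := by rw [t.q5_e h]; group
    _ = 1 := by rw [h2, h.ee]

/-- `e a` acts on `A` as `p`, on `B` as `q` -/
theorem ea_A (t : Tor N a b e A B p q c) (h : Sheet N a b e A B) {x : G} (hx : x ∈ A) :
    e * a * x * (e * a)⁻¹ = p * x * p⁻¹ := by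
  have e1 : a * x * a⁻¹ = p * x * p⁻¹ := by
    rw [t.pq]
    calc p * q * x * (p * q)⁻¹ = p * (q * x) * q⁻¹ * p⁻¹ := by group
      _ = p * x * p⁻¹ := by rw [← h.AB x hx q t.qB]; group
  have h2 : p * x * p⁻¹ ∈ A := mul_mem (mul_mem t.pA hx) (inv_mem t.pA)
  calc e * a * x * (e * a)⁻¹ = e * (a * x * a⁻¹) * e⁻¹ := by group
    _ = e * (p * x * p⁻¹) * e⁻¹ := by rw [e1]
    _ = p * x * p⁻¹ := by rw [← A_comm_e h h2]; group

theorem ea_B (t : Tor N a b e A B p q c) (h : Sheet N a b e A B) {x : G} (hx : x ∈ B) :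
    e * a * x * (e * a)⁻¹ = q * x * q⁻¹ := by
  have h2 : q * x * q⁻¹ ∈ B := mul_mem (mul_mem t.qB hx) (inv_mem t.qB)
  have e1 : a * x * a⁻¹ = q * x * q⁻¹ := by
    rw [t.pq]
    calc p * q * x * (p * q)⁻¹ = p * (q * x * q⁻¹) * p⁻¹ := by group
      _ = q * x * q⁻¹ := by rw [h.AB p t.pA _ h2]; group
  calc e * a * x * (e * a)⁻¹ = e * (a * x * a⁻¹) * e⁻¹ := by group
    _ = e * (q * x * q⁻¹) * e⁻¹ := by rw [e1]
    _ = q * x * q⁻¹ := by rw [← B_comm_e h h2]; group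

/-- `b e` acts on `A` as `p`, on `B` as `q` -/
theorem be_A (t : Tor N a b e A B p q c) (h : Sheet N a b e A B) {x : G} (hx : x ∈ A) :
    b * e * x * (b * e)⁻¹ = p * x * p⁻¹ := by
  have e0 : b * e = (a * b) * (e * a) := by
    symm
    calc (a * b) * (e * a) = a * b * (a * e) := by rw [h.ae]
      _ = a * (b * a) * e := by group
      _ = a * (a * b) * e := by rw [h.ab]
      _ = (a * a) * (b * e) := by group
      _ = b * e := by rw [h.aa, one_mul]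
  have h2 : p * x * p⁻¹ ∈ A := mul_mem (mul_mem t.pA hx) (inv_mem t.pA)
  calc b * e * x * (b * e)⁻¹ = (a * b) * (e * a * x * (e * a)⁻¹) * (a * b)⁻¹ := by rw [e0]; group
    _ = (a * b) * (p * x * p⁻¹) * (a * b)⁻¹ := by rw [t.ea_A h hx]
    _ = p * x * p⁻¹ := by rw [← A_comm_z h h2]; group

theorem be_B (t : Tor N a b e A B p q c) (h : Sheet N a b e A B) {x : G} (hx : x ∈ B) :
    b * e * x * (b * e)⁻¹ = q * x * q⁻¹ := by
  have e0 : b * e = (a * b) * (e * a) := by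
    symm
    calc (a * b) * (e * a) = a * b * (a * e) := by rw [h.ae]
      _ = a * (b * a) * e := by group
      _ = a * (a * b) * e := by rw [h.ab]
      _ = (a * a) * (b * e) := by group
      _ = b * e := by rw [h.aa, one_mul]
  have h2 : q * x * q⁻¹ ∈ B := mul_mem (mul_mem t.qB hx) (inv_mem t.qB)
  calc b * e * x * (b * e)⁻¹ = (a * b) * (e * a * x * (e * a)⁻¹) * (a * b)⁻¹ := by rw [e0]; group
    _ = (a * b) * (q * x * q⁻¹) * (a * b)⁻¹ := by rw [t.ea_B h hx]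
    _ = q * x * q⁻¹ := by rw [← B_comm_z h h2]; group

/-- the frame `e, a, b` with the factors `J₅ = c⁻¹ A c`, `J₆ = c⁻¹ B c` -/
theorem sheet5 (t : Tor N a b e A B p q c) (h : Sheet N a b e A B) : Sheet N e a b (cj c⁻¹ A) (cj c⁻¹ B) := by
  have h1 := h.conj c⁻¹
  rw [h.cj_self (inv_mem t.cN), inv_inv, t.ca', t.cb', t.ce'] at h1
  exact h1

theorem sheet7 (t : Tor N a b e A B p q c) (h : Sheet N a b e A B) : Sheet N b e a (cj c A) (cj c B) := by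
  have h1 := h.conj c
  rw [h.cj_self t.cN, t.ca, t.cb, t.ce] at h1
  exact h1

theorem p5J (t : Tor N a b e A B p q c) : c⁻¹ * p * c ∈ cj c⁻¹ A := by
  have := conj_mem_cj (g := c⁻¹) t.pA
  rwa [inv_inv] at this

theorem q5J (t : Tor N a b e A B p q c) : c⁻¹ * q * c ∈ cj c⁻¹ B := by
  have := conj_mem_cj (g := c⁻¹) t.qB
  rwa [inv_inv] at this

variable [Finite G]

/-- `p₅` normalises `A`, `B` and commutes with `q`; `s p₅ s⁻¹ = q₅` -/
theorem conj_five (t : Tor N a b e A B p q c) (h : Sheet N a b e A B) {x₁ x₂ : G} (hx₁ : x₁ ∈ A) (hx₂ : x₂ ∈ B)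
    (h₁ : x₁ * x₁ = a * b) (h₂ : x₂ * x₂ = a * b) (n₁ : p * x₁ ≠ x₁ * p) (n₂ : q * x₂ ≠ x₂ * q) :
    x₁ * x₂ * (c⁻¹ * p * c) * (x₁ * x₂)⁻¹ = c⁻¹ * q * c := by
  obtain ⟨ha1, hb1, he1, hab, hbe, hae⟩ := ne_one h
  have hz : c⁻¹ * p * c * (a * b) = a * b * (c⁻¹ * p * c) := by
    rw [← mul_assoc, t.p5_a h, mul_assoc, t.p5_b h]; group
  obtain ⟨-, k⟩ := twist h t.pA t.qB t.pp t.qq t.pq (P := c⁻¹ * p * c) (h.cj_self (t.p5N h)) hz t.pc.symm
    (fun x hx => by rw [t.p5_sq]; exact t.ea_A h hx) (fun x hx => by rw [t.p5_sq]; exact t.ea_B h hx) (t.p5_a h)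
    hx₁ hx₂ h₁ h₂ n₁ n₂
  rcases k with k | k
  · rw [k, t.q5_eq h]
  exfalso
  have h5 := t.sheet5 h
  have sN : x₁ * x₂ ∈ N := mul_mem (h.AN hx₁) (h.BN hx₂)
  have se : x₁ * x₂ * e = e * (x₁ * x₂) := by
    rw [mul_assoc, B_comm_e h hx₂, ← mul_assoc, A_comm_e h hx₁]; group
  have sa : x₁ * x₂ * a = a * (x₁ * x₂) := by
    nth_rw 1 [t.pq]; nth_rw 1 [t.pq]
    exact s_comm h t.pA t.qB t.pp t.qq hx₁ hx₂ h₁ h₂ n₁ n₂
  have sea : x₁ * x₂ * (e * a) = e * a * (x₁ * x₂) := by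
    rw [← mul_assoc, se, mul_assoc, sa]; group
  have hm : b * (c⁻¹ * p * c) ∈ cj c⁻¹ A ∨ b * (c⁻¹ * p * c) ∈ cj c⁻¹ B := by
    have h6 : x₁ * x₂ * (c⁻¹ * p * c) * (x₁ * x₂)⁻¹ ∈ cj (x₁ * x₂) (cj c⁻¹ A) := conj_mem_cj t.p5J
    rw [k] at h6
    rcases perm h5 (h.cj_self sN) sea with h7 | h7
    · left; rwa [h7.1] at h6
    · right; rwa [h7.1] at h6
  rcases hm with hm | hm
  · have h6 : b ∈ cj c⁻¹ A := by
      have := mul_mem hm (inv_mem t.p5J)
      rwa [mul_inv_cancel_right] at this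
    rcases h5.prA.inv_eq h6 h.bb with h7 | h7
    · exact hb1 h7
    · apply h.y_ne
      rw [h7]
      calc a * (e * a) * e = (a * e) * (a * e) := by group
        _ = (e * a) * (a * e) := by rw [h.ae]
        _ = e * (a * a) * e := by group
        _ = 1 := by rw [h.aa, mul_one, h.ee]
  · -- `b p₅ = b e q₅⁻¹`
    have e1 : c⁻¹ * p * c = e * (c⁻¹ * q * c)⁻¹ := by
      rw [t.q5_inv h, ← mul_assoc, h.ee, one_mul]
    rw [e1, ← mul_assoc] at hm
    have h6 : b * e ∈ cj c⁻¹ B := by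
      have := mul_mem hm t.q5J
      rwa [inv_mul_cancel_right] at this
    rcases h5.prB.inv_eq h6 (by
      calc b * e * (b * e) = b * (e * b) * e := by group
        _ = (b * b) * (e * e) := by rw [← h.be]; group
        _ = 1 := by rw [h.bb, h.ee, one_mul]) with h7 | h7
    · apply hbe
      calc b = b * (e * e) := by rw [h.ee, mul_one]
        _ = (b * e) * e := by group
        _ = e := by rw [h7, one_mul]
    · apply hab
      have h8 : b * e = a * e := by rw [h7, h.ae]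
      exact (mul_right_cancel h8).symm

/-- `s (c p c⁻¹) s⁻¹ = (c q c⁻¹)⁻¹` -/
theorem conj_seven (t : Tor N a b e A B p q c) (h : Sheet N a b e A B) {x₁ x₂ : G} (hx₁ : x₁ ∈ A) (hx₂ : x₂ ∈ B)
    (h₁ : x₁ * x₁ = a * b) (h₂ : x₂ * x₂ = a * b) (n₁ : p * x₁ ≠ x₁ * p) (n₂ : q * x₂ ≠ x₂ * q) :
    x₁ * x₂ * (c * p * c⁻¹) * (x₁ * x₂)⁻¹ = (c * q * c⁻¹)⁻¹ := by
  obtain ⟨ha1, hb1, he1, hab, hbe, hae⟩ := ne_one h
  have hz : c * p * c⁻¹ * (a * b) = a * b * (c * p * c⁻¹) := by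
    rw [← mul_assoc, t.p7_a h, mul_assoc, t.p7_b h]; group
  obtain ⟨-, k⟩ := twist h t.pA t.qB t.pp t.qq t.pq (P := c * p * c⁻¹) (h.cj_self (t.p7N h)) hz t.p7_p
    (fun x hx => by rw [t.p7_sq]; exact t.be_A h hx) (fun x hx => by rw [t.p7_sq]; exact t.be_B h hx) (t.p7_a h)
    hx₁ hx₂ h₁ h₂ n₁ n₂
  have e0 : (c * q * c⁻¹)⁻¹ = b * (c * p * c⁻¹) := by
    rw [inv_eq_iff_mul_eq_one]
    have h3 : b = c * p * c⁻¹ * (c * q * c⁻¹) := t.conj.pq
    have h4 : c * q * c⁻¹ * (c * p * c⁻¹) = b := by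
      rw [h3]
      exact conj_comm' (h.AB p t.pA q t.qB).symm c
    have h5 : c * q * c⁻¹ * b = b * (c * q * c⁻¹) := by
      have := conj_comm' (t.q_a h) c
      rwa [t.ca] at this
    calc c * q * c⁻¹ * (b * (c * p * c⁻¹)) = (c * q * c⁻¹ * b) * (c * p * c⁻¹) := by group
      _ = b * (c * q * c⁻¹ * (c * p * c⁻¹)) := by rw [h5]; group
      _ = 1 := by rw [h4, h.bb]
  rcases k with k | k
  swap
  · rw [k, e0]
  exfalso
  have h7 := t.sheet7 h
  have sN : x₁ * x₂ ∈ N := mul_mem (h.AN hx₁) (h.BN hx₂)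
  have se : x₁ * x₂ * e = e * (x₁ * x₂) := by
    rw [mul_assoc, B_comm_e h hx₂, ← mul_assoc, A_comm_e h hx₁]; group
  have sa : x₁ * x₂ * a = a * (x₁ * x₂) := by
    nth_rw 1 [t.pq]; nth_rw 1 [t.pq]
    exact s_comm h t.pA t.qB t.pp t.qq hx₁ hx₂ h₁ h₂ n₁ n₂
  have sz : x₁ * x₂ * (a * b) = a * b * (x₁ * x₂) := by
    rw [mul_assoc, B_comm_z h hx₂, ← mul_assoc, A_comm_z h hx₁]; group
  have sb : x₁ * x₂ * b = b * (x₁ * x₂) := by
    rw [b_eq h, ← mul_assoc, sa, mul_assoc, sz]; group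
  have sbe : x₁ * x₂ * (b * e) = b * e * (x₁ * x₂) := by
    rw [← mul_assoc, sb, mul_assoc, se]; group
  have pJ : c * p * c⁻¹ ∈ cj c A := conj_mem_cj t.pA
  have qJ : c * q * c⁻¹ ∈ cj c B := conj_mem_cj t.qB
  have hm : a * (c * p * c⁻¹) ∈ cj c A ∨ a * (c * p * c⁻¹) ∈ cj c B := by
    have h6 : x₁ * x₂ * (c * p * c⁻¹) * (x₁ * x₂)⁻¹ ∈ cj (x₁ * x₂) (cj c A) := conj_mem_cj pJ
    rw [k] at h6
    rcases perm h7 (h.cj_self sN) sbe with h8 | h8
    · left; rwa [h8.1] at h6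
    · right; rwa [h8.1] at h6
  rcases hm with hm | hm
  · have h6 : a ∈ cj c A := by
      have := mul_mem hm (inv_mem pJ)
      rwa [mul_inv_cancel_right] at this
    rcases h7.prA.inv_eq h6 h.aa with h8 | h8
    · exact ha1 h8
    · apply h.y_ne
      calc a * b * e = a * (b * e) := by group
        _ = 1 := by rw [← h8, h.aa]
  · have e1 : c * p * c⁻¹ = b * (c * q * c⁻¹)⁻¹ := by
      rw [e0, ← mul_assoc, h.bb, one_mul]
    rw [e1, ← mul_assoc] at hm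
    have h6 : a * b ∈ cj c B := by
      have := mul_mem hm qJ
      rwa [inv_mul_cancel_right] at this
    rcases h7.prB.inv_eq h6 h.zz with h8 | h8
    · exact h.z_ne h8
    · apply hae
      have h9 : a * b = e * b := by rw [h8, h.be]
      exact mul_right_cancel h9

/-- an element which normalises `N` and centralises `A` and `B` commutes with `a`, `b`, `e` -/
theorem comm_abe (t : Tor N a b e A B p q c) (h : Sheet N a b e A B) {g : G} (hg : cj g N = N)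
    (hA : ∀ x ∈ A, g * x = x * g) (hB : ∀ x ∈ B, g * x = x * g) :
    g * a = a * g ∧ g * b = b * g ∧ g * e = e * g := by
  have gz : g * (a * b) = a * b * g := hA _ h.prA.mem
  have ga : g * a = a * g := by
    have h1 := hA p t.pA
    have h2 := hB q t.qB
    calc g * a = (g * p) * q := by rw [t.pq]; group
      _ = p * (g * q) := by rw [h1]; group
      _ = a * g := by rw [h2, t.pq]; group
  have gb : g * b = b * g := by
    rw [b_eq h, ← mul_assoc, ga, mul_assoc, gz]; group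
  refine ⟨ga, gb, ?_⟩
  -- `g y g⁻¹ = y`
  have hy : g * (a * b * e) * g⁻¹ = a * b * e := by
    have h1 : g * (a * b * e) * g⁻¹ ∈ N := by
      have := conj_mem_cj (g := g) h.yN
      rwa [hg] at this
    rcases h.cen _ h1 (by
      intro x hx
      have h2 : g⁻¹ * x * g ∈ N := by rw [← mem_cj, hg]; exact hx
      have h3 := h.y_comm _ h2
      calc x * (g * (a * b * e) * g⁻¹) = g * ((g⁻¹ * x * g) * (a * b * e)) * g⁻¹ := by group
        _ = g * (a * b * e * (g⁻¹ * x * g)) * g⁻¹ := by rw [h3]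
        _ = g * (a * b * e) * g⁻¹ * x := by group) with h2 | h2
    · exfalso
      apply h.y_ne
      calc a * b * e = g⁻¹ * (g * (a * b * e) * g⁻¹) * g := by group
        _ = 1 := by rw [h2]; group
    · exact h2
  have hy' : g * (a * b * e) = a * b * e * g := mul_inv_eq_iff_eq_mul.1 hy
  have h3 : a * b * (g * e) = a * b * (e * g) := by
    calc a * b * (g * e) = (a * b * g) * e := by group
      _ = g * (a * b * e) := by rw [← gz]; group
      _ = a * b * (e * g) := by rw [hy']; group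
  exact mul_left_cancel h3

/-- rotation or reflection -/
theorem rot_or_refl (t : Tor N a b e A B p q c) (h : Sheet N a b e A B) {g : G} (hg : cj g N = N)
    (hA : ∀ x ∈ A, g * x = x * g) (hB : ∀ x ∈ B, g * x = x * g) :
    g * (c⁻¹ * p * c) * g⁻¹ = c⁻¹ * p * c ∨ g * (c⁻¹ * p * c) * g⁻¹ = (c⁻¹ * q * c)⁻¹ := by
  obtain ⟨ha1, hb1, he1, hab, hbe, hae⟩ := ne_one h
  obtain ⟨ga, gb, ge⟩ := t.comm_abe h hg hA hB
  have hz : c⁻¹ * p * c * (a * b) = a * b * (c⁻¹ * p * c) := by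
    rw [← mul_assoc, t.p5_a h, mul_assoc, t.p5_b h]; group
  have hPA : ∀ x ∈ A, (c⁻¹ * p * c) * x * (c⁻¹ * p * c)⁻¹ ∈ A ∧ (c⁻¹ * p * c)⁻¹ * x * (c⁻¹ * p * c) ∈ A := by
    have k : cj (c⁻¹ * p * c) A = A := by
      rcases perm h (h.cj_self (t.p5N h)) hz with h3 | h3
      · exact h3.1
      · exfalso
        have h4 : (c⁻¹ * p * c) * p * (c⁻¹ * p * c)⁻¹ ∈ cj (c⁻¹ * p * c) A := conj_mem_cj t.pA
        rw [h3.1, ← t.pc, mul_inv_cancel_right] at h4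
        have h5 : p = 1 ∨ p = a * b := h.prA.t3.cen p t.pA fun y hy _ => (h.AB y hy p h4).symm
        have hpz := t.pp
        rcases h5 with h5 | h5
        · rw [h5, one_mul] at hpz; exact h.z_ne hpz.symm
        · rw [h5, h.zz] at hpz; exact h.z_ne hpz.symm
    intro x hx
    exact ⟨conj_mem k hx, by rw [← mem_cj, k]; exact hx⟩
  have hPB : ∀ x ∈ B, (c⁻¹ * p * c) * x * (c⁻¹ * p * c)⁻¹ ∈ B ∧ (c⁻¹ * p * c)⁻¹ * x * (c⁻¹ * p * c) ∈ B := by
    have k : cj (c⁻¹ * p * c) B = B := by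
      rcases perm h (h.cj_self (t.p5N h)) hz with h3 | h3
      · exact h3.2
      · exfalso
        have h4 : (c⁻¹ * p * c) * p * (c⁻¹ * p * c)⁻¹ ∈ cj (c⁻¹ * p * c) A := conj_mem_cj t.pA
        rw [h3.1, ← t.pc, mul_inv_cancel_right] at h4
        have h5 : p = 1 ∨ p = a * b := h.prA.t3.cen p t.pA fun y hy _ => (h.AB y hy p h4).symm
        have hpz := t.pp
        rcases h5 with h5 | h5
        · rw [h5, one_mul] at hpz; exact h.z_ne hpz.symm
        · rw [h5, h.zz] at hpz; exact h.z_ne hpz.symm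
    intro x hx
    exact ⟨conj_mem k hx, by rw [← mem_cj, k]; exact hx⟩
  set P := c⁻¹ * p * c with hP
  -- `u = g P g⁻¹ P⁻¹` centralises `A`, `B`
  have cent : ∀ x, (P⁻¹ * x * P) * g = g * (P⁻¹ * x * P) → x * g = g * x →
      (g * P * g⁻¹ * P⁻¹) * x = x * (g * P * g⁻¹ * P⁻¹) := by
    intro x h1 h2
    have h3 : g⁻¹ * (P⁻¹ * x * P) = (P⁻¹ * x * P) * g⁻¹ := by
      calc g⁻¹ * (P⁻¹ * x * P) = g⁻¹ * ((P⁻¹ * x * P) * g) * g⁻¹ := by group
        _ = g⁻¹ * (g * (P⁻¹ * x * P)) * g⁻¹ := by rw [h1]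
        _ = (P⁻¹ * x * P) * g⁻¹ := by group
    calc (g * P * g⁻¹ * P⁻¹) * x = g * P * (g⁻¹ * (P⁻¹ * x * P)) * P⁻¹ := by group
      _ = g * x * (P * g⁻¹ * P⁻¹) := by rw [h3]; group
      _ = x * (g * P * g⁻¹ * P⁻¹) := by rw [← h2]; group
  have huN : g * P * g⁻¹ * P⁻¹ ∈ N := by
    refine mul_mem ?_ (inv_mem (t.p5N h))
    have := conj_mem_cj (g := g) (t.p5N h)
    rwa [hg] at this
  have hu := h.cAB _ huN (fun x hx => cent x (hA _ (hPA x hx).2).symm (hA x hx).symm)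
    (fun x hx => cent x (hB _ (hPB x hx).2).symm (hB x hx).symm)
  -- `g P g⁻¹ ∈ J₅ ∪ J₆`
  have h5 := t.sheet5 h
  have gea : g * (e * a) = e * a * g := by
    rw [← mul_assoc, ge, mul_assoc, ga]; group
  have hm : ∀ u, g * P * g⁻¹ = u * P → u ∈ cj c⁻¹ A ∨ u * e ∈ cj c⁻¹ B := by
    intro u h1
    have h6 : g * P * g⁻¹ ∈ cj g (cj c⁻¹ A) := conj_mem_cj t.p5J
    rw [h1] at h6
    rcases perm h5 hg gea with h7 | h7
    · left
      rw [h7.1] at h6
      have := mul_mem h6 (inv_mem t.p5J)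
      rwa [mul_inv_cancel_right] at this
    · right
      rw [h7.1] at h6
      have e1 : P = e * (c⁻¹ * q * c)⁻¹ := by
        rw [t.q5_inv h, ← mul_assoc, h.ee, one_mul]
      rw [e1, ← mul_assoc] at h6
      have := mul_mem h6 t.q5J
      rwa [inv_mul_cancel_right] at this
  have e2 : ∀ u, g * P * g⁻¹ * P⁻¹ = u → g * P * g⁻¹ = u * P := fun u h1 => by rw [← h1]; group
  rcases hu with h1 | h1 | h1 | h1
  · left
    have := e2 _ h1
    rwa [one_mul] at this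
  · exfalso
    rcases hm _ (e2 _ h1) with h6 | h6
    · rcases h5.prA.inv_eq h6 h.zz with h7 | h7
      · exact h.z_ne h7
      · apply hbe
        have : a * b = a * e := by rw [h7, h.ae]
        exact mul_left_cancel this
    · rcases h5.prB.inv_eq h6 h.yy with h7 | h7
      · exact h.y_ne h7
      · apply hb1
        have h8 : a * b * e = a * 1 * e := by rw [h7, mul_one, h.ae]
        exact mul_left_cancel (mul_right_cancel h8)
  · right
    rw [t.q5_inv h]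
    exact e2 _ h1
  · exfalso
    rcases hm _ (e2 _ h1) with h6 | h6
    · rcases h5.prA.inv_eq h6 h.yy with h7 | h7
      · exact h.y_ne h7
      · apply hb1
        have h8 : a * b * e = a * 1 * e := by rw [h7, mul_one, h.ae]
        exact mul_left_cancel (mul_right_cancel h8)
    · have h7 : a * b * e * e = a * b := by rw [mul_assoc, h.ee, mul_one]
      rw [h7] at h6
      rcases h5.prB.inv_eq h6 h.zz with h8 | h8
      · exact h.z_ne h8
      · apply hbe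
        have : a * b = a * e := by rw [h8, h.ae]
        exact mul_left_cancel this

/-- there are `x₁ ∈ A`, `x₂ ∈ B` of order 4 which do not commute with `p`, `q` -/
theorem exists_s (t : Tor N a b e A B p q c) (h : Sheet N a b e A B) :
    ∃ x₁ ∈ A, ∃ x₂ ∈ B, x₁ * x₁ = a * b ∧ x₂ * x₂ = a * b ∧ p * x₁ ≠ x₁ * p ∧ q * x₂ ≠ x₂ * q := by
  obtain ⟨j, d, hl⟩ := exists_sl h.prA t.pA t.pp
  obtain ⟨j', d', hl'⟩ := exists_sl h.prB t.qB t.qq
  exact ⟨j, hl.hj, j', hl'.hj, hl.q.j2, hl'.q.j2, hl.q.not_comm, hl'.q.not_comm⟩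

/-- the conjugate of `q₅` under a reflection -/
theorem refl_q5 (t : Tor N a b e A B p q c) (h : Sheet N a b e A B) {g : G} (hg : cj g N = N)
    (hA : ∀ x ∈ A, g * x = x * g) (hB : ∀ x ∈ B, g * x = x * g)
    (hr : g * (c⁻¹ * p * c) * g⁻¹ = (c⁻¹ * q * c)⁻¹) : g * (c⁻¹ * q * c) * g⁻¹ = (c⁻¹ * p * c)⁻¹ := by
  obtain ⟨ga, gb, ge⟩ := t.comm_abe h hg hA hB
  have h1 : g * a * g⁻¹ = a := by rw [ga]; group
  have h2 : g * (c⁻¹ * q * c) * g⁻¹ = a * (c⁻¹ * q * c)⁻¹ := by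
    calc g * (c⁻¹ * q * c) * g⁻¹ = (g * a * g⁻¹) * (g * (c⁻¹ * p * c) * g⁻¹) := by rw [t.q5_eq h]; group
      _ = a * (c⁻¹ * q * c)⁻¹ := by rw [h1, hr]
  rw [h2, t.q5_eq h, mul_inv_rev]
  have h3 : (c⁻¹ * p * c)⁻¹ * a⁻¹ = a⁻¹ * (c⁻¹ * p * c)⁻¹ := by
    have := t.p5_a h
    rw [← mul_inv_rev, ← mul_inv_rev, this]
  rw [h3]; group

/-- the square of a reflection centralises `J₅`, `J₆` -/
theorem refl_sq (t : Tor N a b e A B p q c) (h : Sheet N a b e A B) {g : G} (hg : cj g N = N)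
    (hA : ∀ x ∈ A, g * x = x * g) (hB : ∀ x ∈ B, g * x = x * g)
    (hr : g * (c⁻¹ * p * c) * g⁻¹ = (c⁻¹ * q * c)⁻¹) :
    (∀ x ∈ cj c⁻¹ A, g * g * x = x * (g * g)) ∧ (∀ x ∈ cj c⁻¹ B, g * g * x = x * (g * g)) := by
  obtain ⟨ha1, hb1, he1, hab, hbe, hae⟩ := ne_one h
  obtain ⟨ga, gb, ge⟩ := t.comm_abe h hg hA hB
  obtain ⟨x₁, hx₁, x₂, hx₂, h₁, h₂, n₁, n₂⟩ := t.exists_s h
  have k5 := t.conj_five h hx₁ hx₂ h₁ h₂ n₁ n₂
  have rq := t.refl_q5 h hg hA hB hr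
  have h5 := t.sheet5 h
  have sN : x₁ * x₂ ∈ N := mul_mem (h.AN hx₁) (h.BN hx₂)
  have se : x₁ * x₂ * e = e * (x₁ * x₂) := by
    rw [mul_assoc, B_comm_e h hx₂, ← mul_assoc, A_comm_e h hx₁]; group
  have sa : x₁ * x₂ * a = a * (x₁ * x₂) := by
    nth_rw 1 [t.pq]; nth_rw 1 [t.pq]
    exact s_comm h t.pA t.qB t.pp t.qq hx₁ hx₂ h₁ h₂ n₁ n₂
  have sea : x₁ * x₂ * (e * a) = e * a * (x₁ * x₂) := by
    rw [← mul_assoc, se, mul_assoc, sa]; group
  have gea : g * (e * a) = e * a * g := by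
    rw [← mul_assoc, ge, mul_assoc, ga]; group
  have ss := s_sq h hx₁ hx₂ h₁ h₂
  have gs : g * (x₁ * x₂) = x₁ * x₂ * g := by
    calc g * (x₁ * x₂) = (g * x₁) * x₂ := by group
      _ = x₁ * (g * x₂) := by rw [hA x₁ hx₁]; group
      _ = x₁ * x₂ * g := by rw [hB x₂ hx₂]; group
  set s := x₁ * x₂ with hs
  have si : s⁻¹ = s := inv_eq_of_mul_eq_one_right ss
  set P := c⁻¹ * p * c with hP
  set Q := c⁻¹ * q * c with hQ
  -- elements of `J₅ ∩ J₆`
  have PJ6 : P ∉ cj c⁻¹ B := by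
    intro h6
    have h7 : P = 1 ∨ P = e * a := h5.prA.t3.cen P t.p5J fun y hy _ => (h5.AB y hy P h6).symm
    have h8 := t.p5_sq
    rcases h7 with h7 | h7
    · rw [← hP, h7, one_mul] at h8; exact h5.z_ne h8.symm
    · rw [← hP, h7, h5.zz] at h8; exact h5.z_ne h8.symm
  have QJ5 : Q ∉ cj c⁻¹ A := by
    intro h6
    have h7 : Q = 1 ∨ Q = e * a := h5.prB.t3.cen Q t.q5J fun y hy _ => (h5.AB Q h6 y hy)
    have h8 := t.q5_sq
    rcases h7 with h7 | h7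
    · rw [← hQ, h7, one_mul] at h8; exact h5.z_ne h8.symm
    · rw [← hQ, h7, h5.zz] at h8; exact h5.z_ne h8.symm
  -- `s` and `g` swap `J₅`, `J₆`
  have sw : cj s (cj c⁻¹ A) = cj c⁻¹ B ∧ cj s (cj c⁻¹ B) = cj c⁻¹ A := by
    rcases perm h5 (h.cj_self sN) sea with h6 | h6
    · exfalso
      have h7 : s * P * s⁻¹ ∈ cj s (cj c⁻¹ A) := conj_mem_cj t.p5J
      rw [k5, h6.1] at h7
      exact QJ5 h7
    · exact h6
  have gw : cj g (cj c⁻¹ A) = cj c⁻¹ B ∧ cj g (cj c⁻¹ B) = cj c⁻¹ A := by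
    rcases perm h5 hg gea with h6 | h6
    · exfalso
      have h7 : g * P * g⁻¹ ∈ cj g (cj c⁻¹ A) := conj_mem_cj t.p5J
      rw [hr, h6.1] at h7
      exact QJ5 ((inv_mem_iff (H := cj c⁻¹ A)).1 h7)
    · exact h6
  have e1 : cj (s * g) (cj c⁻¹ A) = cj c⁻¹ A := by rw [cj_mul, gw.1, sw.2]
  have e2 : cj (s * g) (cj c⁻¹ B) = cj c⁻¹ B := by rw [cj_mul, gw.2, sw.1]
  have kq : s * Q * s⁻¹ = P := by
    rw [← k5, si]
    calc s * (s * P * s) * s = (s * s) * P * (s * s) := by group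
      _ = P := by rw [ss]; group
  have f1 : (s * g) * P * (s * g)⁻¹ = P⁻¹ := by
    calc (s * g) * P * (s * g)⁻¹ = s * (g * P * g⁻¹) * s⁻¹ := by group
      _ = (s * Q * s⁻¹)⁻¹ := by rw [hr]; group
      _ = P⁻¹ := by rw [kq]
  have f2 : (s * g) * Q * (s * g)⁻¹ = Q⁻¹ := by
    calc (s * g) * Q * (s * g)⁻¹ = s * (g * Q * g⁻¹) * s⁻¹ := by group
      _ = (s * P * s⁻¹)⁻¹ := by rw [rq]; group
      _ = Q⁻¹ := by rw [k5]
  have e3 : (s * g) * (s * g) = g * g := by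
    calc (s * g) * (s * g) = s * (g * s) * g := by group
      _ = (s * s) * (g * g) := by rw [gs]; group
      _ = g * g := by rw [ss, one_mul]
  have r1 := sq_comm_of_inv h5.prA e1 t.p5J t.p5_sq f1
  have r2 := sq_comm_of_inv h5.prB e2 t.q5J t.q5_sq f2
  rw [e3] at r1 r2
  exact ⟨r1, r2⟩

/-- a reflection `f` with `f² = 1`, `p` in a 2-subgroup `Y` normalised by `C(f)`: contradiction -/
theorem false_of_refl (t : Tor N a b e A B p q c) (h : Sheet N a b e A B) {f : G} (hf : cj f N = N)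
    (hA : ∀ x ∈ A, f * x = x * f) (hB : ∀ x ∈ B, f * x = x * f)
    (hr : f * (c⁻¹ * p * c) * f⁻¹ = (c⁻¹ * q * c)⁻¹) (hff : f * f = 1) {Y : Subgroup G} (hY : IsPGroup 2 Y)
    (hYn : ∀ x, x * f = f * x → ∀ y ∈ Y, x * y * x⁻¹ ∈ Y) (hpY : p ∈ Y) : False := by
  obtain ⟨ha1, hb1, he1, hab, hbe, hae⟩ := ne_one h
  obtain ⟨fa, fb, fe⟩ := t.comm_abe h hf hA hB
  have h5 := t.sheet5 h
  have fea : f * (e * a) = e * a * f := by
    rw [← mul_assoc, fe, mul_assoc, fa]; group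
  have QJ5 : c⁻¹ * q * c ∉ cj c⁻¹ A := by
    intro h6
    have h7 : c⁻¹ * q * c = 1 ∨ c⁻¹ * q * c = e * a := h5.prB.t3.cen _ t.q5J fun y hy _ => (h5.AB _ h6 y hy)
    have h8 := t.q5_sq
    rcases h7 with h7 | h7
    · rw [h7, one_mul] at h8; exact h5.z_ne h8.symm
    · rw [h7, h5.zz] at h8; exact h5.z_ne h8.symm
  have fw : cj f (cj c⁻¹ A) = cj c⁻¹ B := by
    rcases perm h5 hf fea with h6 | h6
    · exfalso
      have h7 : f * (c⁻¹ * p * c) * f⁻¹ ∈ cj f (cj c⁻¹ A) := conj_mem_cj t.p5J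
      rw [hr, h6.1] at h7
      exact QJ5 ((inv_mem_iff (H := cj c⁻¹ A)).1 h7)
    · exact h6.1
  -- `v` of order three
  obtain ⟨v, hv, hv3, hv1⟩ := h5.prA.t3.ex3
  have hv' : f * v * f⁻¹ ∈ cj c⁻¹ B := by rw [← fw]; exact conj_mem_cj hv
  have fi : f⁻¹ = f := inv_eq_of_mul_eq_one_right hff
  have cvv : v * (f * v * f⁻¹) = (f * v * f⁻¹) * v := h5.AB v hv _ hv'
  -- `τ = v v'` commutes with `f`
  have hτ : (v * (f * v * f⁻¹)) * f = f * (v * (f * v * f⁻¹)) := by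
    calc (v * (f * v * f⁻¹)) * f = (f * v * f⁻¹) * v * f := by rw [cvv]
      _ = f * (v * (f * v * f)) * (f * f)⁻¹ * 1 := by rw [fi, hff]; group
      _ = f * (v * (f * v * f⁻¹)) := by rw [hff, fi]; group
  -- `p` normalises `J₅`, `J₆`
  have pN : p ∈ N := h.AN t.pA
  have pea : p * (e * a) = e * a * p := by
    rw [← mul_assoc, t.p_e h, mul_assoc, t.p_a h]; group
  have pw : cj p (cj c⁻¹ A) = cj c⁻¹ A ∧ cj p (cj c⁻¹ B) = cj c⁻¹ B := by
    rcases perm h5 (h.cj_self pN) pea with h6 | h6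
    · exact h6
    · exfalso
      have h7 : p * (c⁻¹ * p * c) * p⁻¹ ∈ cj p (cj c⁻¹ A) := conj_mem_cj t.p5J
      rw [h6.1, t.pc, mul_inv_cancel_right] at h7
      have h8 : c⁻¹ * p * c = 1 ∨ c⁻¹ * p * c = e * a :=
        h5.prA.t3.cen _ t.p5J fun y hy _ => (h5.AB y hy _ h7).symm
      have h9 := t.p5_sq
      rcases h8 with h8 | h8
      · rw [h8, one_mul] at h9; exact h5.z_ne h9.symm
      · rw [h8, h5.zz] at h9; exact h5.z_ne h9.symm
  -- `p²` acts on `J₅` as `p₅`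
  have hpp : ∀ x ∈ cj c⁻¹ A, p * p * x * (p * p)⁻¹ = c⁻¹ * p * c * x * (c⁻¹ * p * c)⁻¹ := by
    intro x hx
    have hxN : x ∈ N := h5.AN hx
    -- `z = y e`
    have e0 : a * b = (a * b * e) * e := by rw [mul_assoc, h.ee, mul_one]
    have h1 : e * x * e⁻¹ = c⁻¹ * p * c * x * (c⁻¹ * p * c)⁻¹ := by
      have h2 : c⁻¹ * q * c * x = x * (c⁻¹ * q * c) := (h5.AB x hx _ t.q5J).symm
      calc e * x * e⁻¹ = (c⁻¹ * p * c) * ((c⁻¹ * q * c) * x) * (c⁻¹ * q * c)⁻¹ * (c⁻¹ * p * c)⁻¹ := by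
            rw [← t.p5q5]; group
        _ = c⁻¹ * p * c * x * (c⁻¹ * p * c)⁻¹ := by rw [h2]; group
    have hexN : e * x * e⁻¹ ∈ N := mul_mem (mul_mem h.eN hxN) (inv_mem h.eN)
    have h3 := h.y_comm _ hexN
    rw [← h1, t.pp]
    calc a * b * x * (a * b)⁻¹ = (a * b * e) * (e * x * e⁻¹) * (a * b * e)⁻¹ := by nth_rw 1 [e0]; nth_rw 2 [e0]; group
      _ = e * x * e⁻¹ := by rw [← h3]; group
  -- the commutator
  set v' := f * v * f⁻¹ with hv'd
  have hcY : p * (v * v') * p⁻¹ * (v * v')⁻¹ ∈ Y := by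
    have h1 := hYn _ hτ _ (inv_mem hpY)
    have h2 := mul_mem hpY h1
    have e1 : p * (v * v' * p⁻¹ * (v * v')⁻¹) = p * (v * v') * p⁻¹ * (v * v')⁻¹ := by group
    rwa [e1] at h2
  have x5 : p * v * p⁻¹ * v⁻¹ ∈ cj c⁻¹ A := mul_mem (conj_mem pw.1 hv) (inv_mem hv)
  have x6 : p * v' * p⁻¹ * v'⁻¹ ∈ cj c⁻¹ B := mul_mem (conj_mem pw.2 hv') (inv_mem hv')
  have e1 : p * (v * v') * p⁻¹ * (v * v')⁻¹ = (p * v * p⁻¹ * v⁻¹) * (p * v' * p⁻¹ * v'⁻¹) := by
    have h1 : (p * v' * p⁻¹) * v⁻¹ = v⁻¹ * (p * v' * p⁻¹) :=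
      (h5.AB v⁻¹ (inv_mem hv) _ (conj_mem pw.2 hv')).symm
    have h2 : v⁻¹ * v'⁻¹ = v'⁻¹ * v⁻¹ := h5.AB _ (inv_mem hv) _ (inv_mem hv')
    calc p * (v * v') * p⁻¹ * (v * v')⁻¹ = (p * v * p⁻¹) * (p * v' * p⁻¹) * (v'⁻¹ * v⁻¹) := by group
      _ = (p * v * p⁻¹) * ((p * v' * p⁻¹) * v⁻¹) * v'⁻¹ := by rw [← h2]; group
      _ = (p * v * p⁻¹ * v⁻¹) * (p * v' * p⁻¹ * v'⁻¹) := by rw [h1]; group
  rw [e1] at hcY
  obtain ⟨n, hn⟩ := hY ⟨_, hcY⟩
  have hn' : ((p * v * p⁻¹ * v⁻¹) * (p * v' * p⁻¹ * v'⁻¹)) ^ 2 ^ n = 1 := congrArg Subtype.val hn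
  have hcm : Commute (p * v * p⁻¹ * v⁻¹) (p * v' * p⁻¹ * v'⁻¹) := h5.AB _ x5 _ x6
  rw [hcm.mul_pow] at hn'
  have h6 : (p * v * p⁻¹ * v⁻¹) ^ 2 ^ n = ((p * v' * p⁻¹ * v'⁻¹) ^ 2 ^ n)⁻¹ := eq_inv_of_mul_eq_one_left hn'
  have h7 : (p * v * p⁻¹ * v⁻¹) ^ 2 ^ n ∈ cj c⁻¹ B := by rw [h6]; exact inv_mem (pow_mem x6 _)
  have h8 := h5.prA.t3.cen _ (pow_mem x5 (2 ^ n)) fun y hy _ => (h5.AB y hy _ h7).symm
  have h9 : (p * v * p⁻¹ * v⁻¹) ^ 2 ^ (n + 1) = 1 := by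
    rw [pow_succ, pow_mul]
    rcases h8 with h8 | h8
    · rw [h8, one_pow]
    · rw [h8, pow_two, h5.zz]
  exact outer_pow h5.prA pw.1 t.p5J t.p5_sq t.pc hpp hv hv3 hv1 _ h9

end Tor

end

end Cfsg.Agent.OddHalf.NI3.Bad.ATwo
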