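import Cfsg.Agent.OddHalf.NI3.Bad.FourT
import Cfsg.Agent.OddHalf.NI3.Bad.Basic

/-!
# THEOREM NIB, step (3d) (b), in the language `IsPr` (helper598)

* `mem_Q_of_sqrt` : square roots of `z` in `J ≅ SL₂(3)` lie in `Q`.
* `half_of` : `Half` from `IsPr`.
* `caseB_pr` : (3d) (b) in an abstract group `H`.
* `caseB_G` : (3d) (b) in a group `G`, `H = C(z)`.
-/

set_option autoImplicit false

namespace Cfsg.Agent.OddHalf.NI3.Bad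

open Subgroup Cfsg Cfsg.Agent.Cit Cfsg.Agent.Cit.SLThree

section

variable {H : Type*} [Group H]

/-- the square roots of `z` lie in `Q` -/
theorem mem_Q_of_sqrt {J : Subgroup H} {z i j d : H} (h : Sl J z i j d) {y : H} (hy : y ∈ J) (hyz : y * y = z) :
    y ∈ closure ({i, j} : Set H) := by
  obtain ⟨q, hq, hx⟩ := h.mem_cases hy
  have hn1 := h.conj_mem hq
  have hn2 := h.conj_mem hn1
  have key : ∀ r ∈ closure ({i, j} : Set H), ∀ e : H, e = d ∨ e = d * d → r * e ≠ z := by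
    intro r hr e he h0
    have h1 : e ∈ closure ({i, j} : Set H) := by
      have : e = r⁻¹ * z := by rw [← h0]; group
      rw [this]; exact mul_mem (inv_mem hr) h.q.mem_z
    have h2 : d ∈ closure ({i, j} : Set H) := by
      rcases he with rfl | rfl
      · exact h1
      · have : d = (d * d)⁻¹ := by
          rw [eq_inv_iff_mul_eq_one, ← mul_assoc]; exact h.d3
        rw [this]; exact inv_mem h1
    obtain ⟨n, hn⟩ := h.q.isPGroup ⟨d, h2⟩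
    have h4 : d ^ 2 ^ n = 1 := by simpa using congrArg Subtype.val hn
    exact h.d_ne (SLThree.Sl.eq_one_of_cube h.d3 h4)
  rcases hx with rfl | rfl | rfl
  · exact hq
  · exfalso
    have h1 : q * d * (q * d) = (q * (d * q * d⁻¹)) * (d * d) := by group
    exact key _ (mul_mem hq hn1) (d * d) (Or.inr rfl) (h1 ▸ hyz)
  · exfalso
    have h1 : q * (d * d) * (q * (d * d)) = (q * (d * (d * q * d⁻¹) * d⁻¹)) * d * (d * d * d) := by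
      simp only [mul_assoc, inv_mul_cancel_left, inv_mul_cancel, mul_one]
    rw [h.d3, mul_one] at h1
    exact key _ (mul_mem hq hn2) d (Or.inl rfl) (h1 ▸ hyz)

/-- `Q ≤ P` if `P` contains the square roots of `z` in `J` -/
theorem Q_le_of_sq {J P : Subgroup H} {z i j d : H} (h : Sl J z i j d) (hP : ∀ x ∈ J, x * x = z → x ∈ P) :
    closure ({i, j} : Set H) ≤ P := by
  rw [closure_le]
  rintro x (rfl | rfl)
  · exact hP _ h.hi h.q.i2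
  · exact hP _ h.hj h.q.j2

/-- `Half` from `IsPr` -/
theorem half_of {P : Subgroup H} {z w : H} {J₁ J₂ : Subgroup H} (p₁ : IsPr J₁ z) (p₂ : IsPr J₂ z)
    (cm : ∀ x ∈ J₁, ∀ y ∈ J₂, x * y = y * x) (s₁ : Sn J₁ (centralizer ({w} : Set H)))
    (s₂ : Sn J₂ (centralizer ({w} : Set H))) (r₁ : ∀ x ∈ J₁, x * x = z → x ∈ P) (r₂ : ∀ x ∈ J₂, x * x = z → x ∈ P) :
    ∃ i₁ j₁ v₁ i₂ j₂ v₂, Half P z w J₁ J₂ i₁ j₁ v₁ i₂ j₂ v₂ := by
  obtain ⟨i₁, j₁, v₁, h₁⟩ := p₁.sl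
  obtain ⟨i₂, j₂, v₂, h₂⟩ := p₂.sl
  exact ⟨i₁, j₁, v₁, i₂, j₂, v₂, h₁, h₂, cm, s₁, s₂, Q_le_of_sq h₁ r₁, Q_le_of_sq h₂ r₂⟩

/-- **(3d) (b)**, in an abstract group with `z` central. -/
theorem caseB_pr [Finite H] {P : Subgroup H} [P.Normal] (hP : IsPGroup 2 P) {z z₃ w w' : H}
    (hz : ∀ x : H, x * z = z * x) {J₁ J₂ J₃ J₄ : Subgroup H} (p₁ : IsPr J₁ z) (p₂ : IsPr J₂ z) (p₃ : IsPr J₃ z₃)
    (p₄ : IsPr J₄ z₃) (c₁₂ : ∀ x ∈ J₁, ∀ y ∈ J₂, x * y = y * x) (c₃₄ : ∀ x ∈ J₃, ∀ y ∈ J₄, x * y = y * x)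
    (s₁ : Sn J₁ (centralizer ({w} : Set H))) (s₂ : Sn J₂ (centralizer ({w} : Set H)))
    (s₃ : Sn J₃ (centralizer ({w'} : Set H))) (s₄ : Sn J₄ (centralizer ({w'} : Set H)))
    (r₁ : ∀ x ∈ J₁, x * x = z → x ∈ P) (r₂ : ∀ x ∈ J₂, x * x = z → x ∈ P)
    (r₃ : ∀ x ∈ J₃, x * x = z₃ → x ∈ P) (r₄ : ∀ x ∈ J₄, x * x = z₃ → x ∈ P)
    (hw' : ∃ p ∈ J₁, ∃ q ∈ J₂, p * p = z ∧ q * q = z ∧ w' = p * q)
    (hw : ∃ p ∈ J₃, ∃ q ∈ J₄, p * p = z₃ ∧ q * q = z₃ ∧ w = p * q) (hne : z₃ ≠ z) : J₁.IsSubnormal := by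
  obtain ⟨i₁, j₁, v₁, i₂, j₂, v₂, D⟩ := half_of p₁ p₂ c₁₂ s₁ s₂ r₁ r₂
  obtain ⟨i₃, j₃, v₃, i₄, j₄, v₄, D'⟩ := half_of p₃ p₄ c₃₄ s₃ s₄ r₃ r₄
  obtain ⟨a₁, h₁, a₂, h₂, e₁, e₂, hw'⟩ := hw'
  obtain ⟨a₃, h₃, a₄, h₄, e₃, e₄, hw⟩ := hw
  exact caseB hP hz D D' (mem_Q_of_sqrt D.h1 h₁ e₁) (mem_Q_of_sqrt D.h2 h₂ e₂) (mem_Q_of_sqrt D'.h1 h₃ e₃)
    (mem_Q_of_sqrt D'.h2 h₄ e₄) e₁ e₃ hw' hw hne

end

section

variable {G : Type*} [Group G]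

/-- passing to `H = C(z)` -/
theorem sn_sub {z w : G} (hw : w ∈ centralizer ({z} : Set G)) {J : Subgroup G}
    (h : Sn J (centralizer ({z} : Set G) ⊓ centralizer ({w} : Set G))) :
    Sn (J.subgroupOf (centralizer ({z} : Set G)))
      (centralizer ({(⟨w, hw⟩ : ↥(centralizer ({z} : Set G)))} : Set ↥(centralizer ({z} : Set G)))) := by
  have h1 := h.comap (centralizer ({z} : Set G)).subtype
  have h2 : (centralizer ({z} : Set G) ⊓ centralizer ({w} : Set G)).comap (centralizer ({z} : Set G)).subtype =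
      centralizer ({(⟨w, hw⟩ : ↥(centralizer ({z} : Set G)))} : Set ↥(centralizer ({z} : Set G))) := by
    ext x
    rw [mem_comap, mem_inf]
    simp only [coe_subtype, mem_centralizer_singleton_iff]
    constructor
    · rintro ⟨-, h3⟩
      exact Subtype.ext h3
    · intro h3
      exact ⟨mem_centralizer_singleton_iff.1 x.2, congrArg Subtype.val h3⟩
  rw [h2] at h1
  exact h1

/-- back to `G` -/
theorem sn_of_sub {z : G} {J : Subgroup G} (hJ : J ≤ centralizer ({z} : Set G))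
    (h : (J.subgroupOf (centralizer ({z} : Set G))).IsSubnormal) : Sn J (centralizer ({z} : Set G)) := ⟨hJ, h⟩

/-- **(3d) (b)**, for subgroups of `G`, `H = C(z)`. -/
theorem caseB_G [Finite G] {z z₃ w w' : G} {J₁ J₂ J₃ J₄ : Subgroup G} (p₁ : IsPr J₁ z) (p₂ : IsPr J₂ z)
    (p₃ : IsPr J₃ z₃) (p₄ : IsPr J₄ z₃) (c₁₂ : ∀ x ∈ J₁, ∀ y ∈ J₂, x * y = y * x)
    (c₃₄ : ∀ x ∈ J₃, ∀ y ∈ J₄, x * y = y * x)
    (s₁ : Sn J₁ (centralizer ({z} : Set G) ⊓ centralizer ({w} : Set G)))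
    (s₂ : Sn J₂ (centralizer ({z} : Set G) ⊓ centralizer ({w} : Set G)))
    (s₃ : Sn J₃ (centralizer ({z} : Set G) ⊓ centralizer ({w'} : Set G)))
    (s₄ : Sn J₄ (centralizer ({z} : Set G) ⊓ centralizer ({w'} : Set G)))
    (r₁ : ∀ x ∈ J₁, x * x = z → x ∈ PP z) (r₂ : ∀ x ∈ J₂, x * x = z → x ∈ PP z)
    (r₃ : ∀ x ∈ J₃, x * x = z₃ → x ∈ PP z) (r₄ : ∀ x ∈ J₄, x * x = z₃ → x ∈ PP z)
    (hw' : ∃ p ∈ J₁, ∃ q ∈ J₂, p * p = z ∧ q * q = z ∧ w' = p * q)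
    (hw : ∃ p ∈ J₃, ∃ q ∈ J₄, p * p = z₃ ∧ q * q = z₃ ∧ w = p * q) (hne : z₃ ≠ z) :
    Sn J₁ (centralizer ({z} : Set G)) := by
  have l₁ : J₁ ≤ centralizer ({z} : Set G) := s₁.le.trans inf_le_left
  have l₂ : J₂ ≤ centralizer ({z} : Set G) := s₂.le.trans inf_le_left
  have l₃ : J₃ ≤ centralizer ({z} : Set G) := s₃.le.trans inf_le_left
  have l₄ : J₄ ≤ centralizer ({z} : Set G) := s₄.le.trans inf_le_left
  obtain ⟨a₁, h₁, a₂, h₂, e₁, e₂, hw'⟩ := hw'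
  obtain ⟨a₃, h₃, a₄, h₄, e₃, e₄, hw⟩ := hw
  have w'C : w' ∈ centralizer ({z} : Set G) := by rw [hw']; exact mul_mem (l₁ h₁) (l₂ h₂)
  have wC : w ∈ centralizer ({z} : Set G) := by rw [hw]; exact mul_mem (l₃ h₃) (l₄ h₄)
  refine sn_of_sub l₁ ?_
  have hr : ∀ {J : Subgroup G} {z' : G} (hJ : J ≤ centralizer ({z} : Set G)) (hz' : z' ∈ centralizer ({z} : Set G)),
      (∀ x ∈ J, x * x = z' → x ∈ PP z) → ∀ x ∈ J.subgroupOf (centralizer ({z} : Set G)),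
        x * x = (⟨z', hz'⟩ : ↥(centralizer ({z} : Set G))) → x ∈ pCore 2 ↥(centralizer ({z} : Set G)) := by
    intro J z' hJ hz' h x hx hxx
    have h1 := h x hx (congrArg Subtype.val hxx)
    exact (mem_PP x.2).1 h1
  refine caseB_pr (P := pCore 2 ↥(centralizer ({z} : Set G))) (z := ⟨z, l₁ p₁.mem⟩) (z₃ := ⟨z₃, l₃ p₃.mem⟩)
    (w := ⟨w, wC⟩) (w' := ⟨w', w'C⟩) (J₂ := J₂.subgroupOf _) (J₃ := J₃.subgroupOf _) (J₄ := J₄.subgroupOf _)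
    (Lib.Cores.pCore_isPGroup 2) ?_ (p₁.subgroupOf l₁) (p₂.subgroupOf l₂)
    (p₃.subgroupOf l₃) (p₄.subgroupOf l₄) ?_ ?_ (sn_sub wC s₁) (sn_sub wC s₂) (sn_sub w'C s₃) (sn_sub w'C s₄)
    (hr l₁ (l₁ p₁.mem) r₁) (hr l₂ (l₂ p₂.mem) r₂) (hr l₃ (l₃ p₃.mem) r₃) (hr l₄ (l₄ p₄.mem) r₄) ?_ ?_ ?_
  · intro x
    exact Subtype.ext (mem_centralizer_singleton_iff.1 x.2)
  · intro x hx y hy
    exact Subtype.ext (c₁₂ x hx y hy)
  · intro x hx y hy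
    exact Subtype.ext (c₃₄ x hx y hy)
  · exact ⟨⟨a₁, l₁ h₁⟩, h₁, ⟨a₂, l₂ h₂⟩, h₂, Subtype.ext e₁, Subtype.ext e₂, Subtype.ext hw'⟩
  · exact ⟨⟨a₃, l₃ h₃⟩, h₃, ⟨a₄, l₄ h₄⟩, h₄, Subtype.ext e₃, Subtype.ext e₄, Subtype.ext hw⟩
  · intro h
    exact hne (congrArg Subtype.val h)

end

end Cfsg.Agent.OddHalf.NI3.Bad
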