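import Cfsg.Agent.OddHalf.NI3.Bad.Basic
import Cfsg.Agent.OddHalf.NI3.Bad.FourPr
import Cfsg.Agent.OddHalf.NI3.SubSL
import Cfsg.Agent.OddHalf.NI3.LemP

/-!
# THEOREM NIB, step (3d), G-level: the double configuration (helper355; bb ODD #14136)

`Dbl N D a b e e' A B A' B'` : `Cfg N a b e A B`, `D = 2.U₄(3)` a component of `C(a)` with the frame
`Sheet D e e' b A' B'` (`e' = -1₇₈`, `A'`, `B'` = `J₃`, `J₄`, the factors of `Ω(5678)`), `Q₁, Q₂ ≤ O₂(C(z))`.

* `Dbl.of` : from the sheet `Sheet D b e e' (cj c A) (cj c B)`;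
* `Dbl.snA'`, `Dbl.snB'` : `J₃`, `J₄` are subnormal in `C(z) ∩ C(a)`;
* `Dbl.rA'`, `Dbl.rB'` : `Q₃, Q₄ ≤ O₂(C(z))`;
* `Dbl.z_eq` : (b) is dead, `e e' = a b`.
-/

set_option autoImplicit false
set_option linter.style.haveILetI false

namespace Cfsg.Agent.OddHalf.NI3.Bad

open Subgroup Cfsg Cfsg.Agent.OddHalf.Iface Cfsg.Agent.OddHalf.LieOddFam
open Cfsg.Agent.OddHalf.D3 (Comp)
open Cfsg.Agent.OddHalf.NI (CompIn)
open Cfsg.Agent.Cit Cfsg.Agent.Cit.SLThree

universe u

/-! ### (L1) -/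

section

variable {G : Type*} [Group G]

/-- **(L1)** `J` subnormal in `C(z) ∩ C(t)`, `t` an involution of `O₂(C(z))`: then `O₂(J) ≤ O₂(C(z))`. -/
theorem mem_PP_of_sn [Finite G] {z z' t : G} {J : Subgroup G} (htt : t * t = 1) (ht : t ∈ PP z)
    (hJ : IsPr J z') (hs : Sn J (centralizer ({z} : Set G) ⊓ centralizer ({t} : Set G))) :
    ∀ x ∈ J, x * x = z' → x ∈ PP z := by
  by_contra hcon
  haveI : Fact (Nat.Prime 2) := ⟨Nat.prime_two⟩
  have hPz : PP z ≤ centralizer ({z} : Set G) := PP_le z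
  have hP2 : IsPGroup 2 (PP z) := (Lib.Cores.pCore_isPGroup (G := ↥(centralizer ({z} : Set G))) 2).map _
  have hJz : J ≤ centralizer ({z} : Set G) := hs.1.trans inf_le_left
  have hJt : J ≤ centralizer ({t} : Set G) := hs.1.trans inf_le_right
  have htz : t * z = z * t := PP_comm ht
  have hPn : centralizer ({z} : Set G) ≤ normalizer (PP z : Set G) := by
    have key : ∀ g ∈ centralizer ({z} : Set G), ∀ x ∈ PP z, g * x * g⁻¹ ∈ PP z := by
      rintro g hg _ ⟨x, hx, rfl⟩
      have hn : (pCore 2 ↥(centralizer ({z} : Set G))).Normal := Lib.Cores.pCore_normal 2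
      exact ⟨⟨g, hg⟩ * x * ⟨g, hg⟩⁻¹, hn.conj_mem x hx _, rfl⟩
    intro g hg
    rw [mem_normalizer_iff]
    intro x
    refine ⟨key g hg x, fun hx => ?_⟩
    have := key g⁻¹ (inv_mem hg) _ hx
    have e : g⁻¹ * (g * x * g⁻¹) * g⁻¹⁻¹ = x := by group
    rwa [e] at this
  -- the elements of order 3 of `J` centralise `P`
  have key : ∀ v ∈ J, v * v * v = 1 → v ∈ centralizer (PP z : Set G) := by
    intro v hv h3
    have hc : zpowers v ≤ centralizer (PP z : Set G) := by
      refine Lib.ThompsonPQ.thompson_p_times_q 2 (zpowers t) (zpowers v) (PP z) ?_ ?_ hP2 ?_ ?_ ?_ ?_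
      · rintro ⟨x, k, rfl⟩
        refine ⟨1, ?_⟩
        apply Subtype.ext
        change (t ^ k) ^ (2 ^ 1) = 1
        rw [pow_one, ← zpow_natCast, ← zpow_mul, mul_comm, zpow_mul, zpow_natCast, pow_two, htt, one_zpow]
      · rw [Nat.card_zpowers]; exact (Nat.coprime_two_right).2 (odd_of_cube h3)
      · rw [zpowers_le, mem_centralizer_iff]
        rintro _ ⟨k, rfl⟩
        exact ((show Commute v t from mem_centralizer_singleton_iff.1 (hJt hv)).zpow_left k).eq
      · rw [zpowers_le]; exact hPn (mem_centralizer_singleton_iff.2 htz)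
      · rw [zpowers_le]; exact hPn (hJz hv)
      · intro x hx
        obtain ⟨hxW, hxt⟩ := mem_inf.1 hx
        have hxt' : x * t = t * x := ((mem_centralizer_iff.1 hxt) t (mem_zpowers t)).symm
        rw [mem_centralizer_iff]
        rintro _ ⟨k, rfl⟩
        have h4 : v * x = x * v := by
          refine T3.comm_of_sn hJ.t3 hs (P := PP z ⊓ centralizer ({t} : Set G)) (inf_le_inf_right _ hPz)
            (hP2.to_le inf_le_left) ?_ ?_ hv h3 (mem_inf.2 ⟨hxW, mem_centralizer_singleton_iff.2 hxt'⟩)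
          · intro g hg
            have hgt := hJt hg
            rw [mem_normalizer_iff]
            intro y
            have h5 := mem_normalizer_iff.1 (hPn (hJz hg)) y
            constructor
            · intro hy
              obtain ⟨hy1, hy2⟩ := mem_inf.1 hy
              exact mem_inf.2 ⟨h5.1 hy1, mul_mem (mul_mem hgt hy2) (inv_mem hgt)⟩
            · intro hy
              obtain ⟨hy1, hy2⟩ := mem_inf.1 hy
              refine mem_inf.2 ⟨h5.2 hy1, ?_⟩
              have e : y = g⁻¹ * (g * y * g⁻¹) * g⁻¹⁻¹ := by group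
              rw [e]
              exact mul_mem (mul_mem (inv_mem hgt) hy2) (inv_mem (inv_mem hgt))
          · intro hall
            exact hcon fun y hy hyz => (mem_inf.1 (hall y hy hyz)).1
        exact ((show Commute v x from h4).zpow_left k).eq
    exact hc (mem_zpowers v)
  -- `J` is subnormal in `C(z)`
  have h1 : J ≤ centralizer (PP z : Set G) := hJ.le_of_cube key
  have h2 : Sn (centralizer ({z} : Set G) ⊓ centralizer (PP z : Set G)) (centralizer ({z} : Set G)) := by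
    refine Sn.of_normal inf_le_left ?_
    have key2 : ∀ g ∈ centralizer ({z} : Set G), ∀ x ∈ centralizer ({z} : Set G) ⊓ centralizer (PP z : Set G),
        g * x * g⁻¹ ∈ centralizer ({z} : Set G) ⊓ centralizer (PP z : Set G) := by
      intro g hg x hx
      obtain ⟨hx1, hx2⟩ := mem_inf.1 hx
      refine mem_inf.2 ⟨mul_mem (mul_mem hg hx1) (inv_mem hg), ?_⟩
      rw [mem_centralizer_iff] at hx2 ⊢
      intro w hw
      have h3 : g⁻¹ * w * g⁻¹⁻¹ ∈ PP z := (mem_normalizer_iff.1 (hPn (inv_mem hg)) w).1 hw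
      have h4 := hx2 _ h3
      calc w * (g * x * g⁻¹) = g * ((g⁻¹ * w * g⁻¹⁻¹) * x) * g⁻¹ := by group
        _ = g * (x * (g⁻¹ * w * g⁻¹⁻¹)) * g⁻¹ := by rw [h4]
        _ = g * x * g⁻¹ * w := by group
    intro g hg
    rw [mem_normalizer_iff]
    intro x
    refine ⟨key2 g hg x, fun hx => ?_⟩
    have := key2 g⁻¹ (inv_mem hg) _ hx
    have e : g⁻¹ * (g * x * g⁻¹) * g⁻¹⁻¹ = x := by group
    rwa [e] at this
  have h3 : Sn J (centralizer ({z} : Set G)) := by
    refine Sn.trans (hs.restrict (C' := centralizer ({z} : Set G) ⊓ centralizer (PP z : Set G)) ?_ ?_) h2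
    · refine inf_le_inf_left _ ?_
      intro x hx
      exact mem_centralizer_singleton_iff.2 ((mem_centralizer_iff.1 hx) t ht).symm
    · exact le_inf hJz h1
  -- so `O₂(J) ≤ O₂(C(z))`
  apply hcon
  intro x hx hxz
  have h4 : IsPr (J.subgroupOf (centralizer ({z} : Set G))) ⟨z', hJz hJ.mem⟩ := hJ.subgroupOf hJz
  exact (mem_PP (hJz hx)).2 (h4.mem_pCore h3.2 (y := ⟨x, hJz hx⟩) hx (Subtype.ext hxz))

end


/-! ### The double configuration -/

/-- `D = 2.U₄(3)` a component of `C(a)`, `a = -1₁₂`, with the frame `e = -1₅₆`, `e' = -1₇₈`, `b = -1₃₄`; `A'`, `B'` the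
factors of `Ω(5678)`. -/
structure Dbl {G : Type*} [Group G] (N D : Subgroup G) (a b e e' : G) (A B A' B' : Subgroup G) : Prop where
  cfg : Cfg N a b e A B
  comp : Comp a D
  sh : Sheet D e e' b A' B'
  rA : ∀ x ∈ A, x * x = a * b → x ∈ PP (a * b)
  rB : ∀ x ∈ B, x * x = a * b → x ∈ PP (a * b)

/-- from the sheet of `D` with the factors `J₅, J₆` of `Ω(3456)` -/
theorem Dbl.of {G : Type*} [Group G] {N D : Subgroup G} {a b e e' : G} {A B A₅ B₅ : Subgroup G}
    (h : Cfg N a b e A B) (hR : (∀ x ∈ A, x * x = a * b → x ∈ PP (a * b)) ∧ (∀ x ∈ B, x * x = a * b → x ∈ PP (a * b)))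
    (hD : Comp a D) (hS : Sheet D b e e' A₅ B₅) : ∃ A' B' : Subgroup G, Dbl N D a b e e' A B A' B' := by
  obtain ⟨c, hc, h1, h2, h3⟩ := hS.rot
  exact ⟨cj c A₅, cj c B₅, h, hD, hS.rotate hc h1 h2 h3, hR.1, hR.2⟩

namespace Dbl

variable {G : Type*} [Group G] {N D : Subgroup G} {a b e e' : G} {A B A' B' : Subgroup G}
  (h : Dbl N D a b e e' A B A' B')

include h

theorem comm_a {x : G} (hx : x ∈ D) : x * a = a * x := mem_centralizer_singleton_iff.1 (h.comp.le hx)

/-- the centre of `D` : `e e' b = b e e'` -/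
theorem bee : e * e' * b = b * (e * e') := by
  rw [mul_assoc, h.sh.be, ← mul_assoc, h.sh.ae, mul_assoc]

/-- elements of `D` commuting with `e e'` commute with `b` -/
theorem comm_b {x : G} (hx : x ∈ D) (h1 : x * (e * e') = e * e' * x) : x * b = b * x := by
  have h2 := h.sh.y_comm x hx
  have h3 : e * e' * (x * b) = e * e' * (b * x) := by
    calc e * e' * (x * b) = x * (e * e') * b := by rw [h1]; group
      _ = x * (e * e' * b) := by group
      _ = e * e' * b * x := h2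
      _ = e * e' * (b * x) := by group
  exact mul_left_cancel h3

theorem comm_b' {x : G} (hx : x ∈ D) (h1 : x * b = b * x) : x * (e * e') = e * e' * x := by
  have h2 := h.sh.y_comm x hx
  rw [h.bee] at h2
  have h3 : b * (x * (e * e')) = b * (e * e' * x) := by
    calc b * (x * (e * e')) = x * b * (e * e') := by rw [h1]; group
      _ = x * (b * (e * e')) := by group
      _ = b * (e * e') * x := h2
      _ = b * (e * e' * x) := by group
  exact mul_left_cancel h3

/-- `C_D(e e') = C_D(b)` -/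
theorem inf_eq : D ⊓ centralizer ({e * e'} : Set G) = D ⊓ centralizer ({b} : Set G) := by
  ext x
  simp only [mem_inf, mem_centralizer_singleton_iff]
  exact ⟨fun ⟨h1, h2⟩ => ⟨h1, h.comm_b h1 h2⟩, fun ⟨h1, h2⟩ => ⟨h1, h.comm_b' h1 h2⟩⟩

/-- `C_D(b)` is subnormal in `C(z) ∩ C(a)` -/
theorem snD : Sn (D ⊓ centralizer ({b} : Set G)) (centralizer ({a * b} : Set G) ⊓ centralizer ({a} : Set G)) := by
  have h3 := Sn.inf ⟨h.comp.le, h.comp.comp.1⟩ (centralizer ({b} : Set G))
  have h4 : centralizer ({a} : Set G) ⊓ centralizer ({b} : Set G) =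
      centralizer ({a * b} : Set G) ⊓ centralizer ({a} : Set G) := by
    rw [← cent_inf_eq, inf_comm]
  rwa [h4] at h3

theorem snA' : Sn A' (centralizer ({a * b} : Set G) ⊓ centralizer ({a} : Set G)) := by
  have h1 := h.sh.snA
  rw [h.inf_eq] at h1
  exact h1.trans h.snD

theorem snB' : Sn B' (centralizer ({a * b} : Set G) ⊓ centralizer ({a} : Set G)) := by
  have h1 := h.sh.snB
  rw [h.inf_eq] at h1
  exact h1.trans h.snD

/-- `a ∈ O₂(C(z))` -/
theorem aP : a ∈ PP (a * b) := by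
  obtain ⟨p, hp, q, hq, h1, h2, h3⟩ := h.cfg.a_eq
  have h4 := mul_mem (h.rA p hp h1) (h.rB q hq h2)
  rwa [← h3] at h4

/-- `Q₃ ≤ O₂(C(z))` -/
theorem rA' [Finite G] : ∀ x ∈ A', x * x = e * e' → x ∈ PP (a * b) :=
  mem_PP_of_sn h.cfg.aa h.aP h.sh.prA h.snA'

/-- `Q₄ ≤ O₂(C(z))` -/
theorem rB' [Finite G] : ∀ x ∈ B', x * x = e * e' → x ∈ PP (a * b) :=
  mem_PP_of_sn h.cfg.aa h.aP h.sh.prB h.snB'

/-- **case (b)** is dead -/
theorem sn_of_ne [Finite G] (hne : e * e' ≠ a * b) : Sn A (centralizer ({a * b} : Set G)) :=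
  caseB_G h.cfg.prA h.cfg.prB h.sh.prA h.sh.prB h.cfg.AB h.sh.AB h.cfg.snA_e h.cfg.snB_e h.snA' h.snB' h.rA h.rB
    h.rA' h.rB' h.cfg.a_eq h.sh.a_eq hne

end Dbl

/-- **(3d) (b)** : `z₃ = z` -/
theorem Dbl.z_eq {G : Type u} [Group G] (C : Ctx G) {N D : Subgroup G} {a b e e' : G} {A B A' B' : Subgroup G}
    (h : Dbl N D a b e e' A B A' B') : e * e' = a * b := by
  haveI := C.fin
  by_contra hne
  exact Cfg.not_cl C ⟨h.cfg.prA, h.sn_of_ne hne⟩

end Cfsg.Agent.OddHalf.NI3.Bad
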