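import Cfsg.Agent.OddHalf.NI3.Bad.Basic
import Cfsg.Agent.OddHalf.NI3.SubSL
import Cfsg.Agent.TwoFusion.ClosedFunctor

/-!
# NI over `F₃`, THEOREM NIB: the factors of `Ω(1234)` and the rotations

* `IsPr.quat` : the elements of order 4 of `SL₂(3)`;
* `perm_prod` : an element normalising `A B` and centralising `z` permutes `A`, `B`;
* `Sheet.perm`;
* `Sheet.tor_of` : `p₅ = c⁻¹ p c` normalises `A` and `B` and commutes with `p` and `q`;
* `Sheet.tor`.
-/

set_option autoImplicit false
set_option linter.style.haveILetI false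

namespace Cfsg.Agent.OddHalf.NI3.Bad

open Subgroup Cfsg Cfsg.Agent.Cit Cfsg.Agent.Cit.SolvTwo
open Cfsg.Agent.OddHalf.NI3
open Cfsg.Agent.Cit (cj)

/-! ### Quaternion computations in `SL₂(3)` -/

set_option maxRecDepth 100000 in
theorem sl23_quat : ∀ p : SL23, p * p = -1 → ∀ x : SL23, x * x = -1 →
    (p * x = x * p → x = p ∨ x = -1 * p) ∧ (p * x ≠ x * p → x * p = -1 * (p * x) ∧
      ∀ y : SL23, y * y = -1 → p * y ≠ y * p → (y = x ∨ y = -1 * x ∨ y = p * x ∨ y = -1 * (p * x))) := by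
  decide +kernel

section

variable {G : Type*} [Group G] {J A B : Subgroup G} {z : G}

theorem pr_map_z (h : IsPr J z) (e : ↥J ≃* SL23) : e ⟨z, h.mem⟩ = -1 := by
  have h4 : (e ⟨z, h.mem⟩) * (e ⟨z, h.mem⟩) = 1 := by
    rw [← map_mul, ← map_one e]; congr 1; exact Subtype.ext h.t3.z_sq
  rcases SLThreeMain.sq_sl23 _ h4 with h5 | h5
  · exfalso; apply h.t3.z_ne
    have h6 : (⟨z, h.mem⟩ : J) = 1 := e.injective (by rw [h5, map_one])
    exact congrArg Subtype.val h6
  · exact h5

/-- the elements of order 4 of `SL₂(3)` -/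
theorem pr_quat (h : IsPr J z) {p x : G} (hp : p ∈ J) (hx : x ∈ J) (pp : p * p = z) (xx : x * x = z) :
    (p * x = x * p → x = p ∨ x = z * p) ∧ (p * x ≠ x * p → x * p = z * (p * x) ∧
      ∀ y ∈ J, y * y = z → p * y ≠ y * p → (y = x ∨ y = z * x ∨ y = p * x ∨ y = z * (p * x))) := by
  obtain ⟨e⟩ := h.iso
  have hz := pr_map_z h e
  have inj : ∀ u v : J, e u = e v → (u : G) = v := fun u v huv => congrArg Subtype.val (e.injective huv)
  have sq : ∀ (u : G) (hu : u ∈ J), u * u = z → e ⟨u, hu⟩ * e ⟨u, hu⟩ = -1 := by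
    intro u hu huu
    rw [← map_mul, ← hz]; congr 1; exact Subtype.ext huu
  have key := sl23_quat (e ⟨p, hp⟩) (sq p hp pp) (e ⟨x, hx⟩) (sq x hx xx)
  refine ⟨fun hc => ?_, fun hc => ?_⟩
  · rcases key.1 (by rw [← map_mul, ← map_mul]; congr 1; exact Subtype.ext hc) with h1 | h1
    · left; exact inj ⟨x, hx⟩ ⟨p, hp⟩ h1
    · right
      rw [← hz, ← map_mul] at h1
      exact inj ⟨x, hx⟩ (⟨z, h.mem⟩ * ⟨p, hp⟩) h1
  · have hc' : e ⟨p, hp⟩ * e ⟨x, hx⟩ ≠ e ⟨x, hx⟩ * e ⟨p, hp⟩ := by
      intro h1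
      rw [← map_mul, ← map_mul] at h1
      exact hc (inj _ _ h1)
    obtain ⟨k1, k2⟩ := key.2 hc'
    refine ⟨?_, fun y hy yy hcy => ?_⟩
    · rw [← hz, ← map_mul, ← map_mul, ← map_mul] at k1
      exact inj (⟨x, hx⟩ * ⟨p, hp⟩) (⟨z, h.mem⟩ * (⟨p, hp⟩ * ⟨x, hx⟩)) k1
    · have hcy' : e ⟨p, hp⟩ * e ⟨y, hy⟩ ≠ e ⟨y, hy⟩ * e ⟨p, hp⟩ := by
        intro h1
        rw [← map_mul, ← map_mul] at h1
        exact hcy (inj _ _ h1)
      rcases k2 (e ⟨y, hy⟩) (sq y hy yy) hcy' with h1 | h1 | h1 | h1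
      · left; exact inj ⟨y, hy⟩ ⟨x, hx⟩ h1
      · right; left
        rw [← hz, ← map_mul] at h1
        exact inj ⟨y, hy⟩ (⟨z, h.mem⟩ * ⟨x, hx⟩) h1
      · right; right; left
        rw [← map_mul] at h1
        exact inj ⟨y, hy⟩ (⟨p, hp⟩ * ⟨x, hx⟩) h1
      · right; right; right
        rw [← hz, ← map_mul, ← map_mul] at h1
        exact inj ⟨y, hy⟩ (⟨z, h.mem⟩ * (⟨p, hp⟩ * ⟨x, hx⟩)) h1

/-- an element of order 4 not commuting with `p` -/
theorem pr_exists (h : IsPr J z) {p : G} (hp : p ∈ J) (pp : p * p = z) :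
    ∃ x ∈ J, x * x = z ∧ p * x ≠ x * p := by
  obtain ⟨x, hx, y, hy, hxx, hyy, hxy⟩ := h.t3.ex4
  by_cases h1 : p * x = x * p
  · refine ⟨y, hy, hyy, fun h2 => hxy ?_⟩
    have hpz : p * z = z * p := h.comm_z hp
    rcases (pr_quat h hp hx pp hxx).1 h1 with rfl | rfl
    · exact h2
    · have hyz : y * z = z * y := h.comm_z hy
      calc z * p * y = z * (p * y) := by group
        _ = (z * y) * p := by rw [h2]; group
        _ = y * (z * p) := by rw [← hyz]; group
  · exact ⟨x, hx, hxx, h1⟩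

/-! ### The permutation of `A`, `B` -/

variable [Finite G]

/-- `O(A B) = 1` -/
theorem core_prod (pA : IsPr A z) (pB : IsPr B z) (hc : ∀ x ∈ A, ∀ y ∈ B, x * y = y * x) :
    oddCore ↥(A ⊔ B) = ⊥ := by
  haveI : Fact (Nat.Prime 2) := ⟨Nat.prime_two⟩
  set C := A ⊔ B with hC
  have hAC : A ≤ C := le_sup_left
  have hBC : B ≤ C := le_sup_right
  have hAB : ∀ g ∈ C, ∃ x ∈ A, ∃ y ∈ B, g = x * y := fun g hg =>
    (Cfsg.Agent.TwoFusion.ClosedFunctor.mem_sup_of_comm hc).1 hg
  have hnA : (A.subgroupOf C).Normal := by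
    refine ⟨fun n hn g => ?_⟩
    rw [mem_subgroupOf] at hn ⊢
    obtain ⟨x, hx, y, hy, hxy⟩ := hAB g g.2
    have h1 : y * n * y⁻¹ = n := by rw [← hc n hn y hy]; group
    have h2 : ((g * n * g⁻¹ : C) : G) = x * n * x⁻¹ := by
      show (g : G) * n * (g : G)⁻¹ = _
      calc (g : G) * n * (g : G)⁻¹ = x * (y * n * y⁻¹) * x⁻¹ := by rw [hxy]; group
        _ = x * n * x⁻¹ := by rw [h1]
    rw [h2]
    exact mul_mem (mul_mem hx hn) (inv_mem hx)
  have hnB : (B.subgroupOf C).Normal := by
    refine ⟨fun n hn g => ?_⟩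
    rw [mem_subgroupOf] at hn ⊢
    obtain ⟨x, hx, y, hy, hxy⟩ := hAB g g.2
    have h1 : x * n * x⁻¹ = n := by rw [hc x hx n hn]; group
    have h3 : x * y = y * x := hc x hx y hy
    have h2 : ((g * n * g⁻¹ : C) : G) = y * n * y⁻¹ := by
      show (g : G) * n * (g : G)⁻¹ = _
      calc (g : G) * n * (g : G)⁻¹ = y * (x * n * x⁻¹) * y⁻¹ := by rw [hxy, h3]; group
        _ = y * n * y⁻¹ := by rw [h1]
    rw [h2]
    exact mul_mem (mul_mem hy hn) (inv_mem hy)
  have hn : (pPrimeCore 2 C).Normal := Lib.Cores.pPrimeCore_normal 2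
  have hodd : ¬ 2 ∣ Nat.card (pPrimeCore 2 C) := not_two_dvd_oddCore C
  have hO2 : ∀ o ∈ pPrimeCore 2 C, ∀ p ∈ pCore 2 C, o * p = p * o := by
    intro o ho p hp
    have hn2 : (pCore 2 C).Normal := Lib.Cores.pCore_normal 2
    have h1 : o * p * o⁻¹ * p⁻¹ ∈ pCore 2 C ⊓ pPrimeCore 2 C := by
      refine Subgroup.mem_inf.2 ⟨mul_mem (hn2.conj_mem p hp o) (inv_mem hp), ?_⟩
      have h2 := mul_mem ho (hn.conj_mem _ (inv_mem ho) p)
      have h3 : o * p * o⁻¹ * p⁻¹ = o * (p * o⁻¹ * p⁻¹) := by group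
      rwa [h3]
    rw [Lib.Cores.pCore_inf_pPrimeCore 2, mem_bot, mul_inv_eq_one, mul_inv_eq_iff_eq_mul] at h1
    exact h1
  have hsq : ∀ o ∈ pPrimeCore 2 C, o * o = 1 → o = 1 := by
    intro o ho h2
    by_contra hne
    apply hodd
    have h3 : orderOf o = 2 := orderOf_eq_prime (by rw [pow_two, h2]) hne
    have h4 := _root_.orderOf_dvd_natCard (⟨o, ho⟩ : pPrimeCore 2 C)
    rwa [Subgroup.orderOf_mk, h3] at h4
  rw [eq_bot_iff]
  intro o ho
  rw [mem_bot]
  obtain ⟨x, hx, y, hy, hoxy⟩ := hAB o o.2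
  have hx1 : x = 1 ∨ x = z := by
    refine pA.t3.cen x hx fun q hq hqq => ?_
    have hqP := (pA.subgroupOf hAC).mem_pCore hnA.isSubnormal (y := ⟨q, hAC hq⟩) hq (Subtype.ext hqq)
    have h3 : (o : G) * q = q * o := congrArg Subtype.val (hO2 o ho _ hqP)
    rw [hoxy] at h3
    have h4 : y * q = q * y := (hc q hq y hy).symm
    have h5 : x * q * y = q * x * y := by
      calc x * q * y = x * (y * q) := by rw [h4]; group
        _ = q * (x * y) := by rw [← h3]; group
        _ = q * x * y := by group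
    exact mul_right_cancel h5
  have hy1 : y = 1 ∨ y = z := by
    refine pB.t3.cen y hy fun q hq hqq => ?_
    have hqP := (pB.subgroupOf hBC).mem_pCore hnB.isSubnormal (y := ⟨q, hBC hq⟩) hq (Subtype.ext hqq)
    have h3 : (o : G) * q = q * o := congrArg Subtype.val (hO2 o ho _ hqP)
    rw [hoxy] at h3
    have h4 : x * q = q * x := hc x hx q hq
    have h5 : x * (y * q) = x * (q * y) := by
      calc x * (y * q) = x * y * q := by group
        _ = q * (x * y) := h3
        _ = (q * x) * y := by group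
        _ = x * (q * y) := by rw [← h4]; group
    exact mul_left_cancel h5
  refine hsq o ho (Subtype.ext ?_)
  show (o : G) * o = 1
  have hz := pA.t3.z_sq
  rw [hoxy]
  rcases hx1 with rfl | rfl <;> rcases hy1 with rfl | rfl
  · simp
  · rw [one_mul, hz]
  · rw [mul_one, hz]
  · rw [hz, one_mul]

/-- an element normalising `A B` and centralising `z` permutes `A`, `B` -/
theorem perm_prod (pA : IsPr A z) (pB : IsPr B z) (hc : ∀ x ∈ A, ∀ y ∈ B, x * y = y * x) {g : G}
    (hg : cj g (A ⊔ B) = A ⊔ B) (hgz : g * z = z * g) :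
    (cj g A = A ∧ cj g B = B) ∨ (cj g A = B ∧ cj g B = A) := by
  have hne : A ≠ B := by
    intro h1
    obtain ⟨x, hx, y, hy, -, -, hxy⟩ := pA.t3.ex4
    exact hxy (hc x hx y (h1 ▸ hy))
  set C := A ⊔ B with hC
  have hAC : A ≤ C := le_sup_left
  have hBC : B ≤ C := le_sup_right
  have hO := core_prod pA pB hc
  have hgz' : g * z * g⁻¹ = z := by rw [hgz]; group
  have hAB : ∀ g ∈ C, ∃ x ∈ A, ∃ y ∈ B, g = x * y := fun g hg =>
    (Cfsg.Agent.TwoFusion.ClosedFunctor.mem_sup_of_comm hc).1 hg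
  -- `C` normalises `A` and `B`
  have nA : ∀ m ∈ C, ∀ n ∈ A, m * n * m⁻¹ ∈ A := by
    intro m hm n hn
    obtain ⟨x, hx, y, hy, rfl⟩ := hAB m hm
    have h1 : y * n * y⁻¹ = n := by rw [← hc n hn y hy]; group
    have h2 : x * y * n * (x * y)⁻¹ = x * (y * n * y⁻¹) * x⁻¹ := by group
    rw [h2, h1]
    exact mul_mem (mul_mem hx hn) (inv_mem hx)
  have nB : ∀ m ∈ C, ∀ n ∈ B, m * n * m⁻¹ ∈ B := by
    intro m hm n hn
    obtain ⟨x, hx, y, hy, rfl⟩ := hAB m hm
    have h1 : x * n * x⁻¹ = n := by rw [hc x hx n hn]; group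
    have h3 : x * y = y * x := hc x hx y hy
    have h2 : y * x * n * (y * x)⁻¹ = y * (x * n * x⁻¹) * y⁻¹ := by group
    rw [h3, h2, h1]
    exact mul_mem (mul_mem hy hn) (inv_mem hy)
  have hC' : ∀ m ∈ C, g⁻¹ * m * g ∈ C := by
    intro m hm
    rw [← hg] at hm
    exact mem_cj.1 hm
  have hsub : ∀ K : Subgroup G, K ≤ C → (∀ m ∈ C, ∀ n ∈ K, m * n * m⁻¹ ∈ K) → (K.subgroupOf C).IsSubnormal := by
    intro K hK h1
    have : (K.subgroupOf C).Normal := ⟨fun n hn m => h1 m m.2 n hn⟩
    exact this.isSubnormal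
  have sA := hsub A hAC nA
  have sB := hsub B hBC nB
  have hcz : ∀ m : C, m * ⟨z, hAC pA.mem⟩ = ⟨z, hAC pA.mem⟩ * m := by
    intro m
    obtain ⟨x, hx, y, hy, hxy⟩ := hAB m m.2
    apply Subtype.ext
    show (m : G) * z = z * m
    rw [hxy, mul_assoc, pB.comm_z hy, ← mul_assoc, pA.comm_z hx, mul_assoc]
  have key : ∀ K : Subgroup G, IsPr K z → K ≤ C → (K.subgroupOf C).IsSubnormal → K = A ∨ K = B := by
    intro K pK hK sK
    rcases SLThree.eq_or_cm hO hcz (pK.subgroupOf hK).isSl (pA.subgroupOf hAC).isSl sK sA with h1 | h1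
    · left
      have := congrArg (fun L : Subgroup C => L.map C.subtype) h1
      rwa [map_subgroupOf_eq_of_le hK, map_subgroupOf_eq_of_le hAC] at this
    rcases SLThree.eq_or_cm hO hcz (pK.subgroupOf hK).isSl (pB.subgroupOf hBC).isSl sK sB with h2 | h2
    · right
      have := congrArg (fun L : Subgroup C => L.map C.subtype) h2
      rwa [map_subgroupOf_eq_of_le hK, map_subgroupOf_eq_of_le hBC] at this
    exfalso
    obtain ⟨x, hx, y, hy, -, -, hxy⟩ := pK.t3.ex4
    obtain ⟨u, hu, v, hv, huv⟩ := hAB y (hK hy)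
    have e1 : x * u = u * x := congrArg Subtype.val (h1 ⟨x, hK hx⟩ hx ⟨u, hAC hu⟩ hu)
    have e2 : x * v = v * x := congrArg Subtype.val (h2 ⟨x, hK hx⟩ hx ⟨v, hBC hv⟩ hv)
    apply hxy
    rw [huv, ← mul_assoc, e1, mul_assoc, e2, mul_assoc]
  have hcjA : cj g A = A ∨ cj g A = B := by
    have h1 := pA.cj g
    rw [hgz'] at h1
    have hle : cj g A ≤ C := by
      rw [← hg]
      rintro _ ⟨x, hx, rfl⟩
      exact ⟨x, hAC hx, rfl⟩
    refine key _ h1 hle (hsub _ hle ?_)
    intro m hm n hn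
    rw [mem_cj] at hn ⊢
    have h2 := nA _ (hC' m hm) _ hn
    have h3 : g⁻¹ * (m * n * m⁻¹) * g = g⁻¹ * m * g * (g⁻¹ * n * g) * (g⁻¹ * m * g)⁻¹ := by group
    rw [h3]; exact h2
  have hcjB : cj g B = A ∨ cj g B = B := by
    have h1 := pB.cj g
    rw [hgz'] at h1
    have hle : cj g B ≤ C := by
      rw [← hg]
      rintro _ ⟨x, hx, rfl⟩
      exact ⟨x, hBC hx, rfl⟩
    refine key _ h1 hle (hsub _ hle ?_)
    intro m hm n hn
    rw [mem_cj] at hn ⊢
    have h2 := nB _ (hC' m hm) _ hn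
    have h3 : g⁻¹ * (m * n * m⁻¹) * g = g⁻¹ * m * g * (g⁻¹ * n * g) * (g⁻¹ * m * g)⁻¹ := by group
    rw [h3]; exact h2
  have hinj : cj g A ≠ cj g B := fun h1 => hne (Subgroup.map_injective (MulAut.conj g).injective h1)
  rcases hcjA with h1 | h1 <;> rcases hcjB with h2 | h2
  · exact absurd (h1.trans h2.symm) hinj
  · exact Or.inl ⟨h1, h2⟩
  · exact Or.inr ⟨h1, h2⟩
  · exact absurd (h1.trans h2.symm) hinj

end

/-! ### Rotations -/

namespace Sheet

variable {G : Type*} [Group G] {N : Subgroup G} {a b e : G} {A B : Subgroup G}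

theorem e_ne_one (h : Sheet N a b e A B) : e ≠ 1 := by
  obtain ⟨c, -, -, h2, h3⟩ := h.rot
  intro he
  have hb : b = 1 := by
    have : b = c⁻¹ * (c * b * c⁻¹) * c := by group
    rw [this, h2, he]; group
  have ha : a = 1 := by rw [← h3, he]; group
  exact h.z_ne (by rw [ha, hb, mul_one])

theorem a_ne_b (h : Sheet N a b e A B) : a ≠ b := by
  intro h1
  apply h.z_ne
  rw [h1, h.bb]

theorem e_ne_a (h : Sheet N a b e A B) : e ≠ a := by
  obtain ⟨c, -, h1, h2, h3⟩ := h.rot
  intro h4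
  rw [h4, h1] at h3
  exact h.a_ne_b h3.symm

theorem b_ne_e (h : Sheet N a b e A B) : b ≠ e := by
  obtain ⟨c, -, h1, h2, h3⟩ := h.rot
  intro h4
  rw [h4, h3] at h2
  exact h.e_ne_a h2.symm

theorem Az (h : Sheet N a b e A B) {x : G} (hx : x ∈ A) : x * (a * b) = a * b * x :=
  mem_centralizer_singleton_iff.1 (h.snA.le hx).2

theorem Bz (h : Sheet N a b e A B) {x : G} (hx : x ∈ B) : x * (a * b) = a * b * x :=
  mem_centralizer_singleton_iff.1 (h.snB.le hx).2

/-- `C_N(z) ≤ C(e)` -/
theorem comm_e (h : Sheet N a b e A B) {g : G} (hg : g ∈ N) (h1 : g * (a * b) = a * b * g) : g * e = e * g := by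
  have hy := h.y_comm g hg
  have h2 : a * b * (g * e) = a * b * (e * g) := by
    calc a * b * (g * e) = (a * b * g) * e := by group
      _ = g * (a * b * e) := by rw [← h1]; group
      _ = a * b * (e * g) := by rw [hy]; group
  exact mul_left_cancel h2

theorem Ae (h : Sheet N a b e A B) {x : G} (hx : x ∈ A) : x * e = e * x := h.comm_e (h.AN hx) (h.Az hx)

theorem Be (h : Sheet N a b e A B) {x : G} (hx : x ∈ B) : x * e = e * x := h.comm_e (h.BN hx) (h.Bz hx)

variable [Finite G]

/-- the elements of `C_N(z)` permute `A`, `B` -/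
theorem perm (h : Sheet N a b e A B) {g : G} (hg : g ∈ N) (hgz : g * (a * b) = a * b * g) :
    (cj g A = A ∧ cj g B = B) ∨ (cj g A = B ∧ cj g B = A) :=
  Bad.perm_prod h.prA h.prB h.AB (h.nor g hg hgz) hgz

/-- `p₅ = c⁻¹ p c` normalises `A` and `B` and commutes with `p` and `q` -/
theorem tor_of (h : Sheet N a b e A B) {p q c : G} (hp : p ∈ A) (hq : q ∈ B) (pp : p * p = a * b) (qq : q * q = a * b)
    (ha : a = p * q) (hc : c ∈ N) (c1 : c * a * c⁻¹ = b) (c2 : c * b * c⁻¹ = e) (c3 : c * e * c⁻¹ = a) :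
    (cj (c⁻¹ * p * c) A = A ∧ cj (c⁻¹ * p * c) B = B) ∧
      p * (c⁻¹ * p * c) = c⁻¹ * p * c * p ∧ q * (c⁻¹ * p * c) = c⁻¹ * p * c * q := by
  set z := a * b with hz
  set u := c⁻¹ * p * c with hu
  have zz : z * z = 1 := h.zz
  have hpq : p * q = q * p := h.AB p hp q hq
  have pz : p * z = z * p := h.Az hp
  have qz : q * z = z * q := h.Bz hq
  have pa : p * a = a * p := by rw [ha, mul_assoc, ← hpq]
  have qa : q * a = a * q := by rw [ha, ← mul_assoc, ← hpq]
  have baz : b = a * z := by rw [hz, ← mul_assoc, h.aa, one_mul]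
  have az : a * z = z * a := by rw [← baz, hz, h.ab, mul_assoc, h.aa, mul_one]
  have pb : p * b = b * p := by
    rw [baz, ← mul_assoc, pa, mul_assoc, pz, ← mul_assoc]
  have pe : p * e = e * p := h.Ae hp
  have ca : c * a = b * c := by rw [← c1]; group
  have cb : c * b = e * c := by rw [← c2]; group
  have ce : c * e = a * c := by rw [← c3]; group
  have ua : u * a = a * u := by
    calc u * a = c⁻¹ * p * (c * a) := by rw [hu]; group
      _ = c⁻¹ * (p * b) * c := by rw [ca]; group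
      _ = c⁻¹ * b * p * c := by rw [pb]; group
      _ = c⁻¹ * (b * c) * c⁻¹ * p * c := by group
      _ = a * u := by rw [← ca, hu]; group
  have ub : u * b = b * u := by
    calc u * b = c⁻¹ * p * (c * b) := by rw [hu]; group
      _ = c⁻¹ * (p * e) * c := by rw [cb]; group
      _ = c⁻¹ * e * p * c := by rw [pe]; group
      _ = c⁻¹ * (e * c) * c⁻¹ * p * c := by group
      _ = b * u := by rw [← cb, hu]; group
  have uz : u * z = z * u := by
    rw [hz, ← mul_assoc, ua, mul_assoc, ub, ← mul_assoc]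
  have uN : u ∈ N := mul_mem (mul_mem (inv_mem hc) (h.AN hp)) hc
  have uu : u * u = a * e := by
    calc u * u = c⁻¹ * (p * p) * c := by rw [hu]; group
      _ = c⁻¹ * (a * b) * c := by rw [pp, hz]
      _ = c⁻¹ * a * c * (c⁻¹ * b * c) := by group
      _ = c⁻¹ * (c * e * c⁻¹) * c * (c⁻¹ * (c * a * c⁻¹) * c) := by rw [c3, c1]
      _ = e * a := by group
      _ = a * e := h.ae.symm
  -- an element of order 4 of `A` not commuting with `p`
  obtain ⟨p', hp', pp', npp'⟩ := pr_exists h.prA hp pp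
  have e1 : p' * p = z * (p * p') := ((pr_quat h.prA hp hp' pp pp').2 npp').1
  have pz' : p' * z = z * p' := h.Az hp'
  have e2 : p * p' = z * (p' * p) := by rw [e1, ← mul_assoc z z, zz, one_mul]
  -- `u² = a e` acts on `A` as `p`
  have hact : ∀ x ∈ A, u * (u * x * u⁻¹) * u⁻¹ = p * x * p⁻¹ := by
    intro x hx
    have h1 : e * x = x * e := (h.Ae hx).symm
    have h2 : q * x = x * q := (h.AB x hx q hq).symm
    calc u * (u * x * u⁻¹) * u⁻¹ = (u * u) * x * (u * u)⁻¹ := by group
      _ = a * (e * x) * e⁻¹ * a⁻¹ := by rw [uu]; group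
      _ = a * x * a⁻¹ := by rw [h1]; group
      _ = p * (q * x) * q⁻¹ * p⁻¹ := by rw [ha]; group
      _ = p * x * p⁻¹ := by rw [h2]; group
  have hact' : u * (u * p' * u⁻¹) * u⁻¹ = z * p' := by
    rw [hact p' hp', e2]; group
  have hconjz : ∀ g : G, g * z = z * g → ∀ x : G, x * x = z → (g * x * g⁻¹) * (g * x * g⁻¹) = z := by
    intro g hg x hx
    calc (g * x * g⁻¹) * (g * x * g⁻¹) = g * (x * x) * g⁻¹ := by group
      _ = z * g * g⁻¹ := by rw [hx, hg]
      _ = z := by group
  have hmem : ∀ (g : G) (K L : Subgroup G), cj g K = L → ∀ x ∈ K, g * x * g⁻¹ ∈ L := by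
    intro g K L hKL x hx
    rw [← hKL]; exact ⟨x, hx, rfl⟩
  rcases h.perm uN uz with hs | hs
  · refine ⟨hs, ?_⟩
    have hP : u * p * u⁻¹ ∈ A := hmem u A A hs.1 p hp
    have hQ : u * q * u⁻¹ ∈ B := hmem u B B hs.2 q hq
    have hPP := hconjz u uz p pp
    have hPQ : (u * p * u⁻¹) * (u * q * u⁻¹) = a := by
      calc (u * p * u⁻¹) * (u * q * u⁻¹) = u * (p * q) * u⁻¹ := by group
        _ = u * a * u⁻¹ := by rw [← ha]
        _ = a := by rw [ua]; group
    set P := u * p * u⁻¹ with hPdef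
    set Q := u * q * u⁻¹ with hQdef
    have hpQ : p * Q = Q * p := h.AB p hp Q hQ
    have hcp : p * P = P * p := by
      have h1 : p * P * Q = P * p * Q := by
        calc p * P * Q = p * (P * Q) := by group
          _ = (P * Q) * p := by rw [hPQ, pa]
          _ = P * (Q * p) := by group
          _ = P * p * Q := by rw [← hpQ]; group
      exact mul_right_cancel h1
    have hPp : P = p := by
      rcases (pr_quat h.prA hp hP pp hPP).1 hcp with h1 | h1
      · exact h1
      exfalso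
      have hP' : u * p' * u⁻¹ ∈ A := hmem u A A hs.1 p' hp'
      have hPP' := hconjz u uz p' pp'
      have huz : u * z * u⁻¹ = z := by rw [uz]; group
      have hnc : p * (u * p' * u⁻¹) ≠ (u * p' * u⁻¹) * p := by
        intro h2
        apply npp'
        have h3 : p = z * (u * p * u⁻¹) := by rw [← hPdef, h1, ← mul_assoc, zz, one_mul]
        have h4 : u * (p * p') * u⁻¹ = u * (p' * p) * u⁻¹ := by
          have h5 : z * (u * p * u⁻¹) * (u * p' * u⁻¹) = (u * p' * u⁻¹) * (z * (u * p * u⁻¹)) := by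
            rw [← h3]; exact h2
          have h6 : (u * p' * u⁻¹) * z = z * (u * p' * u⁻¹) := by
            calc (u * p' * u⁻¹) * z = (u * p' * u⁻¹) * (u * z * u⁻¹) := by rw [huz]
              _ = u * (p' * z) * u⁻¹ := by group
              _ = (u * z * u⁻¹) * (u * p' * u⁻¹) := by rw [pz']; group
              _ = z * (u * p' * u⁻¹) := by rw [huz]
          have h7 : z * (u * (p * p') * u⁻¹) = z * (u * (p' * p) * u⁻¹) := by
            calc z * (u * (p * p') * u⁻¹) = z * (u * p * u⁻¹) * (u * p' * u⁻¹) := by group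
              _ = (u * p' * u⁻¹) * z * (u * p * u⁻¹) := by rw [h5]; group
              _ = z * (u * p' * u⁻¹) * (u * p * u⁻¹) := by rw [h6]
              _ = z * (u * (p' * p) * u⁻¹) := by group
          exact mul_left_cancel h7
        exact mul_left_cancel (mul_right_cancel h4)
      have hzp' : z * p' ≠ p' := by
        intro h2
        apply h.z_ne
        have h3 : z * p' = 1 * p' := by rw [h2, one_mul]
        exact mul_right_cancel h3
      rcases ((pr_quat h.prA hp hp' pp pp').2 npp').2 _ hP' hPP' hnc with h2 | h2 | h2 | h2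
      · apply hzp'
        rw [← hact', h2, h2]
      · apply hzp'
        have h3 : u * (z * p') * u⁻¹ = z * (z * p') := by
          calc u * (z * p') * u⁻¹ = (u * z * u⁻¹) * (u * p' * u⁻¹) := by group
            _ = z * (z * p') := by rw [huz, h2]
        rw [← hact', h2, h3, ← mul_assoc, zz, one_mul]
      · apply hzp'
        have h3 : u * (p * p') * u⁻¹ = z * p * (p * p') := by
          calc u * (p * p') * u⁻¹ = (u * p * u⁻¹) * (u * p' * u⁻¹) := by group
            _ = z * p * (p * p') := by rw [← hPdef, h1, h2]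
        rw [← hact', h2, h3]
        calc z * p * (p * p') = z * (p * p) * p' := by group
          _ = p' := by rw [pp, zz, one_mul]
      · apply hzp'
        have h3 : u * (z * (p * p')) * u⁻¹ = z * (z * p * (z * (p * p'))) := by
          calc u * (z * (p * p')) * u⁻¹ = (u * z * u⁻¹) * ((u * p * u⁻¹) * (u * p' * u⁻¹)) := by group
            _ = z * (z * p * (z * (p * p'))) := by rw [huz, ← hPdef, h1, h2]
        rw [← hact', h2, h3]
        calc z * (z * p * (z * (p * p'))) = (z * z) * ((p * z) * (p * p')) := by group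
          _ = z * (p * p) * p' := by rw [zz, pz]; group
          _ = p' := by rw [pp, zz, one_mul]
    have hQq : Q = q := by
      rw [hPp, ha] at hPQ
      exact mul_left_cancel hPQ
    constructor
    · have h1 : u * p * u⁻¹ = p := by rw [← hPdef]; exact hPp
      rw [mul_inv_eq_iff_eq_mul] at h1
      exact h1.symm
    · have h1 : u * q * u⁻¹ = q := by rw [← hQdef]; exact hQq
      rw [mul_inv_eq_iff_eq_mul] at h1
      exact h1.symm
  · exfalso
    have hP : u * p * u⁻¹ ∈ B := hmem u A B hs.1 p hp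
    have hQ : u * q * u⁻¹ ∈ A := hmem u B A hs.2 q hq
    have hPP := hconjz u uz p pp
    have hPQ : (u * p * u⁻¹) * (u * q * u⁻¹) = a := by
      calc (u * p * u⁻¹) * (u * q * u⁻¹) = u * (p * q) * u⁻¹ := by group
        _ = u * a * u⁻¹ := by rw [← ha]
        _ = a := by rw [ua]; group
    set P := u * p * u⁻¹ with hPdef
    set Q := u * q * u⁻¹ with hQdef
    have hqQ : q * Q = Q * q := (h.AB Q hQ q hq).symm
    have hcq : q * P = P * q := by
      have h1 : q * P * Q = P * q * Q := by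
        calc q * P * Q = q * (P * Q) := by group
          _ = (P * Q) * q := by rw [hPQ, qa]
          _ = P * (Q * q) := by group
          _ = P * q * Q := by rw [← hqQ]; group
      exact mul_right_cancel h1
    have hPq : P = q ∨ P = z * q := (pr_quat h.prB hq hP qq hPP).1 hcq
    -- `q' = u p' u⁻¹`
    have hq' : u * p' * u⁻¹ ∈ B := hmem u A B hs.1 p' hp'
    have hqq' := hconjz u uz p' pp'
    set q' := u * p' * u⁻¹ with hq'def
    have hncq : q * q' ≠ q' * q := by
      intro h1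
      apply npp'
      have hqz' : q' * z = z * q' := h.Bz hq'
      have h2 : P * q' = q' * P := by
        rcases hPq with h3 | h3
        · rw [h3, h1]
        · rw [h3]
          calc z * q * q' = z * (q * q') := by group
            _ = (z * q') * q := by rw [h1]; group
            _ = q' * (z * q) := by rw [← hqz']; group
      have h4 : u * (p * p') * u⁻¹ = u * (p' * p) * u⁻¹ := by
        calc u * (p * p') * u⁻¹ = (u * p * u⁻¹) * (u * p' * u⁻¹) := by group
          _ = (u * p' * u⁻¹) * (u * p * u⁻¹) := h2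
          _ = u * (p' * p) * u⁻¹ := by group
      exact mul_left_cancel (mul_right_cancel h4)
    have f1 : q' * q = z * (q * q') := ((pr_quat h.prB hq hq' qq hqq').2 hncq).1
    have hpq' : p' * q' = q' * p' := h.AB p' hp' q' hq'
    have hq'z : q' * z = z * q' := h.Bz hq'
    -- `s = p' q'` commutes with `a`, `z`, `e`; `s u = z u s`
    set s := p' * q' with hs0
    have sa : s * a = a * s := by
      have g1 : q' * p = p * q' := (h.AB p hp q' hq').symm
      have g2 : p' * q = q * p' := h.AB p' hp' q hq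
      calc s * a = p' * (q' * p) * q := by rw [hs0, ha]; group
        _ = (p' * p) * (q' * q) := by rw [g1]; group
        _ = (z * (p * p')) * (z * (q * q')) := by rw [e1, f1]
        _ = z * (p * (p' * z) * q * q') := by group
        _ = z * ((p * z) * (p' * q) * q') := by rw [pz']; group
        _ = (z * z) * p * (q * p') * q' := by rw [pz, g2]; group
        _ = a * s := by rw [zz, hs0, ha]; group
    have sz : s * z = z * s := by
      rw [hs0, mul_assoc, hq'z, ← mul_assoc, pz', mul_assoc]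
    have sN : s ∈ N := mul_mem (h.AN hp') (h.BN hq')
    have se : s * e = e * s := h.comm_e sN sz
    have su : u * s = z * s * u := by
      have h1 : u * s * u⁻¹ = z * s := by
        calc u * s * u⁻¹ = (u * p' * u⁻¹) * (u * (u * p' * u⁻¹) * u⁻¹) := by rw [hs0, hq'def]; group
          _ = q' * (z * p') := by rw [hact', ← hq'def]
          _ = (q' * z) * p' := by group
          _ = z * (q' * p') := by rw [hq'z]; group
          _ = z * s := by rw [← hpq']
      rw [mul_inv_eq_iff_eq_mul] at h1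
      exact h1
    -- `g = c s c⁻¹`
    set g := c * s * c⁻¹ with hg
    have gN : g ∈ N := mul_mem (mul_mem hc sN) (inv_mem hc)
    have gcj : ∀ x y : G, c * x = y * c → s * x = x * s → g * y = y * g := by
      intro x y hxy hsx
      have h1 : y = c * x * c⁻¹ := by rw [hxy]; group
      rw [h1, hg]
      calc c * s * c⁻¹ * (c * x * c⁻¹) = c * (s * x) * c⁻¹ := by group
        _ = c * x * c⁻¹ * (c * s * c⁻¹) := by rw [hsx]; group
    have ga : g * a = a * g := gcj e a ce se
    have gb : g * b = b * g := gcj a b ca sa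
    have gz : g * z = z * g := by rw [hz, ← mul_assoc, ga, mul_assoc, gb, ← mul_assoc]
    have gp : g * p * g⁻¹ = b * e * p := by
      have h1 : s * u * s⁻¹ = z * u := by
        have h2 : s * u = z * u * s := by
          calc s * u = (z * z) * s * u := by rw [zz, one_mul]
            _ = z * (z * s * u) := by group
            _ = z * u * s := by rw [← su]; group
        rw [h2]; group
      calc g * p * g⁻¹ = c * (s * (c⁻¹ * p * c) * s⁻¹) * c⁻¹ := by rw [hg]; group
        _ = c * (z * (c⁻¹ * p * c)) * c⁻¹ := by rw [← hu, h1]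
        _ = (c * a) * b * c⁻¹ * p := by rw [hz]; group
        _ = b * (c * b) * c⁻¹ * p := by rw [ca]; group
        _ = b * e * p := by rw [cb]; group
    have gq : (g * p * g⁻¹) * (g * q * g⁻¹) = a := by
      calc (g * p * g⁻¹) * (g * q * g⁻¹) = g * (p * q) * g⁻¹ := by group
        _ = g * a * g⁻¹ := by rw [← ha]
        _ = a := by rw [ga]; group
    have gpp := hconjz g gz p pp
    rcases h.perm gN gz with ht | ht
    · have hR : g * p * g⁻¹ ∈ A := hmem g A A ht.1 p hp
      have hS : g * q * g⁻¹ ∈ B := hmem g B B ht.2 q hq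
      have hpS : p * (g * q * g⁻¹) = (g * q * g⁻¹) * p := h.AB p hp _ hS
      have hcR : p * (g * p * g⁻¹) = (g * p * g⁻¹) * p := by
        have h1 : p * (g * p * g⁻¹) * (g * q * g⁻¹) = (g * p * g⁻¹) * p * (g * q * g⁻¹) := by
          calc p * (g * p * g⁻¹) * (g * q * g⁻¹) = p * ((g * p * g⁻¹) * (g * q * g⁻¹)) := by group
            _ = ((g * p * g⁻¹) * (g * q * g⁻¹)) * p := by rw [gq, pa]
            _ = (g * p * g⁻¹) * ((g * q * g⁻¹) * p) := by group
            _ = (g * p * g⁻¹) * p * (g * q * g⁻¹) := by rw [← hpS]; group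
        exact mul_right_cancel h1
      rcases (pr_quat h.prA hp hR pp gpp).1 hcR with h1 | h1
      · rw [gp] at h1
        have h2 : b * e = 1 := by
          have h3 : b * e * p = 1 * p := by rw [h1, one_mul]
          exact mul_right_cancel h3
        apply h.b_ne_e
        have h3 : b * e = e * e := by rw [h2, h.ee]
        exact mul_right_cancel h3
      · rw [gp] at h1
        have h2 : b * e = b * a := by rw [← h.ab, ← hz]; exact mul_right_cancel h1
        exact h.e_ne_a (mul_left_cancel h2)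
    · have hR : g * p * g⁻¹ ∈ B := hmem g A B ht.1 p hp
      have hS : g * q * g⁻¹ ∈ A := hmem g B A ht.2 q hq
      have hqS : q * (g * q * g⁻¹) = (g * q * g⁻¹) * q := (h.AB _ hS q hq).symm
      have hcR : q * (g * p * g⁻¹) = (g * p * g⁻¹) * q := by
        have h1 : q * (g * p * g⁻¹) * (g * q * g⁻¹) = (g * p * g⁻¹) * q * (g * q * g⁻¹) := by
          calc q * (g * p * g⁻¹) * (g * q * g⁻¹) = q * ((g * p * g⁻¹) * (g * q * g⁻¹)) := by group
            _ = ((g * p * g⁻¹) * (g * q * g⁻¹)) * q := by rw [gq, qa]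
            _ = (g * p * g⁻¹) * ((g * q * g⁻¹) * q) := by group
            _ = (g * p * g⁻¹) * q * (g * q * g⁻¹) := by rw [← hqS]; group
        exact mul_right_cancel h1
      have hppz : p * p * z = 1 := by rw [pp, zz]
      have hqpb : q = b * p := by
        have h1 : b * p = q := by
          calc b * p = a * z * p := by rw [baz]
            _ = (q * p) * (z * p) := by rw [ha, hpq]; group
            _ = q * (p * p * z) := by rw [← pz]; group
            _ = q := by rw [hppz, mul_one]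
        exact h1.symm
      rcases (pr_quat h.prB hq hR qq gpp).1 hcR with h1 | h1
      · rw [gp, hqpb] at h1
        have h2 : b * e = b * 1 := by rw [mul_one]; exact mul_right_cancel h1
        exact h.e_ne_one (mul_left_cancel h2)
      · rw [gp, hqpb, ← mul_assoc] at h1
        have h2 : b * e = z * b := mul_right_cancel h1
        have h3 : z * b = a := by rw [hz, mul_assoc, h.bb, mul_one]
        apply h.y_ne
        rw [← hz, hz, mul_assoc, h2, h3, h.aa]

/-- the frame of the rotations -/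
theorem tor (h : Sheet N a b e A B) : ∃ p ∈ A, ∃ q ∈ B, ∃ c ∈ N, p * p = a * b ∧ q * q = a * b ∧ a = p * q ∧
    c * a * c⁻¹ = b ∧ c * b * c⁻¹ = e ∧ c * e * c⁻¹ = a ∧ p * (c⁻¹ * p * c) = c⁻¹ * p * c * p := by
  obtain ⟨p, hp, q, hq, pp, qq, ha⟩ := h.a_eq
  obtain ⟨c, hc, c1, c2, c3⟩ := h.rot
  exact ⟨p, hp, q, hq, c, hc, pp, qq, ha, c1, c2, c3, (h.tor_of hp hq pp qq ha hc c1 c2 c3).2.1⟩

end Sheet

end Cfsg.Agent.OddHalf.NI3.Bad
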