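import Cfsg.Agent.OddHalf.NI3.Bad.ATor
import Cfsg.Agent.OddHalf.NI3.Bad.Dbl
import Cfsg.Agent.OddHalf.NI3.Bad.Tor

/-!
# THEOREM NIB, (3d)(a2) (bb ODD #16572, helper967)

`Dbl N D a b e e' A B A' B'` with `e e' = a b`; `D` has the frame `b, e, e'` with the factors `c A c⁻¹`, `c B c⁻¹` (`c ∈ N`
the rotation `a → b → e → a`).
* `conj_D` : an involution `r = x₁ x₂` of `O₂(A) O₂(B)` commuting with `a` acts on `D` as a reflection: it maps
  `p₅ = c_D⁻¹ p c_D` to `q₅⁻¹`;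
* `a_two` : `r` centralises `A'` and `B'`.
-/

set_option autoImplicit false
set_option linter.style.haveILetI false
set_option linter.unusedSectionVars false
set_option linter.unusedSimpArgs false

namespace Cfsg.Agent.OddHalf.NI3.Bad.ATwo

open Subgroup Cfsg Cfsg.Agent.Cit Cfsg.Agent.Cit.SolvTwo
open Cfsg.Agent.Cit.SLThree (Qt Sl)
open Cfsg.Agent.OddHalf.D3 (Comp)

section

variable {G : Type*} [Group G]

/-- the torus for arbitrary `p`, `q`, `c` -/
theorem tor_mk [Finite G] {N : Subgroup G} {a b e : G} {A B : Subgroup G} {p q c : G} (h : Sheet N a b e A B)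
    (hp : p ∈ A) (hq : q ∈ B) (pp : p * p = a * b) (qq : q * q = a * b) (ha : a = p * q) (hc : c ∈ N)
    (c1 : c * a * c⁻¹ = b) (c2 : c * b * c⁻¹ = e) (c3 : c * e * c⁻¹ = a) : Tor N a b e A B p q c :=
  ⟨hp, hq, hc, pp, qq, ha, c1, c2, c3, (h.tor_of hp hq pp qq ha hc c1 c2 c3).2.1⟩

theorem tor_exists [Finite G] {N : Subgroup G} {a b e : G} {A B : Subgroup G} (h : Sheet N a b e A B) :
    ∃ p q c, Tor N a b e A B p q c := by
  obtain ⟨p, hp, q, hq, c, hc, h1, h2, h3, h4, h5, h6, h7⟩ := h.tor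
  exact ⟨p, q, c, hp, hq, hc, h1, h2, h3, h4, h5, h6, h7⟩

/-! ### `O₂(C(x))` -/

theorem PP_two [Finite G] (x : G) : IsPGroup 2 (PP x) :=
  (Lib.Cores.pCore_isPGroup (G := ↥(centralizer ({x} : Set G))) 2).map _

theorem PP_norm {x g : G} (hg : g * x = x * g) : ∀ y ∈ PP x, g * y * g⁻¹ ∈ PP x := by
  rintro _ ⟨y, hy, rfl⟩
  have hn : (pCore 2 ↥(centralizer ({x} : Set G))).Normal := Lib.Cores.pCore_normal 2
  exact ⟨⟨g, mem_centralizer_singleton_iff.2 hg⟩ * y * ⟨g, mem_centralizer_singleton_iff.2 hg⟩⁻¹,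
    hn.conj_mem y hy _, rfl⟩

theorem PP_conj [Finite G] {x y : G} (n : G) (hy : y ∈ PP x) : n * y * n⁻¹ ∈ PP (n * x * n⁻¹) := by
  set K : Subgroup G := cj n (PP x) with hK
  have hKC : K ≤ centralizer ({n * x * n⁻¹} : Set G) := by
    rintro _ ⟨w, hw, rfl⟩
    rw [mem_centralizer_singleton_iff]
    have h1 := PP_comm hw
    show n * w * n⁻¹ * (n * x * n⁻¹) = n * x * n⁻¹ * (n * w * n⁻¹)
    calc n * w * n⁻¹ * (n * x * n⁻¹) = n * (w * x) * n⁻¹ := by group
      _ = n * (x * w) * n⁻¹ := by rw [h1]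
      _ = n * x * n⁻¹ * (n * w * n⁻¹) := by group
  have hy' : n * y * n⁻¹ ∈ K := conj_mem_cj hy
  rw [mem_PP (hKC hy')]
  have hle : K.subgroupOf (centralizer ({n * x * n⁻¹} : Set G)) ≤
      pCore 2 ↥(centralizer ({n * x * n⁻¹} : Set G)) := by
    refine Lib.Cores.le_pCore ?_ ?_
    · refine ⟨fun w hw g => ?_⟩
      rw [mem_subgroupOf] at hw ⊢
      have hg := mem_centralizer_singleton_iff.1 g.2
      rw [hK, mem_cj] at hw ⊢
      have h2 : (n⁻¹ * (g : G) * n) * x = x * (n⁻¹ * (g : G) * n) := by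
        calc (n⁻¹ * (g : G) * n) * x = n⁻¹ * ((g : G) * (n * x * n⁻¹)) * n := by group
          _ = n⁻¹ * ((n * x * n⁻¹) * g) * n := by rw [hg]
          _ = x * (n⁻¹ * (g : G) * n) := by group
      have h3 := PP_norm h2 _ hw
      have e1 : n⁻¹ * (g : G) * n * (n⁻¹ * (w : G) * n) * (n⁻¹ * (g : G) * n)⁻¹ =
          n⁻¹ * ((g * w * g⁻¹ : ↥(centralizer ({n * x * n⁻¹} : Set G))) : G) * n := by
        simp only [Subgroup.coe_mul, Subgroup.coe_inv]; group
      rwa [e1] at h3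
    · exact ((PP_two x).map _).comap_of_injective _ (subtype_injective _)
  exact hle (mem_subgroupOf.2 hy')

/-! ### Decomposition -/

/-- `r ∈ O₂(C(z)) ∩ C(w)` acts on `J` as an element of `O₂(J)` -/
theorem dec_one [Finite G] {J : Subgroup G} {z w : G} (hp : IsPr J z)
    (hs : Sn J (centralizer ({z} : Set G) ⊓ centralizer ({w} : Set G))) (hQ : ∀ x ∈ J, x * x = z → x ∈ PP z) {r : G}
    (hr : r ∈ PP z) (hrw : r * w = w * r) :
    ∃ q ∈ J, (q * q = 1 ∨ q * q = z) ∧ q ∈ PP z ∧ ∀ y ∈ J, q⁻¹ * r * y = y * (q⁻¹ * r) := by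
  obtain ⟨i, j, v, hl⟩ := hp.sl
  have hJw : J ≤ centralizer ({w} : Set G) := hs.1.trans inf_le_right
  have hJz : J ≤ centralizer ({z} : Set G) := hs.1.trans inf_le_left
  set S : Subgroup G := PP z ⊓ centralizer ({w} : Set G) with hS
  have hS2 : IsPGroup 2 S := (PP_two z).to_le inf_le_left
  have hQS : closure ({i, j} : Set G) ≤ S := by
    rw [closure_le]
    rintro x (rfl | rfl)
    · exact mem_inf.2 ⟨hQ x hl.hi hl.q.i2, hJw hl.hi⟩
    · exact mem_inf.2 ⟨hQ x hl.hj hl.q.j2, hJw hl.hj⟩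
  have hn : J ≤ normalizer (S : Set G) := by
    have key : ∀ g ∈ J, ∀ y ∈ S, g * y * g⁻¹ ∈ S := by
      intro g hg y hy
      obtain ⟨hy1, hy2⟩ := mem_inf.1 hy
      exact mem_inf.2 ⟨PP_norm (mem_centralizer_singleton_iff.1 (hJz hg)) y hy1,
        mul_mem (mul_mem (hJw hg) hy2) (inv_mem (hJw hg))⟩
    intro g hg
    rw [mem_normalizer_iff]
    intro y
    refine ⟨key g hg y, fun hy => ?_⟩
    have := key g⁻¹ (inv_mem hg) _ hy
    have e1 : g⁻¹ * (g * y * g⁻¹) * g⁻¹⁻¹ = y := by group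
    rwa [e1] at this
  have hB : Br S i j v := br_of_sn hl hs (inf_le_inf_right _ (PP_le z)) hS2 hn hQS
  obtain ⟨q, hq, c, -, hrc, hvc, hcq⟩ := decomp hl hS2 hQS hB
    (mem_inf.2 ⟨hr, mem_centralizer_singleton_iff.2 hrw⟩)
  refine ⟨q, hl.Qle hq, hl.q.sq hq, (mem_inf.1 (hQS hq)).1, ?_⟩
  have e1 : q⁻¹ * r = c := by rw [hrc]; group
  rw [e1]
  have h1 : J ≤ centralizer ({c} : Set G) := by
    rw [hl.gen, closure_le]
    rintro x (rfl | rfl)
    · exact mem_centralizer_singleton_iff.2 (hcq _ (Qt.mem_i z _ _)).symm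
    · exact mem_centralizer_singleton_iff.2 hvc
  intro y hy
  exact (mem_centralizer_singleton_iff.1 (h1 hy)).symm

/-- elements of `Q₈` commuting with `p` -/
theorem comm_four {J : Subgroup G} {z p : G} (hp : IsPr J z) (hpJ : p ∈ J) (hpz : p * p = z) {x : G} (hx : x ∈ J)
    (hx2 : x * x = 1 ∨ x * x = z) (hc : x * p = p * x) : (x = 1 ∨ x = z) ∨ (x = p ∨ x = z * p) := by
  rcases hx2 with hx2 | hx2
  · exact Or.inl (hp.inv_eq hx hx2)
  · obtain ⟨j, d, hl⟩ := exists_sl hp hpJ hpz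
    have h1 := hl.q
    rcases h1.mem_cases (mem_Q_of_sq hl hp.t3 hx hx2) with h2 | h2 | h2 | h2 | h2 | h2 | h2 | h2
    · exact Or.inl (Or.inl h2)
    · exact Or.inl (Or.inr h2)
    · exact Or.inr (Or.inl h2)
    · exact Or.inr (Or.inr h2)
    · rw [h2] at hc; exact absurd hc.symm h1.not_comm
    · exfalso
      rw [h2, h1.izx, mul_assoc] at hc
      exact h1.not_comm (mul_left_cancel hc).symm
    · exfalso
      rw [h2, mul_assoc] at hc
      exact h1.not_comm (mul_left_cancel hc).symm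
    · exfalso
      rw [h2, h1.izx, mul_assoc] at hc
      have h3 := mul_left_cancel hc
      rw [mul_assoc] at h3
      exact h1.not_comm (mul_left_cancel h3).symm

end

section

variable {G : Type*} [Group G] [Finite G] {N D : Subgroup G} {a b e e' : G} {A B A' B' : Subgroup G}

/-- `r = x₁ x₂` acts on `D` as a reflection -/
theorem conj_D (h : Cfg N a b e A B) {c : G} (hc : c ∈ N) (c1 : c * a * c⁻¹ = b) (c2 : c * b * c⁻¹ = e)
    (c3 : c * e * c⁻¹ = a) {p q : G} (hp : p ∈ A) (hq : q ∈ B) (pp : p * p = a * b) (qq : q * q = a * b)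
    (ha : a = p * q) {pD qD : G} (hpD : pD ∈ cj c A) (hqD : qD ∈ cj c B) (ppD : pD * pD = b * e)
    (qqD : qD * qD = b * e) (hbD : b = pD * qD) {x₁ x₂ : G} (hx₁ : x₁ ∈ A) (hx₂ : x₂ ∈ B) (h₁ : x₁ * x₁ = a * b)
    (h₂ : x₂ * x₂ = a * b) (n₁ : p * x₁ ≠ x₁ * p) (n₂ : q * x₂ ≠ x₂ * q) :
    x₁ * x₂ * pD * (x₁ * x₂)⁻¹ = qD⁻¹ := by
  have t := tor_mk h.toSheet hp hq pp qq ha hc c1 c2 c3
  have k := t.conj_seven h.toSheet hx₁ hx₂ h₁ h₂ n₁ n₂
  have h7 := t.sheet7 h.toSheet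
  have t7 := t.conj
  set P := c * p * c⁻¹ with hP
  set Q := c * q * c⁻¹ with hQ
  have e1 : pD⁻¹ * P = qD * Q⁻¹ := by
    have h3 : P * Q = pD * qD := by rw [← t7.pq, hbD]
    calc pD⁻¹ * P = pD⁻¹ * (P * Q) * Q⁻¹ := by group
      _ = qD * Q⁻¹ := by rw [h3]; group
  have m1 : pD⁻¹ * P ∈ cj c A := mul_mem (inv_mem hpD) t7.pA
  have m2 : pD⁻¹ * P ∈ cj c B := by rw [e1]; exact mul_mem hqD (inv_mem t7.qB)
  have h8 := h7.prA.t3.cen _ m1 fun y hy _ => (h7.AB y hy _ m2).symm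
  rcases h8 with h8 | h8
  · have e2 : P = pD := (inv_mul_eq_one.1 h8).symm
    have e3 : qD * Q⁻¹ = 1 := by rw [← e1, h8]
    have e4 : qD = Q := mul_inv_eq_one.1 e3
    rw [← e2, e4]; exact k
  · have e2 : P = pD * (b * e) := by rw [← h8]; group
    have e3 : qD * Q⁻¹ = b * e := by rw [← e1, h8]
    have e4 : P = pD⁻¹ := by
      rw [eq_inv_iff_mul_eq_one, e2]
      calc pD * (b * e) * pD = pD * (pD * pD) * pD := by rw [ppD]
        _ = (pD * pD) * (pD * pD) := by group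
        _ = 1 := by rw [ppD, h7.zz]
    have e5 : Q = qD⁻¹ := by
      have h9 : Q = (b * e)⁻¹ * qD := by rw [← e3]; group
      rw [eq_inv_iff_mul_eq_one, h9, mul_assoc, qqD, inv_mul_cancel]
    rw [e4, e5, inv_inv] at k
    calc x₁ * x₂ * pD * (x₁ * x₂)⁻¹ = (x₁ * x₂ * pD⁻¹ * (x₁ * x₂)⁻¹)⁻¹ := by group
      _ = qD⁻¹ := by rw [k]

/-- **(a2)** for the factors which belong to the torus of `D` -/
theorem a_two_aux (h : Dbl N D a b e e' A B A' B') (hz : e * e' = a * b) {c : G} (hc : c ∈ N) (c1 : c * a * c⁻¹ = b)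
    (c2 : c * b * c⁻¹ = e) (c3 : c * e * c⁻¹ = a) (hS : Sheet D b e e' (cj c A) (cj c B)) {pD qD cD : G}
    (tD : Tor D b e e' (cj c A) (cj c B) pD qD cD) (hA' : A' = cj cD (cj c A)) (hB' : B' = cj cD (cj c B)) {p q : G}
    (hp : p ∈ A) (hq : q ∈ B) (pp : p * p = a * b) (qq : q * q = a * b) (ha : a = p * q) {x₁ x₂ : G}
    (hx₁ : x₁ ∈ A) (hx₂ : x₂ ∈ B) (h₁ : x₁ * x₁ = a * b) (h₂ : x₂ * x₂ = a * b) (n₁ : p * x₁ ≠ x₁ * p)
    (n₂ : q * x₂ ≠ x₂ * q) : (∀ y ∈ A', x₁ * x₂ * y = y * (x₁ * x₂)) ∧ (∀ y ∈ B', x₁ * x₂ * y = y * (x₁ * x₂)) := by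
  subst hA' hB'
  have t := tor_mk h.cfg.toSheet hp hq pp qq ha hc c1 c2 c3
  have kD := conj_D h.cfg hc c1 c2 c3 hp hq pp qq ha tD.pA tD.qB tD.pp tD.qq tD.pq hx₁ hx₂ h₁ h₂ n₁ n₂
  have rr := s_sq h.cfg.toSheet hx₁ hx₂ h₁ h₂
  obtain ⟨ha1, hb1, he1, hab, hbe, hae⟩ := ne_one h.cfg.toSheet
  have re : x₁ * x₂ * e = e * (x₁ * x₂) := by
    rw [mul_assoc, B_comm_e h.cfg.toSheet hx₂, ← mul_assoc, A_comm_e h.cfg.toSheet hx₁]; group
  have ra : x₁ * x₂ * a = a * (x₁ * x₂) := by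
    nth_rw 1 [t.pq]; nth_rw 1 [t.pq]
    exact s_comm h.cfg.toSheet hp hq pp qq hx₁ hx₂ h₁ h₂ n₁ n₂
  have rz : x₁ * x₂ * (a * b) = a * b * (x₁ * x₂) := by
    rw [mul_assoc, B_comm_z h.cfg.toSheet hx₂, ← mul_assoc, A_comm_z h.cfg.toSheet hx₁]; group
  have rb : x₁ * x₂ * b = b * (x₁ * x₂) := by
    rw [b_eq h.cfg.toSheet, ← mul_assoc, ra, mul_assoc, rz]; group
  have rP : x₁ * x₂ ∈ PP (a * b) := mul_mem (h.rA _ hx₁ h₁) (h.rB _ hx₂ h₂)
  have e'_eq : e' = e * (a * b) := by rw [← hz, ← mul_assoc, h.cfg.ee, one_mul]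
  have re' : x₁ * x₂ * e' = e' * (x₁ * x₂) := by
    rw [e'_eq, ← mul_assoc, re, mul_assoc, rz]; group
  -- the element `x ∈ A B` with `x a x⁻¹ = r`
  obtain ⟨g₁, hg₁, hg1⟩ := h.cfg.prA.t3.conj p hp x₁ hx₁ pp h₁
  obtain ⟨g₂, hg₂, hg2⟩ := h.cfg.prB.t3.conj q hq x₂ hx₂ qq h₂
  have rx : (g₁ * g₂) * a * (g₁ * g₂)⁻¹ = x₁ * x₂ := by
    have k1 : g₂ * p = p * g₂ := (h.cfg.AB p hp g₂ hg₂).symm
    have k2 : g₁ * (g₂ * q * g₂⁻¹) = (g₂ * q * g₂⁻¹) * g₁ :=
      h.cfg.AB g₁ hg₁ _ (mul_mem (mul_mem hg₂ hq) (inv_mem hg₂))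
    calc (g₁ * g₂) * a * (g₁ * g₂)⁻¹ = g₁ * (g₂ * p) * q * g₂⁻¹ * g₁⁻¹ := by rw [ha]; group
      _ = g₁ * p * ((g₂ * q * g₂⁻¹) * g₁) * g₁⁻¹ * g₁⁻¹ := by rw [k1]; group
      _ = g₁ * p * (g₁ * (g₂ * q * g₂⁻¹)) * g₁⁻¹ * g₁⁻¹ := by rw [← k2]
      _ = (g₁ * p * g₁⁻¹) * (g₁ * ((g₁ * (g₂ * q * g₂⁻¹)) * g₁⁻¹) * g₁⁻¹) := by group
      _ = x₁ * x₂ := by rw [k2, mul_inv_cancel_right, k2, mul_inv_cancel_right, hg1, hg2]
  set r := x₁ * x₂ with hr
  -- the frame of `D` at `z`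
  have t' := tD.conj
  have S' : Sheet D e e' b (cj cD (cj c A)) (cj cD (cj c B)) := tD.sheet7 hS
  have P5 : cD⁻¹ * (cD * pD * cD⁻¹) * cD = pD := by group
  have Q5 : cD⁻¹ * (cD * qD * cD⁻¹) * cD = qD := by group
  set p₃ := cD * pD * cD⁻¹ with hp₃
  set q₃ := cD * qD * cD⁻¹ with hq₃
  set A₃ := cj cD (cj c A) with hA₃
  set B₃ := cj cD (cj c B) with hB₃
  have prA : IsPr A₃ (a * b) := by rw [← hz]; exact S'.prA
  have prB : IsPr B₃ (a * b) := by rw [← hz]; exact S'.prB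
  have pp₃ : p₃ * p₃ = a * b := by rw [t'.pp, hz]
  have qq₃ : q₃ * q₃ = a * b := by rw [t'.qq, hz]
  have rA₃ := h.rA'
  have rB₃ := h.rB'
  rw [hz] at rA₃ rB₃
  -- decomposition `r = s₃ s₄ x'`
  obtain ⟨s₃, hs₃, hs₃2, hs₃P, hcA⟩ := dec_one prA h.snA' rA₃ rP ra
  have s₃a : s₃ * a = a * s₃ := h.comm_a (S'.AN hs₃)
  have ra' : s₃⁻¹ * r * a = a * (s₃⁻¹ * r) := by
    have e1 : s₃⁻¹ * a = a * s₃⁻¹ := (show Commute s₃ a from s₃a).inv_left.eq
    calc s₃⁻¹ * r * a = s₃⁻¹ * (r * a) := by group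
      _ = (s₃⁻¹ * a) * r := by rw [ra]; group
      _ = a * (s₃⁻¹ * r) := by rw [e1]; group
  obtain ⟨s₄, hs₄, hs₄2, hs₄P, hcB⟩ := dec_one prB h.snB' rB₃ (mul_mem (inv_mem hs₃P) rP) ra'
  set x' := s₄⁻¹ * (s₃⁻¹ * r) with hx'
  have xA : ∀ y ∈ A₃, x' * y = y * x' := by
    intro y hy
    have e1 : s₄⁻¹ * y = y * s₄⁻¹ := (S'.AB y hy _ (inv_mem hs₄)).symm
    calc x' * y = s₄⁻¹ * (s₃⁻¹ * r * y) := by rw [hx']; group
      _ = (s₄⁻¹ * y) * (s₃⁻¹ * r) := by rw [hcA y hy]; group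
      _ = y * x' := by rw [e1, hx']; group
  have xB : ∀ y ∈ B₃, x' * y = y * x' := hcB
  have rs : r = s₃ * s₄ * x' := by rw [hx']; group
  have rs' : r = x' * (s₃ * s₄) := by
    rw [rs]
    calc s₃ * s₄ * x' = s₃ * (s₄ * x') := by group
      _ = s₃ * (x' * s₄) := by rw [xB s₄ hs₄]
      _ = (s₃ * x') * s₄ := by group
      _ = x' * (s₃ * s₄) := by rw [← xA s₃ hs₃]; group
  have xa : x' * a = a * x' := by
    have e1 : s₄⁻¹ * a = a * s₄⁻¹ := (show Commute s₄ a from h.comm_a (S'.BN hs₄)).inv_left.eq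
    calc x' * a = s₄⁻¹ * (s₃⁻¹ * r * a) := by rw [hx']; group
      _ = (s₄⁻¹ * a) * (s₃⁻¹ * r) := by rw [ra']; group
      _ = a * x' := by rw [e1, hx']; group
  have xD : cj x' D = D := by
    by_contra hne
    have h1 := (h.comp.conj_of_comm xa).comm h.comp hne
    obtain ⟨x, hx, y, hy, -, -, hxy⟩ := S'.prA.t3.ex4
    have h2 : x ∈ cj x' D := by
      refine ⟨x, S'.AN hx, ?_⟩
      show x' * x * x'⁻¹ = x
      rw [xA x hx]; group
    exact hxy (mem_centralizer_iff.1 (h1 h2) y (S'.AN hy)).symm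
  obtain ⟨xe, xe', xb⟩ := t'.comm_abe S' xD xA xB
  -- `s = s₃ s₄` commutes with `e = p₃ q₃`
  have se : s₃ * s₄ * e = e * (s₃ * s₄) := by
    have e1 : s₃ * s₄ = r * x'⁻¹ := by rw [rs]; group
    have e2 : x'⁻¹ * e = e * x'⁻¹ := (show Commute x' e from xe).inv_left.eq
    rw [e1]
    calc r * x'⁻¹ * e = r * (x'⁻¹ * e) := by group
      _ = (r * e) * x'⁻¹ := by rw [e2]; group
      _ = e * (r * x'⁻¹) := by rw [re]; group
  have rel : (s₃ * p₃) * (s₄ * q₃) = (p₃ * s₃) * (q₃ * s₄) := by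
    have e1 : s₄ * p₃ = p₃ * s₄ := (S'.AB _ t'.pA s₄ hs₄).symm
    have e2 : q₃ * s₃ = s₃ * q₃ := (S'.AB s₃ hs₃ _ t'.qB).symm
    have e3 := t'.pq
    calc (s₃ * p₃) * (s₄ * q₃) = s₃ * (p₃ * s₄) * q₃ := by group
      _ = s₃ * s₄ * (p₃ * q₃) := by rw [← e1]; group
      _ = (p₃ * q₃) * (s₃ * s₄) := by rw [← e3, se]
      _ = p₃ * (q₃ * s₃) * s₄ := by group
      _ = (p₃ * s₃) * (q₃ * s₄) := by rw [e2]; group
  -- facts on `p_D`, `q_D`
  have pe := tD.p_b hS
  have pe' := tD.p_e hS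
  have pb := tD.p_a hS
  have pq1 : pD ≠ qD⁻¹ := by
    intro h1
    apply hb1
    rw [tD.pq, h1, inv_mul_cancel]
  have qq1 : qD ≠ qD⁻¹ := by
    intro h1
    have h2 : qD * qD = 1 := by nth_rw 2 [h1]; rw [mul_inv_cancel]
    rw [tD.qq] at h2
    exact hS.z_ne h2
  have pq2 : pD⁻¹ ≠ qD⁻¹ := by
    intro h1
    have h2 : pD = qD := inv_injective h1
    apply he1
    have h3 : b = b * e := by rw [← tD.pp]; nth_rw 1 [tD.pq]; rw [h2]
    exact (mul_left_cancel (a := b) (by rw [mul_one]; exact h3)).symm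
  have dich := t'.rot_or_refl S' xD xA xB
  rw [P5, Q5] at dich
  by_cases hcm : s₃ * p₃ = p₃ * s₃
  swap
  · -- both do not commute
    exfalso
    have hcm' : ¬ s₄ * q₃ = q₃ * s₄ := by
      intro h1
      rw [h1] at rel
      exact hcm (mul_right_cancel rel)
    have z3 : s₃ * s₃ = a * b := by
      rcases hs₃2 with h1 | h1
      · exfalso
        apply hcm
        rcases prA.inv_eq hs₃ h1 with h2 | h2
        · rw [h2, one_mul, mul_one]
        · rw [h2]; exact (prA.comm_z t'.pA).symm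
      · exact h1
    have z4 : s₄ * s₄ = a * b := by
      rcases hs₄2 with h1 | h1
      · exfalso
        apply hcm'
        rcases prB.inv_eq hs₄ h1 with h2 | h2
        · rw [h2, one_mul, mul_one]
        · rw [h2]; exact (prB.comm_z t'.qB).symm
      · exact h1
    have k5 := t'.conj_five S' hs₃ hs₄ (by rw [hz]; exact z3) (by rw [hz]; exact z4) (fun h1 => hcm h1.symm)
      (fun h1 => hcm' h1.symm)
    rw [P5, Q5] at k5
    have k6 : x' * qD * x'⁻¹ = qD⁻¹ := by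
      rw [← kD, ← k5, rs']; group
    rcases dich with h1 | h1
    · -- `x'` fixes `p_D` and `b`, so `q_D`
      have h2 : x' * qD * x'⁻¹ = qD := by
        have e1 : qD = pD⁻¹ * b := by rw [tD.pq]; group
        calc x' * qD * x'⁻¹ = (x' * pD * x'⁻¹)⁻¹ * (x' * b * x'⁻¹) := by rw [e1]; group
          _ = qD := by rw [h1, xb, mul_inv_cancel_right, ← e1]
      exact qq1 (h2.symm.trans k6)
    · have h2 := t'.refl_q5 S' xD xA xB (by rw [P5, Q5]; exact h1)
      rw [P5, Q5] at h2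
      exact pq2 (h2.symm.trans k6)
  · -- both commute
    have hcm' : s₄ * q₃ = q₃ * s₄ := by
      rw [hcm] at rel
      exact mul_left_cancel rel
    have p3p : p₃ * pD = pD * p₃ := by
      have := t'.pc
      rwa [P5] at this
    have q3p : q₃ * pD = pD * q₃ := by
      have e1 : q₃ = p₃⁻¹ * e := by
        have := t'.pq
        rw [this]; group
      have e2 : pD * p₃⁻¹ = p₃⁻¹ * pD := (show Commute pD p₃ from p3p.symm).inv_right.eq
      rw [e1]
      calc p₃⁻¹ * e * pD = p₃⁻¹ * (e * pD) := by group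
        _ = (p₃⁻¹ * pD) * e := by rw [← pe]; group
        _ = pD * (p₃⁻¹ * e) := by rw [← e2]; group
    have pz : pD * (a * b) = a * b * pD := by
      rw [← hz, ← mul_assoc, pe, mul_assoc, pe']; group
    have c3' := comm_four prA t'.pA pp₃ hs₃ hs₃2 hcm
    have c4' := comm_four prB t'.qB qq₃ hs₄ hs₄2 hcm'
    have s3p : s₃ * pD = pD * s₃ := by
      rcases c3' with (h1 | h1) | (h1 | h1) <;> rw [h1]
      · rw [one_mul, mul_one]
      · exact pz.symm
      · exact p3p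
      · rw [mul_assoc, p3p, ← mul_assoc, ← pz]; group
    have s4p : s₄ * pD = pD * s₄ := by
      rcases c4' with (h1 | h1) | (h1 | h1) <;> rw [h1]
      · rw [one_mul, mul_one]
      · exact pz.symm
      · exact q3p
      · rw [mul_assoc, q3p, ← mul_assoc, ← pz]; group
    have k6 : x' * pD * x'⁻¹ = qD⁻¹ := by
      rw [← kD, rs']
      have e1 : s₃ * s₄ * pD = pD * (s₃ * s₄) := by
        rw [mul_assoc, s4p, ← mul_assoc, s3p]; group
      calc x' * pD * x'⁻¹ = x' * (pD * (s₃ * s₄)) * (x' * (s₃ * s₄))⁻¹ := by group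
        _ = x' * (s₃ * s₄) * pD * (x' * (s₃ * s₄))⁻¹ := by rw [← e1]; group
    obtain ⟨q5a, -⟩ := t'.refl_sq S' xD xA xB (by rw [P5, Q5]; exact k6)
    have J5 : cj cD⁻¹ A₃ = cj c A := by rw [hA₃, ← cj_mul, inv_mul_cancel, cj_one]
    rw [J5] at q5a
    have s34 : s₃ * s₄ = s₄ * s₃ := S'.AB s₃ hs₃ s₄ hs₄
    have sz3 : s₃ * s₃ = 1 ∨ s₃ * s₃ = a * b := hs₃2
    -- `s² x'² = 1`
    have e6 : (s₃ * s₃) * (s₄ * s₄) * (x' * x') = 1 := by
      have e1 : r * r = (s₃ * s₄) * (s₃ * s₄) * (x' * x') := by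
        nth_rw 1 [rs']; rw [rs]
        have : x' * (s₃ * s₄) = s₃ * s₄ * x' := by rw [← rs', rs]
        rw [this]
        calc s₃ * s₄ * x' * (s₃ * s₄ * x') = s₃ * s₄ * (x' * (s₃ * s₄)) * x' := by group
          _ = (s₃ * s₄) * (s₃ * s₄) * (x' * x') := by rw [this]; group
      rw [rr] at e1
      rw [e1]
      calc (s₃ * s₃) * (s₄ * s₄) * (x' * x') = s₃ * (s₃ * s₄) * s₄ * (x' * x') := by group
        _ = s₃ * (s₄ * s₃) * s₄ * (x' * x') := by rw [s34]
        _ = (s₃ * s₄) * (s₃ * s₄) * (x' * x') := by group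
    -- `z` does not centralise `J₅`
    have hzJ : ¬ ∀ y ∈ cj c A, a * b * y = y * (a * b) := by
      intro hall
      have h1 : pD = 1 ∨ pD = b * e := by
        refine hS.prA.t3.cen pD tD.pA fun y hy _ => ?_
        -- `z` acts on `J₅` as `b`, as `p_D`
        have h2 := hall y hy
        have h3 : a * y = y * a := (h.comm_a (hS.AN hy)).symm
        have h4 : b * y = y * b := by
          have e1 : b = a * (a * b) := b_eq h.cfg.toSheet
          rw [e1]
          calc a * (a * b) * y = a * (a * b * y) := by group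
            _ = (a * y) * (a * b) := by rw [h2]; group
            _ = y * (a * (a * b)) := by rw [h3]; group
        have h5 : qD * y = y * qD := (hS.AB y hy qD tD.qB).symm
        have h6 : pD * y * qD = y * pD * qD := by
          calc pD * y * qD = pD * (qD * y) := by rw [h5]; group
            _ = b * y := by rw [tD.pq]; group
            _ = y * pD * qD := by rw [h4, tD.pq]; group
        exact mul_right_cancel h6
      have h7 := tD.pp
      rcases h1 with h1 | h1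
      · rw [h1, one_mul] at h7; exact hS.z_ne h7.symm
      · rw [h1, hS.zz] at h7; exact hS.z_ne h7.symm
    have hz3 := prA.t3.z_sq
    have hsq : (s₃ * s₃ = 1 ∧ s₄ * s₄ = 1) ∨ (s₃ * s₃ = a * b ∧ s₄ * s₄ = a * b) := by
      have bad : (s₃ * s₃) * (s₄ * s₄) = a * b → False := by
        intro h1
        rw [h1] at e6
        apply hzJ
        intro y hy
        have h2 : x' * x' = a * b := by
          calc x' * x' = (a * b) * ((a * b) * (x' * x')) := by rw [← mul_assoc (a * b), hz3, one_mul]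
            _ = a * b := by rw [e6, mul_one]
        rw [← h2]
        exact q5a y hy
      rcases hs₃2 with h1 | h1 <;> rcases hs₄2 with h2 | h2
      · exact Or.inl ⟨h1, h2⟩
      · exact (bad (by rw [h1, h2, one_mul])).elim
      · exact (bad (by rw [h1, h2, mul_one])).elim
      · exact Or.inr ⟨h1, h2⟩
    have zA₃ : ∀ y ∈ A₃, a * b * y = y * (a * b) := fun y hy => (prA.comm_z hy).symm
    have zB₃ : ∀ y ∈ B₃, a * b * y = y * (a * b) := fun y hy => (prB.comm_z hy).symm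
    -- `s ∈ {1, z}` or `s ∈ {e, z e}`
    have hcase : (s₃ * s₄ = 1 ∨ s₃ * s₄ = a * b) ∨ (s₃ * s₄ = e ∨ s₃ * s₄ = a * b * e) := by
      have zne := prA.t3.z_ne
      rcases hsq with ⟨h1, h2⟩ | ⟨h1, h2⟩
      · left
        rcases prA.inv_eq hs₃ h1 with h3 | h3 <;> rcases prB.inv_eq hs₄ h2 with h4 | h4 <;> rw [h3, h4]
        · left; rw [mul_one]
        · right; rw [one_mul]
        · right; rw [mul_one]
        · left; exact hz3
      · right
        have f3 : s₃ = p₃ ∨ s₃ = a * b * p₃ := by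
          rcases c3' with (h3 | h3) | h3
          · rw [h3, one_mul] at h1; exact absurd h1.symm zne
          · rw [h3, hz3] at h1; exact absurd h1.symm zne
          · exact h3
        have f4 : s₄ = q₃ ∨ s₄ = a * b * q₃ := by
          rcases c4' with (h3 | h3) | h3
          · rw [h3, one_mul] at h2; exact absurd h2.symm zne
          · rw [h3, hz3] at h2; exact absurd h2.symm zne
          · exact h3
        have e0 := t'.pq
        have zp := zA₃ p₃ t'.pA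
        rcases f3 with h3 | h3 <;> rcases f4 with h4 | h4 <;> rw [h3, h4]
        · left; exact e0.symm
        · right
          rw [← mul_assoc, ← zp, mul_assoc, ← e0]
        · right
          rw [mul_assoc, ← e0]
        · left
          calc a * b * p₃ * (a * b * q₃) = a * b * (p₃ * (a * b)) * q₃ := by group
            _ = (a * b) * (a * b) * (p₃ * q₃) := by rw [← zp]; group
            _ = e := by rw [hz3, one_mul, ← e0]
    rcases hcase with hcase | hcase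
    · -- `r` centralises `A₃`, `B₃`
      have fin : ∀ (K : Subgroup G), (∀ y ∈ K, a * b * y = y * (a * b)) → (∀ y ∈ K, x' * y = y * x') →
          ∀ y ∈ K, r * y = y * r := by
        intro K hzK hxK y hy
        rw [rs']
        rcases hcase with h1 | h1 <;> rw [h1]
        · rw [mul_one]; exact hxK y hy
        · exact ((show Commute x' y from hxK y hy).mul_left (show Commute (a * b) y from hzK y hy)).eq
      exact ⟨fin _ zA₃ xA, fin _ zB₃ xB⟩
    · exfalso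
      -- `f = r e'` is a reflection
      have e'2 : e' * e' = 1 := hS.ee
      have ee' : e * e' = a * b := hz
      have sf : s₃ * s₄ * e' = a * b ∨ s₃ * s₄ * e' = 1 := by
        rcases hcase with h1 | h1 <;> rw [h1]
        · left; exact ee'
        · right; rw [mul_assoc, ee', hz3]
      have fx : r * e' = x' * (a * b) ∨ r * e' = x' := by
        rcases sf with h1 | h1
        · left; rw [rs', mul_assoc, h1]
        · right; rw [rs', mul_assoc, h1, mul_one]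
      have fK : ∀ (K : Subgroup G), (∀ y ∈ K, a * b * y = y * (a * b)) → (∀ y ∈ K, x' * y = y * x') →
          ∀ y ∈ K, (r * e') * y = y * (r * e') := by
        intro K hzK hxK y hy
        rcases fx with h1 | h1 <;> rw [h1]
        · exact ((show Commute x' y from hxK y hy).mul_left (show Commute (a * b) y from hzK y hy)).eq
        · exact hxK y hy
      have e'D : e' ∈ D := hS.eN
      have fD : cj (r * e') D = D := by
        have h1 : cj (a * b) D = D := hS.cj_self (by rw [← hz]; exact mul_mem hS.bN hS.eN)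
        rcases fx with h2 | h2 <;> rw [h2]
        · rw [cj_mul, h1, xD]
        · exact xD
      have fr : (r * e') * pD * (r * e')⁻¹ = qD⁻¹ := by
        calc (r * e') * pD * (r * e')⁻¹ = r * (e' * pD * e'⁻¹) * r⁻¹ := by group
          _ = r * pD * r⁻¹ := by rw [← pe', mul_inv_cancel_right]
          _ = qD⁻¹ := kD
      have ff : (r * e') * (r * e') = 1 := by
        calc (r * e') * (r * e') = r * (e' * r) * e' := by group
          _ = (r * r) * (e' * e') := by rw [← re']; group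
          _ = 1 := by rw [rr, e'2, one_mul]
      -- `e' = y` is the central involution of `N`
      have ye : e' = a * b * e := e'_eq.trans h.cfg.ez.symm
      have xN : g₁ * g₂ ∈ N := mul_mem (h.cfg.AN hg₁) (h.cfg.BN hg₂)
      have xe1 : g₁ * g₂ * e = e * (g₁ * g₂) := by
        rw [mul_assoc, B_comm_e h.cfg.toSheet hg₂, ← mul_assoc, A_comm_e h.cfg.toSheet hg₁]; group
      have xy : g₁ * g₂ * e' = e' * (g₁ * g₂) := by rw [ye]; exact h.cfg.y_comm _ xN
      have fn : (g₁ * g₂ * c) * (a * b) * (g₁ * g₂ * c)⁻¹ = r * e' := by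
        have k1 : c * (a * b) * c⁻¹ = b * e := by
          calc c * (a * b) * c⁻¹ = (c * a * c⁻¹) * (c * b * c⁻¹) := by group
            _ = b * e := by rw [c1, c2]
        have k2 : b * e = a * e' := by
          rw [ye]
          calc b * e = (a * a) * (b * e) := by rw [h.cfg.aa, one_mul]
            _ = a * (a * b * e) := by group
        calc (g₁ * g₂ * c) * (a * b) * (g₁ * g₂ * c)⁻¹ = (g₁ * g₂) * (c * (a * b) * c⁻¹) * (g₁ * g₂)⁻¹ := by group
          _ = (g₁ * g₂) * a * (e' * (g₁ * g₂)⁻¹) := by rw [k1, k2]; group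
          _ = ((g₁ * g₂) * a * (g₁ * g₂)⁻¹) * ((g₁ * g₂) * e') * (g₁ * g₂)⁻¹ := by group
          _ = r * e' := by rw [rx, xy]; group
      have eP : e ∈ PP (r * e') := by
        have h1 : b ∈ PP (a * b) := by
          have k0 := mul_mem (h.rA p hp pp) (h.rA p hp pp)
          rw [pp] at k0
          have k1 := mul_mem h.aP k0
          rwa [← b_eq h.cfg.toSheet] at k1
        have h2 := PP_conj (g₁ * g₂ * c) h1
        rw [fn] at h2
        have h3 : g₁ * g₂ * c * b * (g₁ * g₂ * c)⁻¹ = e := by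
          calc g₁ * g₂ * c * b * (g₁ * g₂ * c)⁻¹ = (g₁ * g₂) * (c * b * c⁻¹) * (g₁ * g₂)⁻¹ := by group
            _ = e := by rw [c2, xe1]; group
        rwa [h3] at h2
      have hA3f := fK _ zA₃ xA
      have hB3f := fK _ zB₃ xB
      -- `p₃ ∈ O₂(C(f))`
      have p3P : p₃ ∈ PP (r * e') := by
        obtain ⟨j, d, hl⟩ := exists_sl prA t'.pA pp₃
        obtain ⟨g, hg, hgp⟩ := prA.t3.conj p₃ t'.pA j hl.hj pp₃ hl.q.j2
        have h1 := PP_norm (hA3f g hg).symm _ eP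
        have h2 := mul_mem h1 (inv_mem eP)
        have h3 : g * e * g⁻¹ * e⁻¹ = j * p₃⁻¹ := by
          have k1 : q₃ * g⁻¹ = g⁻¹ * q₃ := (S'.AB _ (inv_mem hg) _ t'.qB).symm
          have k2 := t'.pq
          calc g * e * g⁻¹ * e⁻¹ = g * p₃ * (q₃ * g⁻¹) * (p₃ * q₃)⁻¹ := by rw [k2]; group
            _ = (g * p₃ * g⁻¹) * p₃⁻¹ := by rw [k1]; group
            _ = j * p₃⁻¹ := by rw [hgp]
        rw [h3] at h2
        have hk : (j * p₃⁻¹) * (j * p₃⁻¹) = a * b := by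
          rw [hl.q.i_inv]
          simp only [mul_assoc]
          have h5 := hl.q
          have hj := h5.jz
          have hjx := h5.jzx
          have hzz := h5.zz
          have hji := h5.ji
          have hjix := h5.jix
          calc j * (a * (b * (p₃ * (j * (a * (b * p₃)))))) = j * ((a * b) * (p₃ * (j * ((a * b) * p₃)))) := by
                simp only [mul_assoc]
            _ = a * b := by
                simp only [h5.jzx, h5.izx, h5.jz, h5.iz, h5.zz, h5.jix, h5.ji, h5.iix, h5.jjx, h5.i2, h5.j2, h5.z2,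
                  mul_one, one_mul]
            _ = a * b := rfl
        obtain ⟨g', hg', hgk⟩ := prA.t3.conj _ (mul_mem hl.hj (inv_mem t'.pA)) p₃ t'.pA hk pp₃
        have h4 := PP_norm (hA3f g' hg').symm _ h2
        rwa [hgk] at h4
      exact t'.false_of_refl S' fD hA3f hB3f (by rw [P5, Q5]; exact fr) ff (PP_two _)
        (fun x hx y hy => PP_norm hx y hy) p3P

/-- **(a2)** : `HR a b A B A' B'` -/
theorem a_two (h : Dbl N D a b e e' A B A' B') (hz : e * e' = a * b) {c : G} (hc : c ∈ N) (c1 : c * a * c⁻¹ = b)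
    (c2 : c * b * c⁻¹ = e) (c3 : c * e * c⁻¹ = a) (hS : Sheet D b e e' (cj c A) (cj c B)) :
    ∀ p ∈ A, ∀ q ∈ B, p * p = a * b → q * q = a * b → a = p * q → ∀ x₁ ∈ A, ∀ x₂ ∈ B, x₁ * x₁ = a * b →
      x₂ * x₂ = a * b → x₁ * p = a * b * (p * x₁) → x₂ * q = a * b * (q * x₂) → ∀ y, y ∈ A' ∨ y ∈ B' →
        x₁ * x₂ * y = y * (x₁ * x₂) := by
  intro p hp q hq pp qq ha x₁ hx₁ x₂ hx₂ h₁ h₂ n₁ n₂ y hy
  obtain ⟨pD, qD, cD, tD⟩ := tor_exists hS
  have S' := tD.sheet7 hS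
  have ne : ∀ u v : G, u * v = a * b * (v * u) → v * u ≠ u * v := by
    intro u v h1 h2
    rw [← h2] at h1
    exact h.cfg.z_ne (mul_right_cancel (b := v * u) (by rw [one_mul]; exact h1.symm))
  obtain ⟨k1, k2⟩ := a_two_aux (A' := cj cD (cj c A)) (B' := cj cD (cj c B)) ⟨h.cfg, h.comp, S', h.rA, h.rB⟩ hz hc c1 c2
    c3 hS tD rfl rfl hp hq pp qq ha hx₁ hx₂ h₁ h₂ (ne _ _ n₁) (ne _ _ n₂)
  rcases unique h.sh S' rfl with ⟨h3, h4⟩ | ⟨h3, h4⟩
  · rw [h3] at k1; rw [h4] at k2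
    rcases hy with hy | hy
    · exact k1 y hy
    · exact k2 y hy
  · rw [h3] at k1; rw [h4] at k2
    rcases hy with hy | hy
    · exact k2 y hy
    · exact k1 y hy

/-- `z` does not centralise `J₅` -/
theorem not_comm_z (h : Dbl N D a b e e' A B A' B') {c : G} (hS : Sheet D b e e' (cj c A) (cj c B)) :
    ∃ x₀ ∈ cj c A, x₀ * (a * b) ≠ a * b * x₀ := by
  by_contra hcon
  push Not at hcon
  obtain ⟨pD, qD, cD, tD⟩ := tor_exists hS
  have h1 : pD = 1 ∨ pD = b * e := by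
    refine hS.prA.t3.cen pD tD.pA fun y hy _ => ?_
    have h2 := hcon y hy
    have h3 : a * y = y * a := (h.comm_a (hS.AN hy)).symm
    have h4 : b * y = y * b := by
      have e1 : b = a * (a * b) := b_eq h.cfg.toSheet
      rw [e1]
      calc a * (a * b) * y = a * (a * b * y) := by group
        _ = (a * y) * (a * b) := by rw [← h2]; group
        _ = y * (a * (a * b)) := by rw [h3]; group
    have h5 : qD * y = y * qD := (hS.AB y hy qD tD.qB).symm
    have h6 : pD * y * qD = y * pD * qD := by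
      calc pD * y * qD = pD * (qD * y) := by rw [h5]; group
        _ = b * y := by rw [tD.pq]; group
        _ = y * pD * qD := by rw [h4, tD.pq]; group
    exact mul_right_cancel h6
  have h7 := tD.pp
  rcases h1 with h1 | h1
  · rw [h1, one_mul] at h7; exact hS.z_ne h7.symm
  · rw [h1, hS.zz] at h7; exact hS.z_ne h7.symm

/-- the input of `Dbl.hC_of_refl` -/
theorem dich (h : Dbl N D a b e e' A B A' B') {c : G} (hc : c ∈ N) (c1 : c * a * c⁻¹ = b)
    (c2 : c * b * c⁻¹ = e) (c3 : c * e * c⁻¹ = a) (hS : Sheet D b e e' (cj c A) (cj c B)) :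
    ∃ p₅ q₅ x₀ x₁ x₂ : G, x₀ * (a * b) ≠ a * b * x₀ ∧
      (∀ g : G, cj g D = D → (∀ y, y ∈ A' ∨ y ∈ B' → g * y = y * g) → g * p₅ * g⁻¹ = p₅ ∨ g * p₅ * g⁻¹ = q₅⁻¹) ∧
      (∀ g : G, cj g D = D → (∀ y, y ∈ A' ∨ y ∈ B' → g * y = y * g) → g * p₅ * g⁻¹ = q₅⁻¹ →
        g * g * x₀ = x₀ * (g * g)) ∧
      x₁ ∈ A ∧ x₂ ∈ B ∧ x₁ * x₁ = a * b ∧ x₂ * x₂ = a * b ∧ x₁ * x₂ * a = a * (x₁ * x₂) ∧
      x₁ * x₂ * p₅ * (x₁ * x₂)⁻¹ = q₅⁻¹ := by
  obtain ⟨p, hp, q, hq, pp, qq, ha⟩ := h.cfg.a_eq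
  have t := tor_mk h.cfg.toSheet hp hq pp qq ha hc c1 c2 c3
  obtain ⟨x₁, hx₁, x₂, hx₂, h₁, h₂, n₁, n₂⟩ := t.exists_s h.cfg.toSheet
  obtain ⟨pD, qD, cD, tD⟩ := tor_exists hS
  have S' := tD.sheet7 hS
  have t' := tD.conj
  obtain ⟨x₀, hx₀, hx⟩ := not_comm_z h hS
  have P5 : cD⁻¹ * (cD * pD * cD⁻¹) * cD = pD := by group
  have Q5 : cD⁻¹ * (cD * qD * cD⁻¹) * cD = qD := by group
  have J5 : cj cD⁻¹ (cj cD (cj c A)) = cj c A := by rw [← cj_mul, inv_mul_cancel, cj_one]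
  have both : ∀ g : G, (∀ y, y ∈ A' ∨ y ∈ B' → g * y = y * g) →
      (∀ y ∈ cj cD (cj c A), g * y = y * g) ∧ (∀ y ∈ cj cD (cj c B), g * y = y * g) := by
    intro g hg
    rcases unique h.sh S' rfl with ⟨h3, h4⟩ | ⟨h3, h4⟩ <;> rw [h3, h4]
    · exact ⟨fun y hy => hg y (Or.inl hy), fun y hy => hg y (Or.inr hy)⟩
    · exact ⟨fun y hy => hg y (Or.inr hy), fun y hy => hg y (Or.inl hy)⟩
  refine ⟨pD, qD, x₀, x₁, x₂, hx, ?_, ?_, hx₁, hx₂, h₁, h₂, ?_, ?_⟩
  · intro g hg hgA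
    obtain ⟨k1, k2⟩ := both g hgA
    have := t'.rot_or_refl S' hg k1 k2
    rwa [P5, Q5] at this
  · intro g hg hgA hr
    obtain ⟨k1, k2⟩ := both g hgA
    obtain ⟨k3, -⟩ := t'.refl_sq S' hg k1 k2 (by rw [P5, Q5]; exact hr)
    rw [J5] at k3
    exact k3 x₀ hx₀
  · nth_rw 1 [ha]; nth_rw 1 [ha]
    exact s_comm h.cfg.toSheet hp hq pp qq hx₁ hx₂ h₁ h₂ n₁ n₂
  · exact conj_D h.cfg hc c1 c2 c3 hp hq pp qq ha tD.pA tD.qB tD.pp tD.qq tD.pq hx₁ hx₂ h₁ h₂ n₁ n₂

end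

end Cfsg.Agent.OddHalf.NI3.Bad.ATwo
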