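import Cfsg.Agent.OddHalf.NI3.Step

/-!
# Node NI over `F₃`, bad types, step (2)(A) (bb #14136, helper515)

`caseA` : `H` finite, `O(H) = 1`, `z` central, `J₁, J₂ ≅ SL₂(3)` with involution `z`, subnormal in `C(w)`,
`[J₁, J₂] = 1`, `O₂(J₁) O₂(J₂) ≤ O₂(H)`, `q₁ q₂ ∈ O₂(J₁) O₂(J₂)` an involution with `C(q₁ q₂) ≤ C(w)`. Then `J₁` is
subnormal in `H`.
-/

set_option autoImplicit false
set_option linter.style.haveILetI false
set_option linter.unusedSectionVars false
set_option linter.unusedSimpArgs false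

namespace Cfsg.Agent.OddHalf.NI3.Bad

open Subgroup Cfsg Cfsg.Agent.Cit Cfsg.Agent.Cit.SolvTwo Cfsg.Agent.SignalizersComponents
open Cfsg.Agent.Cit.SLThree (Qt Sl)

section

variable {H : Type*} [Group H] {J : Subgroup H} {z i j d : H}

theorem conj_mem_Q (h : Sl J z i j d) {x g : H} (hg : g ∈ J) (hx : x ∈ closure {i, j}) :
    g * x * g⁻¹ ∈ closure {i, j} := by
  obtain ⟨q, hq, h1⟩ := h.mem_cases hg
  have h2 : d * x * d⁻¹ ∈ closure {i, j} := h.conj_mem hx
  have h3 : d * (d * x * d⁻¹) * d⁻¹ ∈ closure {i, j} := h.conj_mem h2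
  rcases h1 with rfl | rfl | rfl
  · exact mul_mem (mul_mem hq hx) (inv_mem hq)
  · have := mul_mem (mul_mem hq h2) (inv_mem hq)
    convert this using 1
    group
  · have := mul_mem (mul_mem hq h3) (inv_mem hq)
    convert this using 1
    group

/-- the elements of `J` with square `z` -/
theorem mem_Q_of_sq (h : Sl J z i j d) (h3 : T3 J z) {a : H} (ha : a ∈ J) (ha2 : a * a = z) :
    a ∈ closure {i, j} := by
  obtain ⟨g, hg, hga⟩ := h3.conj i h.hi a ha h.q.i2 ha2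
  rw [← hga]
  exact conj_mem_Q h hg (Qt.mem_i z i j)

theorem not_comm_pow (h : Sl J z i j d) {m : ℕ} (hm : ¬ 3 ∣ m) : ¬ d ^ m * i = i * d ^ m := by
  intro h1
  have h0 : ¬ d * i = i * d := by
    intro h2
    have h3 : d * i * d⁻¹ = i := by rw [h2]; group
    rw [h.di] at h3
    exact h.q.not_comm (by rw [h3])
  have h2 : d ^ m = d ^ (m % 3) := by
    conv_lhs => rw [← Nat.div_add_mod m 3, pow_add, pow_mul]
    have : d ^ 3 = 1 := by rw [pow_succ, pow_succ, pow_one]; exact h.d3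
    rw [this, one_pow, one_mul]
  have h3 : m % 3 = 1 ∨ m % 3 = 2 := by omega
  rcases h3 with h3 | h3
  · rw [h2, h3, pow_one] at h1
    exact h0 h1
  · rw [h2, h3, pow_two, ← h.d_inv] at h1
    apply h0
    exact (show Commute d⁻¹ i from h1).inv_left.eq.trans (by rw [inv_inv]) |>.symm.symm |> fun h4 => by
      rw [inv_inv] at h4; exact h4

theorem false_of_comm (h : Sl J z i j d) {g : H} {n e : ℕ} (he : ¬ 3 ∣ e) (h2 : g ^ 2 ^ n = 1) (hgd : g * d = d * g)
    (hi : (d ^ e)⁻¹ * g * i = i * ((d ^ e)⁻¹ * g)) : False := by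
  have hc : Commute ((d ^ e)⁻¹) g := ((show Commute g d from hgd).symm.pow_left e).inv_left
  have h3 : ((d ^ e)⁻¹ * g) ^ 2 ^ n * i = i * ((d ^ e)⁻¹ * g) ^ 2 ^ n :=
    (show Commute ((d ^ e)⁻¹ * g) i from hi).pow_left _
  rw [hc.mul_pow, h2, mul_one, inv_pow, ← pow_mul] at h3
  have h4 : Commute (d ^ (e * 2 ^ n)) i := by
    have := (show Commute (d ^ (e * 2 ^ n))⁻¹ i from h3).inv_left
    rwa [inv_inv] at this
  refine not_comm_pow h ?_ h4.eq
  intro h5
  rcases (Nat.Prime.dvd_mul Nat.prime_three).1 h5 with h6 | h6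
  · exact he h6
  · have := Nat.Prime.dvd_of_dvd_pow Nat.prime_three h6
    omega

/-- a 2-element normalising `J ≅ SL₂(3)` and centralising an element of order 3 of `J` centralises `O₂(J)` -/
theorem comm_Q (h : Sl J z i j d) (h3 : T3 J z) {g : H} (hg : g ∈ normalizer (J : Set H)) {n : ℕ}
    (h2 : g ^ 2 ^ n = 1) (hgz : g * z = z * g) (hgd : g * d = d * g) :
    ∀ x ∈ closure ({i, j} : Set H), g * x = x * g := by
  have key : g * i = i * g ∧ g * j = j * g := by
    set a := g * i * g⁻¹ with ha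
    have haJ : a ∈ J := (mem_normalizer_iff.1 hg i).1 h.hi
    have ha2 : a * a = z := by
      calc a * a = g * (i * i) * g⁻¹ := by rw [ha]; group
        _ = (g * z) * g⁻¹ := by rw [h.q.i2]
        _ = z := by rw [hgz]; group
    have hj : g * j * g⁻¹ = d * a * d⁻¹ := by
      have e1 : g⁻¹ * d = d * g⁻¹ := ((show Commute g d from hgd).inv_left).eq
      have e2 : g⁻¹ * d⁻¹ = d⁻¹ * g⁻¹ := ((show Commute g d from hgd).inv_left.inv_right).eq
      calc g * j * g⁻¹ = g * (d * i * d⁻¹) * g⁻¹ := by rw [h.di]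
        _ = (g * d) * i * (d⁻¹ * g⁻¹) := by group
        _ = (d * g) * i * (g⁻¹ * d⁻¹) := by rw [hgd, e2]
        _ = d * a * d⁻¹ := by rw [ha]; group
    have hij : a * (d * a * d⁻¹) = d * (d * a * d⁻¹) * d⁻¹ := by
      have e2 : g⁻¹ * d⁻¹ = d⁻¹ * g⁻¹ := ((show Commute g d from hgd).inv_left.inv_right).eq
      calc a * (d * a * d⁻¹) = (g * i * g⁻¹) * (g * j * g⁻¹) := by rw [hj]
        _ = g * (i * j) * g⁻¹ := by group
        _ = g * (d * j * d⁻¹) * g⁻¹ := by rw [h.dj]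
        _ = (g * d) * j * (d⁻¹ * g⁻¹) := by group
        _ = (d * g) * j * (g⁻¹ * d⁻¹) := by rw [hgd, e2]
        _ = d * (g * j * g⁻¹) * d⁻¹ := by group
        _ = d * (d * a * d⁻¹) * d⁻¹ := by rw [hj]
    have hz := h.q.z1
    have dzi : ∀ x : H, d * (z * x) * d⁻¹ = z * (d * x * d⁻¹) := by
      intro x
      calc d * (z * x) * d⁻¹ = (d * z) * x * d⁻¹ := by group
        _ = z * (d * x * d⁻¹) := by rw [h.dz]; group
    rcases h.q.mem_cases (mem_Q_of_sq h h3 haJ ha2) with h4 | h4 | h4 | h4 | h4 | h4 | h4 | h4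
    · exfalso; rw [h4, one_mul] at ha2; exact hz ha2.symm
    · exfalso; rw [h4, h.q.z2] at ha2; exact hz ha2.symm
    · rw [h4, h.di] at hj
      rw [ha, mul_inv_eq_iff_eq_mul] at h4
      rw [mul_inv_eq_iff_eq_mul] at hj
      exact ⟨h4, hj⟩
    · exfalso
      rw [h4, dzi, h.di, dzi, h.dj] at hij
      simp only [mul_assoc, one_mul, mul_one, h.q.z2, h.q.zz, h.q.iz, h.q.jz, h.q.izx, h.q.jzx, h.q.i2, h.q.j2, h.q.iix,
        h.q.jjx, h.q.ji, h.q.jix] at hij
      exact hz (mul_right_cancel (b := i * j) (by rw [one_mul]; exact hij.symm))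
    · exfalso
      have h5 : (d ^ 1)⁻¹ * g * i = i * ((d ^ 1)⁻¹ * g) := by
        have h6 : g * i = j * g := by rw [ha, mul_inv_eq_iff_eq_mul] at h4; exact h4
        calc (d ^ 1)⁻¹ * g * i = d⁻¹ * (g * i) := by group
          _ = d⁻¹ * ((d * i * d⁻¹) * g) := by rw [h6, h.di]
          _ = i * ((d ^ 1)⁻¹ * g) := by group
      exact false_of_comm h (by norm_num) h2 hgd h5
    · exfalso
      rw [h4, dzi, h.dj, dzi, h.dij] at hij
      simp only [mul_assoc, one_mul, mul_one, h.q.z2, h.q.zz, h.q.iz, h.q.jz, h.q.izx, h.q.jzx, h.q.i2, h.q.j2, h.q.iix,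
        h.q.jjx, h.q.ji, h.q.jix] at hij
      exact hz (mul_right_cancel (b := i) (by rw [one_mul]; exact hij.symm))
    · exfalso
      have h5 : (d ^ 2)⁻¹ * g * i = i * ((d ^ 2)⁻¹ * g) := by
        have h6 : g * i = (i * j) * g := by rw [ha, mul_inv_eq_iff_eq_mul] at h4; exact h4
        calc (d ^ 2)⁻¹ * g * i = (d ^ 2)⁻¹ * (g * i) := by group
          _ = (d ^ 2)⁻¹ * ((d * (d * i * d⁻¹) * d⁻¹) * g) := by rw [h6, h.di, h.dj]
          _ = i * ((d ^ 2)⁻¹ * g) := by group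
      exact false_of_comm h (by norm_num) h2 hgd h5
    · exfalso
      rw [h4, dzi, h.dij, dzi, h.di] at hij
      simp only [mul_assoc, one_mul, mul_one, h.q.z2, h.q.zz, h.q.iz, h.q.jz, h.q.izx, h.q.jzx, h.q.i2, h.q.j2, h.q.iix,
        h.q.jjx, h.q.ji, h.q.jix] at hij
      exact hz (mul_right_cancel (b := j) (by rw [one_mul]; exact hij.symm))
  intro x hx
  have h4 : closure ({i, j} : Set H) ≤ centralizer ({g} : Set H) := by
    rw [closure_le]
    rintro y (rfl | rfl)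
    · exact mem_centralizer_singleton_iff.2 key.1.symm
    · exact mem_centralizer_singleton_iff.2 key.2.symm
  exact (mem_centralizer_singleton_iff.1 (h4 hx)).symm

/-- the elements of order 3 in the coset `O₂(J) d` -/
theorem exists_adj (h : Sl J z i j d) {c : H} (hc : c ∈ closure ({i, j} : Set H))
    (h3 : (c * d) * (c * d) * (c * d) = 1) : ∃ x ∈ closure ({i, j} : Set H), c = x * (d * x⁻¹ * d⁻¹) := by
  have hz := h.q.z1
  have h4 : c * (d * c * d⁻¹) * (d * (d * c * d⁻¹) * d⁻¹) = 1 := by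
    calc c * (d * c * d⁻¹) * (d * (d * c * d⁻¹) * d⁻¹) = (c * d) * (c * d) * (c * d) * (d * d * d)⁻¹ := by group
      _ = 1 := by rw [h3, h.d3]; group
  have dzi : ∀ x : H, d * (z * x) * d⁻¹ = z * (d * x * d⁻¹) := by
    intro x
    calc d * (z * x) * d⁻¹ = (d * z) * x * d⁻¹ := by group
      _ = z * (d * x * d⁻¹) := by rw [h.dz]; group
  have dz : d * z * d⁻¹ = z := by rw [h.dz]; group
  have hij : (i * j)⁻¹ = z * (i * j) := by
    refine inv_eq_of_mul_eq_one_right ?_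
    simp only [mul_assoc, one_mul, mul_one, h.q.z2, h.q.zz, h.q.iz, h.q.jz, h.q.izx, h.q.jzx, h.q.i2, h.q.j2, h.q.iix,
      h.q.jjx, h.q.ji, h.q.jix]
  rcases h.q.mem_cases hc with rfl | h5 | h5 | h5 | h5 | h5 | h5 | h5
  · exact ⟨1, one_mem _, by group⟩
  · exfalso
    subst h5
    rw [dz, dz] at h4
    rw [h.q.z2, one_mul] at h4
    exact hz h4
  · exfalso
    subst h5
    rw [h.di, h.dj] at h4
    simp only [mul_assoc, one_mul, mul_one, h.q.z2, h.q.zz, h.q.iz, h.q.jz, h.q.izx, h.q.jzx, h.q.i2, h.q.j2, h.q.iix,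
      h.q.jjx, h.q.ji, h.q.jix] at h4
    exact hz h4
  · refine ⟨j, Qt.mem_j z i j, ?_⟩
    rw [h5, h.q.j_inv, dzi, h.dj]
    simp only [mul_assoc, one_mul, mul_one, h.q.z2, h.q.zz, h.q.iz, h.q.jz, h.q.izx, h.q.jzx, h.q.i2, h.q.j2, h.q.iix,
      h.q.jjx, h.q.ji, h.q.jix]
  · exfalso
    subst h5
    rw [h.dj, h.dij] at h4
    simp only [mul_assoc, one_mul, mul_one, h.q.z2, h.q.zz, h.q.iz, h.q.jz, h.q.izx, h.q.jzx, h.q.i2, h.q.j2, h.q.iix,
      h.q.jjx, h.q.ji, h.q.jix] at h4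
    exact hz h4
  · refine ⟨i * j, mul_mem (Qt.mem_i z i j) (Qt.mem_j z i j), ?_⟩
    rw [h5, hij, dzi, h.dij]
    simp only [mul_assoc, one_mul, mul_one, h.q.z2, h.q.zz, h.q.iz, h.q.jz, h.q.izx, h.q.jzx, h.q.i2, h.q.j2, h.q.iix,
      h.q.jjx, h.q.ji, h.q.jix]
  · exfalso
    subst h5
    rw [h.dij, h.di] at h4
    simp only [mul_assoc, one_mul, mul_one, h.q.z2, h.q.zz, h.q.iz, h.q.jz, h.q.izx, h.q.jzx, h.q.i2, h.q.j2, h.q.iix,
      h.q.jjx, h.q.ji, h.q.jix] at h4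
    exact hz h4
  · refine ⟨i, Qt.mem_i z i j, ?_⟩
    rw [h5, h.q.i_inv, dzi, h.di]
    simp only [mul_assoc, one_mul, mul_one, h.q.z2, h.q.zz, h.q.iz, h.q.jz, h.q.izx, h.q.jzx, h.q.i2, h.q.j2, h.q.iix,
      h.q.jjx, h.q.ji, h.q.jix]

end

section

variable {H : Type*} [Group H] [Finite H] {J : Subgroup H} {z i j d : H}

/-- an element of the 2-group `X` commuting with `O₂(J)` commutes with the elements of order 3 of `J` -/
theorem comm_of_cent (h3 : T3 J z) {X : Subgroup H} (hX : IsPGroup 2 X) (hn : J ≤ normalizer (X : Set H))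
    (hs : Sn J (J ⊔ X)) (hJz : ∀ a ∈ J, a * z = z * a) {ζ : H} (hζ : ζ ∈ X)
    (hc : ∀ a ∈ J, a * a = z → ζ * a = a * ζ) {v : H} (hv : v ∈ J) (hv3 : v * v * v = 1) : ζ * v = v * ζ := by
  have h1 : ζ⁻¹ * v * ζ ∈ J := by
    refine mem_of_sup hs hX hn ?_ ?_
    · exact mul_mem (mul_mem (inv_mem (mem_sup_right hζ)) (mem_sup_left hv)) (mem_sup_right hζ)
    · have h4 : orderOf (ζ⁻¹ * v * ζ) = orderOf v := by
        have := orderOf_injective (MulAut.conj ζ⁻¹).toMonoidHom (MulAut.conj ζ⁻¹).injective v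
        simpa using this
      rw [h4]; exact odd_of_cube hv3
  set c := ζ⁻¹ * v * ζ * v⁻¹ with hcdef
  have hcJ : c ∈ J := mul_mem h1 (inv_mem hv)
  have h2 : c = 1 ∨ c = z := by
    refine h3.cen c hcJ fun a ha haz => ?_
    have hb : v⁻¹ * a * v ∈ J := mul_mem (mul_mem (inv_mem hv) ha) hv
    have hbz : (v⁻¹ * a * v) * (v⁻¹ * a * v) = z := by
      calc (v⁻¹ * a * v) * (v⁻¹ * a * v) = v⁻¹ * (a * a) * v := by group
        _ = v⁻¹ * (z * v) := by rw [haz]; group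
        _ = z := by rw [← hJz v hv]; group
    have e1 := hc _ hb hbz
    have e2 := hc _ ha haz
    have e3 : ζ * (v⁻¹ * a * v) * ζ⁻¹ = v⁻¹ * a * v := by rw [e1]; group
    have e4 : ζ⁻¹ * a * ζ = a := by
      calc ζ⁻¹ * a * ζ = ζ⁻¹ * (a * ζ) := by group
        _ = ζ⁻¹ * (ζ * a) := by rw [e2]
        _ = a := by group
    rw [← mul_inv_eq_iff_eq_mul]
    calc c * a * c⁻¹ = ζ⁻¹ * v * (ζ * (v⁻¹ * a * v) * ζ⁻¹) * v⁻¹ * ζ := by rw [hcdef]; group
      _ = ζ⁻¹ * a * ζ := by rw [e3]; group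
      _ = a := e4
  have h5 : ζ⁻¹ * v * ζ = c * v := by rw [hcdef]; group
  have h6 : (c * v) * (c * v) * (c * v) = 1 := by
    rw [← h5]
    calc (ζ⁻¹ * v * ζ) * (ζ⁻¹ * v * ζ) * (ζ⁻¹ * v * ζ) = ζ⁻¹ * (v * v * v) * ζ := by group
      _ = 1 := by rw [hv3]; group
  rcases h2 with h2 | h2
  · rw [h2, one_mul] at h5
    calc ζ * v = ζ * (ζ⁻¹ * v * ζ) := by rw [h5]
      _ = v * ζ := by group
  · exfalso
    rw [h2] at h6
    have e5 : (z * v) * (z * v) * (z * v) = z := by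
      have e6 := hJz v hv
      calc (z * v) * (z * v) * (z * v) = z * (v * z) * (v * z) * v := by group
        _ = z * (z * v) * (z * v) * v := by rw [e6]
        _ = (z * z) * (v * z) * v * v := by group
        _ = (z * z) * (z * v) * v * v := by rw [e6]
        _ = z * (v * v * v) := by rw [h3.z_sq]; group
        _ = z := by rw [hv3, mul_one]
    rw [e5] at h6
    exact h3.z_ne h6

/-- an element of the 2-group `PP` normalising `X = PP ∩ C(w)` normalises `J` -/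
theorem normalizer_J (hp : IsPr J z) {w : H} {PP : Subgroup H} (hPP : IsPGroup 2 PP)
    (hn : J ≤ normalizer (PP : Set H)) (hw : w ∈ PP) (hs : Sn J (centralizer ({w} : Set H)))
    (hQ : ∀ a ∈ J, a * a = z → a ∈ PP) (hJz : ∀ a ∈ J, a * z = z * a) {g : H} (hg : g ∈ PP)
    (hgX : g ∈ normalizer ((PP ⊓ centralizer ({w} : Set H) : Subgroup H) : Set H)) {v : H} (hv : v ∈ J)
    (hv3 : v * v * v = 1) :
    g⁻¹ * v * g ∈ J ∧ g⁻¹ * v * g * v⁻¹ ∈ PP ⊓ centralizer ({w} : Set H) := by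
  set X : Subgroup H := PP ⊓ centralizer ({w} : Set H) with hX
  have hXp : IsPGroup 2 X := hPP.to_le inf_le_left
  have hJw : ∀ a ∈ J, a * w = w * a := fun a ha => mem_centralizer_singleton_iff.1 (hs.le ha)
  have hnX : J ≤ normalizer (X : Set H) := by
    refine (le_inf hn ?_).trans inf_normalizer_le_normalizer_inf
    exact hs.le.trans le_normalizer
  have hsX : Sn J (J ⊔ X) := hs.restrict (sup_le hs.le inf_le_right) le_sup_left
  -- `g w g⁻¹` commutes with `X`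
  have h1 : g * w * g⁻¹ ∈ X := by
    refine (mem_normalizer_iff.1 hgX w).1 ⟨hw, mem_centralizer_singleton_iff.2 rfl⟩
  have h2 : ∀ x ∈ X, (g * w * g⁻¹) * x = x * (g * w * g⁻¹) := by
    intro x hx
    have h3 : g⁻¹ * x * g ∈ X := by
      have h4 := (mem_normalizer_iff.1 (inv_mem hgX) x).1 hx
      rwa [inv_inv] at h4
    have h4 : (g⁻¹ * x * g) * w = w * (g⁻¹ * x * g) := mem_centralizer_singleton_iff.1 h3.2
    calc (g * w * g⁻¹) * x = g * (w * (g⁻¹ * x * g)) * g⁻¹ := by group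
      _ = g * ((g⁻¹ * x * g) * w) * g⁻¹ := by rw [h4]
      _ = x * (g * w * g⁻¹) := by group
  have h3 : (g * w * g⁻¹) * v = v * (g * w * g⁻¹) := by
    refine comm_of_cent hp.t3 hXp hnX hsX hJz h1 (fun a ha haz => h2 a ⟨hQ a ha haz, ?_⟩) hv hv3
    exact mem_centralizer_singleton_iff.2 (hJw a ha)
  have h4 : g⁻¹ * v * g * v⁻¹ ∈ X := by
    refine mem_inf.2 ⟨?_, ?_⟩
    · have h5 : v * g * v⁻¹ ∈ PP := (mem_normalizer_iff.1 (hn hv) g).1 hg
      have h6 := mul_mem (inv_mem hg) h5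
      convert h6 using 1
      group
    · rw [mem_centralizer_singleton_iff]
      have h5 : (g⁻¹ * v * g) * w = w * (g⁻¹ * v * g) := by
        calc (g⁻¹ * v * g) * w = g⁻¹ * (v * (g * w * g⁻¹)) * g := by group
          _ = g⁻¹ * ((g * w * g⁻¹) * v) * g := by rw [h3]
          _ = w * (g⁻¹ * v * g) := by group
      have h6 := hJw v⁻¹ (inv_mem hv)
      calc g⁻¹ * v * g * v⁻¹ * w = (g⁻¹ * v * g) * (v⁻¹ * w) := by group
        _ = ((g⁻¹ * v * g) * w) * v⁻¹ := by rw [h6]; group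
        _ = w * (g⁻¹ * v * g * v⁻¹) := by rw [h5]; group
  refine ⟨?_, h4⟩
  refine mem_of_sup hsX hXp hnX ?_ ?_
  · have h5 : g⁻¹ * v * g = (g⁻¹ * v * g * v⁻¹) * v := by group
    rw [h5]
    exact mul_mem (mem_sup_right h4) (mem_sup_left hv)
  · have h5 : orderOf (g⁻¹ * v * g) = orderOf v := by
      have := orderOf_injective (MulAut.conj g⁻¹).toMonoidHom (MulAut.conj g⁻¹).injective v
      simpa using this
    rw [h5]; exact odd_of_cube hv3

theorem mem_normalizer_J (hp : IsPr J z) {w : H} {PP : Subgroup H} (hPP : IsPGroup 2 PP)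
    (hn : J ≤ normalizer (PP : Set H)) (hw : w ∈ PP) (hs : Sn J (centralizer ({w} : Set H)))
    (hQ : ∀ a ∈ J, a * a = z → a ∈ PP) (hJz : ∀ a ∈ J, a * z = z * a) {g : H} (hg : g ∈ PP)
    (hgX : g ∈ normalizer ((PP ⊓ centralizer ({w} : Set H) : Subgroup H) : Set H)) :
    g ∈ normalizer (J : Set H) := by
  have key : ∀ g : H, g ∈ PP → g ∈ normalizer ((PP ⊓ centralizer ({w} : Set H) : Subgroup H) : Set H) →
      ∀ a ∈ J, g⁻¹ * a * g ∈ J := by
    intro g hg hgX
    have h1 : J ≤ J.comap (MulAut.conj g⁻¹).toMonoidHom := by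
      refine hp.le_of_cube fun v hv hv3 => ?_
      have h2 := (normalizer_J hp hPP hn hw hs hQ hJz hg hgX hv hv3).1
      show g⁻¹ * v * g⁻¹⁻¹ ∈ J
      rwa [inv_inv]
    intro a ha
    have h2 : g⁻¹ * a * g⁻¹⁻¹ ∈ J := h1 ha
    rwa [inv_inv] at h2
  rw [mem_normalizer_iff]
  intro a
  constructor
  · intro ha
    have h2 := key g⁻¹ (inv_mem hg) (inv_mem hgX) a ha
    rwa [inv_inv] at h2
  · intro ha
    have h2 := key g hg hgX _ ha
    convert h2 using 1
    group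

/-- the adjusting element -/
theorem exists_adjust (hl : Sl J z i j d) {X : Subgroup H} (hX : IsPGroup 2 X) (hQX : closure {i, j} ≤ X)
    {g : H} (h1 : g⁻¹ * d * g ∈ J) (h2 : g⁻¹ * d * g * d⁻¹ ∈ X) :
    ∃ x ∈ closure ({i, j} : Set H), (g * x) * d = d * (g * x) := by
  have hcJ : g⁻¹ * d * g * d⁻¹ ∈ J := mul_mem h1 (inv_mem hl.hd)
  have hc := hl.mem_Q hcJ hX hQX h2
  obtain ⟨x, hx, h3⟩ := exists_adj hl hc (by
    have e1 : g⁻¹ * d * g * d⁻¹ * d = g⁻¹ * d * g := by group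
    rw [e1]
    calc g⁻¹ * d * g * (g⁻¹ * d * g) * (g⁻¹ * d * g) = g⁻¹ * (d * d * d) * g := by group
      _ = 1 := by rw [hl.d3]; group)
  refine ⟨x, hx, ?_⟩
  have h4 : g⁻¹ * d * g = x * (d * x⁻¹) := by
    calc g⁻¹ * d * g = (g⁻¹ * d * g * d⁻¹) * d := by group
      _ = x * (d * x⁻¹ * d⁻¹) * d := by rw [h3]
      _ = x * (d * x⁻¹) := by group
  calc g * x * d = g * (x * (d * x⁻¹)) * x := by group
    _ = g * (g⁻¹ * d * g) * x := by rw [h4]
    _ = d * (g * x) := by group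

/-- a self-normalising subgroup `X` of a 2-group `PP` is `PP` -/
theorem le_of_normalizer_le {PP X : Subgroup H} (hPP : IsPGroup 2 PP)
    (h : ∀ g ∈ PP, g ∈ normalizer (X : Set H) → g ∈ X) (hX : X ≤ PP) : PP ≤ X := by
  haveI : Fact (Nat.Prime 2) := ⟨Nat.prime_two⟩
  haveI : Group.IsNilpotent PP := hPP.isNilpotent
  by_contra hcon
  have hlt : X.subgroupOf PP < ⊤ := by
    rw [lt_top_iff_ne_top, Ne, subgroupOf_eq_top]
    exact hcon
  obtain ⟨g, hg, hg'⟩ := SetLike.exists_of_lt (Group.normalizerCondition_of_isNilpotent (G := PP) _ hlt)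
  apply hg'
  rw [mem_subgroupOf]
  refine h g g.2 ?_
  rw [mem_normalizer_iff]
  intro x
  constructor
  · intro hx
    have h1 := (mem_normalizer_iff.1 hg ⟨x, hX hx⟩).1 (by rw [mem_subgroupOf]; exact hx)
    rw [mem_subgroupOf] at h1
    exact h1
  · intro hx
    have hx' : x ∈ PP := by
      have h2 := mul_mem (mul_mem (inv_mem g.2) (hX hx)) g.2
      have h3 : ((g : H)⁻¹ * (g * x * (g : H)⁻¹) * g) = x := by group
      rwa [h3] at h2
    have h1 := (mem_normalizer_iff.1 hg ⟨x, hx'⟩).2 (by rw [mem_subgroupOf]; exact hx)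
    rw [mem_subgroupOf] at h1
    exact h1

end

section

variable {H : Type*} [Group H] [Finite H]

/-- `C_P(w) = P` for a 2-subgroup `P ∋ w` containing `O₂(J₁) O₂(J₂)` -/
theorem comm_of_pp {z w q1 q2 : H} {J1 J2 : Subgroup H} (h1 : IsPr J1 z) (h2 : IsPr J2 z)
    (hz : ∀ g : H, g * z = z * g) (hs1 : Sn J1 (centralizer ({w} : Set H)))
    (hs2 : Sn J2 (centralizer ({w} : Set H))) (hc : J2 ≤ centralizer (J1 : Set H)) {PP : Subgroup H}
    (hPP : IsPGroup 2 PP) (hn1 : J1 ≤ normalizer (PP : Set H)) (hn2 : J2 ≤ normalizer (PP : Set H)) (hw : w ∈ PP)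
    (hP1 : ∀ a ∈ J1, a * a = z → a ∈ PP) (hP2 : ∀ a ∈ J2, a * a = z → a ∈ PP)
    (hq1 : q1 ∈ J1) (hq1z : q1 * q1 = z) (hq2 : q2 ∈ J2) (hq2z : q2 * q2 = z)
    (hA : ∀ c : H, c * (q1 * q2) = (q1 * q2) * c → c * w = w * c) : ∀ g ∈ PP, g * w = w * g := by
  obtain ⟨i1, j1, d1, hl1⟩ := h1.sl
  obtain ⟨i2, j2, d2, hl2⟩ := h2.sl
  set X : Subgroup H := PP ⊓ centralizer ({w} : Set H) with hX
  have hXp : IsPGroup 2 X := hPP.to_le inf_le_left
  have hQ1 : closure ({i1, j1} : Set H) ≤ X := by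
    rw [closure_le]
    rintro a (rfl | rfl)
    · exact ⟨hP1 _ hl1.hi hl1.q.i2, hs1.le hl1.hi⟩
    · exact ⟨hP1 _ hl1.hj hl1.q.j2, hs1.le hl1.hj⟩
  have hQ2 : closure ({i2, j2} : Set H) ≤ X := by
    rw [closure_le]
    rintro a (rfl | rfl)
    · exact ⟨hP2 _ hl2.hi hl2.q.i2, hs2.le hl2.hi⟩
    · exact ⟨hP2 _ hl2.hj hl2.q.j2, hs2.le hl2.hj⟩
  have key : ∀ g ∈ PP, g ∈ normalizer (X : Set H) → g * w = w * g := by
    intro g hg hgX
    -- first adjustment
    obtain ⟨ha, hb⟩ := normalizer_J h1 hPP hn1 hw hs1 hP1 (fun a _ => hz a) hg hgX hl1.hd hl1.d3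
    obtain ⟨x1, hx1, hc1⟩ := exists_adjust hl1 hXp hQ1 ha hb
    set g1 := g * x1 with hg1
    have hg1P : g1 ∈ PP := mul_mem hg (hQ1 hx1).1
    have hg1X : g1 ∈ normalizer (X : Set H) := mul_mem hgX (le_normalizer (hQ1 hx1))
    -- second adjustment
    obtain ⟨ha2, hb2⟩ := normalizer_J h2 hPP hn2 hw hs2 hP2 (fun a _ => hz a) hg1P hg1X hl2.hd hl2.d3
    obtain ⟨x2, hx2, hc2⟩ := exists_adjust hl2 hXp hQ2 ha2 hb2
    set g2 := g1 * x2 with hg2
    have hg2P : g2 ∈ PP := mul_mem hg1P (hQ2 hx2).1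
    have hg2X : g2 ∈ normalizer (X : Set H) := mul_mem hg1X (le_normalizer (hQ2 hx2))
    -- `g2` centralises both quaternion groups
    have hx2J : x2 ∈ J2 := hl2.Qle hx2
    have e1 : ∀ x ∈ closure ({i1, j1} : Set H), g2 * x = x * g2 := by
      have hN := mem_normalizer_J h1 hPP hn1 hw hs1 hP1 (fun a _ => hz a) hg2P hg2X
      obtain ⟨n, hn⟩ := hPP ⟨g2, hg2P⟩
      refine comm_Q hl1 h1.t3 hN (n := n) (by simpa using congrArg Subtype.val hn) (hz g2) ?_
      have e3 : x2 * d1 = d1 * x2 := (mem_centralizer_iff.1 (hc hx2J) d1 hl1.hd).symm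
      calc g2 * d1 = g1 * (x2 * d1) := by rw [hg2]; group
        _ = g1 * (d1 * x2) := by rw [e3]
        _ = (g1 * d1) * x2 := by group
        _ = d1 * g2 := by rw [hc1, hg2]; group
    have e2 : ∀ x ∈ closure ({i2, j2} : Set H), g2 * x = x * g2 := by
      have hN := mem_normalizer_J h2 hPP hn2 hw hs2 hP2 (fun a _ => hz a) hg2P hg2X
      obtain ⟨n, hn⟩ := hPP ⟨g2, hg2P⟩
      exact comm_Q hl2 h2.t3 hN (n := n) (by simpa using congrArg Subtype.val hn) (hz g2) hc2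
    have e3 : g2 * (q1 * q2) = (q1 * q2) * g2 := by
      have f1 := e1 q1 (mem_Q_of_sq hl1 h1.t3 hq1 hq1z)
      have f2 := e2 q2 (mem_Q_of_sq hl2 h2.t3 hq2 hq2z)
      calc g2 * (q1 * q2) = (g2 * q1) * q2 := by group
        _ = q1 * (g2 * q2) := by rw [f1]; group
        _ = (q1 * q2) * g2 := by rw [f2]; group
    have e4 := hA g2 e3
    have e5 : x1 * w = w * x1 := mem_centralizer_singleton_iff.1 (hQ1 hx1).2
    have e6 : x2 * w = w * x2 := mem_centralizer_singleton_iff.1 (hQ2 hx2).2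
    have e7 : g = g2 * x2⁻¹ * x1⁻¹ := by rw [hg2, hg1]; group
    have c1 : Commute g2 w := e4
    have c2 : Commute x1 w := e5
    have c3 : Commute x2 w := e6
    rw [e7]
    exact ((c1.mul_left c3.inv_left).mul_left c2.inv_left).eq
  have h3 := le_of_normalizer_le hPP (fun g hg hgX => (⟨hg, mem_centralizer_singleton_iff.2 (key g hg hgX)⟩ : g ∈ X))
    inf_le_left
  exact fun g hg => mem_centralizer_singleton_iff.1 (h3 hg).2

/-- an element of order 3 of `J` centralises `Z(P)`, `P = O₂(H) ≤ C(w)`; if `w ∈ P` then `J` is subnormal in `H` -/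
theorem subnormal_of_mem {z w : H} {J : Subgroup H} (h : IsPr J z) (hz : ∀ g : H, g * z = z * g)
    (hs : Sn J (centralizer ({w} : Set H))) (hw : w ∈ pCore 2 H) (hwP : ∀ p ∈ pCore 2 H, p * w = w * p)
    (hP : ∀ a ∈ J, a * a = z → a ∈ pCore 2 H) : J.IsSubnormal := by
  haveI : Fact (Nat.Prime 2) := ⟨Nat.prime_two⟩
  haveI hPn : (pCore 2 H).Normal := Lib.Cores.pCore_normal 2
  have hPp : IsPGroup 2 (pCore 2 H) := Lib.Cores.pCore_isPGroup 2
  set Z : Subgroup H := pCore 2 H ⊓ centralizer (pCore 2 H : Set H) with hZ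
  have hZn : Z.Normal := by
    haveI : (centralizer (pCore 2 H : Set H)).Normal := inferInstance
    infer_instance
  have hPw : pCore 2 H ≤ centralizer ({w} : Set H) := fun p hp => mem_centralizer_singleton_iff.2 (hwP p hp)
  have h1 : J ≤ centralizer (Z : Set H) := by
    refine h.le_of_cube fun v hv hv3 => ?_
    rw [mem_centralizer_iff]
    intro ζ hζ
    refine comm_of_cent h.t3 hPp ?_ (hs.restrict (sup_le hs.le hPw) le_sup_left) (fun a _ => hz a) hζ.1 ?_ hv hv3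
    · rw [normalizer_eq_top_iff.2 hPn]; exact le_top
    · intro a ha haz
      exact (mem_centralizer_iff.1 hζ.2 a (hP a ha haz)).symm
  have h2 : w ∈ Z := by
    refine mem_inf.2 ⟨hw, ?_⟩
    rw [mem_centralizer_iff]
    intro p hp
    exact hwP p hp
  have h3 : centralizer (Z : Set H) ≤ centralizer ({w} : Set H) :=
    centralizer_le (Set.singleton_subset_iff.2 h2)
  have h4 : (centralizer (Z : Set H)).Normal := inferInstance
  exact (hs.restrict h3 h1).isSubnormal h4.isSubnormal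

/-- **(2)(A)** -/
theorem caseA (hO : pPrimeCore 2 H = ⊥) {z w q1 q2 : H} {J1 J2 : Subgroup H} (h1 : IsPr J1 z) (h2 : IsPr J2 z)
    (hz : ∀ g : H, g * z = z * g) (hww : w * w = 1) (hs1 : Sn J1 (centralizer ({w} : Set H)))
    (hs2 : Sn J2 (centralizer ({w} : Set H))) (hc : J2 ≤ centralizer (J1 : Set H))
    (hP1 : ∀ a ∈ J1, a * a = z → a ∈ pCore 2 H) (hP2 : ∀ a ∈ J2, a * a = z → a ∈ pCore 2 H)
    (hq1 : q1 ∈ J1) (hq1z : q1 * q1 = z) (hq2 : q2 ∈ J2) (hq2z : q2 * q2 = z)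
    (hA : ∀ c : H, c * (q1 * q2) = (q1 * q2) * c → c * w = w * c) : J1.IsSubnormal := by
  haveI : Fact (Nat.Prime 2) := ⟨Nat.prime_two⟩
  haveI hPn : (pCore 2 H).Normal := Lib.Cores.pCore_normal 2
  have hPp : IsPGroup 2 (pCore 2 H) := Lib.Cores.pCore_isPGroup 2
  set PP : Subgroup H := pCore 2 H ⊔ zpowers w with hPPdef
  have hPP : IsPGroup 2 PP := by
    refine IsPGroup.to_sup_of_normal_left hPp ?_
    rintro ⟨x, k, rfl⟩
    refine ⟨1, Subtype.ext ?_⟩
    change (w ^ k) ^ (2 ^ 1) = 1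
    rw [pow_one, ← zpow_natCast, ← zpow_mul, mul_comm, zpow_mul, zpow_natCast, pow_two, hww, one_zpow]
  have hle : pCore 2 H ≤ PP := le_sup_left
  have hn : ∀ J : Subgroup H, J ≤ centralizer ({w} : Set H) → J ≤ normalizer (PP : Set H) := by
    intro J hJ g hg
    rw [mem_normalizer_iff_cj, hPPdef]
    have e1 : Cit.cj g (pCore 2 H) = pCore 2 H := by
      rw [← mem_normalizer_iff_cj, normalizer_eq_top_iff.2 hPn]; exact mem_top g
    have e2 : Cit.cj g (zpowers w) = zpowers w := by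
      rw [← mem_normalizer_iff_cj]
      refine centralizer_le_normalizer _ ?_
      rw [mem_centralizer_iff]
      rintro _ ⟨n, rfl⟩
      exact ((show Commute g w from mem_centralizer_singleton_iff.1 (hJ hg)).zpow_right n).eq.symm
    have e3 : Cit.cj g (pCore 2 H ⊔ zpowers w) = Cit.cj g (pCore 2 H) ⊔ Cit.cj g (zpowers w) := Subgroup.map_sup _ _ _
    rw [e3, e1, e2]
  have key := comm_of_pp h1 h2 hz hs1 hs2 hc hPP (hn J1 hs1.le) (hn J2 hs2.le)
    (mem_sup_right (mem_zpowers w)) (fun a ha haz => hle (hP1 a ha haz)) (fun a ha haz => hle (hP2 a ha haz))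
    hq1 hq1z hq2 hq2z hA
  -- `w` centralises `F*(H)`
  have hw1 : w ∈ centralizer (pCore 2 H : Set H) := by
    rw [mem_centralizer_iff]
    intro p hp
    exact key p (hle hp)
  have hw2 : w ∈ pCore 2 H := by
    apply OneComp.centralizer_genFit_le hO
    refine OneComp.mem_centralizer_genFit hO (fun L hL => ?_) hw1
    rw [mem_centralizer_iff]
    intro l hl
    refine hA l ?_
    have e1 : ∀ q ∈ pCore 2 H, l * q = q * l := by
      intro q hq
      have h3 : pCore 2 H ≤ centralizer (L : Set H) := by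
        rcases Components.component_le_or_commutator_eq_bot hL hPn.isSubnormal with h4 | h4
        · exfalso
          haveI : Group.IsNilpotent (pCore 2 H) := hPp.isNilpotent
          have h5 : Group.IsSolvable (pCore 2 H) := inferInstance
          have h6 : Group.IsSolvable L :=
            Group.isSolvable_of_isSolvable_injective (Subgroup.inclusion_injective h4)
          exact Components.quasisimple_not_isSolvable hL.2 h6
        · rw [commutator_eq_bot_iff_le_centralizer] at h4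
          rwa [le_centralizer_iff] at h4
      exact mem_centralizer_iff.1 (h3 hq) l hl
    have f1 := e1 q1 (hP1 q1 hq1 hq1z)
    have f2 := e1 q2 (hP2 q2 hq2 hq2z)
    calc l * (q1 * q2) = (l * q1) * q2 := by group
      _ = q1 * (l * q2) := by rw [f1]; group
      _ = (q1 * q2) * l := by rw [f2]; group
  exact subnormal_of_mem h1 hz hs1 hw2 (fun p hp => key p (hle hp)) hP1

end

end Cfsg.Agent.OddHalf.NI3.Bad
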