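import Cfsg.Agent.OddHalf.NI3.TC
import Cfsg.Agent.GTwoFour.OuterMain

/-!
# Node NI over `F₃`, bad types, steps (2)(A) and (3c): 2-groups with two commuting `SL₂(3)`

`H` a finite group, `P` a normal 2-subgroup, `J₁`, `J₂ ≅ SL₂(3)` with the same involution `z`, commuting,
`O₂(J₁)O₂(J₂) ≤ P`, `J₁`, `J₂` subnormal in `C_H(e)`, `e ∈ P` an involution.

* `exists_fixed` : coprime action of an element of order 3 on a coset of a 2-group;
* `comm_of_norm` : a 2-element commuting with an element of order 3 of `SL₂(3)` and normalising `Q₈` centralises `Q₈`;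
* `central_of` : if `C_P(w) ≤ C_P(e)` for some `w ∈ Q₁Q₂` then `e ∈ Z(P)`;
* `subnormal_of_central` : `e ∈ Z(P)` implies that `J₁` is subnormal in `H`.
-/

set_option autoImplicit false

namespace Cfsg.Agent.OddHalf.NI3.Bad.CoreThree

open Subgroup Cfsg Cfsg.Agent.Cit Cfsg.Agent.Cit.SolvTwo Cfsg.Agent.Cit.SLThree

variable {H : Type*} [Group H]

/-- **Coprime action on a coset**: `v` of order 3 normalises the 2-group `X` and the coset `n X`. -/
theorem exists_fixed {X : Subgroup H} [Finite H] (hX : IsPGroup 2 X) {v n : H} (hv : v * v * v = 1)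
    (hvX : ∀ x ∈ X, v * x * v⁻¹ ∈ X) (hn : n⁻¹ * v * n * v⁻¹ ∈ X) : ∃ x ∈ X, v * (n * x) = n * x * v := by
  classical
  have : Fact (Nat.Prime 3) := ⟨Nat.prime_three⟩
  have : Fintype ↥X := Fintype.ofFinite _
  set c := n⁻¹ * v * n * v⁻¹ with hc
  have hv' : v⁻¹ = v * v := (eq_inv_of_mul_eq_one_left hv).symm
  have hvX' : ∀ x ∈ X, v⁻¹ * x * v ∈ X := by
    intro x hx
    have h1 := hvX _ (hvX x hx)
    have e : v * (v * x * v⁻¹) * v⁻¹ = v⁻¹ * x * v := by
      calc v * (v * x * v⁻¹) * v⁻¹ = (v * v) * x * (v * v)⁻¹ := by group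
        _ = v⁻¹ * x * v⁻¹⁻¹ := by rw [← hv']
        _ = v⁻¹ * x * v := by rw [inv_inv]
    rwa [e] at h1
  let σ : Equiv.Perm ↥X :=
    { toFun := fun x => ⟨c * (v * x * v⁻¹), mul_mem hn (hvX x x.2)⟩
      invFun := fun x => ⟨v⁻¹ * (c⁻¹ * x) * v, hvX' _ (mul_mem (inv_mem hn) x.2)⟩
      left_inv := fun x => Subtype.ext (by
        show v⁻¹ * (c⁻¹ * (c * (v * x * v⁻¹))) * v = x
        group)
      right_inv := fun x => Subtype.ext (by
        show c * (v * (v⁻¹ * (c⁻¹ * x) * v) * v⁻¹) = x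
        group) }
  have hσ1 : ∀ x : ↥X, n * ((σ x : ↥X) : H) = v * (n * x) * v⁻¹ := by
    intro x
    show n * (c * (v * x * v⁻¹)) = v * (n * x) * v⁻¹
    rw [hc]; group
  have hσ : σ ^ 3 ^ 1 = 1 := by
    ext x
    rw [pow_one, pow_succ, pow_two]
    show ((σ (σ (σ x)) : ↥X) : H) = x
    have h1 : n * ((σ (σ (σ x)) : ↥X) : H) = n * x := by
      rw [hσ1, hσ1, hσ1]
      calc v * (v * (v * (n * x) * v⁻¹) * v⁻¹) * v⁻¹ = (v * v * v) * (n * x) * (v * v * v)⁻¹ := by group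
        _ = n * x := by rw [hv, one_mul, inv_one, mul_one]
    exact mul_left_cancel h1
  have hcard : ¬ 3 ∣ Fintype.card ↥X := by
    intro h3
    have : Fact (Nat.Prime 2) := ⟨Nat.prime_two⟩
    obtain ⟨k, hk⟩ := IsPGroup.iff_card.1 hX
    rw [← Nat.card_eq_fintype_card, hk] at h3
    have := (Nat.prime_three.dvd_of_dvd_pow h3)
    omega
  obtain ⟨x, hx⟩ := Equiv.Perm.exists_fixed_point_of_prime (n := 1) hcard hσ
  refine ⟨x, x.2, ?_⟩
  have h1 := hσ1 x
  rw [hx] at h1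
  exact (eq_mul_inv_iff_mul_eq.1 h1).symm

/-- an element of 2-power order whose cube commutes with `x` commutes with `x` -/
theorem comm_of_cube {n x : H} {k : ℕ} (hn : n ^ 2 ^ k = 1) (h : n * (n * (n * x * n⁻¹) * n⁻¹) * n⁻¹ = x) :
    n * x * n⁻¹ = x := by
  have hco : Nat.Coprime 3 (orderOf n) :=
    Nat.Coprime.coprime_dvd_right (orderOf_dvd_of_pow_eq_one hn) (Nat.Coprime.pow_right k (by norm_num))
  obtain ⟨m, hm⟩ := exists_pow_eq_self_of_coprime hco
  have h1 : Commute (n ^ 3) x := by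
    show n ^ 3 * x = x * n ^ 3
    have e3 : n ^ 3 = n * (n * n) := by rw [pow_succ, pow_two, mul_assoc]
    rw [e3]
    calc n * (n * n) * x = (n * (n * (n * x * n⁻¹) * n⁻¹) * n⁻¹) * (n * (n * n)) := by
          simp only [mul_assoc, inv_mul_cancel_left, inv_mul_cancel, mul_one]
      _ = x * (n * (n * n)) := by rw [h]
  have h2 := h1.pow_left m
  rw [hm] at h2
  rw [h2.eq]; group

/-- a 2-element commuting with `d` which maps `i` into `Q₈` centralises `Q₈` -/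
theorem comm_of_norm {M : Subgroup H} {z i j d : H} (h : Sl M z i j d) {n : H} {k : ℕ} (hn : n ^ 2 ^ k = 1)
    (hd : n * d = d * n) (hi : n * i * n⁻¹ ∈ closure ({i, j} : Set H)) : n * i = i * n ∧ n * j = j * n := by
  have hz := h.q.z1
  have hj : n * j * n⁻¹ = d * (n * i * n⁻¹) * d⁻¹ := by
    rw [← h.di]
    calc n * (d * i * d⁻¹) * n⁻¹ = (n * d) * i * (n * d)⁻¹ := by group
      _ = (d * n) * i * (d * n)⁻¹ := by rw [hd]
      _ = d * (n * i * n⁻¹) * d⁻¹ := by group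
  have hij : n * (i * j) * n⁻¹ = d * (n * j * n⁻¹) * d⁻¹ := by
    rw [← h.dj]
    calc n * (d * j * d⁻¹) * n⁻¹ = (n * d) * j * (n * d)⁻¹ := by group
      _ = (d * n) * j * (d * n)⁻¹ := by rw [hd]
      _ = d * (n * j * n⁻¹) * d⁻¹ := by group
  have hmul : (n * i * n⁻¹) * (n * j * n⁻¹) = n * (i * j) * n⁻¹ := by group
  have dd : ∀ x : H, d * (z * x) * d⁻¹ = z * (d * x * d⁻¹) := fun x => by
    calc d * (z * x) * d⁻¹ = (d * z) * x * d⁻¹ := by group
      _ = z * (d * x * d⁻¹) := by rw [h.dz]; group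
  have hcan : ∀ x : H, z * x = x → False := fun x e => hz (by simpa using e)
  have key : n * i * n⁻¹ = i := by
    rcases h.q.mem_cases hi with e | e | e | e | e | e | e | e
    · exfalso
      apply h.q.i_ne
      calc i = n⁻¹ * (n * i * n⁻¹) * n := by group
        _ = 1 := by rw [e]; group
    · exfalso
      apply hz
      calc z = n⁻¹ * ((n * i * n⁻¹) * (n * i * n⁻¹)) * n := by rw [← h.q.i2]; group
        _ = 1 := by rw [e, h.q.z2]; group
    · exact e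
    · exfalso
      rw [hij, hj, e, dd, h.di, dd, h.dj] at hmul
      simp only [mul_assoc, h.q.zz, h.q.izx] at hmul
      exact hcan _ hmul.symm
    · refine comm_of_cube hn ?_
      rw [e, hj, e, h.dj, hij, hj, e, h.dj, h.dij]
    · exfalso
      rw [hij, hj, e, dd, h.dj, dd, h.dij] at hmul
      simp only [mul_assoc, h.q.zz, h.q.jzx, h.q.jix, h.q.j2, h.q.iz] at hmul
      exact hcan _ hmul.symm
    · refine comm_of_cube hn ?_
      rw [e, hij, hj, e, h.dij, h.di, hj, e, h.dij]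
    · exfalso
      rw [hij, hj, e, dd, h.dij, dd, h.di] at hmul
      simp only [mul_assoc, h.q.zz, h.q.jzx, h.q.iix, h.q.ji] at hmul
      exact hcan _ hmul.symm
  refine ⟨mul_inv_eq_iff_eq_mul.1 key, mul_inv_eq_iff_eq_mul.1 ?_⟩
  rw [hj, key, h.di]

section One

variable [Finite H] {P J : Subgroup H} {z e i j d : H}

/-- the commutators with `d` of the elements of a 2-subgroup of `C(e)` are in `Q₈` -/
theorem comm_mem (h : Sl J z i j d) (hs : Sn J (centralizer ({e} : Set H))) {X : Subgroup H}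
    (hX : IsPGroup 2 X) (hXe : X ≤ centralizer ({e} : Set H)) (hn : J ≤ normalizer (X : Set H)) (hi : i ∈ X)
    (hj : j ∈ X) {x : H} (hx : x ∈ X) : x⁻¹ * (d * x * d⁻¹) ∈ closure ({i, j} : Set H) := by
  have h1 : x⁻¹ * d * x ∈ J := by
    refine mem_of_sup (P := X) (hs.restrict (sup_le hs.1 hXe) le_sup_left) hX hn ?_ ?_
    · exact mul_mem (mul_mem (inv_mem (mem_sup_right hx)) (mem_sup_left h.hd)) (mem_sup_right hx)
    · refine odd_of_cube ?_
      calc x⁻¹ * d * x * (x⁻¹ * d * x) * (x⁻¹ * d * x) = x⁻¹ * (d * d * d) * x := by group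
        _ = 1 := by rw [h.d3]; group
  have h2 : x⁻¹ * (d * x * d⁻¹) ∈ X := mul_mem (inv_mem hx) ((mem_normalizer_iff.1 (hn h.hd) x).1 hx)
  have h3 : x⁻¹ * (d * x * d⁻¹) ∈ J := by
    have e1 : x⁻¹ * (d * x * d⁻¹) = x⁻¹ * d * x * d⁻¹ := by group
    rw [e1]
    exact mul_mem h1 (inv_mem h.hd)
  refine h.mem_Q h3 hX ?_ h2
  rw [closure_le]
  rintro y (rfl | rfl)
  · exact hi
  · exact hj

omit [Finite H] in
theorem le_norm_inf (hs : J ≤ centralizer ({e} : Set H)) (hn : J ≤ normalizer (P : Set H)) :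
    J ≤ normalizer ((P ⊓ centralizer ({e} : Set H) : Subgroup H) : Set H) :=
  (le_inf hn (hs.trans le_normalizer)).trans inf_normalizer_le_normalizer_inf

/-- `d` commutes with `Z(X)` -/
theorem comm_center (hJ : IsPr J z) (h : Sl J z i j d) (hs : Sn J (centralizer ({e} : Set H))) {X : Subgroup H}
    (hX : IsPGroup 2 X) (hXe : X ≤ centralizer ({e} : Set H)) (hn : J ≤ normalizer (X : Set H)) (hi : i ∈ X)
    {w : H} (hw : w ∈ X) (hwX : ∀ x ∈ X, x * w = w * x) : d * w = w * d := by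
  have h1 : IsPGroup 2 ↥(X ⊓ centralizer (X : Set H)) := hX.to_le inf_le_left
  refine NI3.T3.comm_of_sn hJ.t3 hs (P := X ⊓ centralizer (X : Set H)) (inf_le_left.trans hXe) h1 ?_ ?_ h.hd h.d3
    ⟨hw, mem_centralizer_iff.2 hwX⟩
  · intro g hg
    have hg' := mem_normalizer_iff.1 (hn hg)
    rw [mem_normalizer_iff]
    intro x
    rw [mem_inf, mem_inf, ← hg' x]
    refine and_congr_right fun _ => ?_
    rw [mem_centralizer_iff, mem_centralizer_iff]
    constructor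
    · intro hx y hy
      have h2 := hx (g⁻¹ * y * g) (by
        have : y ∈ X ↔ _ := Iff.rfl
        have h3 := hg' (g⁻¹ * y * g)
        rw [show g * (g⁻¹ * y * g) * g⁻¹ = y by group] at h3
        exact h3.2 hy)
      calc y * (g * x * g⁻¹) = g * ((g⁻¹ * y * g) * x) * g⁻¹ := by group
        _ = g * x * g⁻¹ * y := by rw [h2]; group
    · intro hx y hy
      have h2 := hx (g * y * g⁻¹) ((hg' y).1 hy)
      calc y * x = g⁻¹ * (g * y * g⁻¹ * (g * x * g⁻¹)) * g := by group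
        _ = x * y := by rw [h2]; group
  · intro h2
    have h3 := (h2 j h.hj h.q.j2).2
    exact h.q.not_comm (mem_centralizer_iff.1 h3 i hi)

variable (hJ : IsPr J z) (h : Sl J z i j d) (hs : Sn J (centralizer ({e} : Set H))) (hP : IsPGroup 2 P)
  (hn : J ≤ normalizer (P : Set H)) (hi : i ∈ P) (hj : j ∈ P) (he : e ∈ P)

include hJ h hs hP hn hi he in
theorem coset_mem {n : H} (hnP : n ∈ P) (hnX : n ∈ normalizer ((P ⊓ centralizer ({e} : Set H) : Subgroup H) : Set H)) :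
    n⁻¹ * d * n * d⁻¹ ∈ P ⊓ centralizer ({e} : Set H) := by
  have hJe : ∀ g ∈ J, g * e = e * g := fun g hg => mem_centralizer_singleton_iff.1 (hs.1 hg)
  have hX2 : IsPGroup 2 ↥(P ⊓ centralizer ({e} : Set H)) := hP.to_le inf_le_left
  have hnX' := mem_normalizer_iff.1 hnX
  have hde := hJe d h.hd
  have hiX : i ∈ P ⊓ centralizer ({e} : Set H) := ⟨hi, mem_centralizer_singleton_iff.2 (hJe i h.hi)⟩
  have heX : e ∈ P ⊓ centralizer ({e} : Set H) := ⟨he, mem_centralizer_singleton_iff.2 rfl⟩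
  have h1 : d * (n * e * n⁻¹) = n * e * n⁻¹ * d := by
    refine comm_center hJ h hs hX2 inf_le_right (le_norm_inf hs.1 hn) hiX ((hnX' e).1 heX) ?_
    intro x hx
    have h2 : n⁻¹ * x * n ∈ P ⊓ centralizer ({e} : Set H) := by
      have h3 := hnX' (n⁻¹ * x * n)
      rw [show n * (n⁻¹ * x * n) * n⁻¹ = x by group] at h3
      exact h3.2 hx
    have h4 : n⁻¹ * x * n * e = e * (n⁻¹ * x * n) := mem_centralizer_singleton_iff.1 h2.2
    calc x * (n * e * n⁻¹) = n * (n⁻¹ * x * n * e) * n⁻¹ := by group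
      _ = n * e * n⁻¹ * x := by rw [h4]; group
  refine mem_inf.2 ⟨?_, mem_centralizer_singleton_iff.2 ?_⟩
  · have e1 : n⁻¹ * d * n * d⁻¹ = n⁻¹ * (d * n * d⁻¹) := by group
    rw [e1]
    exact mul_mem (inv_mem hnP) ((mem_normalizer_iff.1 (hn h.hd) n).1 hnP)
  · have e2 : d⁻¹ * e = e * d⁻¹ := (show Commute d e from hde).inv_left.eq
    calc n⁻¹ * d * n * d⁻¹ * e = n⁻¹ * d * n * (d⁻¹ * e) := by group
      _ = n⁻¹ * d * n * (e * d⁻¹) := by rw [e2]
      _ = n⁻¹ * (d * (n * e * n⁻¹)) * n * d⁻¹ := by group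
      _ = e * (n⁻¹ * d * n * d⁻¹) := by rw [h1]; group

include h hs hP hn hi hj in
/-- an element of `P` which normalises `C_P(e)` and commutes with `d` commutes with `Q₈` -/
theorem comm_of_normX {n : H} (hnP : n ∈ P)
    (hnX : n ∈ normalizer ((P ⊓ centralizer ({e} : Set H) : Subgroup H) : Set H)) (hd : n * d = d * n) :
    n * i = i * n ∧ n * j = j * n := by
  have hJe : ∀ g ∈ J, g * e = e * g := fun g hg => mem_centralizer_singleton_iff.1 (hs.1 hg)
  have hX2 : IsPGroup 2 ↥(P ⊓ centralizer ({e} : Set H)) := hP.to_le inf_le_left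
  have hnX' := mem_normalizer_iff.1 hnX
  have hiX : i ∈ P ⊓ centralizer ({e} : Set H) := ⟨hi, mem_centralizer_singleton_iff.2 (hJe i h.hi)⟩
  have hjX : j ∈ P ⊓ centralizer ({e} : Set H) := ⟨hj, mem_centralizer_singleton_iff.2 (hJe j h.hj)⟩
  have key : ∀ x ∈ P ⊓ centralizer ({e} : Set H), n * (x⁻¹ * (d * x * d⁻¹)) * n⁻¹ ∈ closure ({i, j} : Set H) := by
    intro x hx
    have h1 := comm_mem h hs hX2 inf_le_right (le_norm_inf hs.1 hn) hiX hjX ((hnX' x).1 hx)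
    have e1 : (n * x * n⁻¹)⁻¹ * (d * (n * x * n⁻¹) * d⁻¹) = n * (x⁻¹ * (d * x * d⁻¹)) * n⁻¹ := by
      calc (n * x * n⁻¹)⁻¹ * (d * (n * x * n⁻¹) * d⁻¹) = n * x⁻¹ * n⁻¹ * (d * n) * x * (d * n)⁻¹ := by group
        _ = n * x⁻¹ * n⁻¹ * (n * d) * x * (n * d)⁻¹ := by rw [hd]
        _ = n * (x⁻¹ * (d * x * d⁻¹)) * n⁻¹ := by group
    rwa [e1] at h1
  have h2 : n * (z * i) * n⁻¹ ∈ closure ({i, j} : Set H) := by
    have h3 := key j hjX
    have e2 : j⁻¹ * (d * j * d⁻¹) = z * i := by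
      rw [h.dj, h.q.j_inv]
      simp only [mul_assoc, h.q.jix, h.q.j2, h.q.iz, h.q.zz]
    rwa [e2] at h3
  have h3 : n * z * n⁻¹ ∈ closure ({i, j} : Set H) := by
    have e2 : n * z * n⁻¹ = (n * (z * i) * n⁻¹) * (n * (z * i) * n⁻¹) := by
      have e3 : z * i * (z * i) = z := by simp only [mul_assoc, h.q.izx, h.q.i2, h.q.zz]
      calc n * z * n⁻¹ = n * (z * i * (z * i)) * n⁻¹ := by rw [e3]
        _ = (n * (z * i) * n⁻¹) * (n * (z * i) * n⁻¹) := by group
    rw [e2]; exact mul_mem h2 h2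
  have h4 : n * i * n⁻¹ ∈ closure ({i, j} : Set H) := by
    have e2 : n * i * n⁻¹ = (n * z * n⁻¹) * (n * (z * i) * n⁻¹) := by
      have e3 : z * (z * i) = i := h.q.zz i
      calc n * i * n⁻¹ = n * (z * (z * i)) * n⁻¹ := by rw [e3]
        _ = (n * z * n⁻¹) * (n * (z * i) * n⁻¹) := by group
    rw [e2]; exact mul_mem h3 h2
  obtain ⟨k, hk⟩ := hP ⟨n, hnP⟩
  have hk' : n ^ 2 ^ k = 1 := by simpa using congrArg Subtype.val hk
  exact comm_of_norm h hk' hd h4

end One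

section Two

variable [Finite H] {P J₁ J₂ : Subgroup H} {z z' e i₁ j₁ d₁ i₂ j₂ d₂ : H}

/-- **`C_P(w) ≤ C_P(e)` for some `w ∈ Q₁Q₂` implies `e ∈ Z(P)`** -/
theorem central_of (hP : IsPGroup 2 P) (p1 : IsPr J₁ z) (p2 : IsPr J₂ z') (s1 : Sl J₁ z i₁ j₁ d₁)
    (s2 : Sl J₂ z' i₂ j₂ d₂) (n1 : J₁ ≤ normalizer (P : Set H)) (n2 : J₂ ≤ normalizer (P : Set H))
    (sn1 : Sn J₁ (centralizer ({e} : Set H))) (sn2 : Sn J₂ (centralizer ({e} : Set H)))
    (hc : ∀ a ∈ J₁, ∀ b ∈ J₂, a * b = b * a) (hi1 : i₁ ∈ P) (hj1 : j₁ ∈ P) (hi2 : i₂ ∈ P) (hj2 : j₂ ∈ P) (he : e ∈ P)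
    (hw : ∀ c ∈ P, c * i₁ = i₁ * c → c * j₁ = j₁ * c → c * i₂ = i₂ * c → c * j₂ = j₂ * c → c * e = e * c) :
    ∀ p ∈ P, p * e = e * p := by
  set X : Subgroup H := P ⊓ centralizer ({e} : Set H) with hXdef
  have hX2 : IsPGroup 2 X := hP.to_le inf_le_left
  suffices hX : X = P by
    intro p hp
    rw [← hX] at hp
    exact mem_centralizer_singleton_iff.1 hp.2
  by_contra hne
  obtain ⟨n, hnP, hnX, hn⟩ := GTwoFour.OuterFour.exists_norm_grow hP inf_le_left hne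
  have hn' : n ∈ normalizer (X : Set H) := mem_normalizer_fintype fun x hx => hn x hx
  have v1X : ∀ x ∈ X, d₁ * x * d₁⁻¹ ∈ X := fun x hx => (mem_normalizer_iff.1 (le_norm_inf sn1.1 n1 s1.hd) x).1 hx
  have v2X : ∀ x ∈ X, d₂ * x * d₂⁻¹ ∈ X := fun x hx => (mem_normalizer_iff.1 (le_norm_inf sn2.1 n2 s2.hd) x).1 hx
  have h1 := coset_mem p1 s1 sn1 hP n1 hi1 he hnP hn'
  obtain ⟨x, hx, hxv⟩ := exists_fixed hX2 s1.d3 v1X h1
  -- the second element
  set m := n * x with hm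
  have hmP : m ∈ P := mul_mem hnP hx.1
  have hm' : m ∈ normalizer (X : Set H) := mul_mem hn' (le_normalizer hx)
  have h2 := coset_mem p2 s2 sn2 hP n2 hi2 he hmP hm'
  have hdd : d₁ * d₂ = d₂ * d₁ := hc _ s1.hd _ s2.hd
  have hY2 : IsPGroup 2 ↥(X ⊓ centralizer ({d₁} : Set H)) := hX2.to_le inf_le_left
  have v2Y : ∀ y ∈ X ⊓ centralizer ({d₁} : Set H), d₂ * y * d₂⁻¹ ∈ X ⊓ centralizer ({d₁} : Set H) := by
    intro y hy
    refine ⟨v2X y hy.1, mem_centralizer_singleton_iff.2 ?_⟩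
    have h3 : y * d₁ = d₁ * y := mem_centralizer_singleton_iff.1 hy.2
    have h4 : Commute d₁ (d₂ * y * d₂⁻¹) := by
      refine (Commute.mul_right (Commute.mul_right hdd h3.symm) ?_)
      exact (show Commute d₁ d₂ from hdd).inv_right
    exact h4.symm
  have h3 : m⁻¹ * d₂ * m * d₂⁻¹ ∈ X ⊓ centralizer ({d₁} : Set H) := by
    refine ⟨h2, mem_centralizer_singleton_iff.2 ?_⟩
    have h4 : Commute d₁ m := hxv
    have h5 : Commute d₁ d₂ := hdd
    exact (((h4.inv_right.mul_right h5).mul_right h4).mul_right h5.inv_right).symm.eq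
  obtain ⟨y, hy, hyv⟩ := exists_fixed hY2 s2.d3 v2Y h3
  have hkP : m * y ∈ P := mul_mem hmP hy.1.1
  have hk' : m * y ∈ normalizer (X : Set H) := mul_mem hm' (le_normalizer hy.1)
  have hk1 : m * y * d₁ = d₁ * (m * y) := by
    have h4 : Commute d₁ m := hxv
    have h5 : Commute d₁ y := (mem_centralizer_singleton_iff.1 hy.2).symm
    exact (h4.mul_right h5).symm.eq
  have c1 := comm_of_normX s1 sn1 hP n1 hi1 hj1 hkP hk' hk1
  have c2 := comm_of_normX s2 sn2 hP n2 hi2 hj2 hkP hk' hyv.symm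
  have h6 := hw _ hkP c1.1 c1.2 c2.1 c2.2
  have h7 : m * y ∈ X := ⟨hkP, mem_centralizer_singleton_iff.2 h6⟩
  apply hnX
  have h8 : n = m * y * (x * y)⁻¹ := by rw [hm]; group
  rw [h8]
  exact mul_mem h7 (inv_mem (mul_mem hx hy.1))

/-- `e ∈ Z(P)`: `J₁` is subnormal in `H` -/
theorem subnormal_of_central [P.Normal] (hP : IsPGroup 2 P) (p1 : IsPr J₁ z)
    (sn1 : Sn J₁ (centralizer ({e} : Set H))) (he : e ∈ P) (hc : ∀ p ∈ P, p * e = e * p) : J₁.IsSubnormal := by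
  obtain ⟨i, j, d, s1⟩ := p1.sl
  set Z : Subgroup H := P ⊓ centralizer (P : Set H) with hZ
  have hZn : Z.Normal := by rw [hZ]; infer_instance
  have hZ2 : IsPGroup 2 Z := hP.to_le inf_le_left
  have heZ : e ∈ Z := ⟨he, mem_centralizer_iff.2 hc⟩
  have hZe : Z ≤ centralizer ({e} : Set H) := fun x hx => mem_centralizer_singleton_iff.2 (hc x hx.1)
  have h1 : J₁ ≤ centralizer (Z : Set H) := by
    refine p1.le_of_cube fun v hv h3 => ?_
    rw [mem_centralizer_iff]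
    intro w hw
    refine (NI3.T3.comm_of_sn p1.t3 sn1 hZe hZ2 ?_ ?_ hv h3 hw).symm
    · rw [normalizer_eq_top_iff.2 hZn]; exact le_top
    · intro h2
      exact s1.q.not_comm (mem_centralizer_iff.1 (h2 j s1.hj s1.q.j2).2 i (h2 i s1.hi s1.q.i2).1)
  have h2 : (centralizer (Z : Set H)).Normal := by infer_instance
  exact (sn1.restrict (centralizer_le (Set.singleton_subset_iff.2 heZ)) h1).isSubnormal h2.isSubnormal

end Two

/-! ### Subgroups isomorphic to `A₄` -/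

abbrev AA4 := ↥(alternatingGroup (Fin 4))

theorem aa4_cases : ∀ x : AA4, x * x = 1 ∨ x * x * x = 1 := by decide +kernel

theorem aa4_comm : ∀ x y : AA4, x * x = 1 → y * y = 1 → x * y = y * x := by decide +kernel

theorem aa4_conj' : ∀ v : AA4, v * v * v = 1 ∧ v ≠ 1 → ∀ x : AA4, x * x = 1 ∧ x ≠ 1 → ∀ y : AA4, y * y = 1 ∧ y ≠ 1 →
    y = x ∨ y = v * x * v⁻¹ ∨ y = v * (v * x * v⁻¹) * v⁻¹ := by decide +kernel

theorem aa4_conj (v x y : AA4) (h1 : v * v * v = 1) (h2 : v ≠ 1) (h3 : x * x = 1) (h4 : x ≠ 1) (h5 : y * y = 1)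
    (h6 : y ≠ 1) : y = x ∨ y = v * x * v⁻¹ ∨ y = v * (v * x * v⁻¹) * v⁻¹ :=
  aa4_conj' v ⟨h1, h2⟩ x ⟨h3, h4⟩ y ⟨h5, h6⟩

theorem aa4_gen : ∀ x : AA4, ∃ v w : AA4, v * v * v = 1 ∧ w * w * w = 1 ∧ x = v * w := by decide +kernel

theorem aa4_ex : ∃ v : AA4, v * v * v = 1 ∧ v ≠ 1 := by decide +kernel

/-- `B ≅ A₄` -/
structure Alt4 (B : Subgroup H) : Prop where
  cases : ∀ x ∈ B, x * x = 1 ∨ x * x * x = 1
  comm : ∀ x ∈ B, ∀ y ∈ B, x * x = 1 → y * y = 1 → x * y = y * x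
  conj : ∀ v ∈ B, ∀ x ∈ B, ∀ y ∈ B, v * v * v = 1 → v ≠ 1 → x * x = 1 → x ≠ 1 → y * y = 1 → y ≠ 1 →
    y = x ∨ y = v * x * v⁻¹ ∨ y = v * (v * x * v⁻¹) * v⁻¹
  gen : ∀ x ∈ B, ∃ v ∈ B, ∃ w ∈ B, v * v * v = 1 ∧ w * w * w = 1 ∧ x = v * w
  ex : ∃ v ∈ B, v * v * v = 1 ∧ v ≠ 1

theorem Alt4.of_equiv {B : Subgroup H} (e : ↥B ≃* AA4) : Alt4 B := by
  have hm : ∀ x y : H, ∀ (hx : x ∈ B) (hy : y ∈ B), e ⟨x * y, mul_mem hx hy⟩ = e ⟨x, hx⟩ * e ⟨y, hy⟩ :=
    fun x y hx hy => by rw [← map_mul]; rfl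
  have h1 : ∀ x : H, ∀ hx : x ∈ B, e ⟨x, hx⟩ = 1 ↔ x = 1 := fun x hx => by
    rw [map_eq_one_iff e e.injective]
    exact ⟨fun h => congrArg Subtype.val h, fun h => Subtype.ext h⟩
  have hi : ∀ x : H, ∀ hx : x ∈ B, e ⟨x⁻¹, inv_mem hx⟩ = (e ⟨x, hx⟩)⁻¹ := fun x hx => by rw [← map_inv]; rfl
  have hinj : ∀ x y : H, ∀ (hx : x ∈ B) (hy : y ∈ B), e ⟨x, hx⟩ = e ⟨y, hy⟩ → x = y := fun x y hx hy h =>
    congrArg Subtype.val (e.injective h)
  constructor
  · intro x hx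
    rcases aa4_cases (e ⟨x, hx⟩) with h | h
    · left
      rw [← hm, h1] at h; exact h
    · right
      rw [← hm, ← hm, h1] at h; exact h
  · intro x hx y hy hx2 hy2
    have h := aa4_comm (e ⟨x, hx⟩) (e ⟨y, hy⟩) (by rw [← hm, h1]; exact hx2) (by rw [← hm, h1]; exact hy2)
    rw [← hm, ← hm] at h
    exact hinj _ _ _ _ h
  · intro v hv x hx y hy hv3 hv1 hx2 hx1 hy2 hy1
    have h := aa4_conj (e ⟨v, hv⟩) (e ⟨x, hx⟩) (e ⟨y, hy⟩) (by rw [← hm, ← hm, h1]; exact hv3)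
      (by rw [Ne, h1]; exact hv1) (by rw [← hm, h1]; exact hx2) (by rw [Ne, h1]; exact hx1)
      (by rw [← hm, h1]; exact hy2) (by rw [Ne, h1]; exact hy1)
    rw [← hi] at h
    rcases h with h | h | h
    · exact Or.inl (hinj _ _ _ _ h)
    · rw [← hm, ← hm] at h
      exact Or.inr (Or.inl (hinj _ _ _ _ h))
    · rw [← hm, ← hm, ← hm, ← hm] at h
      exact Or.inr (Or.inr (hinj _ _ _ _ h))
  · intro x hx
    obtain ⟨v, w, hv, hw, hx'⟩ := aa4_gen (e ⟨x, hx⟩)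
    refine ⟨_, (e.symm v).2, _, (e.symm w).2, ?_, ?_, ?_⟩
    · have : e.symm v * e.symm v * e.symm v = 1 := by rw [← map_mul, ← map_mul, hv, map_one]
      exact congrArg Subtype.val this
    · have : e.symm w * e.symm w * e.symm w = 1 := by rw [← map_mul, ← map_mul, hw, map_one]
      exact congrArg Subtype.val this
    · have : (⟨x, hx⟩ : B) = e.symm v * e.symm w := by rw [← map_mul, ← hx', e.symm_apply_apply]
      exact congrArg Subtype.val this
  · obtain ⟨v, hv, hv1⟩ := aa4_ex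
    refine ⟨_, (e.symm v).2, ?_, ?_⟩
    · have : e.symm v * e.symm v * e.symm v = 1 := by rw [← map_mul, ← map_mul, hv, map_one]
      exact congrArg Subtype.val this
    · intro h
      apply hv1
      have h2 : e.symm v = 1 := Subtype.ext h
      rw [← e.apply_symm_apply v, h2, map_one]

namespace Alt4

variable {B : Subgroup H} (hB : Alt4 B)

/-- the normal four-group -/
def V : Subgroup H where
  carrier := {x | x ∈ B ∧ x * x = 1}
  one_mem' := ⟨one_mem _, one_mul 1⟩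
  mul_mem' := by
    rintro x y ⟨hx, hx2⟩ ⟨hy, hy2⟩
    refine ⟨mul_mem hx hy, ?_⟩
    have h1 := hB.comm x hx y hy hx2 hy2
    calc x * y * (x * y) = x * (y * x) * y := by group
      _ = (x * x) * (y * y) := by rw [← h1]; group
      _ = 1 := by rw [hx2, hy2, one_mul]
  inv_mem' := by
    rintro x ⟨hx, hx2⟩
    refine ⟨inv_mem hx, ?_⟩
    rw [← mul_inv_rev, hx2, inv_one]

theorem mem_V {x : H} : x ∈ hB.V ↔ x ∈ B ∧ x * x = 1 := Iff.rfl

theorem V_le : hB.V ≤ B := fun _ hx => hx.1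

theorem V_two : IsPGroup 2 hB.V := by
  rintro ⟨x, hx⟩
  refine ⟨1, Subtype.ext ?_⟩
  show x ^ 2 ^ 1 = 1
  rw [pow_one, pow_two]; exact hx.2

theorem conj_V {n x : H} (hn : n * x * n⁻¹ ∈ B) (hx : x ∈ hB.V) : n * x * n⁻¹ ∈ hB.V := by
  refine ⟨hn, ?_⟩
  calc n * x * n⁻¹ * (n * x * n⁻¹) = n * (x * x) * n⁻¹ := by group
    _ = 1 := by rw [hx.2]; group

end Alt4

section ThreeC

variable [Finite H] {B P : Subgroup H} {e f : H}

/-- **(3c)** `B ≅ A₄` subnormal in `C_H(f)`, `f ∈ P = O₂(H)`, `e` an involution of `B`: `C_P(f) ≤ C_P(e)` and `e ∈ P` -/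
theorem alt4_le (hB : Alt4 B) (hs : Sn B (centralizer ({f} : Set H))) (hf : f ∈ pCore 2 H) (hf2 : f * f = 1)
    (heB : e ∈ B) (he2 : e * e = 1) (he1 : e ≠ 1) :
    e ∈ pCore 2 H ∧ ∀ x ∈ pCore 2 H, x * f = f * x → x * e = e * x := by
  classical
  have : Fact (Nat.Prime 2) := ⟨Nat.prime_two⟩
  set P : Subgroup H := pCore 2 H with hPdef
  have hPn : P.Normal := Lib.Cores.pCore_normal 2
  have hP : IsPGroup 2 P := Lib.Cores.pCore_isPGroup 2
  set W : Subgroup H := P ⊓ centralizer ({f} : Set H) with hWdef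
  have hW : IsPGroup 2 W := hP.to_le inf_le_left
  have hBW : B ≤ normalizer (W : Set H) := by
    refine le_norm_inf hs.1 ?_
    rw [normalizer_eq_top_iff.2 hPn]; exact le_top
  have two : ∀ x ∈ P, x * x * x = 1 → x = 1 := by
    intro x hx h3
    obtain ⟨n, hn⟩ := hP ⟨x, hx⟩
    exact Sl.eq_one_of_cube h3 (n := n) (by simpa using congrArg Subtype.val hn)
  have hconj : ∀ v ∈ B, v * v * v = 1 → ∀ x ∈ W, x⁻¹ * v * x ∈ B := by
    intro v hv h3 x hx
    refine mem_of_sup (P := W) (hs.restrict (sup_le hs.1 inf_le_right) le_sup_left) hW hBW ?_ ?_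
    · exact mul_mem (mul_mem (inv_mem (mem_sup_right hx)) (mem_sup_left hv)) (mem_sup_right hx)
    · refine odd_of_cube ?_
      calc x⁻¹ * v * x * (x⁻¹ * v * x) * (x⁻¹ * v * x) = x⁻¹ * (v * v * v) * x := by group
        _ = 1 := by rw [h3]; group
  obtain ⟨v, hv, hv3, hv1⟩ := hB.ex
  have hVP : ∀ x ∈ hB.V, e ∈ P → x ∈ P := by
    intro x hx heP
    by_cases hx1 : x = 1
    · rw [hx1]; exact one_mem _
    rcases hB.conj v hv e heB x hx.1 hv3 hv1 he2 he1 hx.2 hx1 with h | h | h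
    · rw [h]; exact heP
    · rw [h]; exact hPn.conj_mem _ heP _
    · rw [h]; exact hPn.conj_mem _ (hPn.conj_mem _ heP _) _
  have heP : e ∈ P := by
    by_contra heP
    -- `P ∩ B = 1`
    have hPB : ∀ x ∈ P, x ∈ B → x = 1 := by
      intro x hx hxB
      rcases hB.cases x hxB with h2 | h3
      · by_contra hx1
        apply heP
        rcases hB.conj v hv x hxB e heB hv3 hv1 h2 hx1 he2 he1 with h | h | h
        · rw [h]; exact hx
        · rw [h]; exact hPn.conj_mem _ hx _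
        · rw [h]; exact hPn.conj_mem _ (hPn.conj_mem _ hx _) _
      · exact two x hx h3
    have hcomm : ∀ u ∈ B, u * u * u = 1 → ∀ p ∈ P, p * u = u * p := by
      intro u hu hu3
      have h1 : zpowers u ≤ centralizer (P : Set H) := by
        refine SolvTwo.le_cent (z := f) hf2 (W := zpowers u) (P := P) hP ?_ ?_ ?_
        · rw [Nat.card_zpowers]
          exact (Nat.coprime_two_right.2 (odd_of_cube hu3))
        · rintro w ⟨n, rfl⟩
          have : Commute u f := mem_centralizer_singleton_iff.1 (hs.1 hu)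
          exact (this.zpow_left n).eq
        · rintro x hx hxf w ⟨n, rfl⟩
          have hxW : x ∈ W := ⟨hx, mem_centralizer_singleton_iff.2 hxf⟩
          have h2 : x⁻¹ * (u * x * u⁻¹) ∈ B := by
            have e1 : x⁻¹ * (u * x * u⁻¹) = x⁻¹ * u * x * u⁻¹ := by group
            rw [e1]; exact mul_mem (hconj u hu hu3 x hxW) (inv_mem hu)
          have h3 := hPB _ (mul_mem (inv_mem hx) (hPn.conj_mem _ hx u)) h2
          have h4 : x * u = u * x := by
            calc x * u = x * (x⁻¹ * (u * x * u⁻¹)) * u := by rw [h3, mul_one]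
              _ = u * x := by group
          exact (show Commute x u from h4).zpow_right n
      intro p hp
      exact mem_centralizer_iff.1 (h1 (mem_zpowers u)) p hp
    have hBC : B ≤ centralizer (P : Set H) := by
      intro b hb
      obtain ⟨u, hu, w, hw, hu3, hw3, rfl⟩ := hB.gen b hb
      refine mul_mem (mem_centralizer_iff.2 fun p hp => hcomm u hu hu3 p hp)
        (mem_centralizer_iff.2 fun p hp => hcomm w hw hw3 p hp)
    have hCn : (centralizer (P : Set H)).Normal := inferInstance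
    have h1 : B.IsSubnormal :=
      (hs.restrict (centralizer_le (Set.singleton_subset_iff.2 hf)) hBC).isSubnormal hCn.isSubnormal
    have h2 : hB.V.IsSubnormal := by
      refine (Sn.of_normal hB.V_le ?_).isSubnormal h1
      intro b hb
      refine mem_normalizer_fintype fun x hx => hB.conj_V ?_ hx
      exact mul_mem (mul_mem hb hx.1) (inv_mem hb)
    have h3 := SignalizersComponents.CompBasic.subnormal_pGroup_le_pCore h2 hB.V_two
    exact heP (h3 ⟨heB, he2⟩)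
  refine ⟨heP, fun x hx hxf => ?_⟩
  have hxW : x ∈ W := ⟨hx, mem_centralizer_singleton_iff.2 hxf⟩
  have hVW : ∀ t ∈ hB.V, t ∈ W := fun t ht => ⟨hVP t ht heP, hs.1 ht.1⟩
  -- the coset
  have h1 : x⁻¹ * v * x * v⁻¹ ∈ hB.V := by
    have h2 : x⁻¹ * v * x * v⁻¹ ∈ B := mul_mem (hconj v hv hv3 x hxW) (inv_mem hv)
    refine ⟨h2, ?_⟩
    rcases hB.cases _ h2 with h3 | h3
    · exact h3
    · have h4 : x⁻¹ * v * x * v⁻¹ ∈ P := by
        have e1 : x⁻¹ * v * x * v⁻¹ = x⁻¹ * (v * x * v⁻¹) := by group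
        rw [e1]; exact mul_mem (inv_mem hx) (hPn.conj_mem _ hx v)
      rw [two _ h4 h3, one_mul]
  have h2 : ∀ t ∈ hB.V, v * t * v⁻¹ ∈ hB.V := fun t ht =>
    hB.conj_V (mul_mem (mul_mem hv ht.1) (inv_mem hv)) ht
  obtain ⟨t, ht, hvt⟩ := exists_fixed hB.V_two hv3 h2 h1
  set n := x * t with hn
  have hnW : n ∈ W := mul_mem hxW (hVW t ht)
  have hnB : ∀ b ∈ B, n * b * n⁻¹ ∈ B := by
    intro b hb
    obtain ⟨u, hu, w, hw, hu3, hw3, rfl⟩ := hB.gen b hb
    have h3 := hconj u hu hu3 n⁻¹ (inv_mem hnW)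
    have h4 := hconj w hw hw3 n⁻¹ (inv_mem hnW)
    have e1 : n * (u * w) * n⁻¹ = (n⁻¹⁻¹ * u * n⁻¹) * (n⁻¹⁻¹ * w * n⁻¹) := by group
    rw [e1]; exact mul_mem h3 h4
  obtain ⟨k, hk⟩ := hP ⟨n, hnW.1⟩
  have hk' : n ^ 2 ^ k = 1 := by simpa using congrArg Subtype.val hk
  have h3 : n * e * n⁻¹ = e := by
    have h4 := hB.conj_V (hnB e heB) (⟨heB, he2⟩ : e ∈ hB.V)
    have h5 : n * e * n⁻¹ ≠ 1 := by
      intro h6
      apply he1
      calc e = n⁻¹ * (n * e * n⁻¹) * n := by group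
        _ = 1 := by rw [h6]; group
    have hcv : ∀ y : H, n * (v * y * v⁻¹) * n⁻¹ = v * (n * y * n⁻¹) * v⁻¹ := by
      intro y
      calc n * (v * y * v⁻¹) * n⁻¹ = (n * v) * y * (n * v)⁻¹ := by group
        _ = (v * n) * y * (v * n)⁻¹ := by rw [← hvt]
        _ = v * (n * y * n⁻¹) * v⁻¹ := by group
    have hv' : ∀ y : H, v * (v * (v * y * v⁻¹) * v⁻¹) * v⁻¹ = y := by
      intro y
      calc v * (v * (v * y * v⁻¹) * v⁻¹) * v⁻¹ = (v * v * v) * y * (v * v * v)⁻¹ := by group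
        _ = y := by rw [hv3]; group
    rcases hB.conj v hv e heB _ h4.1 hv3 hv1 he2 he1 h4.2 h5 with h | h | h
    · exact h
    · refine comm_of_cube hk' ?_
      simp only [h, hcv, hv']
    · refine comm_of_cube hk' ?_
      simp only [h, hcv, hv']
  have h4 : n * e = e * n := mul_inv_eq_iff_eq_mul.1 h3
  have h5 : t * e = e * t := hB.comm t ht.1 e heB ht.2 he2
  have h6 : x = n * t⁻¹ := by rw [hn]; group
  rw [h6]
  exact ((show Commute n e from h4).mul_left ((show Commute t e from h5).inv_left)).eq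

end ThreeC

end Cfsg.Agent.OddHalf.NI3.Bad.CoreThree
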