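import Cfsg.Agent.OddHalf.NI3.Bad.Types
import Cfsg.Agent.KFacts.MulOdd.ThreeOdd

/-!
# NI over `F₃`, THEOREM NIB: the types with a perfect double cover (`CovOf`)
-/

set_option autoImplicit false

namespace Cfsg.Agent.OddHalf.NI3.Bad

open Subgroup Cfsg Cfsg.Agent.OddHalf.Iface Cfsg.Agent.OddHalf.LieOddFam Cfsg.Agent.KFacts.MulDef
  Cfsg.Agent.KFacts.MulOdd

universe u

theorem noDouble_false {K : Type u} [Group K] [Finite K] (hq : IsQuasisimple K) (h2 : IsPGroup 2 ↥(center K))
    (hz : center K ≠ ⊥) (h : NoDouble (K ⧸ center K)) : False :=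
  Rows.not_qsTwo h ⟨inferInstance, hq, h2, hz⟩

theorem covOf : CovOf.{u} := by
  intro K _ _ hq h2 hz h
  have key : ∀ {Y : Type} [Group Y], NoDouble Y → Nonempty (K ⧸ center K ≃* Y) → False := by
    rintro Y _ hY ⟨e⟩
    exact noDouble_false hq h2 hz (hY.congr e.symm)
  rcases h with h | h | h | h | h | h | h | h | h | h | h | h | h
  · obtain ⟨F, _, _, n, hF, h3, e⟩ := h
    by_cases hn : n = 3
    · subst hn
      exact (key (TypeA.noDouble_L33 (by rw [Nat.card_eq_fintype_card, hF])) e).elim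
    · exact Or.inl ⟨F, _, _, n, hF, by omega, e⟩
  · exact Or.inr (Or.inr (Or.inl h))
  · obtain ⟨F, _, _, n, hF, h3, e⟩ := h
    have hF' : Fintype.card F = 9 := by simpa using hF
    by_cases hn : n = 3
    · subst hn
      exact (key (U3.noDouble_PSU (q := 3) (by rw [hF']; norm_num) ⟨1, rfl⟩) e).elim
    · exact Or.inr (Or.inl ⟨F, _, _, n, hF', by omega, e⟩)
  · exact Or.inr (Or.inr (Or.inr (Or.inl h)))
  · exact Or.inr (Or.inr (Or.inr (Or.inr (Or.inl h))))
  · exact Or.inr (Or.inr (Or.inr (Or.inr (Or.inr (Or.inl h)))))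
  · obtain ⟨F, _, _, hF, e⟩ := h
    haveI : CharP F 3 := ThreeOdd.charP_three (n := 1) (by rw [hF]; norm_num)
    exact (key (Main.noDouble (InstChev.inst_G2 F 3 (by norm_num))) e).elim
  · obtain ⟨F, _, _, hF, e⟩ := h
    haveI : CharP F 3 := ThreeOdd.charP_three (n := 1) (by rw [hF]; norm_num)
    exact (key (Main.noDouble (InstChev.inst_F4 F 3 (by norm_num))) e).elim
  · obtain ⟨F, _, _, hF, e⟩ := h
    haveI : CharP F 3 := ThreeOdd.charP_three (n := 1) (by rw [hF]; norm_num)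
    exact (key (Main.noDouble (InstChev.inst_E6 F 3 (by norm_num)
      (by rw [Nat.card_eq_fintype_card, hF]; norm_num))) e).elim
  · exact Or.inr (Or.inr (Or.inr (Or.inr (Or.inr (Or.inr h)))))
  · obtain ⟨F, _, _, hF, e⟩ := h
    haveI : CharP F 3 := ThreeOdd.charP_three (n := 1) (by rw [hF]; norm_num)
    exact (key (Main.noDouble (InstChev.inst_E8 F 3 (by norm_num))) e).elim
  · obtain ⟨F, _, _, hF, e⟩ := h
    haveI : CharP F 3 := ThreeOdd.charP_three (n := 2) (by rw [hF])
    exact (key (Main.noDouble (InstTw.inst_E6 (q := 3) Nat.prime_three.isPrimePow 3 (by norm_num) (by rw [hF])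
      (by norm_num))) e).elim
  · obtain ⟨F, _, _, hF, e⟩ := h
    haveI : CharP F 3 := ThreeOdd.charP_three (n := 3) (by rw [hF])
    exact (key (Main.noDouble (InstTw.inst_D4 (q := 3) Nat.prime_three.isPrimePow 3 (by norm_num)
      (by rw [hF]))) e).elim

end Cfsg.Agent.OddHalf.NI3.Bad
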