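import Cfsg.Agent.LieClassical.OrthFinite
import Cfsg.Agent.SectRankFour.OutAb
import Cfsg.Agent.S0242
import Cfsg.Agent.S0243
import Cfsg.Agent.S0265
import Cfsg.Agent.S0813
import Cfsg.Agent.S0814

/-!
# Automorphisms of order 3 of `PSp₄(3)` and `L₄(3)` are inner

`Inn3 K` : every automorphism `α` of `K` with `α ^ 3 = 1` is inner.
-/

set_option autoImplicit false

namespace Cfsg.Agent.OddHalf.NI3.Bad.Cube

open Subgroup Cfsg

/-- the automorphisms `α` with `α ^ 3 = 1` are inner -/
def Inn3 (K : Type*) [Group K] : Prop := ∀ α : MulAut K, α ^ 3 = 1 → ∃ g : K, ∀ x, α x = g * x * g⁻¹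

theorem Inn3.congr {K L : Type*} [Group K] [Group L] (e : K ≃* L) (h : Inn3 L) : Inn3 K := by
  intro α hα
  let β : MulAut L := (e.symm.trans α).trans e
  have hβ : ∀ y, β y = e (α (e.symm y)) := fun y => rfl
  have h3 : β ^ 3 = 1 := by
    apply MulEquiv.ext
    intro y
    have h1 : ∀ y, α (α (α y)) = y := fun y => by
      have := DFunLike.congr_fun hα y
      exact this
    show β (β (β y)) = y
    rw [hβ, hβ, hβ, e.symm_apply_apply, e.symm_apply_apply, h1, e.apply_symm_apply]
  obtain ⟨g, hg⟩ := h β h3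
  refine ⟨e.symm g, fun x => ?_⟩
  apply e.injective
  have h1 := hg (e x)
  rw [hβ, e.symm_apply_apply] at h1
  rw [h1, map_mul, map_mul, map_inv, e.apply_symm_apply]

theorem inn3_of_card {K : Type*} [Group K] [Finite K] (hZ : Subgroup.center K = ⊥) {m : ℕ} (hm : ¬ 3 ∣ m)
    (hc : Nat.card (MulAut K) = m * Nat.card K) : Inn3 K := by
  intro α hα
  have hn : (MulAut.conj (G := K)).range.Normal := SectRankFour.OutAb.range_conj_normal
  have hinj : Function.Injective (MulAut.conj (G := K)) := by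
    rw [← MonoidHom.ker_eq_bot_iff, eq_bot_iff]
    intro x hx
    rw [← hZ, Subgroup.mem_center_iff]
    intro g
    have := DFunLike.congr_fun (MonoidHom.mem_ker.1 hx) g
    change x * g * x⁻¹ = g at this
    rw [mul_inv_eq_iff_eq_mul] at this
    exact this.symm
  have h1 : Nat.card (MulAut.conj (G := K)).range = Nat.card K :=
    Nat.card_congr (MonoidHom.ofInjective hinj).symm.toEquiv
  have h2 := (MulAut.conj (G := K)).range.card_eq_card_quotient_mul_card_subgroup
  rw [h1, hc] at h2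
  have h3 : m = Nat.card (MulAut K ⧸ (MulAut.conj (G := K)).range) :=
    Nat.eq_of_mul_eq_mul_right Nat.card_pos h2
  have h4 : orderOf (QuotientGroup.mk' (MulAut.conj (G := K)).range α) ∣ 3 := by
    apply orderOf_dvd_of_pow_eq_one
    rw [← map_pow, hα, map_one]
  have h5 : orderOf (QuotientGroup.mk' (MulAut.conj (G := K)).range α) ∣ m := by
    rw [h3]; exact _root_.orderOf_dvd_natCard _
  have h6 : orderOf (QuotientGroup.mk' (MulAut.conj (G := K)).range α) = 1 := by
    rcases (Nat.dvd_prime Nat.prime_three).1 h4 with h | h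
    · exact h
    · rw [h] at h5; exact absurd h5 hm
  rw [orderOf_eq_one_iff] at h6
  have h7 : α ∈ (MulAut.conj (G := K)).range := (QuotientGroup.eq_one_iff α).1 h6
  obtain ⟨g, hg⟩ := h7
  exact ⟨g, fun x => by rw [← hg]; rfl⟩

variable {F : Type*} [Field F] [Fintype F]

theorem inn3_psl4 (hF : Fintype.card F = 3) (hZ : Subgroup.center (Matrix.ProjectiveSpecialLinearGroup (Fin 4) F) = ⊥) :
    Inn3 (Matrix.ProjectiveSpecialLinearGroup (Fin 4) F) := by
  haveI hp3 : Fact (Nat.Prime 3) := ⟨Nat.prime_three⟩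
  haveI : Finite (Matrix.ProjectiveSpecialLinearGroup (Fin 4) F) := inferInstanceAs (Finite (_ ⧸ _))
  refine inn3_of_card hZ (m := 4) (by norm_num) ?_
  have h1 := S0243.result hF 4 (by omega)
  have h2 : Nat.gcd 4 (3 - 1) = 2 := by decide
  have h4 : ∏ i : Fin 4, (3 ^ 4 - 3 ^ (i : ℕ)) = 24261120 := by decide +kernel
  have h5 : Nat.card (Matrix.ProjectiveSpecialLinearGroup (Fin 4) F) = 6065280 := by
    rw [h2, h4] at h1
    omega
  rw [S0813.result 3 1 le_rfl (by rw [hF]; norm_num) 4 (by norm_num) (by norm_num)]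
  have h6 : Nat.card (Matrix.ProjGenLinGroup (Fin 4) F) = 12130560 := by
    rw [S0265.result 4]
    have h8 := S0242.result hF 4 (by norm_num)
    rw [h4] at h8
    omega
  rw [h6, h5]
  norm_num

theorem inn3_psp4 (hF : Fintype.card F = 3) (hZ : Subgroup.center (PSp 2 F) = ⊥) : Inn3 (PSp 2 F) := by
  haveI hp3 : Fact (Nat.Prime 3) := ⟨Nat.prime_three⟩
  haveI : Finite (PSp 2 F) := inferInstanceAs (Finite (_ ⧸ _))
  refine inn3_of_card hZ (m := 2) (by norm_num) ?_
  rw [S0814.result 3 1 le_rfl (by rw [hF]; norm_num) 2 le_rfl (by norm_num)]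
  norm_num

end Cfsg.Agent.OddHalf.NI3.Bad.Cube
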