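import Cfsg.Agent.OddHalf.NI3.Step
import Cfsg.Agent.OddHalf.NI3.Props
import Cfsg.Agent.OddHalf.Stmts

/-!
# NI over `F₃`, the bad types `2.U₄(3)`, `Ω₇(3)`, `PΩ₈^±(3)`: THEOREM NIB (bb ODD #14136; editor helper515)

`N = 2.U₄(3) = Ω₆⁻(3)` on an orthonormal basis `e₁, …, e₆`; `-1_S` is the element with eigenvalue `-1` on `⟨e_i : i ∈ S⟩`.

* `Sheet N a b e A B` (`N` a subgroup of `G`): `a = -1₁₂`, `b = -1₃₄`, `e = -1₅₆`; `y = a b e = -1`, `z = a b = -1₁₂₃₄`,
  `A`, `B ≃ SL₂(3)` the two factors of `Ω(1234)`.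
* `Cfg N a b e A B`: `N` is moreover a component of `C(y)`; `Cfg.rot` : rotation `12 → 34 → 56 → 12`.
* `Pos x A B w` (`A`, `B` subgroups of the group `D`): two commuting classical `SL₂(3)` with the same involution `x`,
  `w = p q` (`p ∈ A`, `q ∈ B` of order 4).
* `RowO`, `RowA`, `RowA'`, `RowB`, `RowC` : the K-facts on `C_D(w)`; `KD` : the table.
* `NIB` : the theorem.
-/

set_option autoImplicit false
set_option linter.style.haveILetI false

namespace Cfsg.Agent.OddHalf.NI3.Bad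

open Subgroup Cfsg Cfsg.Agent.OddHalf.Iface Cfsg.Agent.OddHalf.LieOddFam
open Cfsg.Agent.OddHalf.D3 (Comp)
open Cfsg.Agent.OddHalf.NI (CompIn)
open Cfsg.Agent.Cit (cj)

universe u

/-! ### The frame of `2.U₄(3)` -/

/-- The frame of `N = Ω₆⁻(3) = 2.U₄(3) ≤ G`: `a = -1₁₂`, `b = -1₃₄`, `e = -1₅₆`, `A` and `B` the two factors `SL₂(3)` of
`Ω(1234)`; `y = a b e` generates the centre of `N`. -/
structure Sheet {G : Type*} [Group G] (N : Subgroup G) (a b e : G) (A B : Subgroup G) : Prop where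
  qs : IsQuasisimple ↥N
  aN : a ∈ N
  bN : b ∈ N
  eN : e ∈ N
  aa : a * a = 1
  bb : b * b = 1
  ee : e * e = 1
  ab : a * b = b * a
  ae : a * e = e * a
  be : b * e = e * b
  y_ne : a * b * e ≠ 1
  /-- `y = a b e` is central -/
  y_comm : ∀ g ∈ N, g * (a * b * e) = a * b * e * g
  /-- the centre has order two -/
  cen : ∀ x ∈ N, (∀ g ∈ N, g * x = x * g) → x = 1 ∨ x = a * b * e
  AN : A ≤ N
  BN : B ≤ N
  prA : IsPr A (a * b)
  prB : IsPr B (a * b)
  AB : ∀ x ∈ A, ∀ x' ∈ B, x * x' = x' * x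
  snA : Sn A (N ⊓ centralizer ({a * b} : Set G))
  snB : Sn B (N ⊓ centralizer ({a * b} : Set G))
  /-- `A B` is normal in `C_N(z)` -/
  nor : ∀ g ∈ N, g * (a * b) = a * b * g → cj g (A ⊔ B) = A ⊔ B
  /-- `C_N(A B) = ⟨y, e⟩` -/
  cAB : ∀ g ∈ N, (∀ x ∈ A, g * x = x * g) → (∀ x ∈ B, g * x = x * g) →
    g = 1 ∨ g = a * b ∨ g = e ∨ g = a * b * e
  sol : Group.IsSolvable ↥(N ⊓ centralizer ({a * b} : Set G))
  a_eq : ∃ p ∈ A, ∃ q ∈ B, p * p = a * b ∧ q * q = a * b ∧ a = p * q
  /-- the rotation `12 → 34 → 56 → 12` -/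
  rot : ∃ c ∈ N, c * a * c⁻¹ = b ∧ c * b * c⁻¹ = e ∧ c * e * c⁻¹ = a
  /-- the swap, e.g. `-1₁₅` -/
  swap : ∃ s ∈ N, s * s = 1 ∧ s * e = e * s ∧ s * (a * b) = a * b * s ∧ cj s A = B ∧ cj s B = A
  /-- the rotation by a right angle in the planes `12` and `56` -/
  root : ∃ g ∈ N, g * g = a * e ∧ g * (a * b) = a * b * g ∧ cj g A = A ∧ cj g B = B

/-- `N = 2.U₄(3)` as an abstract group. -/
def IsN (N : Type*) [Group N] : Prop :=
  IsQuasisimple N ∧ Nat.card ↥(center N) = 2 ∧ XU43 (N ⧸ center N)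

/-- **K-fact (N-side)**: `2.U₄(3)` has a frame. -/
def ExSheet : Prop :=
  ∀ (N : Type u) [Group N] [Finite N], IsN N →
    ∃ (a b e : N) (A B : Subgroup N), Sheet (⊤ : Subgroup N) a b e A B

/-- A frame of a component of `C(y)`, `y = a b e`. -/
structure Cfg {G : Type*} [Group G] (N : Subgroup G) (a b e : G) (A B : Subgroup G) : Prop
    extends Sheet N a b e A B where
  comp : Comp (a * b * e) N

/-! ### The positions in the component `D` of `C(-1₁₂)` -/

/-- `A`, `B` commuting classical `SL₂(3)` of `D` with the same involution `x`; `w = p q`, `p ∈ A`, `q ∈ B` of order 4. -/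
structure Pos {D : Type*} [Group D] (x : D) (A B : Subgroup D) (w : D) : Prop where
  a : Cl x A
  b : Cl x B
  comm : B ≤ centralizer (A : Set D)
  dec : ∃ p ∈ A, ∃ q ∈ B, p * p = x ∧ q * q = x ∧ w = p * q

/-- there is no such position (`L₃(3)`, `U₃(3)`, `M₁₁`) -/
def RowO (D : Type*) [Group D] : Prop :=
  ∀ (x : D) (A B : Subgroup D) (w : D), Pos x A B w → False

/-- `w` is the involution of a classical `SL₂(3)` (`U₄(3)`, `G₂(3)`) -/
def RowA (D : Type*) [Group D] : Prop :=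
  ∀ (x : D) (A B : Subgroup D) (w : D), Pos x A B w → ∃ J : Subgroup D, Cl w J

/-- `w` lies in a component of `C_D(w)` (`PΩ₈⁺(3)`) -/
def RowA' (D : Type*) [Group D] : Prop :=
  ∀ (x : D) (A B : Subgroup D) (w : D), Pos x A B w →
    ∃ E : Subgroup D, CompIn (centralizer ({w} : Set D)) E ∧ w ∈ E

/-- `w x` lies in a component `E` of `C_D(w)`; the automorphisms `α` of `E` with `α³ = 1` and trivial on `C_E(w x)` are
trivial (`L₄(3)`, `Ω₇(3)`, `PΩ₈⁻(3)`) -/
def RowB (D : Type*) [Group D] : Prop :=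
  ∀ (x : D) (A B : Subgroup D) (w : D), Pos x A B w →
    ∃ E : Subgroup D, CompIn (centralizer ({w} : Set D)) E ∧ w * x ∈ E ∧
      ∀ α : MulAut ↥E, α ^ 3 = 1 → (∀ g : ↥E, (g : D) * (w * x) = w * x * g → α g = g) → α = 1

/-- `w x` lies in a subnormal subgroup `E ≃ A₄` of `C_D(w)` (`PSp₄(3)`) -/
def RowC (D : Type*) [Group D] : Prop :=
  ∀ (x : D) (A B : Subgroup D) (w : D), Pos x A B w →
    ∃ E : Subgroup D, Sn E (centralizer ({w} : Set D)) ∧ w * x ∈ E ∧
      Nonempty (↥E ≃* ↥(alternatingGroup (Fin 4)))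

/-- `D = 2.U₄(3)`: the position is the one of the frame: `w = -1₁₂`, `w x = -1₃₄` (in the frame of `D`) -/
def RowD : Prop :=
  ∀ (D : Type u) [Group D] [Finite D], IsN D → ∀ (x : D) (A B : Subgroup D) (w : D), Pos x A B w →
    ∃ e : D, Sheet (⊤ : Subgroup D) w (w * x) e A B

def XL3 (X : Type*) [Group X] : Prop :=
  ∃ (F : Type) (_ : Field F) (_ : Fintype F), Fintype.card F = 3 ∧
    Nonempty (X ≃* Matrix.ProjectiveSpecialLinearGroup (Fin 3) F)

def XU3 (X : Type*) [Group X] : Prop :=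
  ∃ (F : Type) (_ : Field F) (_ : Fintype F), Fintype.card F = 9 ∧ Nonempty (X ≃* PSU 3 F 3)

def XL4 (X : Type*) [Group X] : Prop :=
  ∃ (F : Type) (_ : Field F) (_ : Fintype F), Fintype.card F = 3 ∧
    Nonempty (X ≃* Matrix.ProjectiveSpecialLinearGroup (Fin 4) F)

def XSp4 (X : Type*) [Group X] : Prop :=
  ∃ (F : Type) (_ : Field F) (_ : Fintype F), Fintype.card F = 3 ∧ Nonempty (X ≃* PSp 2 F)

def XO7 (X : Type*) [Group X] : Prop :=
  ∃ (F : Type) (_ : Field F) (_ : Fintype F), Fintype.card F = 3 ∧ Nonempty (X ≃* POmega F (quadFormOdd 3 F))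

def XO8p (X : Type*) [Group X] : Prop :=
  ∃ (F : Type) (_ : Field F) (_ : Fintype F), Fintype.card F = 3 ∧ Nonempty (X ≃* POmega F (quadFormPlus 4 F))

def XO8m (X : Type*) [Group X] : Prop :=
  ∃ (F : Type) (_ : Field F) (_ : Fintype F) (b c : F), Fintype.card F = 3 ∧
    (∀ z₁ z₂ : F, z₁ ^ 2 + b * z₁ * z₂ + c * z₂ ^ 2 = 0 → z₁ = 0 ∧ z₂ = 0) ∧
    Nonempty (X ≃* POmega F (quadFormMinus 3 F b c))

/-- `Small3`, with names -/
theorem small3_iff {X : Type*} [Group X] : Small3 X ↔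
    XL3 X ∨ XU3 X ∨ XL4 X ∨ XU43 X ∨ XSp4 X ∨ FG2 X 3 ∨ XO7 X ∨ XO8p X ∨ XO8m X := Iff.rfl

/-- **(KD)**: the table. -/
structure KD : Prop where
  m11 : ∀ (X : Type u) [Group X] [Finite X], Spor.IsoM11 X → RowO X
  l3 : ∀ (X : Type u) [Group X] [Finite X], XL3 X → RowO X
  u3 : ∀ (X : Type u) [Group X] [Finite X], XU3 X → RowO X
  u4 : ∀ (X : Type u) [Group X] [Finite X], XU43 X → RowA X
  g2 : ∀ (X : Type u) [Group X] [Finite X], FG2 X 3 → RowA X
  o8p : ∀ (X : Type u) [Group X] [Finite X], XO8p X → RowA' X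
  l4 : ∀ (X : Type u) [Group X] [Finite X], XL4 X → RowB X
  o7 : ∀ (X : Type u) [Group X] [Finite X], XO7 X → RowB X
  o8m : ∀ (X : Type u) [Group X] [Finite X], XO8m X → RowB X
  sp4 : ∀ (X : Type u) [Group X] [Finite X], XSp4 X → RowC X
  twou4 : RowD.{u}

/-! ### The theorem -/

/-- **THEOREM NIB**: no involution `y` of `G` lies in a component `2.U₄(3)` of `C(y)`. -/
def NIB : Prop :=
  ∀ (G : Type u) [Group G], Ctx G → ∀ (y : G) (N : Subgroup G), orderOf y = 2 → Comp y N → y ∈ N → IsN ↥N → False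

/-! ### First consequences -/

section

variable {G : Type*} [Group G] {N : Subgroup G} {a b e : G} {A B : Subgroup G}

namespace Sheet

theorem z_ord (h : Sheet N a b e A B) : orderOf (a * b) = 2 := h.prA.ord

theorem z_ne (h : Sheet N a b e A B) : a * b ≠ 1 := by
  intro h1
  have := h.z_ord
  rw [h1, orderOf_one] at this; omega

theorem zz (h : Sheet N a b e A B) : (a * b) * (a * b) = 1 := by
  rw [← pow_two, ← h.z_ord, pow_orderOf_eq_one]

theorem yy (h : Sheet N a b e A B) : (a * b * e) * (a * b * e) = 1 := by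
  have h1 : a * b * e = e * (a * b) := by
    rw [mul_assoc, h.be, ← mul_assoc, h.ae, mul_assoc]
  calc (a * b * e) * (a * b * e) = (a * b * e) * (e * (a * b)) := by rw [← h1]
    _ = a * b * (e * e) * (a * b) := by group
    _ = 1 := by rw [h.ee, mul_one, h.zz]

theorem y_ord (h : Sheet N a b e A B) : orderOf (a * b * e) = 2 :=
  orderOf_eq_prime (by rw [pow_two, h.yy]) h.y_ne

theorem yN (h : Sheet N a b e A B) : a * b * e ∈ N := mul_mem (mul_mem h.aN h.bN) h.eN

theorem zN (h : Sheet N a b e A B) : a * b ∈ N := mul_mem h.aN h.bN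

/-- the image under an injective homomorphism -/
theorem map {G' : Type*} [Group G'] (f : G →* G') (hf : Function.Injective f) (h : Sheet N a b e A B) :
    Sheet (N.map f) (f a) (f b) (f e) (A.map f) (B.map f) := by
  have hcent : ∀ x : G, (N ⊓ centralizer ({x} : Set G)).map f = N.map f ⊓ centralizer ({f x} : Set G') := by
    intro x
    ext y
    rw [mem_inf, mem_map, mem_map]
    constructor
    · rintro ⟨g, hg, rfl⟩
      rw [mem_inf, mem_centralizer_singleton_iff] at hg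
      refine ⟨⟨g, hg.1, rfl⟩, ?_⟩
      rw [mem_centralizer_singleton_iff, ← map_mul, hg.2, map_mul]
    · rintro ⟨⟨g, hg, rfl⟩, hgx⟩
      refine ⟨g, ?_, rfl⟩
      rw [mem_inf, mem_centralizer_singleton_iff]
      rw [mem_centralizer_singleton_iff] at hgx
      refine ⟨hg, hf ?_⟩
      rw [map_mul, map_mul, hgx]
  have hcj : ∀ (g : G) (K : Subgroup G), cj (f g) (K.map f) = (cj g K).map f := by
    intro g K
    rw [Cit.cj_def, Cit.cj_def, Subgroup.map_map, Subgroup.map_map]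
    congr 1
    ext x
    simp
  have hz : f a * f b = f (a * b) := (map_mul f a b).symm
  have hy : f a * f b * f e = f (a * b * e) := by rw [map_mul, map_mul]
  have hz1 : f (a * b) ≠ 1 := fun h1 => h.z_ne (hf (by rw [h1, map_one]))
  refine
    { qs := ?_
      aN := mem_map_of_mem f h.aN
      bN := mem_map_of_mem f h.bN
      eN := mem_map_of_mem f h.eN
      aa := by rw [← map_mul, h.aa, map_one]
      bb := by rw [← map_mul, h.bb, map_one]
      ee := by rw [← map_mul, h.ee, map_one]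
      ab := by rw [← map_mul, h.ab, map_mul]
      ae := by rw [← map_mul, h.ae, map_mul]
      be := by rw [← map_mul, h.be, map_mul]
      y_ne := by rw [hy]; exact fun h1 => h.y_ne (hf (by rw [h1, map_one]))
      y_comm := ?_
      cen := ?_
      AN := map_mono h.AN
      BN := map_mono h.BN
      prA := by rw [hz]; exact h.prA.map f hz1
      prB := by rw [hz]; exact h.prB.map f hz1
      AB := ?_
      snA := ?_
      snB := ?_
      nor := ?_
      cAB := ?_
      sol := ?_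
      a_eq := ?_
      rot := ?_
      swap := ?_
      root := ?_ }
  · exact SignalizersComponents.LayerBasic.quasisimple_congr (N.equivMapOfInjective f hf) h.qs
  · rintro _ ⟨g, hg, rfl⟩
    rw [hy, ← map_mul, h.y_comm g hg, map_mul]
  · rintro _ ⟨x, hx, rfl⟩ h1
    rcases h.cen x hx (fun g hg => hf (by
      rw [map_mul, map_mul]; exact h1 (f g) (mem_map_of_mem f hg))) with h2 | h2
    · left; rw [h2, map_one]
    · right; rw [h2, hy]
  · rintro _ ⟨x, hx, rfl⟩ _ ⟨y, hy, rfl⟩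
    rw [← map_mul, h.AB x hx y hy, map_mul]
  · rw [hz, ← hcent]; exact h.snA.map f
  · rw [hz, ← hcent]; exact h.snB.map f
  · rintro _ ⟨g, hg, rfl⟩ h1
    rw [← Subgroup.map_sup, hcj, h.nor g hg (hf (by rw [map_mul f g, ← hz, h1, map_mul, hz]))]
  · rintro _ ⟨g, hg, rfl⟩ h1 h2
    rcases h.cAB g hg (fun x hx => hf (by rw [map_mul, map_mul]; exact h1 _ (mem_map_of_mem f hx)))
      (fun x hx => hf (by rw [map_mul, map_mul]; exact h2 _ (mem_map_of_mem f hx))) with h3 | h3 | h3 | h3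
    · left; rw [h3, map_one]
    · right; left; rw [h3, hz]
    · right; right; left; rw [h3]
    · right; right; right; rw [h3, hy]
  · rw [hz, ← hcent]
    haveI := h.sol
    exact Group.isSolvable_of_surjective
      (f := f.subgroupMap (N ⊓ centralizer ({a * b} : Set G))) (f.subgroupMap_surjective _)
  · obtain ⟨p, hp, q, hq, h1, h2, h3⟩ := h.a_eq
    exact ⟨f p, mem_map_of_mem f hp, f q, mem_map_of_mem f hq, by rw [hz, ← map_mul, h1], by rw [hz, ← map_mul, h2],
      by rw [← map_mul, h3]⟩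
  · obtain ⟨c, hc, h1, h2, h3⟩ := h.rot
    exact ⟨f c, mem_map_of_mem f hc, by rw [← map_inv, ← map_mul, ← map_mul, h1],
      by rw [← map_inv, ← map_mul, ← map_mul, h2], by rw [← map_inv, ← map_mul, ← map_mul, h3]⟩
  · obtain ⟨s, hs, h0, h1, h2, h3, h4⟩ := h.swap
    exact ⟨f s, mem_map_of_mem f hs, by rw [← map_mul, h0, map_one], by rw [← map_mul, h1, map_mul],
      by rw [hz, ← map_mul, h2, map_mul], by rw [hcj, h3], by rw [hcj, h4]⟩
  · obtain ⟨g, hg, h1, h2, h3, h4⟩ := h.root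
    exact ⟨f g, mem_map_of_mem f hg, by rw [← map_mul, h1, map_mul], by rw [hz, ← map_mul, h2, map_mul],
      by rw [hcj, h3], by rw [hcj, h4]⟩

/-- conjugation by an element of `G` -/
theorem conj (h : Sheet N a b e A B) (g : G) :
    Sheet (cj g N) (g * a * g⁻¹) (g * b * g⁻¹) (g * e * g⁻¹) (cj g A) (cj g B) :=
  h.map (MulAut.conj g).toMonoidHom (MulAut.conj g).injective

theorem cj_self (h : Sheet N a b e A B) {g : G} (hg : g ∈ N) : cj g N = N := by
  have h1 : cj g N ≤ N := by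
    rintro _ ⟨x, hx, rfl⟩
    exact mul_mem (mul_mem hg hx) (inv_mem hg)
  refine le_antisymm h1 ?_
  intro x hx
  rw [Cit.mem_cj]
  exact mul_mem (mul_mem (inv_mem hg) hx) hg

end Sheet

end

end Cfsg.Agent.OddHalf.NI3.Bad
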