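import Cfsg.Agent.OddHalf.NI3.Bad.RowOrth

/-!
# (KD), row `PΩ₈⁺(3)`, the case of one involution (node NI over `F₃`, THEOREM NIB; helper921)

* `det_prod`, `neg_iff_prod` : the type of a form from an orthogonal basis;
* `row` : `dim V = 8`, `-1 ∈ Ω(V)`, `w = p q` for commuting quaternion groups `⟨p, j⟩`, `⟨q, k⟩` of `Ω(V)` with the
  same involution `x`, trivial on `V_+(x)`: `w` lies in a component of the centralizer of `w` in `PΩ(V)`.
-/

set_option autoImplicit false
set_option linter.unusedSectionVars false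
set_option linter.unusedVariables false
set_option linter.style.haveILetI false

namespace Cfsg.Agent.OddHalf.NI3.Bad.EightPair

open scoped commutatorElement
open QuadraticMap Module Cfsg.Agent.LieClassical.OrthCore Cfsg.Agent.OddHalf.NI3.Bad.Emb
  Cfsg.Agent.ClassicalGeometry.OddInvolutions Cfsg.Agent.OddHalf.NI3.Bad.QPair Cfsg.Agent.OddHalf.NI3.Bad.Sim
  Cfsg.Agent.OddHalf.NI3.Bad.Frame Cfsg.Agent.OddHalf.NI3.Bad.Models Cfsg.Agent.OddHalf.NI3.Bad.Triv
open Cfsg.Agent.OddHalf.NI (CompIn)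

variable {F V : Type*} [Field F] [Fintype F] [AddCommGroup V] [Module F V] [FiniteDimensional F V]
  {Q : QuadraticForm F V}

/-! ### The type from an orthogonal basis -/

section

variable {ι : Type} [Fintype ι] [DecidableEq ι] {d : ι → F} {f : ι → V}

theorem det_prod (hF : Fintype.card F = 3) (hf : OF Q d f) (hc : Fintype.card ι = finrank F V) :
    (LinearMap.BilinForm.toMatrix (finBasis F V) (polarBilin Q)).det = ∏ i, (2 * d i) := by
  have h2 := two_ne hF
  rcases isEmpty_or_nonempty ι with hι | hι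
  · have h0 : finrank F V = 0 := by rw [← hc]; exact Fintype.card_eq_zero
    haveI : IsEmpty (Fin (finrank F V)) := by rw [h0]; infer_instance
    rw [Matrix.det_isEmpty]
    simp
  · let b : Basis ι F V := basisOfLinearIndependentOfCardEqFinrank (hf.linearIndependent h2) hc
    have hb : ∀ i, b i = f i := fun i => by
      simp [b]
    obtain ⟨s, hs, h1⟩ := ClassicalGeometry.Discriminant.det_toMatrix_change b (finBasis F V) (polarBilin Q)
    have h3 : LinearMap.BilinForm.toMatrix b (polarBilin Q) = Matrix.diagonal (fun i => 2 * d i) := by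
      ext i j
      rw [LinearMap.BilinForm.toMatrix_apply, hb, hb, Matrix.diagonal_apply]
      by_cases hij : i = j
      · subst hij
        rw [if_pos rfl]
        show polar Q (f i) (f i) = _
        rw [polar_self', hf.nm]
      · rw [if_neg hij]
        exact hf.orth i j hij
    rw [h1, h3, Matrix.det_diagonal, pow_two, mul_self_eq hF hs, one_mul]

theorem neg_iff_prod (hF : Fintype.card F = 3) (hQ : Nondeg Q) (hf : OF Q d f) (hc : Fintype.card ι = finrank F V)
    {m : ℕ} (hm : 1 ≤ m) (hn : finrank F V = 2 * m) : Neg Q ↔ ∏ i, d i = 1 := by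
  have h2 := two_ne hF
  have hd := det_prod hF hf hc
  rw [Finset.prod_mul_distrib, Finset.prod_const, Finset.card_univ] at hd
  have hP : ∏ i, d i ≠ 0 := Finset.prod_ne_zero_iff.2 fun i _ => hf.ne i
  have h3 : 2 * m - 1 + 1 = 2 * m := by omega
  constructor
  · intro hN
    rcases cases hF (∏ i, d i) with h | h | h
    · exact absurd h hP
    · exact h
    · exfalso
      -- a family with values `-1, 1, ..., 1`
      obtain ⟨f', hf'⟩ := exists_OF h2 hQ (ι := Fin (2 * m - 1 + 1)) (by rw [Fintype.card_fin, h3, hn])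
        (fun i => if i = 0 then (-1 : F) else 1)
        (fun i => by split_ifs <;> simp) (by
          have hpr : ∏ x : Fin (2 * m - 1 + 1), (if x = 0 then (-1 : F) else 1) = -1 := by
            rw [Finset.prod_ite_eq' Finset.univ (0 : Fin (2 * m - 1 + 1)), if_pos (Finset.mem_univ _)]
          rw [hd, h, Finset.prod_mul_distrib, Finset.prod_const, Finset.card_univ, Fintype.card_fin, hpr, h3, hc, hn])
      have h4 : Sml (T1 F (2 * m - 1)) Q := of_full h2 hf' (by rw [Fintype.card_fin, h3, hn])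
      exact not_neg_T1 hF hm (h4.neg_iff.2 hN)
  · intro hp
    obtain ⟨f', hf'⟩ := exists_OF h2 hQ (ι := Fin (2 * m)) (by rw [Fintype.card_fin, hn])
      (fun i => (1 : F)) (fun i => one_ne_zero) (by
        rw [hd, hp, mul_one, Finset.prod_const, Finset.card_univ, Fintype.card_fin, mul_one, hc, hn])
    have h4 : Sml (T0 F (2 * m)) Q := of_full h2 hf' (by rw [Fintype.card_fin, hn])
    exact h4.neg_iff.1 (neg_T0 m)

end

/-! ### The centre -/

/-- `-1` as an element of `Ω(V)` -/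
def ngO (hN : Neg Q) : ↥(Om Q) := ⟨LinearEquiv.neg F, hN⟩

theorem mem_center_iff (hF : Fintype.card F = 3) (hQ : Nondeg Q) (hn : 3 ≤ finrank F V) (hN : Neg Q) (z : ↥(Om Q)) :
    z ∈ Subgroup.center ↥(Om Q) ↔ z = 1 ∨ z = ngO hN := by
  have h2 := two_ne hF
  have hm : ngO hN ∈ Subgroup.center ↥(Om Q) := by
    rw [Subgroup.mem_center_iff]
    intro g
    exact Subtype.ext (Ctx3.neg_comm (g : V ≃ₗ[F] V))
  constructor
  · intro hz
    classical
    have hc := card_center h2 hQ hn hN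
    have hne : (1 : Subgroup.center ↥(Om Q)) ≠ ⟨ngO hN, hm⟩ := by
      intro h1
      have h3 : (1 : V ≃ₗ[F] V) = LinearEquiv.neg F :=
        congrArg (fun y : Subgroup.center ↥(Om Q) => ((y : ↥(Om Q)) : V ≃ₗ[F] V)) h1
      haveI : Nontrivial V := Module.nontrivial_of_finrank_pos (R := F) (by omega)
      obtain ⟨v, hv⟩ := exists_ne (0 : V)
      have h4 : v = -v := congrArg (fun l : V ≃ₗ[F] V => l v) h3
      have h5 : (2 : F) • v = 0 := by
        rw [two_smul]; nth_rewrite 1 [h4]; abel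
      exact hv ((smul_eq_zero.1 h5).resolve_left h2)
    haveI : Finite (Subgroup.center ↥(Om Q)) := Nat.finite_of_card_ne_zero (by rw [hc]; norm_num)
    haveI := Fintype.ofFinite (Subgroup.center ↥(Om Q))
    by_contra hcon
    push Not at hcon
    have h5 : ({1, ⟨ngO hN, hm⟩, ⟨z, hz⟩} : Finset (Subgroup.center ↥(Om Q))).card = 3 := by
      rw [Finset.card_eq_three]
      refine ⟨1, ⟨ngO hN, hm⟩, ⟨z, hz⟩, hne, ?_, ?_, rfl⟩
      · intro h6; exact hcon.1 (congrArg Subtype.val h6).symm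
      · intro h6; exact hcon.2 (congrArg Subtype.val h6).symm
    have h6 := Finset.card_le_univ ({1, ⟨ngO hN, hm⟩, ⟨z, hz⟩} : Finset (Subgroup.center ↥(Om Q)))
    rw [h5, ← Nat.card_eq_fintype_card, hc] at h6
    omega
  · rintro (rfl | rfl)
    · exact Subgroup.one_mem _
    · exact hm

/-! ### The family `e₂, e₃, f` -/

section

variable {ce : F} {d : Fin 4 → F} {e : Fin 4 → V} {f : Fin 4 → V}

/-- the setting -/
structure Ctx4 (Q : QuadraticForm F V) (w : V ≃ₗ[F] V) (ce : F) (d : Fin 4 → F) (e f : Fin 4 → V) : Prop where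
  hF : Fintype.card F = 3
  nd : Nondeg Q
  hn : finrank F V = 8
  neg : Neg Q
  he : OF Q (fun _ => ce) e
  hf : OF Q d f
  ef : ∀ i k, polar Q (e i) (f k) = 0
  w0 : w (e 0) = -e 0
  w1 : w (e 1) = -e 1
  w2 : w (e 2) = e 2
  w3 : w (e 3) = e 3
  wf : ∀ i, w (f i) = f i

variable {w : V ≃ₗ[F] V}

namespace Ctx4

variable (h : Ctx4 Q w ce d e f)

include h

theorem h2 : (2 : F) ≠ 0 := two_ne h.hF

theorem full : OF Q (Sum.elim (fun _ => ce) d) (Sum.elim e f) := OF_sum h.he h.hf h.ef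

theorem full_card : Fintype.card (Fin 4 ⊕ Fin 4) = finrank F V := by
  rw [Fintype.card_sum, Fintype.card_fin, h.hn]

theorem ext {g k : V ≃ₗ[F] V} (h1 : ∀ i, g (e i) = k (e i)) (h3 : ∀ i, g (f i) = k (f i)) : g = k := by
  have h4 : ∀ v, (k⁻¹ * g) v = v := by
    apply ext_full h.h2 h.full h.full_card
    have h5 : ∀ v, g v = k v → (k⁻¹ * g) v = v := by
      intro v hv
      show k.symm (g v) = v
      rw [hv, k.symm_apply_apply]
    rintro (i | i)
    · exact h5 _ (h1 i)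
    · exact h5 _ (h3 i)
  ext v
  have h5 : k.symm (g v) = v := h4 v
  rw [← k.apply_symm_apply (g v), h5]

theorem prod_d : ∏ i, d i = 1 := by
  have h1 := (neg_iff_prod h.hF h.nd h.full h.full_card (m := 4) (by norm_num) h.hn).1 h.neg
  rw [Fintype.prod_sum_type] at h1
  simp only [Sum.elim_inl, Sum.elim_inr, Finset.prod_const, Finset.card_univ, Fintype.card_fin] at h1
  have h3 : ce ^ 4 = 1 := by
    have h4 : ce ≠ 0 := h.he.ne 0
    have h5 := mul_self_eq h.hF h4
    calc ce ^ 4 = (ce * ce) * (ce * ce) := by ring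
      _ = 1 := by rw [h5, one_mul]
  rwa [h3, one_mul] at h1

omit h in
theorem inj23 : Function.Injective (![2, 3] : Fin 2 → Fin 4) := by decide

end Ctx4

/-- values -/
def d6 (ce : F) (d : Fin 4 → F) : Fin 2 ⊕ Fin 4 → F := Sum.elim (fun _ => ce) d

/-- the family -/
def f6 (e f : Fin 4 → V) : Fin 2 ⊕ Fin 4 → V := Sum.elim (e ∘ ![2, 3]) f

theorem hf6 (h : Ctx4 Q w ce d e f) : OF Q (d6 ce d) (f6 e f) :=
  OF_sum (h.he.comp ![2, 3] Ctx4.inj23) h.hf fun i k => h.ef _ k

theorem w_f6 (h : Ctx4 Q w ce d e f) (i : Fin 2 ⊕ Fin 4) : w (f6 e f i) = f6 e f i := by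
  rcases i with i | i
  · fin_cases i
    · exact h.w2
    · exact h.w3
  · exact h.wf i

theorem f6_e0 (h : Ctx4 Q w ce d e f) {l : Fin 4} (hl : l = 0 ∨ l = 1) (i : Fin 2 ⊕ Fin 4) :
    polar Q (f6 e f i) (e l) = 0 := by
  rcases i with i | i
  · refine h.he.orth _ _ ?_
    fin_cases i <;> rcases hl with rfl | rfl <;> decide
  · show polar Q (f i) (e l) = 0
    rw [polar_comm]; exact h.ef l i

/-- `-w` is `-1` on the family -/
theorem ng6 (h : Ctx4 Q w ce d e f) : ((hf6 h).ad h.h2).ng = LinearEquiv.neg F * w := by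
  have h0 : ∀ l : Fin 4, (l = 0 ∨ l = 1) → ((hf6 h).ad h.h2).ng (e l) = e l := by
    intro l hl
    rw [OF_ng_iff]
    exact fun i => f6_e0 h hl i
  have h1 : ∀ i, ((hf6 h).ad h.h2).ng (f6 e f i) = -f6 e f i := fun i => OF_ng_f h.h2 (hf6 h) i
  apply h.ext
  · intro i
    show ((hf6 h).ad h.h2).ng (e i) = -(w (e i))
    fin_cases i
    · show ((hf6 h).ad h.h2).ng (e 0) = -(w (e 0))
      rw [h0 0 (Or.inl rfl), h.w0, neg_neg]
    · show ((hf6 h).ad h.h2).ng (e 1) = -(w (e 1))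
      rw [h0 1 (Or.inr rfl), h.w1, neg_neg]
    · show ((hf6 h).ad h.h2).ng (e 2) = -(w (e 2))
      rw [h.w2]; exact h1 (Sum.inl 0)
    · show ((hf6 h).ad h.h2).ng (e 3) = -(w (e 3))
      rw [h.w3]; exact h1 (Sum.inl 1)
  · intro i
    show ((hf6 h).ad h.h2).ng (f i) = -(w (f i))
    rw [h.wf]; exact h1 (Sum.inr i)

theorem finrank6 : finrank F (Fin 2 ⊕ Fin 4 → F) = 6 := by
  rw [finrank_fintype_fun_eq_card, Fintype.card_sum, Fintype.card_fin, Fintype.card_fin]

theorem neg6 (h : Ctx4 Q w ce d e f) : Neg (DQ (d6 ce d)) := by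
  have hnd : Nondeg (DQ (d6 ce d)) := (hf6 h).nondeg h.h2
  -- the standard family
  have hst : OF (DQ (d6 ce d)) (d6 ce d) (fun i => Pi.single i (1 : F)) := by
    refine ⟨fun i => ?_, (hf6 h).ne, fun i j hij => ?_⟩
    · rw [← ((hf6 h).ad h.h2).nm, (hf6 h).L_single h.h2, (hf6 h).nm]
    · have h1 : polar Q (f6 e f i) (f6 e f j) = 0 := (hf6 h).orth i j hij
      rw [← (hf6 h).L_single h.h2 i, ((hf6 h).ad h.h2).ad, ← (hf6 h).L_single h.h2 j, ((hf6 h).ad h.h2).RL] at h1
      exact h1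
  rw [neg_iff_prod h.hF hnd hst (by rw [finrank_fintype_fun_eq_card]) (m := 3) (by norm_num) finrank6]
  rw [Fintype.prod_sum_type]
  show (∏ _i : Fin 2, ce) * ∏ i, d i = 1
  rw [h.prod_d, mul_one, Finset.prod_const, Finset.card_univ, Fintype.card_fin, pow_two, mul_self_eq h.hF (h.he.ne 0)]

theorem ng6_mem (h : Ctx4 Q w ce d e f) : ((hf6 h).ad h.h2).ng ∈ ((hf6 h).ad h.h2).B :=
  ⟨_, neg6 h, rfl⟩

theorem comm_ng6 (h : Ctx4 Q w ce d e f) {g : V ≃ₗ[F] V} (hg : g * w = w * g) :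
    g * ((hf6 h).ad h.h2).ng = ((hf6 h).ad h.h2).ng * g := by
  rw [ng6 h, ← mul_assoc, Ctx3.neg_comm, mul_assoc, hg, mul_assoc]

theorem B_comm (h : Ctx4 Q w ce d e f) {g : V ≃ₗ[F] V} (hg : g ∈ ((hf6 h).ad h.h2).B) : g * w = w * g := by
  have h1 : g * ((hf6 h).ad h.h2).ng = ((hf6 h).ad h.h2).ng * g := by
    obtain ⟨k, _, rfl⟩ := hg
    rw [Ad.ng, ← map_mul, ← map_mul, Ctx3.neg_comm]
  have h3 : w = LinearEquiv.neg F * ((hf6 h).ad h.h2).ng := by
    rw [ng6 h, ← mul_assoc]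
    have : (LinearEquiv.neg F : V ≃ₗ[F] V) * LinearEquiv.neg F = 1 := by
      ext v
      show - -v = v
      rw [neg_neg]
    rw [this, one_mul]
  rw [h3, ← mul_assoc, Ctx3.neg_comm, mul_assoc, h1, mul_assoc]

theorem qs6 (h : Ctx4 Q w ce d e f) : Cfsg.IsQuasisimple ↥((hf6 h).ad h.h2).B := by
  have hnd : Nondeg (DQ (d6 ce d)) := (hf6 h).nondeg h.h2
  have hG := LieClassical.OrthFinite.good_of_finite hnd (by rw [finrank6]; norm_num)
  have h1 : Cfsg.IsQuasisimple ↥(E (DQ (d6 ce d))) := by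
    refine ⟨?_, LieClassical.OrthSimple.good_isSimpleGroup hG⟩
    rw [Group.isPerfect_def, _root_.commutator_def]
    have h3 := hG.E_perfect
    have h4 : (⁅(⊤ : Subgroup ↥(E (DQ (d6 ce d)))), ⊤⁆ : Subgroup ↥(E (DQ (d6 ce d)))).map
        (E (DQ (d6 ce d))).subtype =
        (⊤ : Subgroup ↥(E (DQ (d6 ce d)))).map (E (DQ (d6 ce d))).subtype := by
      rw [Subgroup.map_commutator, ← MonoidHom.range_eq_map, Subgroup.range_subtype, h3]
    exact Subgroup.map_injective (E (DQ (d6 ce d))).subtype_injective h4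
  rw [← hG.commutator_eq_E] at h1
  exact SignalizersComponents.Components.isQuasisimple_of_mulEquiv ((hf6 h).ad h.h2).BEquiv h1

/-- no isometry maps `w` to `-w` -/
theorem no_neg (h : Ctx4 Q w ce d e f) (hwO : w ∈ O Q) {g : V ≃ₗ[F] V} (hg : g ∈ O Q)
    (hgw : g * w = LinearEquiv.neg F * (w * g)) : False := by
  have h1 : ∀ i, w (g (f6 e f i)) = -(g (f6 e f i)) := by
    intro i
    have h3 := congrArg (fun l : V ≃ₗ[F] V => l (f6 e f i)) hgw
    have h4 : g (w (f6 e f i)) = -(w (g (f6 e f i))) := h3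
    rw [w_f6 h] at h4
    exact (neg_eq_iff_eq_neg.2 h4).symm
  have hg6 : OF Q (d6 ce d) (fun i => g (f6 e f i)) :=
    ⟨fun i => by rw [mem_O.1 hg, (hf6 h).nm], (hf6 h).ne, fun i j hij => by
      rw [polar_map hg]; exact (hf6 h).orth i j hij⟩
  have h3 := OF_sum (hf6 h) hg6 fun i k => eig_orth h.h2 hwO (w_f6 h i) (h1 k)
  have h8 := (h3.linearIndependent h.h2).fintype_card_le_finrank
  rw [Fintype.card_sum, Fintype.card_sum, Fintype.card_fin, Fintype.card_fin, h.hn] at h8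
  omega

/-- the row, in coordinates -/
theorem row_aux {w : ↥(Om Q)} (h : Ctx4 Q (w : V ≃ₗ[F] V) ce d e f) :
    ∃ K : Subgroup (↥(Om Q) ⧸ Subgroup.center ↥(Om Q)),
      CompIn (Subgroup.centralizer ({(w : ↥(Om Q) ⧸ Subgroup.center ↥(Om Q))} :
        Set (↥(Om Q) ⧸ Subgroup.center ↥(Om Q)))) K ∧ (w : ↥(Om Q) ⧸ Subgroup.center ↥(Om Q)) ∈ K := by
  have hOm : Om Q ≤ O Q := Subgroup.commutator_le_self _
  set L := ((hf6 h).ad h.h2).B with hL
  have hLle : L ≤ Om Q := Ad.B_le _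
  set π := QuotientGroup.mk' (Subgroup.center ↥(Om Q)) with hπ
  have hcen := mem_center_iff h.hF h.nd (by rw [h.hn]; norm_num) h.neg
  have hker : ∀ g : ↥(Om Q), π g = 1 ↔ g = 1 ∨ g = ngO h.neg := by
    intro g
    rw [← hcen]
    exact QuotientGroup.eq_one_iff g
  -- injectivity
  let φ : ↥(L.subgroupOf (Om Q)) →* ↥(Om Q) ⧸ Subgroup.center ↥(Om Q) := π.comp (L.subgroupOf (Om Q)).subtype
  have hφ : Function.Injective φ := by
    rw [injective_iff_map_eq_one]
    intro g hg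
    rcases (hker (g : ↥(Om Q))).1 hg with h1 | h1
    · exact Subtype.ext h1
    · exfalso
      have h3 : ((g : ↥(Om Q)) : V ≃ₗ[F] V) (e 0) = e 0 := by
        apply (Ad.B_le_Fx _ h.nd g.2).2
        rw [OF.R_eq_zero_iff]
        exact fun i => f6_e0 h (Or.inl rfl) i
      rw [h1] at h3
      have h4 : -(e 0) = e 0 := h3
      have h5 : (2 : F) • e 0 = 0 := by
        rw [two_smul]; nth_rewrite 1 [← h4]; abel
      exact OF_ne_zero h.he 0 ((smul_eq_zero.1 h5).resolve_left h.h2)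
  have hr : φ.range = (L.subgroupOf (Om Q)).map π := by
    rw [MonoidHom.range_comp, Subgroup.range_subtype]
  refine ⟨(L.subgroupOf (Om Q)).map π, ?_, ?_⟩
  · rw [compIn_iff]
    refine ⟨Sn.of_normal ?_ ?_, ?_⟩
    · rintro _ ⟨g, hg, rfl⟩
      rw [Subgroup.mem_centralizer_singleton_iff]
      show π g * π w = π w * π g
      rw [← map_mul, ← map_mul]
      congr 1
      exact Subtype.ext (B_comm h hg)
    · intro g' hg'
      obtain ⟨g, rfl⟩ := QuotientGroup.mk'_surjective _ g'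
      rw [Subgroup.mem_centralizer_singleton_iff] at hg'
      have h1 : π (g * w * (w * g)⁻¹) = 1 := by
        rw [map_mul, map_inv, map_mul, map_mul]
        exact mul_inv_eq_one.2 hg'
      have h3 : (g : V ≃ₗ[F] V) * w = w * g := by
        rcases (hker _).1 h1 with h4 | h4
        · rw [mul_inv_eq_one] at h4
          exact congrArg Subtype.val h4
        · exfalso
          rw [mul_inv_eq_iff_eq_mul] at h4
          exact no_neg h (hOm w.2) (hOm g.2) (congrArg Subtype.val h4)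
      have h5 : (g : V ≃ₗ[F] V) ∈ Subgroup.normalizer (L : Set (V ≃ₗ[F] V)) :=
        Ad.normalizer_B_of_comm _ h.h2 h.nd (hOm g.2) (comm_ng6 h h3)
      have h6 : g ∈ Subgroup.normalizer ((L.subgroupOf (Om Q) : Subgroup ↥(Om Q)) : Set ↥(Om Q)) := by
        rw [Subgroup.mem_normalizer_iff] at h5 ⊢
        intro y
        exact h5 y
      have h7 := Subgroup.le_normalizer_map π (Subgroup.mem_map_of_mem π h6)
      exact h7
    · refine SignalizersComponents.Components.isQuasisimple_of_mulEquiv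
        ((MonoidHom.ofInjective hφ).trans (MulEquiv.subgroupCongr hr)) ?_
      exact SignalizersComponents.Components.isQuasisimple_of_mulEquiv (Subgroup.subgroupOfEquivOfLe hLle).symm (qs6 h)
  · have h1 : ngO h.neg * w ∈ L.subgroupOf (Om Q) := by
      show LinearEquiv.neg F * (w : V ≃ₗ[F] V) ∈ L
      rw [← ng6 h]
      exact ng6_mem h
    have h3 : π (ngO h.neg * w) = π w := by
      rw [map_mul, (hker _).2 (Or.inr rfl), one_mul]
    have h4 : π w ∈ (L.subgroupOf (Om Q)).map π := by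
      rw [← h3]
      exact Subgroup.mem_map_of_mem π h1
    exact h4

end

/-- **row `PΩ₈⁺(3)`, the case of one involution** -/
theorem row (hF : Fintype.card F = 3) (hQ : Nondeg Q) (hn : finrank F V = 8) (hN : Neg Q)
    {x p j q k : V ≃ₗ[F] V} (h : Qd x p j q k) (hx : x ∈ Om Q) (hp : p ∈ Om Q) (hj : j ∈ Om Q) (hq : q ∈ Om Q)
    (hk : k ∈ Om Q) (hx1 : ∃ v, x v ≠ v) (hx2 : ∃ v, x v ≠ -v)
    (hfix : ∀ v, x v = v → p v = v ∧ q v = v) (w : ↥(Om Q)) (hw : (w : V ≃ₗ[F] V) = p * q) :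
    ∃ K : Subgroup (↥(Om Q) ⧸ Subgroup.center ↥(Om Q)),
      CompIn (Subgroup.centralizer ({(w : ↥(Om Q) ⧸ Subgroup.center ↥(Om Q))} :
        Set (↥(Om Q) ⧸ Subgroup.center ↥(Om Q)))) K ∧ (w : ↥(Om Q) ⧸ Subgroup.center ↥(Om Q)) ∈ K := by
  have h2 := two_ne hF
  have hOm : Om Q ≤ O Q := Subgroup.commutator_le_self _
  obtain ⟨e0, he1, he2, he3, he4, hV⟩ := h.frame h2 hQ (hOm hx) (hOm hp) (hOm hj) (hOm hq) (hOm hk) hx1
    (Or.inr ⟨hn, hx2⟩)
  have he := h.fr_OF h2 (hOm hp) (hOm hj) (hOm hq) (hOm hk) he1 he2 he3 he4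
  have hr := finrank_pc h2 he
  rw [Fintype.card_fin, hn] at hr
  obtain ⟨c, _, f', h3⟩ := exists_OF_one h2 (nondeg_res h2 hQ he) (ι := Fin 4) (by rw [Fintype.card_fin]; omega) 0
  have hwv : ∀ v, (w : V ≃ₗ[F] V) v = p (q v) := by intro v; rw [hw]; rfl
  obtain ⟨w0, w1, w2, w3⟩ := h.fr_w he1 he2
  exact row_aux (w := w) (e := fr p j e0) (f := fun k => (f' k : V)) (ce := Q e0)
    { hF := hF
      nd := hQ
      hn := hn
      neg := hN
      he := he
      hf := ⟨fun i => h3.nm i, h3.ne, fun i j hij => h3.orth i j hij⟩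
      ef := fun i k => (f' k).2 i
      w0 := by rw [hwv]; exact w0
      w1 := by rw [hwv]; exact w1
      w2 := by rw [hwv]; exact w2
      w3 := by rw [hwv]; exact w3
      wf := fun i => by
        have h5 := hfix _ (hV _ (f' i).2)
        rw [hwv, h5.2, h5.1] }

end Cfsg.Agent.OddHalf.NI3.Bad.EightPair
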