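import Cfsg.Agent.OddHalf.NI3.Bad.Sim
import Cfsg.Agent.OddHalf.NI.LemmaP
import Cfsg.Agent.SignalizersComponents.ComponentImage
import Cfsg.Agent.LieClassical.HermPerfect
import Cfsg.Agent.LieClassical.SUBasic
import Cfsg.Agent.S0283

/-!
# (KD), row `PΩ₈⁺(3)`, CASE 2 (node NI over `F₃`, THEOREM NIB; helper598 for helper100)

`Q` nondegenerate of dimension 8 over `F₃`, `-1 ∈ Ω(V)`, `w ∈ Ω(V)`, `w² = -1`: then `C_{O(V)}(w) ≃ GU₄(3)` and the image
of `SU₄(3)` in `Ω(V)/Z(Ω(V))` is a component of `C(w̄)` containing `w̄`.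
-/

set_option autoImplicit false
set_option linter.unusedSectionVars false
set_option linter.unusedVariables false

namespace Cfsg.Agent.OddHalf.NI3.Bad.EightUnit

open QuadraticMap Module Cfsg Cfsg.Agent.LieClassical.OrthCore Cfsg.Agent.OddHalf.NI3.Bad.Sim
  Cfsg.Agent.LieClassical.HermSiegel
open Cfsg.Agent.OddHalf.NI (CompIn)

/-! ### An abstract criterion -/

section Abs

variable {A H K : Type*} [Group A] [Group H] [Group K]

/-- `π : H → K` surjective with central kernel, `j : A → H`, `n ∈ A` central, the image of `j` normalised by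
`C_H(j n)`, `A` quasisimple: the image of `A` is a component of `C_K(π j n)`. -/
theorem compIn_of' (hA : IsQuasisimple A) (π : H →* K) (hπ : Function.Surjective π)
    (hker : ∀ h, π h = 1 → h ∈ Subgroup.center H) (j : A →* H) (hnt : Nontrivial ↥((π.comp j).range)) {n : A}
    (hn : ∀ a, n * a = a * n)
    (hnorm : ∀ h : H, h * j n = j n * h → ∀ a : A, ∃ b : A, h * j a * h⁻¹ = j b) :
    CompIn (Subgroup.centralizer ({π (j n)} : Set K)) (π.comp j).range := by
  have hmemC : ∀ x : K, x ∈ Subgroup.centralizer ({π (j n)} : Set K) ↔ x * π (j n) = π (j n) * x := by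
    intro x
    rw [Subgroup.mem_centralizer_iff]
    constructor
    · intro h; exact (h _ rfl).symm
    · rintro h _ rfl; exact h.symm
  have hle : (π.comp j).range ≤ Subgroup.centralizer ({π (j n)} : Set K) := by
    rintro _ ⟨a, rfl⟩
    rw [hmemC]
    show π (j a) * π (j n) = π (j n) * π (j a)
    rw [← map_mul, ← map_mul, ← map_mul, ← map_mul, hn]
  refine ⟨hle, ?_, ?_⟩
  · -- subnormal
    set N : Subgroup K := (Subgroup.centralizer ({j n} : Set H)).map π with hN
    have hmemN : ∀ h : H, h ∈ Subgroup.centralizer ({j n} : Set H) ↔ h * j n = j n * h := by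
      intro h
      rw [Subgroup.mem_centralizer_iff]
      constructor
      · intro h; exact (h _ rfl).symm
      · rintro h _ rfl; exact h.symm
    have hNC : N ≤ Subgroup.centralizer ({π (j n)} : Set K) := by
      rintro _ ⟨h, hh, rfl⟩
      rw [hmemC, ← map_mul, (hmemN h).1 hh, map_mul]
    have hMN : (π.comp j).range ≤ N := by
      rintro _ ⟨a, rfl⟩
      refine ⟨j a, ?_, rfl⟩
      rw [SetLike.mem_coe, hmemN, ← map_mul, ← map_mul, hn]
    have s1 : (N.subgroupOf (Subgroup.centralizer ({π (j n)} : Set K))).IsSubnormal := by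
      apply Subgroup.Normal.isSubnormal
      refine ⟨fun x hx g => ?_⟩
      rw [Subgroup.mem_subgroupOf] at hx ⊢
      obtain ⟨h, hh, hhx⟩ := hx
      obtain ⟨g', hg'⟩ := hπ g.1
      have hgC := (hmemC g.1).1 g.2
      refine ⟨g' * h * g'⁻¹, ?_, ?_⟩
      swap
      · rw [map_mul, map_mul, map_inv, hhx, hg']; rfl
      rw [SetLike.mem_coe, hmemN] at hh ⊢
      have hz : (j n)⁻¹ * (g' * j n * g'⁻¹) ∈ Subgroup.center H := by
        apply hker
        rw [map_mul, map_mul, map_mul, map_inv, map_inv, hg', hgC]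
        group
      rw [Subgroup.mem_center_iff] at hz
      set z := (j n)⁻¹ * (g' * j n * g'⁻¹) with hzd
      have h1 : g' * j n * g'⁻¹ = j n * z := by rw [hzd]; group
      have h2 : j n = g' * j n * g'⁻¹ * z⁻¹ := by rw [h1]; group
      have h3 : g' * h * g'⁻¹ * (g' * j n * g'⁻¹) = g' * j n * g'⁻¹ * (g' * h * g'⁻¹) := by
        calc g' * h * g'⁻¹ * (g' * j n * g'⁻¹) = g' * (h * j n) * g'⁻¹ := by group
          _ = g' * (j n * h) * g'⁻¹ := by rw [hh]
          _ = g' * j n * g'⁻¹ * (g' * h * g'⁻¹) := by group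
      have h4 : ∀ w : H, w * z⁻¹ = z⁻¹ * w := fun w => by
        have := hz w
        rw [eq_inv_mul_iff_mul_eq, ← mul_assoc, ← this]
        group
      calc g' * h * g'⁻¹ * j n = g' * h * g'⁻¹ * (g' * j n * g'⁻¹ * z⁻¹) := by rw [← h2]
        _ = g' * h * g'⁻¹ * (g' * j n * g'⁻¹) * z⁻¹ := by group
        _ = g' * j n * g'⁻¹ * (g' * h * g'⁻¹) * z⁻¹ := by rw [h3]
        _ = g' * j n * g'⁻¹ * z⁻¹ * (g' * h * g'⁻¹) := by rw [mul_assoc _ _ z⁻¹, h4, ← mul_assoc]
        _ = j n * (g' * h * g'⁻¹) := by rw [← h2]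
    have s2 : ((π.comp j).range.subgroupOf N).IsSubnormal := by
      apply Subgroup.Normal.isSubnormal
      refine ⟨fun x hx g => ?_⟩
      rw [Subgroup.mem_subgroupOf] at hx ⊢
      obtain ⟨a, ha⟩ := hx
      obtain ⟨h, hh, hg⟩ := g.2
      rw [SetLike.mem_coe, hmemN] at hh
      obtain ⟨b, hb⟩ := hnorm h hh a
      refine ⟨b, ?_⟩
      show π (j b) = g.1 * x.1 * g.1⁻¹
      rw [← hb, map_mul, map_mul, map_inv, hg, ← ha]
      rfl
    refine Subgroup.IsSubnormal.trans (K := N.subgroupOf _) ?_ ?_ s1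
    · exact Subgroup.comap_mono hMN
    · have e1 : (((π.comp j).range.subgroupOf (Subgroup.centralizer ({π (j n)} : Set K))).subgroupOf
          (N.subgroupOf (Subgroup.centralizer ({π (j n)} : Set K)))) =
          ((π.comp j).range.subgroupOf N).comap (Subgroup.subgroupOfEquivOfLe hNC).toMonoidHom := by
        ext x
        rfl
      rw [e1]
      exact s2.comap _
  · exact SignalizersComponents.Components.isQuasisimple_of_mulEquiv (Subgroup.subgroupOfEquivOfLe hle).symm
      (SignalizersComponents.ComponentImage.isQuasisimple_of_surjective hA (π.comp j).rangeRestrict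
        (π.comp j).rangeRestrict_surjective hnt)

end Abs

/-! ### The field `F(i)` -/

section KField

variable {F : Type*} [Field F]

/-- `F(i)` -/
abbrev KK (F : Type*) [Field F] := QuadraticAlgebra F (-1 : F) (0 : F)

instance [Fintype F] : Fintype (KK F) := Fintype.ofEquiv (F × F) (QuadraticAlgebra.equivProd _ _).symm

variable [Fintype F]

theorem card_KK : Fintype.card (KK F) = Fintype.card F ^ 2 := by
  rw [Fintype.ofEquiv_card, Fintype.card_prod, pow_two]

theorem fact (hF : Fintype.card F = 3) : Fact (∀ r : F, r ^ 2 ≠ (-1 : F) + 0 * r) := by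
  refine ⟨fun r h => ?_⟩
  have h2 := two_ne hF
  rcases cases hF r with rfl | rfl | rfl
  · exact one_ne_zero (α := F) (by linear_combination h)
  · exact h2 (by linear_combination h)
  · exact h2 (by linear_combination h)

theorem cube (hF : Fintype.card F = 3) (x : F) : x ^ 3 = x := by
  rw [← hF]; exact FiniteField.pow_card x

theorem pow_three (hF : Fintype.card F = 3) (z : KK F) : z ^ 3 = star z := by
  have h3 := three hF
  have ha := cube hF z.re
  have hb := cube hF z.im
  ext
  · simp [pow_succ]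
    linear_combination ha - z.re * z.im ^ 2 * h3
  · simp [pow_succ]
    linear_combination (-1 : F) * hb + z.re ^ 2 * z.im * h3

end KField

/-! ### An orthonormal basis `b_j, w b_j` -/

section Basis

variable {F V : Type*} [Field F] [Fintype F] [AddCommGroup V] [Module F V] [FiniteDimensional F V]
  {Q : QuadraticForm F V} {w : V ≃ₗ[F] V}

/-- an isometry with square `-1` -/
structure WW (Q : QuadraticForm F V) (w : V ≃ₗ[F] V) : Prop where
  o : w ∈ O Q
  sq : ∀ v, w (w v) = -v

namespace WW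

theorem left (h : WW Q w) (x y : V) : polar Q (w x) y = -polar Q x (w y) := by
  have h1 := polar_map h.o x (w y)
  rw [h.sq, polar_neg_right] at h1
  rw [← h1, neg_neg]

theorem self (h : WW Q w) (h2 : (2 : F) ≠ 0) (x : V) : polar Q x (w x) = 0 := by
  have h1 := h.left x x
  rw [polar_comm] at h1
  have h3 : 2 * polar Q x (w x) = 0 := by linear_combination h1
  exact (mul_eq_zero.1 h3).resolve_left h2

theorem nm (h : WW Q w) (x : V) : Q (w x) = Q x := h.o x

end WW

/-- an orthonormal family `b_j, w b_j` -/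
structure ON (Q : QuadraticForm F V) (w : V ≃ₗ[F] V) {k : ℕ} (b : Fin k → V) : Prop where
  one : ∀ i, Q (b i) = 1
  orth : ∀ i j, i ≠ j → polar Q (b i) (b j) = 0
  wor : ∀ i j, polar Q (b i) (w (b j)) = 0

theorem ON.orth' {k : ℕ} {b : Fin k → V} (hw : WW Q w) (h : ON Q w b) (i j : Fin k) (hij : i ≠ j) :
    polar Q (w (b i)) (w (b j)) = 0 := by
  rw [polar_map hw.o, h.orth i j hij]

theorem ON.wor' {k : ℕ} {b : Fin k → V} (hw : WW Q w) (h : ON Q w b) (i j : Fin k) :
    polar Q (w (b i)) (b j) = 0 := by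
  rw [hw.left, h.wor, neg_zero]

/-- the projection onto the orthogonal complement -/
def pr (Q : QuadraticForm F V) (w : V ≃ₗ[F] V) {k : ℕ} (b : Fin k → V) (x : V) : V :=
  x + ∑ j, (polar Q x (b j) • b j + polar Q x (w (b j)) • w (b j))

theorem polar_sum_left {ι : Type*} (s : Finset ι) (f : ι → V) (y : V) :
    polar Q (∑ i ∈ s, f i) y = ∑ i ∈ s, polar Q (f i) y := by
  have h := map_sum (LinearMap.flip (polarBilin Q) y) f s
  simpa only [LinearMap.flip_apply, polarBilin_apply_apply] using h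

theorem polar_pr {k : ℕ} {b : Fin k → V} (x y : V) : polar Q (pr Q w b x) y =
    polar Q x y + ∑ j, (polar Q x (b j) * polar Q (b j) y + polar Q x (w (b j)) * polar Q (w (b j)) y) := by
  rw [pr, polar_add_left, polar_sum_left]
  congr 1
  refine Finset.sum_congr rfl fun j _ => ?_
  rw [polar_add_left, polar_smul_left, polar_smul_left, smul_eq_mul, smul_eq_mul]

theorem pr_orth (hF : Fintype.card F = 3) (hw : WW Q w) {k : ℕ} {b : Fin k → V} (h : ON Q w b) (x : V) (i : Fin k) :
    polar Q (pr Q w b x) (b i) = 0 ∧ polar Q (pr Q w b x) (w (b i)) = 0 := by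
  have h3 := three hF
  constructor
  · rw [polar_pr, Finset.sum_eq_single i]
    · rw [polar_self', h.one, h.wor' hw]
      linear_combination polar Q x (b i) * h3
    · intro j _ hj
      rw [h.orth j i hj, h.wor' hw, mul_zero, mul_zero, add_zero]
    · intro hi; exact absurd (Finset.mem_univ i) hi
  · rw [polar_pr, Finset.sum_eq_single i]
    · rw [polar_self', hw.nm, h.one, h.wor]
      linear_combination polar Q x (w (b i)) * h3
    · intro j _ hj
      rw [h.orth' hw j i hj, h.wor, mul_zero, mul_zero, add_zero]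
    · intro hi; exact absurd (Finset.mem_univ i) hi

theorem exists_ne (hF : Fintype.card F = 3) (hQ : Nondeg Q) (hw : WW Q w) {k : ℕ} {b : Fin k → V} (h : ON Q w b)
    (hk : 2 * k < finrank F V) : ∃ v, Q v ≠ 0 ∧ ∀ i, polar Q v (b i) = 0 ∧ polar Q v (w (b i)) = 0 := by
  by_contra hcon
  push Not at hcon
  have h0 : ∀ x, Q (pr Q w b x) = 0 := by
    intro x
    by_contra h1
    obtain ⟨i, hi⟩ := hcon _ h1
    exact hi (pr_orth hF hw h x i).1 (pr_orth hF hw h x i).2
  have hadd : ∀ x y, pr Q w b (x + y) = pr Q w b x + pr Q w b y := by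
    intro x y
    simp only [pr, polar_add_left, add_smul, Finset.sum_add_distrib]
    abel
  have h1 : ∀ x, pr Q w b x = 0 := by
    intro x
    apply hQ
    intro y
    have h2 : polar Q (pr Q w b x) (pr Q w b y) = 0 := by
      rw [polar, ← hadd, h0, h0, h0]; ring
    rw [show pr Q w b y = y + ∑ j, (polar Q y (b j) • b j + polar Q y (w (b j)) • w (b j)) from rfl,
      polar_add_right] at h2
    have h4 : polar Q (pr Q w b x) (∑ j, (polar Q y (b j) • b j + polar Q y (w (b j)) • w (b j))) = 0 := by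
      rw [polar_comm, polar_sum_left]
      refine Finset.sum_eq_zero fun j _ => ?_
      rw [polar_add_left, polar_smul_left, polar_smul_left, polar_comm Q (b j), polar_comm Q (w (b j)),
        (pr_orth hF hw h x j).1, (pr_orth hF hw h x j).2, smul_zero, smul_zero, add_zero]
    rw [h4, add_zero] at h2
    exact h2
  -- span
  have h2 : (⊤ : Submodule F V) ≤ Submodule.span F (Set.range (Sum.elim b fun j => w (b j))) := by
    intro x _
    have h3 := h1 x
    have h4 : x = -∑ j, (polar Q x (b j) • b j + polar Q x (w (b j)) • w (b j)) := eq_neg_of_add_eq_zero_left h3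
    rw [h4]
    refine Submodule.neg_mem _ (Submodule.sum_mem _ fun j _ => Submodule.add_mem _ ?_ ?_)
    · exact Submodule.smul_mem _ _ (Submodule.subset_span ⟨Sum.inl j, rfl⟩)
    · exact Submodule.smul_mem _ _ (Submodule.subset_span ⟨Sum.inr j, rfl⟩)
  have h5 : finrank F (Submodule.span F (Set.range (Sum.elim b fun j => w (b j)))) ≤ 2 * k := by
    refine (finrank_range_le_card (Sum.elim b fun j => w (b j))).trans ?_
    rw [Fintype.card_sum, Fintype.card_fin]; omega
  rw [top_le_iff.1 h2, finrank_top] at h5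
  omega

theorem exists_next (hF : Fintype.card F = 3) (hQ : Nondeg Q) (hw : WW Q w) {k : ℕ} {b : Fin k → V} (h : ON Q w b)
    (hk : 2 * k < finrank F V) : ∃ v, Q v = 1 ∧ ∀ i, polar Q v (b i) = 0 ∧ polar Q v (w (b i)) = 0 := by
  have h2 := two_ne hF
  have h3 := three hF
  obtain ⟨v, hv, hvb⟩ := exists_ne hF hQ hw h hk
  rcases cases hF (Q v) with h1 | h1 | h1
  · exact absurd h1 hv
  · exact ⟨v, h1, hvb⟩
  · refine ⟨v + w v, ?_, fun i => ?_⟩
    · rw [Q_add, hw.nm, hw.self h2, h1]
      linear_combination (-1 : F) * h3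
    · obtain ⟨e1, e2⟩ := hvb i
      constructor
      · rw [polar_add_left, e1, hw.left, e2]; ring
      · rw [polar_add_left, e2, polar_map hw.o, e1]; ring

theorem exists_ON (hF : Fintype.card F = 3) (hQ : Nondeg Q) (hw : WW Q w) :
    ∀ k : ℕ, 2 * k ≤ finrank F V → ∃ b : Fin k → V, ON Q w b := by
  have h2 := two_ne hF
  intro k
  induction k with
  | zero =>
    intro _
    exact ⟨fun i => i.elim0, ⟨fun i => i.elim0, fun i => i.elim0, fun i => i.elim0⟩⟩
  | succ k ih =>
    intro hk
    obtain ⟨b, hb⟩ := ih (by omega)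
    obtain ⟨v, hv, hvb⟩ := exists_next hF hQ hw hb (by omega)
    refine ⟨Fin.cons v b, ?_, ?_, ?_⟩
    · intro i
      refine Fin.cases ?_ (fun i => ?_) i
      · exact hv
      · exact hb.one i
    · intro i j
      refine Fin.cases ?_ (fun i => ?_) i <;> refine Fin.cases ?_ (fun j => ?_) j
      · intro h; exact absurd rfl h
      · intro _
        simp only [Fin.cons_zero, Fin.cons_succ]
        exact (hvb j).1
      · intro _
        simp only [Fin.cons_zero, Fin.cons_succ]
        rw [polar_comm]; exact (hvb i).1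
      · intro h
        simp only [Fin.cons_succ]
        exact hb.orth i j (fun h' => h (by rw [h']))
    · intro i j
      refine Fin.cases ?_ (fun i => ?_) i <;> refine Fin.cases ?_ (fun j => ?_) j
      · simp only [Fin.cons_zero]
        exact hw.self h2 v
      · simp only [Fin.cons_zero, Fin.cons_succ]
        exact (hvb j).2
      · simp only [Fin.cons_zero, Fin.cons_succ]
        rw [polar_comm, hw.left, (hvb i).2, neg_zero]
      · simp only [Fin.cons_succ]
        exact hb.wor i j

/-! ### The coordinates -/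

/-- `x ↦ ∑ (re x_j) b_j + (im x_j) w b_j` -/
def eL (w : V ≃ₗ[F] V) {k : ℕ} (b : Fin k → V) : (Fin k → KK F) →ₗ[F] V where
  toFun x := ∑ j, ((x j).re • b j + (x j).im • w (b j))
  map_add' x y := by
    rw [← Finset.sum_add_distrib]
    refine Finset.sum_congr rfl fun j _ => ?_
    rw [Pi.add_apply, QuadraticAlgebra.re_add, QuadraticAlgebra.im_add, add_smul, add_smul]
    abel
  map_smul' r x := by
    rw [RingHom.id_apply, Finset.smul_sum]
    refine Finset.sum_congr rfl fun j _ => ?_
    rw [Pi.smul_apply, QuadraticAlgebra.re_smul, QuadraticAlgebra.im_smul, smul_add, smul_smul, smul_smul, smul_eq_mul,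
      smul_eq_mul]

theorem eL_apply {k : ℕ} {b : Fin k → V} (x : Fin k → KK F) :
    eL w b x = ∑ j, ((x j).re • b j + (x j).im • w (b j)) := rfl

theorem polar_eL (hw : WW Q w) {k : ℕ} {b : Fin k → V} (h : ON Q w b) (x : Fin k → KK F) (i : Fin k) :
    polar Q (eL w b x) (b i) = 2 * (x i).re ∧ polar Q (eL w b x) (w (b i)) = 2 * (x i).im := by
  constructor
  · rw [eL_apply, polar_sum_left, Finset.sum_eq_single i]
    · rw [polar_add_left, polar_smul_left, polar_smul_left, polar_self', h.one, h.wor' hw, smul_eq_mul, smul_eq_mul]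
      ring
    · intro j _ hj
      rw [polar_add_left, polar_smul_left, polar_smul_left, h.orth j i hj, h.wor' hw, smul_zero, smul_zero, add_zero]
    · intro hi; exact absurd (Finset.mem_univ i) hi
  · rw [eL_apply, polar_sum_left, Finset.sum_eq_single i]
    · rw [polar_add_left, polar_smul_left, polar_smul_left, polar_self', hw.nm, h.one, h.wor, smul_eq_mul, smul_eq_mul]
      ring
    · intro j _ hj
      rw [polar_add_left, polar_smul_left, polar_smul_left, h.orth' hw j i hj, h.wor, smul_zero, smul_zero, add_zero]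
    · intro hi; exact absurd (Finset.mem_univ i) hi

theorem polar_eL_eL (hw : WW Q w) {k : ℕ} {b : Fin k → V} (h : ON Q w b) (x y : Fin k → KK F) :
    polar Q (eL w b x) (eL w b y) = 2 * ∑ i, ((x i).re * (y i).re + (x i).im * (y i).im) := by
  rw [polar_comm, eL_apply, polar_sum_left, Finset.mul_sum]
  refine Finset.sum_congr rfl fun i _ => ?_
  rw [polar_add_left, polar_smul_left, polar_smul_left, polar_comm Q (b i), polar_comm Q (w (b i)),
    (polar_eL hw h x i).1, (polar_eL hw h x i).2, smul_eq_mul, smul_eq_mul]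
  ring

theorem Q_eL (h2 : (2 : F) ≠ 0) (hw : WW Q w) {k : ℕ} {b : Fin k → V} (h : ON Q w b) (x : Fin k → KK F) :
    Q (eL w b x) = ∑ i, ((x i).re * (x i).re + (x i).im * (x i).im) := by
  have h1 := polar_eL_eL hw h x x
  rw [polar_self'] at h1
  exact mul_left_cancel₀ h2 h1

theorem eL_injective (h2 : (2 : F) ≠ 0) (hw : WW Q w) {k : ℕ} {b : Fin k → V} (h : ON Q w b) :
    Function.Injective (eL w b) := by
  rw [injective_iff_map_eq_zero]
  intro x hx
  funext i
  obtain ⟨h3, h4⟩ := polar_eL hw h x i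
  rw [hx, polar_zero_left] at h3 h4
  ext
  · exact (mul_eq_zero.1 h3.symm).resolve_left h2
  · exact (mul_eq_zero.1 h4.symm).resolve_left h2

theorem finrank_KK (k : ℕ) : finrank F (Fin k → KK F) = 2 * k := by
  rw [Module.finrank_pi_fintype]
  simp [QuadraticAlgebra.finrank_eq_two, mul_comm]

/-- the coordinates -/
noncomputable def EE (h2 : (2 : F) ≠ 0) (hw : WW Q w) {k : ℕ} {b : Fin k → V} (h : ON Q w b)
    (hk : finrank F V = 2 * k) : (Fin k → KK F) ≃ₗ[F] V :=
  LinearEquiv.ofBijective (eL w b) ⟨eL_injective h2 hw h,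
    (LinearMap.injective_iff_surjective_of_finrank_eq_finrank (by rw [finrank_KK, hk])).1 (eL_injective h2 hw h)⟩

/-- `i` -/
def om (F : Type*) [Field F] : KK F := ⟨0, 1⟩

theorem eL_om (hw : WW Q w) {k : ℕ} {b : Fin k → V} (x : Fin k → KK F) :
    eL w b (om F • x) = w (eL w b x) := by
  rw [eL_apply, eL_apply, map_sum]
  refine Finset.sum_congr rfl fun i _ => ?_
  rw [Pi.smul_apply, smul_eq_mul, map_add, map_smul, map_smul, hw.sq]
  have h1 : (om F * x i).re = -(x i).im := by simp [om]
  have h2 : (om F * x i).im = (x i).re := by simp [om]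
  rw [h1, h2, smul_neg, neg_smul, add_comm]

end Basis

/-! ### The group `SU₄(3)` in `O(V)` -/

section Group

variable {F V : Type*} [Field F] [Fintype F] [hf : Fact (∀ r : F, r ^ 2 ≠ (-1 : F) + 0 * r)]

theorem herm_re (hF : Fintype.card F = 3) {k : ℕ} (u v : Fin k → KK F) :
    (hermForm k (KK F) 3 u v).re = ∑ i, ((u i).re * (v i).re + (u i).im * (v i).im) := by
  have h1 : hermForm k (KK F) 3 u v = ∑ i, u i * star (v i) := by
    refine Finset.sum_congr rfl fun i _ => ?_
    have h2 := pow_three hF (v i)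
    exact congrArg (u i * ·) h2
  rw [h1]
  have h3 := map_sum (QuadraticAlgebra.reₗ (R := F) (-1 : F) (0 : F)) (fun i => u i * star (v i)) Finset.univ
  have h4 : (∑ i, u i * star (v i)).re = ∑ i, (u i * star (v i)).re := h3
  rw [h4]
  refine Finset.sum_congr rfl fun i _ => ?_
  simp

theorem herm_om {k : ℕ} (u v : Fin k → KK F) :
    hermForm k (KK F) 3 (om F • u) v = om F * hermForm k (KK F) 3 u v := by
  unfold hermForm
  rw [Finset.mul_sum]
  refine Finset.sum_congr rfl fun i _ => ?_
  rw [Pi.smul_apply, smul_eq_mul, mul_assoc]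

theorem herm_ext {k : ℕ} {u v u' v' : Fin k → KK F}
    (h1 : (hermForm k (KK F) 3 u v).re = (hermForm k (KK F) 3 u' v').re)
    (h2 : (hermForm k (KK F) 3 (om F • u) v).re = (hermForm k (KK F) 3 (om F • u') v').re) :
    hermForm k (KK F) 3 u v = hermForm k (KK F) 3 u' v' := by
  rw [herm_om, herm_om] at h2
  ext
  · exact h1
  · simpa [om] using h2

/-- the action of `SU` as an `F`-linear automorphism -/
def actE {k : ℕ} (A : SU k (KK F) 3) : (Fin k → KK F) ≃ₗ[F] (Fin k → KK F) where
  toFun := act A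
  invFun := act A⁻¹
  left_inv := act_inv_act A
  right_inv := act_act_inv A
  map_add' := act_add A
  map_smul' r v := Matrix.mulVec_smul _ _ _

/-- the action of `SU` on the coordinate space -/
def actH {k : ℕ} : SU k (KK F) 3 →* ((Fin k → KK F) ≃ₗ[F] (Fin k → KK F)) where
  toFun := actE
  map_one' := LinearEquiv.ext fun v => act_one v
  map_mul' A B := LinearEquiv.ext fun v => act_mul A B v

variable [AddCommGroup V] [Module F V]

/-- `SU` in `GL(V)` -/
noncomputable def psi {k : ℕ} (E : (Fin k → KK F) ≃ₗ[F] V) : SU k (KK F) 3 →* (V ≃ₗ[F] V) :=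
  (cje E).toMonoidHom.comp actH

theorem psi_apply {k : ℕ} (E : (Fin k → KK F) ≃ₗ[F] V) (A : SU k (KK F) 3) (x : V) :
    psi E A x = E (act A (E.symm x)) := rfl

theorem psi_injective {k : ℕ} (E : (Fin k → KK F) ≃ₗ[F] V) : Function.Injective (psi E) := by
  intro A B h
  apply ext_act
  intro v
  have h1 := LinearEquiv.congr_fun h (E v)
  rw [psi_apply, psi_apply, E.symm_apply_apply] at h1
  exact E.injective h1

/-- the data of the coordinates -/
structure DD {k : ℕ} (Q : QuadraticForm F V) (w : V ≃ₗ[F] V) (E : (Fin k → KK F) ≃ₗ[F] V) : Prop where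
  q : ∀ x, Q (E x) = (hermForm k (KK F) 3 x x).re
  p : ∀ x y, polar Q (E x) (E y) = 2 * (hermForm k (KK F) 3 x y).re
  om : ∀ x, E (om F • x) = w (E x)

variable {k : ℕ} {Q : QuadraticForm F V} {w : V ≃ₗ[F] V} {E : (Fin k → KK F) ≃ₗ[F] V}

theorem DD.psi_mem (h : DD Q w E) (A : SU k (KK F) 3) : psi E A ∈ O Q := by
  intro x
  show Q (E (act A (E.symm x))) = Q x
  rw [h.q, herm_act, ← h.q, E.apply_symm_apply]

theorem DD.symm_w (h : DD Q w E) (x : V) : E.symm (w x) = EightUnit.om F • E.symm x := by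
  rw [E.symm_apply_eq, h.om, E.apply_symm_apply]

theorem smul_decomp (z : KK F) (x : Fin k → KK F) : z • x = z.re • x + z.im • (om F • x) := by
  funext i
  simp only [Pi.smul_apply, Pi.add_apply, smul_eq_mul]
  ext <;> simp [om]

/-- an element of `C_{O(V)}(w)` in coordinates -/
noncomputable def gl (h : DD Q w E) (g : V ≃ₗ[F] V) (hg : ∀ x, g (w x) = w (g x)) :
    (Fin k → KK F) →ₗ[KK F] (Fin k → KK F) where
  toFun x := E.symm (g (E x))
  map_add' x y := by rw [map_add, map_add, map_add]
  map_smul' z x := by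
    rw [RingHom.id_apply, smul_decomp z x, smul_decomp z (E.symm (g (E x))), map_add, map_add, map_add, map_smul,
      map_smul, map_smul, map_smul, map_smul, map_smul, h.om, hg, h.symm_w]

theorem gl_apply (h : DD Q w E) (g : V ≃ₗ[F] V) (hg : ∀ x, g (w x) = w (g x)) (x : Fin k → KK F) :
    gl h g hg x = E.symm (g (E x)) := rfl

theorem gl_herm (h2 : (2 : F) ≠ 0) (h : DD Q w E) {g : V ≃ₗ[F] V} (hgO : g ∈ O Q) (hg : ∀ x, g (w x) = w (g x))
    (x y : Fin k → KK F) :
    hermForm k (KK F) 3 (gl h g hg x) (gl h g hg y) = hermForm k (KK F) 3 x y := by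
  have h1 : ∀ x y : Fin k → KK F,
      (hermForm k (KK F) 3 (gl h g hg x) (gl h g hg y)).re = (hermForm k (KK F) 3 x y).re := by
    intro x y
    have h3 := h.p (gl h g hg x) (gl h g hg y)
    rw [gl_apply, gl_apply, E.apply_symm_apply, E.apply_symm_apply, polar_map hgO, h.p] at h3
    exact (mul_left_cancel₀ h2 h3).symm
  refine herm_ext (h1 x y) ?_
  rw [← map_smul]
  exact h1 _ _

theorem DD.norm (h2 : (2 : F) ≠ 0) (h : DD Q w E) {g : V ≃ₗ[F] V} (hgO : g ∈ O Q) (hg : ∀ x, g (w x) = w (g x))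
    (A : SU k (KK F) 3) : ∃ B : SU k (KK F) 3, g * psi E A * g⁻¹ = psi E B := by
  have hgO' : g⁻¹ ∈ O Q := (O Q).inv_mem hgO
  have hg' : ∀ x, g⁻¹ (w x) = w (g⁻¹ x) := by
    intro x
    show g.symm (w x) = w (g.symm x)
    rw [LinearEquiv.symm_apply_eq, hg, LinearEquiv.apply_symm_apply]
  set M := LinearMap.toMatrix' (gl h g hg) with hM
  set M' := LinearMap.toMatrix' (gl h g⁻¹ hg') with hM'
  have hMv : ∀ v, M.mulVec v = gl h g hg v := fun v => by
    rw [← Matrix.toLin'_apply, hM, Matrix.toLin'_toMatrix']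
  have hMv' : ∀ v, M'.mulVec v = gl h g⁻¹ hg' v := fun v => by
    rw [← Matrix.toLin'_apply, hM', Matrix.toLin'_toMatrix']
  have hone : M * M' = 1 := by
    rw [hM, hM', ← LinearMap.toMatrix'_comp, ← LinearMap.toMatrix'_id]
    congr 1
    apply LinearMap.ext
    intro v
    show E.symm (g (E (E.symm (g.symm (E v))))) = v
    rw [E.apply_symm_apply, g.apply_symm_apply, E.symm_apply_apply]
  have hdet : (M * mat A * M').det = 1 := by
    rw [Matrix.det_mul, Matrix.det_mul, det_mat, mul_one, ← Matrix.det_mul, hone, Matrix.det_one]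
  have hact : ∀ v, (M * mat A * M').mulVec v = gl h g hg (act A (gl h g⁻¹ hg' v)) := by
    intro v
    rw [← Matrix.mulVec_mulVec, ← Matrix.mulVec_mulVec, hMv', ← act_def, hMv]
  refine ⟨mkSU (M * mat A * M') hdet ?_, ?_⟩
  · intro u v
    rw [hact, hact, gl_herm h2 h hgO, herm_act, gl_herm h2 h hgO']
  · apply LinearEquiv.ext
    intro x
    rw [psi_apply, act_def, mat_mkSU, hact]
    show g (E (act A (E.symm (g.symm x)))) = E (E.symm (g (E (act A (E.symm (g.symm (E (E.symm x))))))))
    rw [E.apply_symm_apply, E.apply_symm_apply]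

theorem DD.psi_le (hF : Fintype.card F = 3) (hk : 3 ≤ k) (h : DD Q w E) : (psi E).range ≤ Om Q := by
  have hc : Fintype.card (KK F) = 3 ^ 2 := by rw [card_KK, hF]
  have h1 := Cfsg.Agent.LieClassical.HermPerfect.commutator_SU_eq_top (F := KK F) (q := 3) hc hk (by omega)
  rw [MonoidHom.range_eq_map, ← h1, commutator_def, Subgroup.map_commutator]
  refine Subgroup.commutator_mono ?_ ?_ <;>
  · rintro _ ⟨A, -, rfl⟩
    exact h.psi_mem A

theorem om_pow (F : Type*) [Field F] [Fact (∀ r : F, r ^ 2 ≠ (-1 : F) + 0 * r)] : (om F) ^ 4 = 1 := by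
  ext
  · simp [om, pow_succ]; rfl
  · simp [om, pow_succ]; rfl

theorem quasi (hF : Fintype.card F = 3) (hk : 4 ≤ k) : IsQuasisimple (SU k (KK F) 3) := by
  have hc : Fintype.card (KK F) = 3 ^ 2 := by rw [card_KK, hF]
  exact ⟨⟨Cfsg.Agent.LieClassical.HermPerfect.commutator_SU_eq_top (F := KK F) (q := 3) hc (by omega) (by omega)⟩,
    Cfsg.Agent.S0283.result hc k (by omega) (by omega)⟩

end Group

section Main

variable {F V : Type*} [Field F] [Fintype F] [AddCommGroup V] [Module F V] [FiniteDimensional F V]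
  {Q : QuadraticForm F V}

theorem exists_DD (hF : Fintype.card F = 3) [Fact (∀ r : F, r ^ 2 ≠ (-1 : F) + 0 * r)] (hQ : Nondeg Q)
    {k : ℕ} (hk : finrank F V = 2 * k) {w : V ≃ₗ[F] V} (hw : WW Q w) :
    ∃ E : (Fin k → KK F) ≃ₗ[F] V, DD Q w E := by
  have h2 := two_ne hF
  obtain ⟨b, hb⟩ := exists_ON hF hQ hw k hk.ge
  refine ⟨EE h2 hw hb hk, ?_, ?_, ?_⟩
  · intro x
    rw [herm_re hF]
    exact Q_eL h2 hw hb x
  · intro x y
    rw [herm_re hF]
    exact polar_eL_eL hw hb x y
  · intro x
    exact eL_om hw x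

/-- **(KD), row `PΩ₈⁺(3)`, CASE 2** -/
theorem unit (hF : Fintype.card F = 3) (hQ : Nondeg Q) (hn : finrank F V = 8) (w : Om Q)
    (hw : ∀ v, (w : V ≃ₗ[F] V) ((w : V ≃ₗ[F] V) v) = -v) :
    ∃ E : Subgroup (Om Q ⧸ Subgroup.center (Om Q)),
      CompIn (Subgroup.centralizer {(w : Om Q ⧸ Subgroup.center (Om Q))}) E ∧
        (w : Om Q ⧸ Subgroup.center (Om Q)) ∈ E := by
  have h2 := two_ne hF
  have := fact hF
  have hO : ∀ g : V ≃ₗ[F] V, g ∈ Om Q → g ∈ O Q := fun g hg => Subgroup.commutator_le_self _ hg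
  have hW : WW Q (w : V ≃ₗ[F] V) := ⟨hO _ w.2, hw⟩
  obtain ⟨E, hE⟩ := exists_DD hF hQ (k := 4) (by omega) hW
  let j : SU 4 (KK F) 3 →* Om Q := (psi E).codRestrict (Om Q) fun A => hE.psi_le hF (by omega) ⟨A, rfl⟩
  have hj : ∀ A, ((j A : Om Q) : V ≃ₗ[F] V) = psi E A := fun A => rfl
  let π : Om Q →* Om Q ⧸ Subgroup.center (Om Q) := QuotientGroup.mk' _
  let n : SU 4 (KK F) 3 := Cfsg.Agent.LieClassical.SUBasic.suScalar 3 (om F) (om_pow F) (om_pow F)
  have hjn : j n = w := by
    apply Subtype.ext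
    rw [hj]
    apply LinearEquiv.ext
    intro x
    rw [psi_apply]
    have h3 : act n (E.symm x) = om F • E.symm x := by
      funext i
      show (Matrix.diagonal (fun _ => om F)).mulVec (E.symm x) i = _
      rw [Matrix.mulVec_diagonal]
      rfl
    rw [h3, hE.om, E.apply_symm_apply]
  have hker : ∀ h, π h = 1 → h ∈ Subgroup.center (Om Q) := fun h hh => (QuotientGroup.eq_one_iff h).1 hh
  have hq := quasi (F := F) hF (k := 4) le_rfl
  have hnt : Nontrivial ↥((π.comp j).range) := by
    by_contra hcon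
    rw [not_nontrivial_iff_subsingleton] at hcon
    have h3 : ∀ A, j A ∈ Subgroup.center (Om Q) := by
      intro A
      apply hker
      have h4 : (⟨π (j A), A, rfl⟩ : ↥((π.comp j).range)) = 1 := Subsingleton.elim _ _
      exact congrArg Subtype.val h4
    have h5 : Subgroup.center (SU 4 (KK F) 3) = ⊤ := by
      rw [eq_top_iff]
      intro A _
      rw [Subgroup.mem_center_iff]
      intro B
      apply psi_injective E
      rw [map_mul, map_mul]
      have h6 := (Subgroup.mem_center_iff.1 (h3 A)) (j B)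
      exact congrArg Subtype.val h6
    have h6 : Nontrivial (SU 4 (KK F) 3 ⧸ Subgroup.center (SU 4 (KK F) 3)) := hq.2.toNontrivial
    rw [h5] at h6
    exact not_subsingleton (SU 4 (KK F) 3 ⧸ (⊤ : Subgroup (SU 4 (KK F) 3)))
      QuotientGroup.subsingleton_quotient_top
  have main := compIn_of' hq π (QuotientGroup.mk'_surjective _) hker j hnt (n := n) ?_ ?_
  · rw [hjn] at main
    exact ⟨_, main, n, by show π (j n) = _; rw [hjn]; rfl⟩
  · intro a
    exact ((Subgroup.mem_center_iff.1 (Cfsg.Agent.LieClassical.SUBasic.suScalar_mem_center 3 (om F) (om_pow F)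
      (om_pow F))) a).symm
  · intro h hh a
    rw [hjn] at hh
    have hg : ∀ x, (h : V ≃ₗ[F] V) ((w : V ≃ₗ[F] V) x) = (w : V ≃ₗ[F] V) ((h : V ≃ₗ[F] V) x) := fun x =>
      LinearEquiv.congr_fun (congrArg Subtype.val hh) x
    obtain ⟨B, hB⟩ := hE.norm h2 (hO _ h.2) hg a
    exact ⟨B, Subtype.ext hB⟩

end Main

end Cfsg.Agent.OddHalf.NI3.Bad.EightUnit
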