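import Cfsg.Agent.LieClassical.OrthFinite
import Cfsg.Agent.ClassicalGeometry.OddInvolutions

/-!
# Orthogonal groups of nondegenerate subspaces inside the orthogonal group of a quadratic space

`Ad q Q` : an isometric embedding `L` of `(W, q)` into `(V, Q)` together with its adjoint `R`.
* `Ad.emb` : `GL(W) → GL(V)`, `h ↦ h ⊕ 1`, injective; `emb h ∈ O Q ↔ h ∈ O q`;
* `Ad.range_eq` : the image of `O q` is the group `Fx` of the isometries of `V` trivial on `W^⊥`;
* `Ad.B` : the image of `⁅O q, O q⁆`; `B ≤ ⁅O Q, O Q⁆`, normalised by the isometries which normalise `W^⊥`.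
-/

set_option autoImplicit false
set_option linter.unusedSectionVars false

namespace Cfsg.Agent.OddHalf.NI3.Bad.Emb

open QuadraticMap Cfsg.Agent.LieClassical.OrthCore

variable {F V W : Type*} [Field F] [AddCommGroup V] [Module F V] [AddCommGroup W] [Module F W]

/-- an isometric embedding with adjoint -/
structure Ad (q : QuadraticForm F W) (Q : QuadraticForm F V) where
  L : W →ₗ[F] V
  R : V →ₗ[F] W
  RL : ∀ a, R (L a) = a
  nm : ∀ a, Q (L a) = q a
  ad : ∀ a x, polar Q (L a) x = polar q a (R x)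

namespace Ad

variable {q : QuadraticForm F W} {Q : QuadraticForm F V} (A : Ad q Q)

/-- `h ⊕ 1` as a linear map -/
def embL (h : W →ₗ[F] W) : V →ₗ[F] V := LinearMap.id + (A.L.comp (h - LinearMap.id)).comp A.R

theorem embL_apply (h : W →ₗ[F] W) (x : V) : A.embL h x = x + A.L (h (A.R x) - A.R x) := by
  simp [embL]

theorem R_embL (h : W →ₗ[F] W) (x : V) : A.R (A.embL h x) = h (A.R x) := by
  rw [embL_apply, map_add, A.RL]; abel

theorem embL_mul (h k : W →ₗ[F] W) (x : V) : A.embL h (A.embL k x) = A.embL (h.comp k) x := by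
  rw [embL_apply A h, R_embL, embL_apply, embL_apply, add_assoc, ← map_add]
  congr 2
  simp only [LinearMap.comp_apply]
  abel

/-- `h ⊕ 1` -/
def emb : (W ≃ₗ[F] W) →* (V ≃ₗ[F] V) where
  toFun h := LinearEquiv.ofLinearMap (A.embL h.toLinearMap) (A.embL h.symm.toLinearMap)
    (by
      ext x
      show A.embL _ (A.embL _ x) = x
      rw [embL_mul, embL_apply]
      simp)
    (by
      ext x
      show A.embL _ (A.embL _ x) = x
      rw [embL_mul, embL_apply]
      simp)
  map_one' := by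
    ext x
    show A.embL _ x = x
    rw [embL_apply]
    show x + A.L (A.R x - A.R x) = x
    rw [sub_self, map_zero, add_zero]
  map_mul' h k := by
    ext x
    show A.embL _ x = A.embL _ (A.embL _ x)
    rw [embL_mul]
    rfl

theorem emb_apply (h : W ≃ₗ[F] W) (x : V) : A.emb h x = x + A.L (h (A.R x) - A.R x) :=
  A.embL_apply _ x

theorem emb_L (h : W ≃ₗ[F] W) (a : W) : A.emb h (A.L a) = A.L (h a) := by
  rw [emb_apply, A.RL, map_sub]; abel

theorem emb_fix (h : W ≃ₗ[F] W) {x : V} (hx : A.R x = 0) : A.emb h x = x := by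
  rw [emb_apply, hx, map_zero, sub_zero, map_zero, add_zero]

theorem R_emb (h : W ≃ₗ[F] W) (x : V) : A.R (A.emb h x) = h (A.R x) := A.R_embL _ x

theorem L_injective : Function.Injective A.L := by
  intro a b hab
  rw [← A.RL a, hab, A.RL]

theorem emb_injective : Function.Injective A.emb := by
  intro h k hhk
  ext a
  apply A.L_injective
  rw [← emb_L, hhk, emb_L]

theorem Q_emb (h : W ≃ₗ[F] W) (x : V) :
    Q (A.emb h x) = Q x + (q (h (A.R x)) - q (A.R x)) := by
  rw [emb_apply, Q_add, polar_comm, A.ad, A.nm]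
  have h1 := Q_add (Q := q) (h (A.R x) - A.R x) (A.R x)
  rw [sub_add_cancel] at h1
  linear_combination -h1

theorem emb_mem_O {h : W ≃ₗ[F] W} : A.emb h ∈ O Q ↔ h ∈ O q := by
  constructor
  · intro hh a
    have h1 := hh (A.L a)
    rwa [emb_L, A.nm, A.nm] at h1
  · intro hh x
    rw [Q_emb, mem_O.1 hh, sub_self, add_zero]

/-- the isometries trivial on the orthogonal complement of `W` -/
def Fx : Subgroup (V ≃ₗ[F] V) where
  carrier := {g | g ∈ O Q ∧ ∀ x, A.R x = 0 → g x = x}
  mul_mem' {a b} ha hb := ⟨(O Q).mul_mem ha.1 hb.1, fun x hx => by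
    show a (b x) = x
    rw [hb.2 x hx, ha.2 x hx]⟩
  one_mem' := ⟨(O Q).one_mem, fun _ _ => rfl⟩
  inv_mem' {a} ha := ⟨(O Q).inv_mem ha.1, fun x hx => by
    show a.symm x = x
    rw [LinearEquiv.symm_apply_eq, ha.2 x hx]⟩

theorem mem_Fx {g : V ≃ₗ[F] V} : g ∈ A.Fx ↔ g ∈ O Q ∧ ∀ x, A.R x = 0 → g x = x := Iff.rfl

theorem Fx_le : A.Fx ≤ O Q := fun _ h => h.1

theorem R_sub (x : V) : A.R (x - A.L (A.R x)) = 0 := by rw [map_sub, A.RL, sub_self]

theorem R_eq_zero (hq : Nondeg q) {x : V} (hx : ∀ a, polar Q (A.L a) x = 0) : A.R x = 0 := by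
  apply hq
  intro a
  rw [polar_comm, ← A.ad, hx]

/-- an isometry trivial on `W^⊥` preserves `W` -/
theorem L_of_Fx (hQ : Nondeg Q) {g : V ≃ₗ[F] V} (hg : g ∈ A.Fx) (a : W) :
    g (A.L a) = A.L (A.R (g (A.L a))) := by
  rw [← sub_eq_zero]
  apply hQ
  intro y
  set u := g (A.L a) - A.L (A.R (g (A.L a))) with hu
  have hRu : A.R u = 0 := A.R_sub _
  have hk : ∀ k, A.R k = 0 → polar Q u k = 0 := by
    intro k hk
    rw [hu, polar_sub_left]
    have h1 : polar Q (g (A.L a)) k = 0 := by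
      have h2 := hg.2 k hk
      nth_rewrite 1 [← h2]
      rw [polar_map hg.1, A.ad, hk, polar_zero_right]
    rw [h1, A.ad, hk, polar_zero_right, sub_zero]
  have h1 : polar Q u y = polar Q u (A.L (A.R y)) + polar Q u (y - A.L (A.R y)) := by
    rw [← polar_add_right, add_sub_cancel]
  rw [h1, hk _ (A.R_sub y), polar_comm, A.ad, hRu, polar_zero_right, add_zero]

theorem map_O (hQ : Nondeg Q) : (O q).map A.emb = A.Fx := by
  ext g
  constructor
  · rintro ⟨h, hh, rfl⟩
    exact ⟨A.emb_mem_O.2 hh, fun x hx => A.emb_fix h hx⟩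
  · intro hg
    have hg' := A.Fx.inv_mem hg
    let h : W ≃ₗ[F] W := LinearEquiv.ofLinearMap (A.R.comp (g.toLinearMap.comp A.L))
      (A.R.comp (g.symm.toLinearMap.comp A.L))
      (by
        ext a
        show A.R (g (A.L (A.R (g⁻¹ (A.L a))))) = a
        rw [← A.L_of_Fx hQ hg']
        show A.R (g (g.symm (A.L a))) = a
        rw [LinearEquiv.apply_symm_apply, A.RL])
      (by
        ext a
        show A.R (g.symm (A.L (A.R (g (A.L a))))) = a
        rw [← A.L_of_Fx hQ hg, LinearEquiv.symm_apply_apply, A.RL])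
    have hh : ∀ a, h a = A.R (g (A.L a)) := fun a => rfl
    have he : A.emb h = g := by
      ext x
      rw [emb_apply, map_sub, hh, ← A.L_of_Fx hQ hg]
      have h1 := hg.2 _ (A.R_sub x)
      rw [map_sub] at h1
      rw [← sub_eq_zero] at h1 ⊢
      rw [← neg_eq_zero, ← h1]
      abel
    refine ⟨h, ?_, he⟩
    rw [SetLike.mem_coe, ← A.emb_mem_O, he]
    exact hg.1

/-- the derived group of `O(W)` in `GL(V)` -/
def B : Subgroup (V ≃ₗ[F] V) := (⁅O q, O q⁆ : Subgroup (W ≃ₗ[F] W)).map A.emb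

theorem B_eq (hQ : Nondeg Q) : A.B = ⁅A.Fx, A.Fx⁆ := by
  rw [B, Subgroup.map_commutator, A.map_O hQ]

theorem B_le : A.B ≤ ⁅O Q, O Q⁆ := by
  rw [B, Subgroup.map_commutator]
  have h1 : (O q).map A.emb ≤ O Q := by
    rintro _ ⟨h, hh, rfl⟩
    exact A.emb_mem_O.2 hh
  exact Subgroup.commutator_mono h1 h1

theorem B_le_Fx (hQ : Nondeg Q) : A.B ≤ A.Fx := by
  rw [A.B_eq hQ]
  exact Subgroup.commutator_le_self _

/-- the isomorphism of `⁅O q, O q⁆` with `B` -/
noncomputable def BEquiv : (⁅O q, O q⁆ : Subgroup (W ≃ₗ[F] W)) ≃* A.B :=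
  Subgroup.equivMapOfInjective _ A.emb A.emb_injective

theorem coe_BEquiv (h : (⁅O q, O q⁆ : Subgroup (W ≃ₗ[F] W))) :
    ((A.BEquiv h : A.B) : V ≃ₗ[F] V) = A.emb (h : W ≃ₗ[F] W) := rfl

/-- an isometry which normalises `W^⊥` normalises `Fx` -/
theorem normalizer_Fx {g : V ≃ₗ[F] V} (hg : g ∈ O Q) (h1 : ∀ x, A.R x = 0 ↔ A.R (g x) = 0) :
    g ∈ Subgroup.normalizer (A.Fx : Set (V ≃ₗ[F] V)) := by
  rw [Subgroup.mem_normalizer_iff]
  intro k
  constructor
  · rintro ⟨hk, hk'⟩
    refine ⟨(O Q).mul_mem ((O Q).mul_mem hg hk) ((O Q).inv_mem hg), fun x hx => ?_⟩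
    show g (k (g.symm x)) = x
    have h2 : A.R (g.symm x) = 0 := by
      rw [h1, LinearEquiv.apply_symm_apply]; exact hx
    rw [hk' _ h2, LinearEquiv.apply_symm_apply]
  · rintro ⟨hk, hk'⟩
    refine ⟨?_, fun x hx => ?_⟩
    · have h3 := (O Q).mul_mem ((O Q).mul_mem ((O Q).inv_mem hg) hk) hg
      have h4 : g⁻¹ * (g * k * g⁻¹) * g = k := by group
      rwa [h4] at h3
    · have h2 : A.R (g x) = 0 := (h1 x).1 hx
      have h3 := hk' _ h2
      have h4 : (g * k * g⁻¹) (g x) = g (k x) := by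
        show g (k (g.symm (g x))) = _
        rw [LinearEquiv.symm_apply_apply]
      rw [h4] at h3
      exact g.injective h3

theorem normalizer_B (hQ : Nondeg Q) {g : V ≃ₗ[F] V} (hg : g ∈ O Q)
    (h1 : ∀ x, A.R x = 0 ↔ A.R (g x) = 0) : g ∈ Subgroup.normalizer (A.B : Set (V ≃ₗ[F] V)) := by
  have h2 := A.normalizer_Fx hg h1
  rw [A.B_eq hQ, Subgroup.mem_normalizer_iff]
  intro k
  have hm : A.Fx.map (MulAut.conj g).toMonoidHom = A.Fx := by
    ext k
    rw [Subgroup.mem_map]
    constructor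
    · rintro ⟨l, hl, rfl⟩
      exact (Subgroup.mem_normalizer_iff.1 h2 l).1 hl
    · intro hk
      refine ⟨g⁻¹ * k * g, ?_, ?_⟩
      · rw [Subgroup.mem_normalizer_iff.1 h2]
        have h4 : g * (g⁻¹ * k * g) * g⁻¹ = k := by group
        rwa [h4]
      · show g * (g⁻¹ * k * g) * g⁻¹ = k
        group
  have hm2 : (⁅A.Fx, A.Fx⁆ : Subgroup (V ≃ₗ[F] V)).map (MulAut.conj g).toMonoidHom = ⁅A.Fx, A.Fx⁆ := by
    rw [Subgroup.map_commutator, hm]
  constructor
  · intro hk
    rw [← hm2]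
    exact ⟨k, hk, rfl⟩
  · intro hk
    rw [← hm2] at hk
    obtain ⟨l, hl, hlk⟩ := hk
    have h5 : l = k := (MulAut.conj g).injective hlk
    rwa [← h5]

end Ad

/-! ### Orthogonal families -/

open Cfsg.Agent.ClassicalGeometry.OddInvolutions

section Fam

variable {ι : Type} [Fintype ι] [DecidableEq ι]

/-- an orthogonal family of non-singular vectors -/
structure OF (Q : QuadraticForm F V) (d : ι → F) (f : ι → V) : Prop where
  nm : ∀ i, Q (f i) = d i
  ne : ∀ i, d i ≠ 0
  orth : ∀ i j, i ≠ j → polar Q (f i) (f j) = 0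

variable {Q : QuadraticForm F V} {d : ι → F} {f : ι → V}

theorem OF.polar_sum (h : OF Q d f) (a : ι → F) (i : ι) : polar Q (f i) (∑ j, a j • f j) = 2 * d i * a i := by
  rw [← polarBilin_apply_apply, map_sum]
  rw [Finset.sum_eq_single i]
  · rw [map_smul, polarBilin_apply_apply, polar_self', h.nm, smul_eq_mul]; ring
  · intro j _ hj
    rw [map_smul, polarBilin_apply_apply, h.orth i j (Ne.symm hj), smul_zero]
  · intro h'; exact absurd (Finset.mem_univ i) h'

theorem polar_sum_left (Q : QuadraticForm F V) (a : ι → F) (f : ι → V) (x : V) :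
    polar Q (∑ j, a j • f j) x = ∑ j, a j * polar Q (f j) x := by
  rw [← polarBilin_apply_apply, map_sum, LinearMap.sum_apply]
  refine Finset.sum_congr rfl fun i _ => ?_
  rw [map_smul, LinearMap.smul_apply, polarBilin_apply_apply, smul_eq_mul]

/-- the embedding of the diagonal form given by an orthogonal family -/
def OF.ad (h2 : (2 : F) ≠ 0) (h : OF Q d f) : Ad (DQ d) Q where
  L := Fintype.linearCombination F f
  R := LinearMap.pi fun i => (2 * d i)⁻¹ • polarBilin Q (f i)
  RL a := by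
    funext i
    rw [LinearMap.pi_apply, LinearMap.smul_apply, Fintype.linearCombination_apply, polarBilin_apply_apply,
      h.polar_sum, smul_eq_mul]
    field_simp [h.ne i, h2]
  nm a := by
    have h1 : polar Q (Fintype.linearCombination F f a) (Fintype.linearCombination F f a) =
        2 * Q (Fintype.linearCombination F f a) := polar_self' _
    have h3 : polar Q (Fintype.linearCombination F f a) (Fintype.linearCombination F f a) = 2 * DQ d a := by
      rw [Fintype.linearCombination_apply, polar_sum_left, DQ_apply, Finset.mul_sum]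
      refine Finset.sum_congr rfl fun i _ => ?_
      rw [h.polar_sum]
      ring
    exact mul_left_cancel₀ h2 (h1.symm.trans h3)
  ad a x := by
    rw [Fintype.linearCombination_apply, polar_sum_left, polar_DQ]
    refine Finset.sum_congr rfl fun i _ => ?_
    rw [LinearMap.pi_apply, LinearMap.smul_apply, polarBilin_apply_apply, smul_eq_mul]
    field_simp [h.ne i, h2]

theorem OF.L_apply (h2 : (2 : F) ≠ 0) (h : OF Q d f) (a : ι → F) : (h.ad h2).L a = ∑ i, a i • f i :=
  Fintype.linearCombination_apply F f a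

theorem OF.L_single (h2 : (2 : F) ≠ 0) (h : OF Q d f) (i : ι) : (h.ad h2).L (Pi.single i 1) = f i := by
  rw [h.L_apply h2, Finset.sum_eq_single i]
  · rw [Pi.single_eq_same, one_smul]
  · intro j _ hj; rw [Pi.single_eq_of_ne hj, zero_smul]
  · intro h'; exact absurd (Finset.mem_univ i) h'

theorem OF.R_apply (h2 : (2 : F) ≠ 0) (h : OF Q d f) (x : V) (i : ι) :
    (h.ad h2).R x i = (2 * d i)⁻¹ * polar Q (f i) x := rfl

theorem OF.R_eq_zero_iff (h2 : (2 : F) ≠ 0) (h : OF Q d f) (x : V) :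
    (h.ad h2).R x = 0 ↔ ∀ i, polar Q (f i) x = 0 := by
  constructor
  · intro h1 i
    have h3 := congrFun h1 i
    rw [h.R_apply h2, Pi.zero_apply, mul_eq_zero] at h3
    exact h3.resolve_left (inv_ne_zero (mul_ne_zero h2 (h.ne i)))
  · intro h1
    funext i
    rw [h.R_apply h2, h1 i, mul_zero]; rfl

theorem OF.nondeg (h2 : (2 : F) ≠ 0) (h : OF Q d f) : Nondeg (DQ d) := by
  intro a ha
  funext i
  have h1 := ha (Pi.single i 1)
  rw [polar_DQ, Finset.sum_eq_single i] at h1
  · rw [Pi.single_eq_same, mul_one] at h1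
    have h3 := (mul_eq_zero.1 h1).resolve_left h2
    exact (mul_eq_zero.1 h3).resolve_left (h.ne i)
  · intro j _ hj; rw [Pi.single_eq_of_ne hj]; ring
  · intro h'; exact absurd (Finset.mem_univ i) h'

theorem OF.linearIndependent (h2 : (2 : F) ≠ 0) (h : OF Q d f) : LinearIndependent F f := by
  rw [Fintype.linearIndependent_iff]
  intro a ha i
  have h1 := h.polar_sum a i
  rw [ha, polar_zero_right] at h1
  exact (mul_eq_zero.1 h1.symm).resolve_left (mul_ne_zero h2 (h.ne i))

/-- a full orthogonal family -/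
theorem OF.eq_zero (h2 : (2 : F) ≠ 0) [FiniteDimensional F V] (h : OF Q d f) (hc : Fintype.card ι = Module.finrank F V)
    {x : V} (hx : ∀ i, polar Q (f i) x = 0) : x = 0 := by
  have h1 : Function.Surjective (h.ad h2).R := fun a => ⟨_, (h.ad h2).RL a⟩
  have h3 : Function.Injective (h.ad h2).R := by
    refine (LinearMap.injective_iff_surjective_of_finrank_eq_finrank ?_).2 h1
    rw [Module.finrank_fintype_fun_eq_card, hc]
  apply h3
  rw [map_zero, h.R_eq_zero_iff h2]
  exact hx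

/-- subfamilies -/
theorem OF.comp (h : OF Q d f) {κ : Type} (s : κ → ι) (hs : Function.Injective s) :
    OF Q (d ∘ s) (f ∘ s) :=
  ⟨fun i => h.nm (s i), fun i => h.ne (s i), fun _ _ hij => h.orth _ _ (hs.ne hij)⟩

end Fam

/-! ### `-1` on a subspace -/

namespace Ad

variable {q : QuadraticForm F W} {Q : QuadraticForm F V} (A : Ad q Q)

/-- `-1` on `W`, `1` on `W^⊥` -/
def ng : V ≃ₗ[F] V := A.emb (LinearEquiv.neg F)

theorem ng_apply (x : V) : A.ng x = x - (2 : F) • A.L (A.R x) := by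
  rw [ng, emb_apply, LinearEquiv.neg_apply, map_sub, map_neg, two_smul]; abel

theorem ng_eq_self_iff (h2 : (2 : F) ≠ 0) {x : V} : A.ng x = x ↔ A.R x = 0 := by
  constructor
  · intro h
    rw [ng_apply, sub_eq_self, smul_eq_zero] at h
    have h1 := h.resolve_left h2
    rw [← map_zero A.L] at h1
    exact A.L_injective h1
  · intro h
    exact A.emb_fix _ h

theorem neg_mem_O (q : QuadraticForm F W) : (LinearEquiv.neg F : W ≃ₗ[F] W) ∈ O q := by
  intro v
  rw [LinearEquiv.neg_apply, QuadraticMap.map_neg]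

theorem ng_mem_O : A.ng ∈ O Q := A.emb_mem_O.2 (neg_mem_O q)

theorem ng_mem_Fx : A.ng ∈ A.Fx := ⟨A.ng_mem_O, fun _ hx => A.emb_fix _ hx⟩

theorem ng_mul_self : A.ng * A.ng = 1 := by
  rw [ng, ← map_mul]
  have : (LinearEquiv.neg F : W ≃ₗ[F] W) * LinearEquiv.neg F = 1 := by
    ext x
    show - -x = x
    rw [neg_neg]
  rw [this, map_one]

theorem ng_L (a : W) : A.ng (A.L a) = - A.L a := by
  rw [ng, emb_L, LinearEquiv.neg_apply, map_neg]

/-- the centralizer of `ng` normalises `B` -/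
theorem normalizer_B_of_comm (h2 : (2 : F) ≠ 0) (hQ : Nondeg Q) {g : V ≃ₗ[F] V} (hg : g ∈ O Q)
    (hc : g * A.ng = A.ng * g) : g ∈ Subgroup.normalizer (A.B : Set (V ≃ₗ[F] V)) := by
  apply A.normalizer_B hQ hg
  intro x
  rw [← A.ng_eq_self_iff h2, ← A.ng_eq_self_iff h2]
  have h1 : A.ng (g x) = g (A.ng x) := by
    have := congrArg (fun l : V ≃ₗ[F] V => l x) hc
    exact this.symm
  rw [h1]
  exact ⟨fun h => by rw [h], fun h => g.injective h⟩

/-- an isometry which acts as a scalar on `W` commutes with `B` -/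
theorem comm_B {g : V ≃ₗ[F] V} {c : F} (hg1 : ∀ a, g (A.L a) = c • A.L a)
    (hg2 : ∀ x, A.R x = 0 → A.R (g x) = 0) {b : V ≃ₗ[F] V} (hb : b ∈ A.B) : g * b = b * g := by
  obtain ⟨h, _, rfl⟩ := hb
  ext x
  show g (A.emb h x) = A.emb h (g x)
  have h3 : g x = g (x - A.L (A.R x)) + c • A.L (A.R x) := by
    rw [← hg1, ← map_add, sub_add_cancel]
  have h4 : A.R (g (x - A.L (A.R x))) = 0 := hg2 _ (A.R_sub x)
  rw [h3, map_add, map_smul, A.emb_fix _ h4, emb_L, emb_apply]
  rw [map_add, hg1, h3]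
  simp only [map_sub, smul_sub]
  abel

/-- larger subspaces have larger groups -/
theorem Fx_mono {W' : Type*} [AddCommGroup W'] [Module F W'] {q' : QuadraticForm F W'} (A' : Ad q' Q)
    (h : ∀ x, A'.R x = 0 → A.R x = 0) : A.Fx ≤ A'.Fx :=
  fun _ hg => ⟨hg.1, fun x hx => hg.2 x (h x hx)⟩

theorem B_mono {W' : Type*} [AddCommGroup W'] [Module F W'] {q' : QuadraticForm F W'} (A' : Ad q' Q)
    (hQ : Nondeg Q) (h : ∀ x, A'.R x = 0 → A.R x = 0) : A.B ≤ A'.B := by
  rw [A.B_eq hQ, A'.B_eq hQ]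
  exact Subgroup.commutator_mono (A.Fx_mono A' h) (A.Fx_mono A' h)

end Ad

section Pair

variable {ι : Type} [Fintype ι] [DecidableEq ι]

/-- `-1` lies in the derived group if the number of coordinates is even and the coefficients are equal -/
theorem neg_mem_commutator (d : ι → F) (hd : ∀ i j, d i = d j) {n : ℕ} (hn : Fintype.card ι = 2 * n) :
    (LinearEquiv.neg F : (ι → F) ≃ₗ[F] (ι → F)) ∈ (⁅O (DQ d), O (DQ d)⁆ : Subgroup ((ι → F) ≃ₗ[F] (ι → F))) := by
  rw [← LieClassical.OrthFinite.map_Omega]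
  refine ⟨ds d Finset.univ, ds_even_mem d n Finset.univ (by rw [Finset.card_univ, hn]) (fun a _ b _ => hd a b), ?_⟩
  ext x i
  rw [LieClassical.OrthFinite.isometryHom_apply, ds_mulVec, LinearEquiv.neg_apply, Pi.neg_apply]
  simp [sg]

variable {Q : QuadraticForm F V} {d : ι → F} {f : ι → V}

theorem OF.ng_mem_B (h2 : (2 : F) ≠ 0) (h : OF Q d f) (hd : ∀ i j, d i = d j) {n : ℕ} (hn : Fintype.card ι = 2 * n) :
    (h.ad h2).ng ∈ (h.ad h2).B :=
  ⟨_, neg_mem_commutator d hd hn, rfl⟩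

end Pair

end Cfsg.Agent.OddHalf.NI3.Bad.Emb
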