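import Mathlib

/-!
# The K-fact (EX4) of theorem NIB: the criterion with triples

`X` a group, `α`, `β` commuting automorphisms of orders 2, 3. A *triple* is an involution `a` of `X`, fixed by `α`, with
`a · β(a) · β²(a) = 1`. (EX4) for `X` follows (file `ExFour`) from `TwoTri X`: for all `α`, `β`, there are no triples, or
two triples not in the same `⟨β⟩`-orbit.

* `twoTri_of_iso` : transport along isomorphisms;
* `twoTri_of` : the same inside a group `W ≥ X` inducing all automorphisms of `X` (`Pair X g b`);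
* `Pair.conj`, `Pair.inv` : reductions;
* `all_of_syl` : **it suffices to look at `v` in a list of representatives of the elements of order 3 of `W` and
  at the involutions of a Sylow 2-subgroup `T` of `C_W(v)`**; `max_of_nrm` : how to see that `T` is Sylow;
* `exists_conj_of_syl` : elements of order `p` are conjugate into an explicit Sylow `p`-subgroup.
-/

set_option autoImplicit false

namespace Cfsg.Agent.OddHalf.NI3.ExTri

open Subgroup

section aut

variable {X : Type*} [Group X]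

/-- a triple: `b` is an involution fixed by `α`, `b · β(b) · β²(b) = 1` -/
structure Tri (α β : MulAut X) (b : X) : Prop where
  fix : α b = b
  sq : b * b = 1
  ne : b ≠ 1
  tri : b * β b * β (β b) = 1

/-- no triple, or two triples in different orbits of `β` -/
def Ok (α β : MulAut X) : Prop :=
  (∀ b, ¬ Tri α β b) ∨ ∃ b c, Tri α β b ∧ Tri α β c ∧ c ≠ b ∧ c ≠ β b ∧ c ≠ β (β b)

/-- all pairs are `Ok` -/
def TwoTri (X : Type*) [Group X] : Prop :=
  ∀ α β : MulAut X, α * α = 1 → α ≠ 1 → β * β * β = 1 → β ≠ 1 → α * β = β * α → Ok α β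

theorem twoTri_of_iso {X Y : Type*} [Group X] [Group Y] (e : X ≃* Y) (h : TwoTri X) : TwoTri Y := by
  intro α β h1 h2 h3 h4 h5
  have f := MulAut.congr e.symm
  have hf : ∀ (γ : MulAut Y) (x : X), e (MulAut.congr e.symm γ x) = γ (e x) := by
    intro γ x
    simp [MulAut.congr]
  have hfi : ∀ (γ : MulAut Y) (y : Y), MulAut.congr e.symm γ (e.symm y) = e.symm (γ y) := by
    intro γ y
    apply e.injective
    rw [hf, e.apply_symm_apply, e.apply_symm_apply]
  have hinj : Function.Injective (MulAut.congr e.symm : MulAut Y ≃* MulAut X) := (MulAut.congr e.symm).injective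
  have key := h (MulAut.congr e.symm α) (MulAut.congr e.symm β) (by rw [← map_mul, h1, map_one])
    (fun hc => h2 (hinj (by rw [hc, map_one]))) (by rw [← map_mul, ← map_mul, h3, map_one])
    (fun hc => h4 (hinj (by rw [hc, map_one]))) (by rw [← map_mul, ← map_mul, h5])
  have htr : ∀ b : X, Tri (MulAut.congr e.symm α) (MulAut.congr e.symm β) b ↔ Tri α β (e b) := by
    intro b
    constructor
    · intro t
      refine ⟨by rw [← hf, t.fix], by rw [← map_mul, t.sq, map_one], fun hc => t.ne (e.injective (by rw [hc, map_one])),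
        ?_⟩
      rw [← hf, ← hf, ← map_mul, ← map_mul, t.tri, map_one]
    · intro t
      refine ⟨e.injective (by rw [hf, t.fix]), e.injective (by rw [map_mul, t.sq, map_one]),
        fun hc => t.ne (by rw [hc, map_one]), e.injective ?_⟩
      rw [map_mul, map_mul, hf, hf, hf, t.tri, map_one]
  rcases key with hk | ⟨b, c, hb, hc, n1, n2, n3⟩
  · left
    intro b hb
    apply hk (e.symm b)
    rw [htr, e.apply_symm_apply]
    exact hb
  · right
    refine ⟨e b, e c, (htr b).1 hb, (htr c).1 hc, fun hh => n1 (e.injective hh), fun hh => n2 (e.injective ?_),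
      fun hh => n3 (e.injective ?_)⟩
    · rw [hh, hf]
    · rw [hh, hf, hf]

end aut

section pair

variable {W : Type*} [Group W]

/-- a triple of `X ≤ W` for `g`, `b` -/
structure TriW (g b a : W) : Prop where
  comm : a * g = g * a
  sq : a * a = 1
  ne : a ≠ 1
  tri : a * (b * a * b⁻¹) * (b * (b * a * b⁻¹) * b⁻¹) = 1

/-- no triple, or two of them -/
def Pair (X : Subgroup W) (g b : W) : Prop :=
  (∀ a ∈ X, ¬ TriW g b a) ∨ ∃ a ∈ X, ∃ c ∈ X, TriW g b a ∧ TriW g b c ∧ c ≠ a ∧ c ≠ b * a * b⁻¹ ∧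
    c ≠ b * (b * a * b⁻¹) * b⁻¹

theorem twoTri_of (X : Subgroup W) (hW : ∀ α : MulAut X, ∃ w : W, ∀ x : X, ((α x : X) : W) = w * x * w⁻¹)
    (hC : ∀ w : W, (∀ x ∈ X, w * x = x * w) → w = 1)
    (h : ∀ g b : W, g * g = 1 → g ≠ 1 → b * b * b = 1 → b ≠ 1 → g * b = b * g → Pair X g b) : TwoTri X := by
  intro α β h1 h2 h3 h4 h5
  obtain ⟨g, hg⟩ := hW α
  obtain ⟨b, hb⟩ := hW β
  have e1 : g * g = 1 := by
    apply hC
    intro x hx
    have h6 : ((α (α ⟨x, hx⟩) : X) : W) = g * (g * x * g⁻¹) * g⁻¹ := by rw [hg, hg]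
    have h7 : α (α ⟨x, hx⟩) = ⟨x, hx⟩ := congrArg (fun f : MulAut X => f ⟨x, hx⟩) h1
    rw [h7] at h6
    calc g * g * x = (g * (g * x * g⁻¹) * g⁻¹) * (g * g) := by group
      _ = x * (g * g) := by rw [← h6]
  have e2 : g ≠ 1 := by
    rintro rfl
    apply h2
    ext x
    rw [hg]
    simp
  have e3 : b * b * b = 1 := by
    apply hC
    intro x hx
    have h6 : ((β (β (β ⟨x, hx⟩)) : X) : W) = b * (b * (b * x * b⁻¹) * b⁻¹) * b⁻¹ := by rw [hb, hb, hb]
    have h7 : β (β (β ⟨x, hx⟩)) = ⟨x, hx⟩ := congrArg (fun f : MulAut X => f ⟨x, hx⟩) h3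
    rw [h7] at h6
    calc b * b * b * x = (b * (b * (b * x * b⁻¹) * b⁻¹) * b⁻¹) * (b * b * b) := by group
      _ = x * (b * b * b) := by rw [← h6]
  have e4 : b ≠ 1 := by
    rintro rfl
    apply h4
    ext x
    rw [hb]
    simp
  have e5 : g * b = b * g := by
    have h0 : (b * g)⁻¹ * (g * b) = 1 := by
      apply hC
      intro x hx
      have h6 : ((α (β ⟨x, hx⟩) : X) : W) = g * (b * x * b⁻¹) * g⁻¹ := by rw [hg, hb]
      have h7 : ((β (α ⟨x, hx⟩) : X) : W) = b * (g * x * g⁻¹) * b⁻¹ := by rw [hb, hg]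
      have h8 : α (β ⟨x, hx⟩) = β (α ⟨x, hx⟩) := congrArg (fun f : MulAut X => f ⟨x, hx⟩) h5
      rw [h8, h7] at h6
      calc (b * g)⁻¹ * (g * b) * x = (b * g)⁻¹ * (g * (b * x * b⁻¹) * g⁻¹) * (g * b) := by group
        _ = (b * g)⁻¹ * (b * (g * x * g⁻¹) * b⁻¹) * (g * b) := by rw [← h6]
        _ = x * ((b * g)⁻¹ * (g * b)) := by group
    calc g * b = (b * g) * ((b * g)⁻¹ * (g * b)) := by group
      _ = b * g := by rw [h0, mul_one]
  have htr : ∀ x : X, Tri α β x ↔ TriW g b (x : W) := by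
    intro x
    constructor
    · intro t
      refine ⟨?_, by rw [← coe_mul, t.sq, coe_one], fun hc => t.ne (Subtype.ext hc), ?_⟩
      · have h6 := hg x
        rw [t.fix] at h6
        calc (x : W) * g = (g * x * g⁻¹) * g := by rw [← h6]
          _ = g * x := by group
      · rw [← hb, ← hb, ← coe_mul, ← coe_mul, t.tri, coe_one]
    · intro t
      refine ⟨Subtype.ext ?_, Subtype.ext (by rw [coe_mul, t.sq, coe_one]), fun hc => t.ne (by rw [hc, coe_one]),
        Subtype.ext ?_⟩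
      · rw [hg, ← t.comm]
        group
      · rw [coe_mul, coe_mul, hb, hb, hb, t.tri, coe_one]
  rcases h g b e1 e2 e3 e4 e5 with hk | ⟨a, ha, c, hc, t1, t2, n1, n2, n3⟩
  · left
    intro x hx
    exact hk x x.2 ((htr x).1 hx)
  · right
    refine ⟨⟨a, ha⟩, ⟨c, hc⟩, (htr _).2 t1, (htr _).2 t2, fun hh => n1 (congrArg Subtype.val hh), fun hh => n2 ?_,
      fun hh => n3 ?_⟩
    · have := congrArg Subtype.val hh
      rw [hb] at this
      exact this
    · have := congrArg Subtype.val hh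
      rw [hb, hb] at this
      exact this

theorem TriW.conj {g b a : W} (w : W) (t : TriW g b a) : TriW (w * g * w⁻¹) (w * b * w⁻¹) (w * a * w⁻¹) := by
  refine ⟨?_, ?_, ?_, ?_⟩
  · calc w * a * w⁻¹ * (w * g * w⁻¹) = w * (a * g) * w⁻¹ := by group
      _ = w * (g * a) * w⁻¹ := by rw [t.comm]
      _ = w * g * w⁻¹ * (w * a * w⁻¹) := by group
  · calc w * a * w⁻¹ * (w * a * w⁻¹) = w * (a * a) * w⁻¹ := by group
      _ = 1 := by rw [t.sq]; group
  · intro h
    apply t.ne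
    calc a = w⁻¹ * (w * a * w⁻¹) * w := by group
      _ = 1 := by rw [h]; group
  · calc _ = w * (a * (b * a * b⁻¹) * (b * (b * a * b⁻¹) * b⁻¹)) * w⁻¹ := by group
      _ = 1 := by rw [t.tri]; group

theorem Pair.conj {X : Subgroup W} [hX : X.Normal] {g b : W} (w : W) (h : Pair X g b) :
    Pair X (w * g * w⁻¹) (w * b * w⁻¹) := by
  rcases h with h | ⟨a, ha, c, hc, t1, t2, n1, n2, n3⟩
  · left
    intro a ha t
    have := t.conj w⁻¹
    have e1 : w⁻¹ * (w * g * w⁻¹) * w⁻¹⁻¹ = g := by group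
    have e2 : w⁻¹ * (w * b * w⁻¹) * w⁻¹⁻¹ = b := by group
    rw [e1, e2] at this
    exact h _ (hX.conj_mem a ha w⁻¹) this
  · right
    refine ⟨_, hX.conj_mem a ha w, _, hX.conj_mem c hc w, t1.conj w, t2.conj w, fun e => n1 ?_, fun e => n2 ?_,
      fun e => n3 ?_⟩
    · exact mul_left_cancel (mul_right_cancel e)
    · have e' : w * c * w⁻¹ = w * (b * a * b⁻¹) * w⁻¹ := by rw [e]; group
      exact mul_left_cancel (mul_right_cancel e')
    · have e' : w * c * w⁻¹ = w * (b * (b * a * b⁻¹) * b⁻¹) * w⁻¹ := by rw [e]; group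
      exact mul_left_cancel (mul_right_cancel e')

theorem TriW.commute {g b a : W} (t : TriW g b a) (h3 : b * b * b = 1) :
    (b * a * b⁻¹) * (b * (b * a * b⁻¹) * b⁻¹) = a ∧ (b * (b * a * b⁻¹) * b⁻¹) * (b * a * b⁻¹) = a := by
  set a1 := b * a * b⁻¹ with h1
  set a2 := b * a1 * b⁻¹ with h2
  have ht : a * a1 * a2 = 1 := t.tri
  have hs : a * a = 1 := t.sq
  have s1 : a1 * a1 = 1 := by
    calc a1 * a1 = b * (a * a) * b⁻¹ := by rw [h1]; group
      _ = 1 := by rw [hs]; group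
  have s2 : a2 * a2 = 1 := by
    calc a2 * a2 = b * (a1 * a1) * b⁻¹ := by rw [h2]; group
      _ = 1 := by rw [s1]; group
  have e : a1 * a2 = a := by
    calc a1 * a2 = (a * a) * a1 * a2 := by rw [hs, one_mul]
      _ = a * (a * a1 * a2) := by group
      _ = a := by rw [ht, mul_one]
  refine ⟨e, ?_⟩
  have e' : (a1 * a2)⁻¹ = a⁻¹ := by rw [e]
  rw [mul_inv_rev, inv_eq_of_mul_eq_one_right s2, inv_eq_of_mul_eq_one_right s1,
    inv_eq_of_mul_eq_one_right hs] at e'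
  exact e'

theorem TriW.inv {g b a : W} (t : TriW g b a) (h3 : b * b * b = 1) : TriW g b⁻¹ a := by
  have hb : b⁻¹ = b * b := (inv_eq_of_mul_eq_one_right (by rw [← mul_assoc]; exact h3))
  have hb2 : b⁻¹ * b⁻¹ = b := by
    calc b⁻¹ * b⁻¹ = b⁻¹ * b⁻¹ * (b * b * b) := by rw [h3, mul_one]
      _ = b := by group
  refine ⟨t.comm, t.sq, t.ne, ?_⟩
  have e1 : b⁻¹ * a * b⁻¹⁻¹ = b * (b * a * b⁻¹) * b⁻¹ := by
    calc b⁻¹ * a * b⁻¹⁻¹ = b⁻¹ * a * (b⁻¹)⁻¹ := rfl
      _ = (b * b) * a * (b * b)⁻¹ := by rw [hb]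
      _ = b * (b * a * b⁻¹) * b⁻¹ := by group
  have e2 : b⁻¹ * (b⁻¹ * a * b⁻¹⁻¹) * b⁻¹⁻¹ = b * a * b⁻¹ := by
    calc b⁻¹ * (b⁻¹ * a * b⁻¹⁻¹) * b⁻¹⁻¹ = (b⁻¹ * b⁻¹) * a * (b⁻¹ * b⁻¹)⁻¹ := by
          rw [mul_inv_rev]; simp only [mul_assoc]
      _ = b * a * b⁻¹ := by rw [hb2]
  rw [e2, e1]
  have := (t.commute h3).2
  rw [mul_assoc, this, t.sq]

theorem Pair.inv {X : Subgroup W} {g b : W} (h3 : b * b * b = 1) (h : Pair X g b) : Pair X g b⁻¹ := by
  have h3' : b⁻¹ * b⁻¹ * b⁻¹ = 1 := by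
    calc b⁻¹ * b⁻¹ * b⁻¹ = (b * b * b)⁻¹ := by group
      _ = 1 := by rw [h3, inv_one]
  have hb : b⁻¹ = b * b := (inv_eq_of_mul_eq_one_right (by rw [← mul_assoc]; exact h3))
  have hb2 : b⁻¹ * b⁻¹ = b := by
    calc b⁻¹ * b⁻¹ = b⁻¹ * b⁻¹ * (b * b * b) := by rw [h3, mul_one]
      _ = b := by group
  rcases h with h | ⟨a, ha, c, hc, t1, t2, n1, n2, n3⟩
  · left
    intro a ha t
    have := t.inv h3'
    rw [inv_inv] at this
    exact h a ha this
  · right
    refine ⟨a, ha, c, hc, t1.inv h3, t2.inv h3, n1, ?_, ?_⟩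
    · have e1 : b⁻¹ * a * b⁻¹⁻¹ = b * (b * a * b⁻¹) * b⁻¹ := by
        calc b⁻¹ * a * b⁻¹⁻¹ = (b * b) * a * (b * b)⁻¹ := by rw [← hb]
          _ = b * (b * a * b⁻¹) * b⁻¹ := by group
      rw [e1]; exact n3
    · have e2 : b⁻¹ * (b⁻¹ * a * b⁻¹⁻¹) * b⁻¹⁻¹ = b * a * b⁻¹ := by
        calc b⁻¹ * (b⁻¹ * a * b⁻¹⁻¹) * b⁻¹⁻¹ = (b⁻¹ * b⁻¹) * a * (b⁻¹ * b⁻¹)⁻¹ := by
              rw [mul_inv_rev]; simp only [mul_assoc]
          _ = b * a * b⁻¹ := by rw [hb2]
      rw [e2]; exact n2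

end pair

section syl

variable {W : Type*} [Group W] [Finite W]

/-- an element of `p`-power order of a subgroup `C` is conjugate in `C` to an element of a maximal `p`-subgroup `T`
of `C` -/
theorem exists_conj_of_max {p : ℕ} [Fact p.Prime] {C T : Subgroup W} (hTC : T ≤ C) (hT : IsPGroup p T)
    (hmax : ∀ Q : Subgroup W, Q ≤ C → IsPGroup p Q → T ≤ Q → Q = T) {g : W} (hg : g ∈ C)
    (hp : ∃ n : ℕ, g ^ p ^ n = 1) : ∃ c ∈ C, c * g * c⁻¹ ∈ T := by
  classical
  have hT' : IsPGroup p (T.subgroupOf C) := hT.comap_of_injective C.subtype C.subtype_injective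
  have hz : IsPGroup p (zpowers (⟨g, hg⟩ : C)) := by
    obtain ⟨n, hn⟩ := hp
    rintro ⟨x, hx⟩
    obtain ⟨k, rfl⟩ := mem_zpowers_iff.1 hx
    refine ⟨n, Subtype.ext (Subtype.ext ?_)⟩
    push_cast
    rw [← zpow_natCast, ← zpow_mul, mul_comm, zpow_mul, zpow_natCast, hn, one_zpow]
  obtain ⟨S, hS⟩ := hT'.exists_le_sylow
  obtain ⟨R, hR⟩ := hz.exists_le_sylow
  have hST : (S : Subgroup C).map C.subtype = T := by
    apply hmax
    · exact map_subtype_le _
    · exact S.2.map _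
    · intro x hx
      exact ⟨⟨x, hTC hx⟩, hS hx, rfl⟩
  obtain ⟨c, hc⟩ := MulAction.exists_smul_eq C R S
  refine ⟨c, c.2, ?_⟩
  rw [← hST]
  refine ⟨c * ⟨g, hg⟩ * c⁻¹, ?_, rfl⟩
  rw [← hc]
  exact ⟨⟨g, hg⟩, hR (mem_zpowers _), rfl⟩

/-- a `p`-subgroup `T ≤ C` is maximal if `n ∈ C ∩ N(T)`, `n ^ p ∈ T` implies `n ∈ T` -/
theorem max_of_nrm {p : ℕ} [hp : Fact p.Prime] {C T : Subgroup W} (hT : IsPGroup p T)
    (h : ∀ n ∈ C, (∀ t ∈ T, n * t * n⁻¹ ∈ T) → n ^ p ∈ T → n ∈ T) :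
    ∀ Q : Subgroup W, Q ≤ C → IsPGroup p Q → T ≤ Q → Q = T := by
  intro Q hQC hQ hTQ
  by_contra hne
  have hlt : T < Q := lt_of_le_of_ne hTQ (fun e => hne e.symm)
  -- the normaliser of `T` in `Q`
  have hlt' : T.subgroupOf Q < ⊤ := by
    rw [lt_top_iff_ne_top, Ne, subgroupOf_eq_top]
    exact not_le_of_gt hlt
  have hnil : Group.IsNilpotent Q := hQ.isNilpotent
  have h1 : T.subgroupOf Q < normalizer ((T.subgroupOf Q : Subgroup Q) : Set Q) :=
    (normalizerCondition_of_isNilpotent (G := Q)) _ hlt'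
  set N := normalizer ((T.subgroupOf Q : Subgroup Q) : Set Q) with hN
  set T' := (T.subgroupOf Q).subgroupOf N with hT'
  haveI hnorm : T'.Normal := by rw [hT', hN]; exact normal_in_normalizer
  have hT'ne : T' ≠ ⊤ := by
    rw [hT', Ne, subgroupOf_eq_top]
    exact not_le_of_gt h1
  have hq : IsPGroup p (N ⧸ T') := (hQ.to_subgroup N).to_quotient T'
  have hnt : Nontrivial (N ⧸ T') := by
    rw [← not_subsingleton_iff_nontrivial]
    intro hs
    exact hT'ne (QuotientGroup.subgroup_eq_top_of_subsingleton T' hs)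
  obtain ⟨n, hn⟩ := IsPGroup.iff_card.1 hq
  have hdvd : p ∣ Nat.card (N ⧸ T') := by
    rw [hn]
    apply dvd_pow_self
    rintro rfl
    rw [pow_zero] at hn
    exact (Finite.one_lt_card (α := N ⧸ T')).ne' hn
  obtain ⟨x, hx⟩ := exists_prime_orderOf_dvd_card' p hdvd
  obtain ⟨y, rfl⟩ := QuotientGroup.mk_surjective x
  have hyp : (y : N ⧸ T') ^ p = 1 := by rw [← hx]; exact pow_orderOf_eq_one _
  have hy1 : (y : N ⧸ T') ≠ 1 := by
    intro hc
    rw [hc, orderOf_one] at hx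
    exact hp.out.one_lt.ne hx
  rw [← QuotientGroup.mk_pow, QuotientGroup.eq_one_iff] at hyp
  apply hy1
  rw [QuotientGroup.eq_one_iff]
  have hyN : ((y : N) : Q) ∈ normalizer ((T.subgroupOf Q : Subgroup Q) : Set Q) := y.2
  rw [mem_normalizer_iff] at hyN
  have : ((y : Q) : W) ∈ T := by
    apply h _ (hQC (y : Q).2)
    · intro t ht
      have := (hyN ⟨t, hTQ ht⟩).1 (by exact ht)
      exact this
    · exact hyp
  exact this

/-- a `p`-subgroup whose order is the full power of `p` in `|W|` is maximal -/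
theorem max_of_card {p : ℕ} [Fact p.Prime] {T : Subgroup W} {n m : ℕ} (hT : Nat.card T = p ^ n)
    (hW : Nat.card W = p ^ n * m) (hm : ¬ p ∣ m) :
    ∀ Q : Subgroup W, Q ≤ (⊤ : Subgroup W) → IsPGroup p Q → T ≤ Q → Q = T := by
  intro Q _ hQ hTQ
  obtain ⟨k, hk⟩ := IsPGroup.iff_card.1 hQ
  have h1 : p ^ k ∣ p ^ n * m := by rw [← hk, ← hW]; exact Q.card_subgroup_dvd_card
  have h2 : Nat.Coprime (p ^ k) m := Nat.Coprime.pow_left k ((Fact.out : p.Prime).coprime_iff_not_dvd.2 hm)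
  have h3 : p ^ k ∣ p ^ n := h2.dvd_of_dvd_mul_right h1
  symm
  apply eq_of_le_of_card_ge hTQ
  rw [hk, hT]
  exact Nat.le_of_dvd (pow_pos (Fact.out : p.Prime).pos n) h3

/-- **Reduction.** `R` a set of elements of order 3 such that every element of order 3 is conjugate to an element of `R`
or its inverse; for `v ∈ R` a 2-subgroup `T v`, maximal in `C(v)`; all involutions of `T v` are fine. -/
theorem all_of_syl {X : Subgroup W} [X.Normal] {R : Set W} (T : W → Subgroup W)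
    (hR : ∀ b : W, b * b * b = 1 → b ≠ 1 → ∃ v ∈ R, ∃ w : W, w * b * w⁻¹ = v ∨ w * b * w⁻¹ = v⁻¹)
    (hR3 : ∀ v ∈ R, v * v * v = 1)
    (hTC : ∀ v ∈ R, ∀ t ∈ T v, t * v = v * t) (hT2 : ∀ v ∈ R, IsPGroup 2 (T v))
    (hmax : ∀ v ∈ R, ∀ Q : Subgroup W, Q ≤ centralizer {v} → IsPGroup 2 Q → T v ≤ Q → Q = T v)
    (hok : ∀ v ∈ R, ∀ t ∈ T v, t * t = 1 → t ≠ 1 → Pair X t v) :
    ∀ g b : W, g * g = 1 → g ≠ 1 → b * b * b = 1 → b ≠ 1 → g * b = b * g → Pair X g b := by
  haveI : Fact (Nat.Prime 2) := ⟨Nat.prime_two⟩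
  intro g b g2 g1 b3 b1 hgb
  obtain ⟨v, hv, w, hw⟩ := hR b b3 b1
  -- the case of `v`
  have key : ∀ g' : W, g' * g' = 1 → g' ≠ 1 → g' * v = v * g' → Pair X g' v := by
    intro g' h2 h1 hc
    obtain ⟨c, hcC, hcT⟩ := exists_conj_of_max (p := 2) (C := centralizer {v}) (T := T v)
      (fun t ht => mem_centralizer_singleton_iff.2 (hTC v hv t ht)) (hT2 v hv)
      (hmax v hv) (g := g') (mem_centralizer_singleton_iff.2 hc) ⟨1, by rw [pow_one, pow_two]; exact h2⟩
    rw [mem_centralizer_singleton_iff] at hcC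
    have h3 : Pair X (c * g' * c⁻¹) v := by
      apply hok v hv _ hcT
      · calc c * g' * c⁻¹ * (c * g' * c⁻¹) = c * (g' * g') * c⁻¹ := by group
          _ = 1 := by rw [h2]; group
      · intro he
        apply h1
        calc g' = c⁻¹ * (c * g' * c⁻¹) * c := by group
          _ = 1 := by rw [he]; group
    have h4 := h3.conj c⁻¹
    have e1 : c⁻¹ * (c * g' * c⁻¹) * c⁻¹⁻¹ = g' := by group
    have e2 : c⁻¹ * v * c⁻¹⁻¹ = v := by
      calc c⁻¹ * v * c⁻¹⁻¹ = c⁻¹ * (v * c) := by group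
        _ = v := by rw [← hcC]; group
    rwa [e1, e2] at h4
  have h5 : Pair X (w * g * w⁻¹) (w * b * w⁻¹) := by
    have f1 : w * g * w⁻¹ * (w * g * w⁻¹) = 1 := by
      calc w * g * w⁻¹ * (w * g * w⁻¹) = w * (g * g) * w⁻¹ := by group
        _ = 1 := by rw [g2]; group
    have f2 : w * g * w⁻¹ ≠ 1 := by
      intro he
      apply g1
      calc g = w⁻¹ * (w * g * w⁻¹) * w := by group
        _ = 1 := by rw [he]; group
    have f3 : w * g * w⁻¹ * (w * b * w⁻¹) = w * b * w⁻¹ * (w * g * w⁻¹) := by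
      calc w * g * w⁻¹ * (w * b * w⁻¹) = w * (g * b) * w⁻¹ := by group
        _ = w * (b * g) * w⁻¹ := by rw [hgb]
        _ = _ := by group
    rcases hw with hw | hw
    · rw [hw] at f3 ⊢
      exact key _ f1 f2 f3
    · rw [hw] at f3 ⊢
      apply Pair.inv (hR3 v hv)
      apply key _ f1 f2
      calc w * g * w⁻¹ * v = v * (v⁻¹ * (w * g * w⁻¹)) * v := by group
        _ = v * (w * g * w⁻¹ * v⁻¹) * v := by rw [f3]
        _ = v * (w * g * w⁻¹) := by group
  have h6 := h5.conj w⁻¹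
  have e1 : w⁻¹ * (w * g * w⁻¹) * w⁻¹⁻¹ = g := by group
  have e2 : w⁻¹ * (w * b * w⁻¹) * w⁻¹⁻¹ = b := by group
  rwa [e1, e2] at h6

/-- a representative `v` of order 3 with a Sylow 2-subgroup of `C(v)` whose involutions are fine -/
def GoodCls (X : Subgroup W) (v : W) : Prop :=
  v * v * v = 1 ∧ ∃ T : Subgroup W, (∀ t ∈ T, t * v = v * t) ∧ IsPGroup 2 T ∧
    (∀ Q : Subgroup W, Q ≤ centralizer {v} → IsPGroup 2 Q → T ≤ Q → Q = T) ∧
    ∀ t ∈ T, t * t = 1 → t ≠ 1 → Pair X t v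

/-- the reduction `all_of_syl` with `GoodCls` -/
theorem all_of_cls {X : Subgroup W} [X.Normal]
    (hR : ∀ b : W, b * b * b = 1 → b ≠ 1 → ∃ v, GoodCls X v ∧ ∃ w : W, w * b * w⁻¹ = v ∨ w * b * w⁻¹ = v⁻¹) :
    ∀ g b : W, g * g = 1 → g ≠ 1 → b * b * b = 1 → b ≠ 1 → g * b = b * g → Pair X g b := by
  classical
  choose! T hT using fun (v : W) (h : GoodCls X v) => h.2
  exact all_of_syl (R := {v | GoodCls X v}) T hR (fun v hv => hv.1) (fun v hv => (hT v hv).1)
    (fun v hv => (hT v hv).2.1) (fun v hv => (hT v hv).2.2.1) (fun v hv => (hT v hv).2.2.2)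

end syl

end Cfsg.Agent.OddHalf.NI3.ExTri
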