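import Cfsg.Agent.OddHalf.NI3.Sn
import Cfsg.Agent.OddHalf.NI3.Bad.ExTri

/-!
# The K-fact (EX4) of theorem NIB (#14136, exact form #14903 (3))

`X` a finite simple group, `α` an automorphism of order 2, `β` an automorphism of order 3 commuting with `α`, `A` a
four-group of fixed points of `α`, normalised and not centralised by `β`: `A⟨β⟩` is not subnormal in `C_X(α)⟨β⟩`
(as subgroups of `Aut X`).

* `Bad α β A` : a counterexample; `EX4 X` : there is none;
* `Bad.mem_of_two` : **every `β`-invariant 2-subgroup `B` of `C_X(α)` has `[B, β] ≤ A`**;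
* `Bad.mem_of_tri` : **every involution `b` fixed by `α` with `b · β(b) · β²(b) = 1` is in `A`** (`ExTri.Tri`);
* `ex4_of_twoTri` : **`ExTri.TwoTri X → EX4 X`** (`X` finite with trivial centre): it suffices to find, for all
  commuting `α`, `β`, two such `b`, not in one orbit of `β` (or to show that there is none at all).
-/

set_option autoImplicit false

namespace Cfsg.Agent.OddHalf.NI3.ExFour

open Subgroup Cfsg Cfsg.Agent.OddHalf.NI3 Cfsg.Agent.OddHalf.NI3.ExTri

variable {X : Type*} [Group X]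

/-- the fixed points of an automorphism -/
def fx (α : MulAut X) : Subgroup X where
  carrier := {x | α x = x}
  one_mem' := map_one α
  mul_mem' {a b} ha hb := by
    change α (a * b) = a * b
    rw [map_mul, show α a = a from ha, show α b = b from hb]
  inv_mem' {a} ha := by
    change α a⁻¹ = a⁻¹
    rw [map_inv, show α a = a from ha]

theorem mem_fx {α : MulAut X} {x : X} : x ∈ fx α ↔ α x = x := Iff.rfl

/-- a counterexample to (EX4) -/
structure Bad (α β : MulAut X) (A : Subgroup X) : Prop where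
  sq : α * α = 1
  ne : α ≠ 1
  cube : β * β * β = 1
  comm : α * β = β * α
  fix : ∀ a ∈ A, α a = a
  card : Nat.card A = 4
  inv : ∀ a ∈ A, a * a = 1
  stab : ∀ a ∈ A, β a ∈ A
  move : ∃ a ∈ A, β a ≠ a
  sn : Sn (A.map MulAut.conj ⊔ zpowers β) ((fx α).map MulAut.conj ⊔ zpowers β)

/-- **(EX4)** for the group `X` -/
def EX4 (X : Type*) [Group X] : Prop := ∀ (α β : MulAut X) (A : Subgroup X), ¬ Bad α β A

section facts

variable {α β : MulAut X} {A : Subgroup X}

theorem conj_apply_mul (β : MulAut X) (x : X) : β * MulAut.conj x * β⁻¹ = MulAut.conj (β x) := by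
  ext y
  simp only [MulAut.mul_apply, MulAut.conj_apply, map_mul, map_inv, MulAut.apply_inv_self]

theorem conj_inj (hZ : center X = ⊥) : Function.Injective (MulAut.conj : X →* MulAut X) := by
  rw [injective_iff_map_eq_one]
  intro x hx
  have h1 : x ∈ center X := by
    rw [mem_center_iff]
    intro y
    have h2 := congrArg (fun f : MulAut X => f y) hx
    simp only [MulAut.conj_apply, MulAut.one_apply] at h2
    calc y * x = (x * y * x⁻¹) * x := by rw [h2]
      _ = x * y := by group
  rw [hZ] at h1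
  exact mem_bot.1 h1

/-- the fixed points of `α` are normalised by `β` -/
theorem Bad.fx_stab (h : Bad α β A) {x : X} (hx : α x = x) : α (β x) = β x := by
  have h1 := congrArg (fun f : MulAut X => f x) h.comm
  simp only [MulAut.mul_apply] at h1
  rw [h1, hx]

theorem Bad.cube_apply (h : Bad α β A) (x : X) : β (β (β x)) = x := by
  have h1 := congrArg (fun f : MulAut X => f x) h.cube
  simpa only [MulAut.mul_apply, MulAut.one_apply] using h1

theorem mem_normalizer_of_stab [Finite X] {B : Subgroup X} (hB : ∀ b ∈ B, β b ∈ B) :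
    β ∈ normalizer ((B.map MulAut.conj : Subgroup (MulAut X)) : Set (MulAut X)) := by
  have h1 : B.map (β : X →* X) = B := by
    apply Subgroup.eq_of_le_of_card_ge
    · rintro _ ⟨x, hx, rfl⟩
      exact hB x hx
    · rw [Subgroup.card_map_of_injective (f := (β : X →* X)) β.injective]
  rw [mem_normalizer_iff]
  intro f
  constructor
  · rintro ⟨x, hx, rfl⟩
    exact ⟨β x, hB x hx, (conj_apply_mul β x).symm⟩
  · rintro ⟨x, hx, hxf⟩
    have hx' : x ∈ B.map (β : X →* X) := by rw [h1]; exact hx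
    obtain ⟨y, hy, rfl⟩ := hx'
    refine ⟨y, hy, ?_⟩
    have h2 : MulAut.conj ((β : X →* X) y) = β * MulAut.conj y * β⁻¹ := (conj_apply_mul β y).symm
    rw [h2] at hxf
    exact mul_left_cancel (mul_right_cancel hxf)

end facts

section finite

variable [Finite X] {α β : MulAut X} {A : Subgroup X}

theorem Bad.beta_ne (h : Bad α β A) : β ≠ 1 := by
  obtain ⟨a, -, ha⟩ := h.move
  rintro rfl
  exact ha rfl

theorem Bad.orderOf (h : Bad α β A) : orderOf β = 3 := by
  haveI : Fact (Nat.Prime 3) := ⟨Nat.prime_three⟩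
  refine orderOf_eq_prime ?_ h.beta_ne
  rw [pow_succ, pow_succ, pow_one]
  exact h.cube

theorem Bad.card_conj (h : Bad α β A) (hZ : center X = ⊥) : Nat.card (A.map MulAut.conj : Subgroup (MulAut X)) = 4 := by
  rw [Subgroup.card_map_of_injective (conj_inj hZ), h.card]

theorem Bad.two (h : Bad α β A) : IsPGroup 2 A := by
  intro a
  exact ⟨1, by rw [pow_one, pow_two]; exact Subtype.ext (h.inv a a.2)⟩

theorem mul_pow_mem {G : Type*} [Group G] {A : Subgroup G} {a b : G} (ha : a ∈ A)
    (hb : b ∈ normalizer (A : Set G)) (m : ℕ) : ∃ c ∈ A, (a * b) ^ m = c * b ^ m := by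
  induction m with
  | zero => exact ⟨1, A.one_mem, by simp⟩
  | succ m ih =>
    obtain ⟨c, hc, e⟩ := ih
    have h1 : b ^ m * a * (b ^ m)⁻¹ ∈ A :=
      (mem_normalizer_iff.1 (Subgroup.pow_mem _ hb m) a).1 ha
    refine ⟨c * (b ^ m * a * (b ^ m)⁻¹), A.mul_mem hc h1, ?_⟩
    rw [pow_succ, e, pow_succ]
    group

theorem exists_mul_of_mem_sup {G : Type*} [Group G] {A B : Subgroup G} (hn : B ≤ normalizer (A : Set G)) {x : G}
    (hx : x ∈ A ⊔ B) : ∃ a ∈ A, ∃ b ∈ B, x = a * b := by
  let E : Subgroup G :=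
    { carrier := {x | ∃ a ∈ A, ∃ b ∈ B, x = a * b}
      one_mem' := ⟨1, A.one_mem, 1, B.one_mem, by simp⟩
      mul_mem' := by
        rintro _ _ ⟨a, ha, b, hb, rfl⟩ ⟨a', ha', b', hb', rfl⟩
        refine ⟨a * (b * a' * b⁻¹), A.mul_mem ha ((mem_normalizer_iff.1 (hn hb) _).1 ha'), b * b',
          B.mul_mem hb hb', by group⟩
      inv_mem' := by
        rintro _ ⟨a, ha, b, hb, rfl⟩
        refine ⟨b⁻¹ * a⁻¹ * b⁻¹⁻¹, (mem_normalizer_iff.1 (hn (B.inv_mem hb)) _).1 (A.inv_mem ha), b⁻¹,
          B.inv_mem hb, by group⟩ }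
  have h1 : A ⊔ B ≤ E := sup_le (fun a ha => ⟨a, ha, 1, B.one_mem, by simp⟩)
    (fun b hb => ⟨1, A.one_mem, b, hb, by simp⟩)
  exact h1 hx

theorem eq_one_of_pow {G : Type*} [Group G] {b : G} (h3 : b * b * b = 1) {n : ℕ} (hn : b ^ 2 ^ n = 1) :
    b = 1 := by
  have h1 : orderOf b ∣ 3 := orderOf_dvd_of_pow_eq_one (by rw [pow_succ, pow_succ, pow_one]; exact h3)
  have h2 : orderOf b ∣ 2 ^ n := orderOf_dvd_of_pow_eq_one hn
  have h4 : Nat.Coprime 3 (2 ^ n) := Nat.Coprime.pow_right n (by norm_num)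
  have h5 := Nat.dvd_gcd h1 h2
  rw [h4, Nat.dvd_one, orderOf_eq_one_iff] at h5
  exact h5

theorem cube_of_mem_zpowers {G : Type*} [Group G] {b c : G} (h3 : c * c * c = 1) (hb : b ∈ zpowers c) :
    b * b * b = 1 := by
  obtain ⟨k, rfl⟩ := mem_zpowers_iff.1 hb
  have e : c ^ (3 : ℤ) = 1 := by
    have : (3 : ℤ) = 1 + 1 + 1 := by norm_num
    rw [this, zpow_add, zpow_add, zpow_one]
    exact h3
  calc c ^ k * c ^ k * c ^ k = (c ^ (3 : ℤ)) ^ k := by
        rw [← zpow_add, ← zpow_add, ← zpow_mul]; congr 1; ring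
    _ = 1 := by rw [e, one_zpow]

/-- the 2-elements of `A⟨β⟩` are in `A` -/
theorem Bad.mem_of_pow (h : Bad α β A) (hZ : center X = ⊥) {x : X}
    (hx : MulAut.conj x ∈ A.map MulAut.conj ⊔ zpowers β) {n : ℕ} (hn : x ^ 2 ^ n = 1) : x ∈ A := by
  have hN : zpowers β ≤ normalizer ((A.map MulAut.conj : Subgroup (MulAut X)) : Set (MulAut X)) := by
    rw [zpowers_le]; exact mem_normalizer_of_stab h.stab
  obtain ⟨a, ha, b, hb, hab⟩ := exists_mul_of_mem_sup hN hx
  have hb3 := cube_of_mem_zpowers h.cube hb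
  obtain ⟨c, hc, e⟩ := mul_pow_mem ha (hN hb) (2 ^ n)
  rw [← hab, ← map_pow, hn, map_one] at e
  have h1 : b ^ 2 ^ n ∈ A.map MulAut.conj := by
    have : b ^ 2 ^ n = c⁻¹ := (inv_eq_of_mul_eq_one_right e.symm).symm
    rw [this]; exact inv_mem hc
  have h2 : b ^ 2 ^ n * b ^ 2 ^ n = 1 := by
    obtain ⟨y, hy, hy'⟩ := h1
    rw [← hy', ← map_mul, h.inv y hy, map_one]
  have h4 : b ^ 2 ^ n * b ^ 2 ^ n * b ^ 2 ^ n = 1 := by
    rw [← pow_add, ← pow_add]
    have : 2 ^ n + 2 ^ n + 2 ^ n = 3 * 2 ^ n := by ring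
    rw [this, pow_mul]
    have e3 : b ^ 3 = 1 := by rw [pow_succ, pow_succ, pow_one]; exact hb3
    rw [e3, one_pow]
  have h5 : b ^ 2 ^ n = 1 := by rwa [h2, one_mul] at h4
  have h6 : b = 1 := eq_one_of_pow hb3 h5
  rw [h6, mul_one] at hab
  obtain ⟨y, hy, hy'⟩ := ha
  rw [← hab] at hy'
  rwa [← conj_inj hZ hy']

/-- **every `β`-invariant 2-subgroup `B` of `C_X(α)` has `[B, β] ≤ A`** -/
theorem Bad.mem_of_two (h : Bad α β A) (hZ : center X = ⊥) {B : Subgroup X} (hB : IsPGroup 2 B)
    (hBf : ∀ b ∈ B, α b = b) (hBs : ∀ b ∈ B, β b ∈ B) {b : X} (hb : b ∈ B) : b⁻¹ * β b ∈ A := by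
  haveI : Fact (Nat.Prime 2) := ⟨Nat.prime_two⟩
  haveI : Fact (Nat.Prime 3) := ⟨Nat.prime_three⟩
  set J : Subgroup (MulAut X) := A.map MulAut.conj ⊔ zpowers β with hJ
  set D : Subgroup (MulAut X) := B.map MulAut.conj ⊔ zpowers β with hD
  have hDF : D ≤ (fx α).map MulAut.conj ⊔ zpowers β := by
    apply sup_le_sup_right
    rintro _ ⟨x, hx, rfl⟩
    exact ⟨x, hBf x hx, rfl⟩
  have h1 : Sn (J ⊓ D) D := by
    have := h.sn.inf D
    rwa [inf_eq_right.2 hDF] at this
  -- the index
  have hN : zpowers β ≤ normalizer ((B.map MulAut.conj : Subgroup (MulAut X)) : Set (MulAut X)) := by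
    rw [zpowers_le]; exact mem_normalizer_of_stab hBs
  obtain ⟨n, hn⟩ := IsPGroup.iff_card.1 hB
  have hcard : Nat.card D ∣ 2 ^ n * 3 := by
    have h2 : Nat.card (B.map MulAut.conj : Subgroup (MulAut X)) = 2 ^ n := by
      rw [Subgroup.card_map_of_injective (conj_inj hZ), hn]
    have h3 : Nat.card (zpowers β) = 3 := by rw [Nat.card_zpowers, h.orderOf]
    have h4 : (B.map MulAut.conj).relIndex D ∣ 3 := by
      have h5 : (B.map MulAut.conj).relIndex (zpowers β ⊔ B.map MulAut.conj) =
          (B.map MulAut.conj).relIndex (zpowers β) := by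
        have hPn : ((B.map MulAut.conj).subgroupOf D).Normal :=
          (normal_subgroupOf_iff_le_normalizer le_sup_left).2 (sup_le le_normalizer hN)
        have h6 : ((B.map MulAut.conj).subgroupOf D).relIndex
            (((zpowers β).subgroupOf D) ⊔ ((B.map MulAut.conj).subgroupOf D)) =
            ((B.map MulAut.conj).subgroupOf D).relIndex ((zpowers β).subgroupOf D) := relIndex_sup_right _ _
        rw [← relIndex_map_map_of_injective _ _ D.subtype_injective,
          ← relIndex_map_map_of_injective _ _ D.subtype_injective, Subgroup.map_sup,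
          map_subgroupOf_eq_of_le le_sup_left, map_subgroupOf_eq_of_le le_sup_right] at h6
        exact h6
      rw [hD, sup_comm, h5, ← h3]
      exact relIndex_dvd_card _ _
    have h7 : (B.map MulAut.conj).relIndex D * Nat.card (B.map MulAut.conj : Subgroup (MulAut X)) = Nat.card D := by
      have h8 := ((B.map MulAut.conj).subgroupOf D).index_mul_card
      rwa [Nat.card_congr (subgroupOfEquivOfLe (show B.map MulAut.conj ≤ D from le_sup_left)).toEquiv] at h8
    rw [← h7, h2, mul_comm]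
    exact Nat.mul_dvd_mul_left _ h4
  have hβ : β ∈ J ⊓ D := ⟨mem_sup_right (mem_zpowers β), mem_sup_right (mem_zpowers β)⟩
  have hidx : ((J ⊓ D).subgroupOf D).index ∣ 2 ^ n := by
    have h2 : ((J ⊓ D).subgroupOf D).index * Nat.card ((J ⊓ D).subgroupOf D) = Nat.card D :=
      ((J ⊓ D).subgroupOf D).index_mul_card
    have h3 : 3 ∣ Nat.card ((J ⊓ D).subgroupOf D) := by
      rw [Nat.card_congr (subgroupOfEquivOfLe (inf_le_right : J ⊓ D ≤ D)).toEquiv, ← h.orderOf]
      have := _root_.orderOf_dvd_natCard (⟨β, hβ⟩ : (J ⊓ D : Subgroup (MulAut X)))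
      rwa [orderOf_mk] at this
    obtain ⟨c, hc⟩ := h3
    rw [hc] at h2
    have h4 : (((J ⊓ D).subgroupOf D).index * c) * 3 ∣ 2 ^ n * 3 := by
      refine dvd_trans (Dvd.intro_left 1 ?_) hcard
      rw [one_mul, ← h2]; ring
    have h5 := Nat.dvd_of_mul_dvd_mul_right (by norm_num) h4
    exact (Dvd.intro _ rfl).trans h5
  -- the conjugate of `β`
  have hbD : MulAut.conj b ∈ D := mem_sup_left ⟨b, hb, rfl⟩
  have hβD : β ∈ D := mem_sup_right (mem_zpowers β)
  have hw : (MulAut.conj b)⁻¹ * β * MulAut.conj b ∈ D := mul_mem (mul_mem (inv_mem hbD) hβD) hbD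
  have h2 : (⟨(MulAut.conj b)⁻¹ * β * MulAut.conj b, hw⟩ : D) ∈ (J ⊓ D).subgroupOf D := by
    refine mem_of_index h1.2 hidx ?_
    rw [orderOf_mk]
    apply odd_of_cube
    calc (MulAut.conj b)⁻¹ * β * MulAut.conj b * ((MulAut.conj b)⁻¹ * β * MulAut.conj b) *
        ((MulAut.conj b)⁻¹ * β * MulAut.conj b) = (MulAut.conj b)⁻¹ * (β * β * β) * MulAut.conj b := by group
      _ = 1 := by rw [h.cube]; group
  have h3 : (MulAut.conj b)⁻¹ * β * MulAut.conj b ∈ J := h2.1
  have h4 : MulAut.conj (b⁻¹ * β b) = (MulAut.conj b)⁻¹ * β * MulAut.conj b * β⁻¹ := by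
    rw [map_mul, map_inv, ← conj_apply_mul]
    group
  have h5 : MulAut.conj (b⁻¹ * β b) ∈ J := by
    rw [h4]; exact mul_mem h3 (inv_mem (mem_sup_right (mem_zpowers β)))
  obtain ⟨m, hm⟩ := hB ⟨b⁻¹ * β b, B.mul_mem (B.inv_mem hb) (hBs b hb)⟩
  exact h.mem_of_pow hZ h5 (n := m) (by simpa using congrArg Subtype.val hm)

theorem Bad.mem_of_tri (h : Bad α β A) (hZ : center X = ⊥) {b : X} (t : Tri α β b) : b ∈ A := by
  have hc : β (β (β b)) = b := h.cube_apply b
  have s1 : β b * β b = 1 := by rw [← map_mul, t.sq, map_one]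
  have s2 : β (β b) * β (β b) = 1 := by rw [← map_mul, s1, map_one]
  have m1 : b * β b = β (β b) := by
    calc b * β b = b * β b * (β (β b) * β (β b)) := by rw [s2, mul_one]
      _ = b * β b * β (β b) * β (β b) := by group
      _ = β (β b) := by rw [t.tri, one_mul]
  have m2 : β b * β (β b) = b := by rw [← map_mul, m1, hc]
  have m3 : β (β b) * b = β b := by
    have := congrArg β m2
    rwa [map_mul, hc] at this
  have e1 : β b * b = β (β b) := by
    calc β b * b = (β b)⁻¹ * b⁻¹ := by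
          rw [inv_eq_of_mul_eq_one_right s1, inv_eq_of_mul_eq_one_right t.sq]
      _ = (b * β b)⁻¹ := by group
      _ = β (β b) := by rw [m1, inv_eq_of_mul_eq_one_right s2]
  have e2 : β (β b) * β b = b := by rw [← map_mul, e1, hc]
  have e3 : b * β (β b) = β b := by
    have := congrArg β e2
    rwa [map_mul, hc] at this
  let B : Subgroup X :=
    { carrier := {x | x = 1 ∨ x = b ∨ x = β b ∨ x = β (β b)}
      one_mem' := Or.inl rfl
      mul_mem' := by
        rintro x y (rfl | rfl | rfl | rfl) (rfl | rfl | rfl | rfl) <;>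
          simp only [mul_one, one_mul, t.sq, s1, s2, m1, m2, m3, e1, e2, e3, Set.mem_setOf_eq] <;> tauto
      inv_mem' := by
        rintro x (rfl | rfl | rfl | rfl)
        · left; simp
        · right; left; exact inv_eq_of_mul_eq_one_right t.sq
        · right; right; left; exact inv_eq_of_mul_eq_one_right s1
        · right; right; right; exact inv_eq_of_mul_eq_one_right s2 }
  have hB : IsPGroup 2 B := by
    rintro ⟨x, hx⟩
    refine ⟨1, Subtype.ext ?_⟩
    rw [pow_one, pow_two]
    rcases hx with rfl | rfl | rfl | rfl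
    · exact mul_one _
    · exact t.sq
    · exact s1
    · exact s2
  have f1 : α (β b) = β b := h.fx_stab t.fix
  have f2 : α (β (β b)) = β (β b) := h.fx_stab f1
  have h1 : (β (β b))⁻¹ * β (β (β b)) ∈ A := by
    refine h.mem_of_two hZ hB ?_ ?_ (b := β (β b)) (Or.inr (Or.inr (Or.inr rfl)))
    · rintro x (rfl | rfl | rfl | rfl)
      · exact map_one α
      · exact t.fix
      · exact f1
      · exact f2
    · rintro x (rfl | rfl | rfl | rfl)
      · left; exact map_one β
      · right; right; left; rfl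
      · right; right; right; rfl
      · right; left; exact hc
  rw [hc, inv_eq_of_mul_eq_one_right s2, m3] at h1
  have h2 := h.stab _ (h.stab _ h1)
  rwa [hc] at h2

/-- an element of `A` moved by `β` is a triple -/
theorem Bad.tri (h : Bad α β A) {a : X} (ha : a ∈ A) (h1 : β a ≠ a) :
    Tri α β a ∧ ∀ x ∈ A, x = 1 ∨ x = a ∨ x = β a ∨ x = β (β a) := by
  classical
  have hc : β (β (β a)) = a := h.cube_apply a
  have h2 : β (β a) ≠ β a := fun e => h1 (β.injective e)
  have h3 : β (β a) ≠ a := fun e => h1 (by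
    have := congrArg β e
    rw [hc] at this
    exact this.symm)
  have n1 : a ≠ 1 := by rintro rfl; exact h1 (map_one β)
  have n2 : β a ≠ 1 := fun e => n1 (β.injective (by rw [e, map_one]))
  have n3 : β (β a) ≠ 1 := fun e => n2 (β.injective (by rw [e, map_one]))
  have hb := h.stab a ha
  have hb2 := h.stab _ hb
  have hall : ∀ x ∈ A, x = 1 ∨ x = a ∨ x = β a ∨ x = β (β a) := by
    by_contra hcon
    push Not at hcon
    obtain ⟨x, hx, x1, x2, x3, x4⟩ := hcon
    have h5 : ({x, 1, a, β a, β (β a)} : Finset X).card = 5 := by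
      rw [Finset.card_insert_of_notMem (by simp [x1, x2, x3, x4]),
        Finset.card_insert_of_notMem (by simp [n1.symm, n2.symm, n3.symm]),
        Finset.card_insert_of_notMem (by simp [h1.symm, h3.symm]),
        Finset.card_insert_of_notMem (by simp [h2.symm]), Finset.card_singleton]
    have h6 : ((({x, 1, a, β a, β (β a)} : Finset X) : Set X)) ⊆ (A : Set X) := by
      intro y hy
      simp only [Finset.coe_insert, Finset.coe_singleton, Set.mem_insert_iff, Set.mem_singleton_iff] at hy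
      rcases hy with rfl | rfl | rfl | rfl | rfl
      · exact hx
      · exact A.one_mem
      · exact ha
      · exact hb
      · exact hb2
    have h7 := Set.ncard_le_ncard h6 (Set.toFinite _)
    rw [Set.ncard_coe_finset, h5] at h7
    have h8 : (A : Set X).ncard = 4 := by rw [← h.card]; rfl
    omega
  refine ⟨⟨h.fix a ha, h.inv a ha, n1, ?_⟩, hall⟩
  have s2 := h.inv _ hb2
  rcases hall _ (A.mul_mem ha hb) with e | e | e | e
  · exfalso
    apply h1
    calc β a = a * a * β a := by rw [h.inv a ha, one_mul]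
      _ = a * (a * β a) := by group
      _ = a := by rw [e, mul_one]
  · exfalso
    apply n2
    calc β a = a⁻¹ * (a * β a) := by group
      _ = 1 := by rw [e]; group
  · exfalso
    apply n1
    calc a = (a * β a) * (β a)⁻¹ := by group
      _ = 1 := by rw [e]; group
  · rw [e, s2]

/-- **(EX4) from the triples** -/
theorem ex4_of_twoTri (hZ : center X = ⊥) (h : TwoTri X) : EX4 X := by
  intro α β A hbad
  obtain ⟨a, ha, hm⟩ := hbad.move
  obtain ⟨ta, -⟩ := hbad.tri ha hm
  rcases h α β hbad.sq hbad.ne hbad.cube hbad.beta_ne hbad.comm with hk | ⟨b, c, tb, tc, n1, n2, n3⟩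
  · exact hk a ta
  · have hb := hbad.mem_of_tri hZ tb
    have hc := hbad.mem_of_tri hZ tc
    have hbm : β b ≠ b := by
      intro e
      have h1 := tb.tri
      rw [e, e, tb.sq, one_mul] at h1
      exact tb.ne h1
    rcases (hbad.tri hb hbm).2 c hc with e | e | e | e
    · exact tc.ne e
    · exact n1 e
    · exact n2 e
    · exact n3 e

omit [Finite X] in
/-- transport -/
theorem ex4_of_equiv {Y : Type*} [Group Y] [Finite Y] (e : X ≃* Y) (hZ : center Y = ⊥) (h : TwoTri Y) : EX4 X := by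
  haveI : Finite X := Finite.of_equiv _ e.symm.toEquiv
  refine ex4_of_twoTri ?_ (twoTri_of_iso e.symm h)
  rw [eq_bot_iff]
  intro x hx
  have h1 : e x ∈ center Y := by
    rw [mem_center_iff]
    intro y
    obtain ⟨y, rfl⟩ := e.surjective y
    rw [← map_mul, mem_center_iff.1 hx, map_mul]
  rw [hZ, mem_bot] at h1
  exact mem_bot.2 (e.injective (by rw [h1, map_one]))

end finite

end Cfsg.Agent.OddHalf.NI3.ExFour
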