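import Cfsg.Agent.OddHalf.NI3.Bad.IntM24
import Cfsg.Agent.OddHalf.NI3.Bad.ExM12Data
import Cfsg.Agent.Omega.TwoF.RowM12

/-!
# (EX4), row `M12`: triples (helper941)

`pair` : all pairs of commuting elements of order 2 and 3 of `M12` are fine (`ExTri.Pair`).
-/

set_option autoImplicit false

namespace Cfsg.Agent.OddHalf.NI3.ExM12

open scoped Pointwise
open Subgroup Cfsg Cfsg.Agent.SporadicA.GolayBase Cfsg.Agent.SporadicA.GolayPerm
open Cfsg.Agent.SporadicStructure.M24El Cfsg.Agent.KFacts.MM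
open Cfsg.Agent.OddHalf.NI3.ExTri Cfsg.Agent.OddHalf.NI3.TriM24 Cfsg.Agent.OddHalf.NI3.IntM24
open Cfsg.Agent.OddHalf.NI3.ExM12Data

/-- the dodecad -/
def dM : ℕ := 340831

theorem maskOf_dod : maskOf Spor.squareDodecad = dM := by
  rw [MTwelveType.SylowModel.squareDodecad_eq]
  decide +kernel

/-- Boolean test for membership in `M12` -/
def ok12 (P : ℕ) : Bool := isPerm P && isAut P && Nat.beq (pimg P dM) dM

/-- the points of the dodecad are preserved -/
def adm (j a : ℕ) : Bool := Nat.testBit dM j == Nat.testBit dM a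

theorem mem_iff {g : Equiv.Perm GolayPt} : g ∈ Spor.M12 ↔ g ∈ M24 ∧ g • Spor.squareDodecad = Spor.squareDodecad := by
  have h1 : g ∈ MulAction.stabilizer (Equiv.Perm GolayPt) Spor.squareDodecad ↔
      g • Spor.squareDodecad = Spor.squareDodecad := MulAction.mem_stabilizer_iff
  rw [← h1]
  exact mem_inf

theorem of_ok12 (P : ℕ) (h : ok12 P = true) : isPerm P = true ∧ El.pm P ∈ Spor.M12 := by
  unfold ok12 at h
  rw [Bool.and_eq_true, Bool.and_eq_true, Nat.beq_eq] at h
  obtain ⟨⟨h1, h2⟩, h3⟩ := h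
  refine ⟨h1, mem_iff.2 ⟨El.pm_mem_M24 h1 h2, ?_⟩⟩
  apply maskOf_injective
  rw [El.pm_eq h1, maskOf_smul h1, maskOf_dod, h3]

theorem adm_of {g : Equiv.Perm GolayPt} (hg : g ∈ Spor.M12) (j : ℕ) (hj : j < 24) :
    adm j (El.val g j) = true := by
  unfold adm
  rw [beq_iff_eq, ← maskOf_dod]
  have h1 : ∀ p : GolayPt, (maskOf Spor.squareDodecad).testBit (idx p) = true ↔ p ∈ Spor.squareDodecad := by
    intro p
    rw [testBit_maskOf, decide_eq_true_eq]
  have h2 : El.val g j = idx (g (pt j)) := rfl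
  have h3 : j = idx (pt j) := (idx_pt hj).symm
  rw [Bool.eq_iff_iff, h2, h1]
  nth_rw 1 [h3]
  rw [h1]
  have h4 := (mem_iff.1 hg).2
  constructor
  · intro h5
    rw [← h4]
    exact Finset.smul_mem_smul_finset h5
  · intro h5
    rw [← h4] at h5
    obtain ⟨q, hq, hqe⟩ := Finset.mem_smul_finset.1 h5
    rwa [← g.injective hqe]

theorem chkA1 : chkN adm vA [tA] TA [[0], [0, 0]] RA WA [[0], [1], [0, 0], [1, 0]] GA = true := by decide +kernel

theorem chkB1 : chkN adm vB [i1, i2] TB [[0], [0, 0], [1], [1, 1], [0, 1]] RB WB [] GB = true := by decide +kernel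

theorem chkA2 : chkA ok12 vA TA AA = true := by decide +kernel

theorem chkB2 : chkA ok12 vB TB AB = true := by decide +kernel

theorem chk3 : chkE ok12 [vA, vB] EL CL = true := by decide +kernel

theorem chk4 : chkG EL = true := by decide +kernel

theorem chk5 : El.dist (EL.map fun P => [P]) = true := by decide +kernel

theorem chk6 : EL.all ok12 = true := by decide +kernel

theorem chkA7 : ok12 vA = true := by decide +kernel

theorem chkB7 : ok12 vB = true := by decide +kernel

theorem chkA8 : El.weq [vA, vA, vA] [] = true := by decide +kernel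

theorem chkB8 : El.weq [vB, vB, vB] [] = true := by decide +kernel

theorem chkA9 : TA.all ok12 = true := by decide +kernel

theorem chkB9 : TB.all ok12 = true := by decide +kernel

theorem goodA : GoodCls (Spor.M12.subgroupOf Spor.M12) (⟨El.pm vA, (of_ok12 vA chkA7).2⟩ : Spor.M12) :=
  goodCls' (fun _ hg => (mem_iff.1 hg).1) (fun _ hg j hj => adm_of hg j hj) le_rfl of_ok12 of_ok12 chkA7 chkA8 chkA9
    chkA1 chkA2

theorem goodB : GoodCls (Spor.M12.subgroupOf Spor.M12) (⟨El.pm vB, (of_ok12 vB chkB7).2⟩ : Spor.M12) :=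
  goodCls' (fun _ hg => (mem_iff.1 hg).1) (fun _ hg j hj => adm_of hg j hj) le_rfl of_ok12 of_ok12 chkB7 chkB8 chkB9
    chkB1 chkB2

/-- the elements of order 3 of `M12` -/
theorem rep (b : Spor.M12) (hb : b * b * b = 1) (hb1 : b ≠ 1) :
    ∃ w : Spor.M12, w * b * w⁻¹ = (⟨El.pm vA, (of_ok12 vA chkA7).2⟩ : Spor.M12) ∨
      w * b * w⁻¹ = (⟨El.pm vB, (of_ok12 vB chkB7).2⟩ : Spor.M12) := by
  have hV : ∀ P ∈ [vA, vB], ok12 P = true := by
    intro P hP
    rcases List.mem_cons.1 hP with rfl | hP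
    · exact chkA7
    · rw [List.mem_singleton.1 hP]
      exact chkB7
  obtain ⟨P, hP, w, hw⟩ := exists_rep (D := Spor.M12) of_ok12 chk3 chk4 chk5
    (fun P hP => (of_ok12 P (List.all_eq_true.1 chk6 P hP)).2) (fun P hP => (of_ok12 P (hV P hP)).1)
    (fun P hP => (of_ok12 P (hV P hP)).2) (k := 3) (m := 3520) (by decide)
    (by rw [MTwelveType.SylowModel.card_M12]; norm_num) (by norm_num) b hb hb1
  refine ⟨w, ?_⟩
  rcases List.mem_cons.1 hP with rfl | hP'
  · left; exact hw
  · right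
    obtain rfl := List.mem_singleton.1 hP'
    exact hw

/-- **triples of `M12`** -/
theorem pair : ∀ g b : Spor.M12, g * g = 1 → g ≠ 1 → b * b * b = 1 → b ≠ 1 → g * b = b * g →
    Pair (Spor.M12.subgroupOf Spor.M12) g b := by
  haveI hn : (Spor.M12.subgroupOf Spor.M12).Normal := by
    rw [subgroupOf_self]; infer_instance
  apply all_of_cls
  intro b hb hb1
  obtain ⟨w, hw | hw⟩ := rep b hb hb1
  · exact ⟨_, goodA, w, Or.inl hw⟩
  · exact ⟨_, goodB, w, Or.inl hw⟩

end Cfsg.Agent.OddHalf.NI3.ExM12
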