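import Cfsg.Agent.OddHalf.D4.M22.CenCert

/-!
# Data for (EX4), row `M22`

`vP`, `wP` generate a Sylow 3-subgroup `EL`; `CL` : elements conjugating `vP` to the elements `≠ 1` of `EL`; `oP`, `iP`
generate a Sylow 2-subgroup `TL` (dihedral of order 8) of the centraliser of `vP` in `M22:2`; `RL`, `WL`, `GO` : the
certificate for the centraliser of `vP`, `oP`, `iP`; `AL` : for every involution of `TL` two triples.
-/

set_option autoImplicit false

namespace Cfsg.Agent.OddHalf.NI3.ExM22Data

open Cfsg.Agent.OddHalf.D4.M22

def vP : ℕ := 977027255965144737490240734443378208

def wP : ℕ := 975640059973824261584930875182713376

def EL : List ℕ := [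
  984818244535754528103549039458486304,
  970455359665080513381196204695730208,
  966563679126324516858132822367966304,
  977027255965144737490240734443378208,
  964038917760814939315992205756774496,
  964850293970518376250064759759672352,
  972646334643299531276817558171846752,
  960966209524446423985309039535897120,
  975640059973824261584930875182713376]

def CL : List (ℕ × ℕ × ℕ) := [
  (970455359665080513381196204695730208, 958121162729083088771854904152347296, 977027255965144737490240734443378208),
  (966563679126324516858132822367966304, 970095460666714840091649552862479520, 977027255965144737490240734443378208),
  (977027255965144737490240734443378208, 984365680350160995411508286273403424, 977027255965144737490240734443378208),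
  (964038917760814939315992205756774496, 973054518210042674313238929715267616, 977027255965144737490240734443378208),
  (964850293970518376250064759759672352, 972677880605626369731820906460009056, 977027255965144737490240734443378208),
  (972646334643299531276817558171846752, 960997620355009749992569968780529280, 977027255965144737490240734443378208),
  (960966209524446423985309039535897120, 976893884453402141016485561230328896, 977027255965144737490240734443378208),
  (975640059973824261584930875182713376, 959487685147535897104303799026460224, 977027255965144737490240734443378208)]

def oP : ℕ := 24225226902548029001006560607014071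

def iP : ℕ := 966182099583441531322624363496310816

def TL : List ℕ := [
  984818244535754528103549039458486304,
  979121071158219704299181131031480352,
  966182099583441531322624363496310816,
  961365507626256404119956257276790816,
  24225226902548029001006560607014071,
  28948844618502962286216463385693367,
  5617802166400001018974370067975351,
  11164560870374693308099104207867063]

def RL : List CenCert.Root := [
  (0, [0, 23], []),
  (1, [1, 2, 3, 5, 14, 17], [[2]]),
  (4, [4, 7, 8, 9, 11, 13, 15, 21], [[1]]),
  (9, [9, 21], [[1, 0]])]

def WL : List (ℕ × List ℕ) := [
  (0, []),
  (1, []),
  (1, [1, 0, 0]),
  (1, [0, 0]),
  (2, []),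
  (1, [1]),
  (2, [1, 2, 0, 0]),
  (2, [0, 0]),
  (2, [2, 1, 2]),
  (3, []),
  (3, [1, 2]),
  (2, [2, 1, 2, 0]),
  (2, [2, 0]),
  (2, [0]),
  (1, [1, 0]),
  (2, [2, 1, 2, 0, 0]),
  (2, [1, 2, 0]),
  (1, [0]),
  (2, [2]),
  (3, [2]),
  (2, [2, 0, 0]),
  (3, [2, 1, 2]),
  (2, [1, 2]),
  (0, [1])]

def GO : List ℕ := [
  964038917760814939315992205756774496,
  979121071158219704299181131031480352,
  971352900320326150117627781840934432,
  984818244535754528103549039458486304,
  981729875674948251295774436335597664,
  977027255965144737490240734443378208]

def AL : List (ℕ × ℕ × ℕ) := [
  (979121071158219704299181131031480352, 969231174250762110498729277811427488, 976448692869377735270425038196672544),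
  (966182099583441531322624363496310816, 976448692869377735270425038196672544, 984686412000481665237904396589909024),
  (961365507626256404119956257276790816, 961438956620049001677386430328277024, 976448692869377735270425038196672544),
  (24225226902548029001006560607014071, 976448692869377735270425038196672544, 964046246854116924572671177954233376),
  (28948844618502962286216463385693367, 976448692869377735270425038196672544, 969240118097008726526406917528625184)]

end Cfsg.Agent.OddHalf.NI3.ExM22Data
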