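import Cfsg.Agent.OddHalf.D9.Ru.XCover
import Cfsg.Agent.OddHalf.D9.Ru.XR
import Cfsg.Agent.KFacts.Ru.Core

/-!
# NIB, (EX4), the Rudvalis group: elements of order three in centralizers of involutions

`main`: let `z` be an involution of the Rudvalis group. Then no element of order three commutes with `z`, or there is a
2-group `B`, normal in the centralizer of `z`, such that for `b` of order three commuting with `z` there is `x ∈ B` such
that `[x, b]` is not an involution.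
-/

set_option autoImplicit false
set_option maxRecDepth 100000
set_option exponentiation.threshold 5000

namespace Cfsg.Agent.OddHalf.NI3.Bad.ExRuK

open Subgroup Cfsg.Agent.SporadicB Cfsg.Agent.SporadicB.RuOrder Cfsg.Agent.RuD.Letters
open Cfsg.Agent.SporRec.TCUpperCert Cfsg.Agent.OddHalf.D9.Ru
open Cfsg.Agent.OddHalf.D9.Ru.XDef Cfsg.Agent.OddHalf.D9.Ru.XChk Cfsg.Agent.OddHalf.D9.Ru.XLevel

/-- a word which moves a point is not trivial -/
theorem V_ne {w : List ℕ} {p : ℕ} (hp : p < 4060) (h : Nat.beq (evalK (w.flatMap ex) p) p = false) : V w ≠ 1 := by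
  intro h1
  have h2 := evalK_eq (w.flatMap ex) ⟨p, hp⟩
  rw [show wprod ml (w.flatMap ex) = (1 : RuOrder.H) from h1] at h2
  have h3 : evalK (w.flatMap ex) p = p := h2.symm
  rw [h3] at h
  have h4 : Nat.beq p p = true := Nat.beq_refl p
  rw [h4] at h
  exact absurd h (by decide)

theorem V_cons2 (a b : ℕ) (l : List ℕ) : V (a :: b :: l) = V [a] * V (b :: l) := V_cons a _

/-- `s₁ T ∈ R` -/
theorem x_mem : V [1, 0] ∈ XR.R := XR.G_mem_R (l := [0]) rfl

theorem c1 : Nat.beq (evalK (([1, 0, 2, 0, 4, 5, 1, 0, 2, 0, 4, 5] : List ℕ).flatMap ex) 0) 0 = false := by decide +kernel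
theorem c2 : Nat.beq (evalK (([1, 0, 5, 0, 4, 2, 1, 0, 5, 0, 4, 2] : List ℕ).flatMap ex) 0) 0 = false := by decide +kernel

/-- elements of order three are conjugate up to inversion if 9 does not divide the order -/
theorem conj_three {C : Type*} [Group C] [Finite C] (h9 : ¬ 9 ∣ Nat.card C) {b d : C} (hb : orderOf b = 3)
    (hd : orderOf d = 3) : ∃ g : C, b = g * d * g⁻¹ ∨ b = g * d⁻¹ * g⁻¹ := by
  have : Fact (Nat.Prime 3) := ⟨Nat.prime_three⟩
  have syl : ∀ x : C, orderOf x = 3 → ∃ P : Sylow 3 C, (P : Subgroup C) = zpowers x := by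
    intro x hx
    have hp : IsPGroup 3 (zpowers x) := IsPGroup.of_card (n := 1) (by rw [Nat.card_zpowers, hx, pow_one])
    obtain ⟨P, hP⟩ := hp.exists_le_sylow
    refine ⟨P, ?_⟩
    obtain ⟨k, hk⟩ := (IsPGroup.iff_card.1 P.isPGroup')
    have h1 : k ≤ 1 := by
      by_contra hlt
      apply h9
      have h2 : (3 : ℕ) ^ 2 ∣ 3 ^ k := pow_dvd_pow 3 (by omega)
      rw [← hk] at h2
      exact h2.trans (Subgroup.card_subgroup_dvd_card _)
    symm
    apply Subgroup.eq_of_le_of_card_ge hP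
    rw [Nat.card_zpowers, hx]
    have h3 : Nat.card ↥(P : Subgroup C) = 3 ^ k := hk
    rw [h3]
    calc 3 ^ k ≤ 3 ^ 1 := Nat.pow_le_pow_right (by norm_num) h1
      _ = 3 := pow_one 3
  obtain ⟨P, hP⟩ := syl b hb
  obtain ⟨Q, hQ⟩ := syl d hd
  obtain ⟨g, hg⟩ := MulAction.exists_smul_eq C Q P
  have h1 : b ∈ (P : Subgroup C) := by rw [hP]; exact mem_zpowers b
  rw [← hg, Sylow.coe_subgroup_smul, Subgroup.mem_pointwise_smul_iff_inv_smul_mem, hQ] at h1
  have h2 : g⁻¹ * b * g ∈ zpowers d := by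
    have : (MulAut.conj g)⁻¹ • b = g⁻¹ * b * g := by
      rw [← map_inv, MulAut.smul_def, MulAut.conj_apply, inv_inv]
    rw [← this]; exact h1
  obtain ⟨k, hk⟩ := mem_zpowers_iff.1 h2
  refine ⟨g, ?_⟩
  have e : b = g * (g⁻¹ * b * g) * g⁻¹ := by group
  have h3 : d ^ (k % 3) = d ^ k := by
    have := zpow_mod_orderOf d k
    rwa [hd] at this
  have h4 : k % 3 = 0 ∨ k % 3 = 1 ∨ k % 3 = 2 := by omega
  rcases h4 with h4 | h4 | h4
  · exfalso
    rw [h4, zpow_zero] at h3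
    rw [← h3] at hk
    have : b = 1 := by rw [e, ← hk]; group
    rw [this, orderOf_one] at hb
    exact absurd hb (by norm_num)
  · left
    rw [h4, zpow_one] at h3
    rw [e, ← hk, ← h3]
  · right
    have h5 : d ^ (2 : ℤ) = d⁻¹ := by
      rw [eq_inv_iff_mul_eq_one]
      calc d ^ (2 : ℤ) * d = d ^ (3 : ℤ) := by group
        _ = d ^ (3 : ℕ) := by norm_cast
        _ = 1 := by rw [← hd, pow_orderOf_eq_one]
    rw [h4, h5] at h3
    rw [e, ← hk, ← h3]

/-- `B` is a 2-group normal in the centralizer of `z`, no element of order three centralizes it -/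
structure Good (z : RuOrder.H) (B : Subgroup RuOrder.H) : Prop where
  two : IsPGroup 2 B
  comm : ∀ x ∈ B, x * z = z * x
  nor : ∀ g : RuOrder.H, g * z = z * g → ∀ x ∈ B, g * x * g⁻¹ ∈ B
  three : ∀ b : RuOrder.H, b * z = z * b → b * b * b = 1 → b ≠ 1 → ∃ x ∈ B, x * b * x⁻¹ * b⁻¹ * (x * b * x⁻¹ * b⁻¹) ≠ 1

theorem Good.conj {z : RuOrder.H} {B : Subgroup RuOrder.H} (h : Good z B) (g : RuOrder.H) :
    Good (g * z * g⁻¹) (B.map (MulAut.conj g).toMonoidHom) where
  two := h.two.map _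
  comm := by
    rintro _ ⟨y, hy, rfl⟩
    show g * y * g⁻¹ * (g * z * g⁻¹) = g * z * g⁻¹ * (g * y * g⁻¹)
    calc g * y * g⁻¹ * (g * z * g⁻¹) = g * (y * z) * g⁻¹ := by group
      _ = g * (z * y) * g⁻¹ := by rw [h.comm y hy]
      _ = _ := by group
  nor := by
    rintro k hk _ ⟨y, hy, rfl⟩
    refine ⟨g⁻¹ * k * g * y * (g⁻¹ * k * g)⁻¹, h.nor (g⁻¹ * k * g) ?_ y hy, ?_⟩
    · calc g⁻¹ * k * g * z = g⁻¹ * (k * (g * z * g⁻¹)) * g := by group
        _ = g⁻¹ * (g * z * g⁻¹ * k) * g := by rw [hk]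
        _ = _ := by group
    · show g * (g⁻¹ * k * g * y * (g⁻¹ * k * g)⁻¹) * g⁻¹ = k * (g * y * g⁻¹) * k⁻¹
      group
  three := by
    intro b hbz hb hb1
    obtain ⟨x, hx, h4⟩ := h.three (g⁻¹ * b * g)
      (by
        calc g⁻¹ * b * g * z = g⁻¹ * (b * (g * z * g⁻¹)) * g := by group
          _ = g⁻¹ * (g * z * g⁻¹ * b) * g := by rw [hbz]
          _ = _ := by group)
      (by
        calc g⁻¹ * b * g * (g⁻¹ * b * g) * (g⁻¹ * b * g) = g⁻¹ * (b * b * b) * g := by group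
          _ = 1 := by rw [hb]; group)
      (by
        intro h1
        apply hb1
        calc b = g * (g⁻¹ * b * g) * g⁻¹ := by group
          _ = 1 := by rw [h1]; group)
    refine ⟨g * x * g⁻¹, ⟨x, hx, rfl⟩, fun h5 => h4 ?_⟩
    calc x * (g⁻¹ * b * g) * x⁻¹ * (g⁻¹ * b * g)⁻¹ * (x * (g⁻¹ * b * g) * x⁻¹ * (g⁻¹ * b * g)⁻¹) =
        g⁻¹ * (g * x * g⁻¹ * b * (g * x * g⁻¹)⁻¹ * b⁻¹ * (g * x * g⁻¹ * b * (g * x * g⁻¹)⁻¹ * b⁻¹)) * g := by group
      _ = 1 := by rw [h5]; group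

/-- `R` is normal in the centralizer of `S * S` -/
theorem R_norm {g : RuOrder.H} (hg : g ∈ centralizer ({S * S} : Set RuOrder.H)) {r : RuOrder.H} (hr : r ∈ XR.R) :
    g * r * g⁻¹ ∈ XR.R := by
  -- `h R h ≤ R`
  have key : ∀ r ∈ XR.R, XCover.h * r * XCover.h ∈ XR.R := by
    have h1 := XR.R_max (XR.R.map (MulAut.conj XCover.h).toMonoidHom) ?_ (XR.R_two.map _) ?_
    · intro r hr
      have h2 := h1 (mem_map_of_mem _ hr)
      have h3 : (MulAut.conj XCover.h).toMonoidHom r = XCover.h * r * XCover.h⁻¹ := rfl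
      rwa [h3, XCover.h_inv] at h2
    · rintro _ ⟨y, hy, rfl⟩
      show XCover.h * y * XCover.h⁻¹ ∈ P1
      rw [XCover.h_inv]
      exact XCover.conj_h y (XR.R_le hy)
    · rintro k hk _ ⟨y, hy, rfl⟩
      refine ⟨XCover.h * k * XCover.h * y * (XCover.h * k * XCover.h)⁻¹, XR.R_nor _ (XCover.conj_h k hk) y hy, ?_⟩
      show XCover.h * (XCover.h * k * XCover.h * y * (XCover.h * k * XCover.h)⁻¹) * XCover.h⁻¹ =
        k * (XCover.h * y * XCover.h⁻¹) * k⁻¹
      have hh := XCover.hh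
      calc XCover.h * (XCover.h * k * XCover.h * y * (XCover.h * k * XCover.h)⁻¹) * XCover.h⁻¹ =
          (XCover.h * XCover.h) * k * XCover.h * y * XCover.h⁻¹ * k⁻¹ * (XCover.h * XCover.h)⁻¹ := by group
        _ = _ := by rw [hh]; group
  rw [← XCover.M_eq] at hg
  rcases XCover.mem_M.1 hg with h1 | h1
  · exact XR.R_nor g h1 r hr
  · have h2 := key _ (XR.R_nor _ h1 r hr)
    have e : XCover.h * (XCover.h * g * r * (XCover.h * g)⁻¹) * XCover.h = g * r * g⁻¹ := by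
      have hh := XCover.hh
      calc XCover.h * (XCover.h * g * r * (XCover.h * g)⁻¹) * XCover.h = (XCover.h * XCover.h) * (g * r * g⁻¹) * XCover.h⁻¹ * XCover.h := by group
        _ = _ := by rw [hh]; group
    rwa [e] at h2

theorem D_three : D * D * D = 1 := Cfsg.Agent.KFacts.Ru.lets_model.d3

theorem D_ne : D ≠ 1 := by
  intro h
  have h1 := Cfsg.Agent.KFacts.Ru.lets_model.vv_ne (a := (1, 1)) (by decide)
  apply h1
  rw [Cfsg.Agent.KFacts.Ru.vv_11, h]
  have := Cfsg.Agent.KFacts.Ru.lets_model.tsq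
  rw [one_mul, inv_one, mul_one, this]

theorem goodD : V [1, 0] * D * (V [1, 0])⁻¹ * D⁻¹ * (V [1, 0] * D * (V [1, 0])⁻¹ * D⁻¹) ≠ 1 := by
  have h := V_ne (by norm_num) c1
  intro h1
  apply h
  rw [← h1]
  have e1 : V [1, 0] = S1 * T := by rw [V_cons, V0, V1]
  have e2 : V [1, 0, 2, 0, 4, 5, 1, 0, 2, 0, 4, 5] = S1 * (T * (D * (T * (S1⁻¹ * (D⁻¹ * (S1 * (T * (D * (T * (S1⁻¹ * D⁻¹)))))))))) := by
    simp only [V_cons2, V0, V1, V2, V4, V5]
  have hT : T⁻¹ = T := XCover.T_inv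
  rw [e1, e2, mul_inv_rev, hT]
  group

theorem goodD' : V [1, 0] * D⁻¹ * (V [1, 0])⁻¹ * D⁻¹⁻¹ * (V [1, 0] * D⁻¹ * (V [1, 0])⁻¹ * D⁻¹⁻¹) ≠ 1 := by
  have h := V_ne (by norm_num) c2
  intro h1
  apply h
  rw [← h1]
  have e1 : V [1, 0] = S1 * T := by rw [V_cons, V0, V1]
  have e2 : V [1, 0, 5, 0, 4, 2, 1, 0, 5, 0, 4, 2] = S1 * (T * (D⁻¹ * (T * (S1⁻¹ * (D * (S1 * (T * (D⁻¹ * (T * (S1⁻¹ * D)))))))))) := by
    simp only [V_cons2, V0, V1, V2, V4, V5]
  have hT : T⁻¹ = T := XCover.T_inv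
  rw [e1, e2, mul_inv_rev, hT, inv_inv]
  group

/-- the centralizer of `T` has no element of order three -/
theorem cent_T {b : RuOrder.H} (hb : b * b * b = 1) (hbT : b * T = T * b) : b = 1 := by
  obtain ⟨C, -, hL, hv, -, -, -⟩ := Cfsg.Agent.KFacts.Ru.lets_model.exists_core
  have h10 : C.v (1, 0) = T := by rw [hv, Cfsg.Agent.KFacts.Ru.vv_one0]
  obtain ⟨a, l, hl, rfl⟩ := C.cent (1, 0) (by decide) b (by rw [h10]; exact hbT)
  have hvl := C.v_comm a l hl
  have e3 : ∀ a : Cfsg.Agent.RuB.A4, a + a + a = a := by decide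
  have h3 : C.v a * l * (C.v a * l) * (C.v a * l) = C.v a * (l * l * l) := by
    calc C.v a * l * (C.v a * l) * (C.v a * l) = C.v a * (l * C.v a) * (l * (C.v a * l)) := by group
      _ = C.v a * (C.v a * l) * (l * (C.v a * l)) := by rw [← hvl]
      _ = C.v a * C.v a * (l * l * C.v a) * l := by group
      _ = C.v a * C.v a * (C.v a * (l * l)) * l := by
        rw [C.v_comm a (l * l) (C.L.mul_mem hl hl)]
      _ = C.v a * C.v a * C.v a * (l * l * l) := by group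
      _ = C.v a * (l * l * l) := by rw [← C.v_add, ← C.v_add, e3]
  rw [h3] at hb
  have h4 : a = 0 := by
    apply C.v_notin a
    rw [eq_inv_of_mul_eq_one_left hb]
    exact C.L.inv_mem (C.L.mul_mem (C.L.mul_mem hl hl) hl)
  subst h4
  have hv0 : C.v 0 = 1 := by
    have := C.v_add 0 0
    rw [add_zero] at this
    exact left_eq_mul.mp this
  rw [hv0, one_mul] at hb
  rw [hv0, one_mul]
  -- the order of `l` divides 3 and 29120
  have hc : Nat.card C.L = 29120 := by rw [hL]; exact Cfsg.Agent.KFacts.Ru.lets_model.card_L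
  have h5 : orderOf (⟨l, hl⟩ : C.L) ∣ 3 := by
    apply orderOf_dvd_of_pow_eq_one
    apply Subtype.ext
    show l ^ 3 = 1
    rw [pow_succ, pow_two, hb]
  have h6 : orderOf (⟨l, hl⟩ : C.L) ∣ 29120 := by rw [← hc]; exact orderOf_dvd_natCard _
  have h7 : orderOf (⟨l, hl⟩ : C.L) ∣ Nat.gcd 3 29120 := Nat.dvd_gcd h5 h6
  have h8 : orderOf (⟨l, hl⟩ : C.L) = 1 := Nat.dvd_one.1 (h7.trans (by norm_num))
  exact congrArg Subtype.val (orderOf_eq_one_iff.1 h8)

theorem good_SS : Good (S * S) XR.R where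
  two := XR.R_two
  comm := fun x hx => XR.z_comm x (XR.R_le hx)
  nor := fun g hg x hx => R_norm (mem_centralizer_singleton_iff.2 hg) hx
  three := by
    intro b hbz hb hb1
    have hbm : b ∈ centralizer ({S * S} : Set RuOrder.H) := mem_centralizer_singleton_iff.2 hbz
    have hDm : D ∈ centralizer ({S * S} : Set RuOrder.H) := XCover.P1_le D_mem
    have ord : ∀ (x : RuOrder.H) (hx : x ∈ centralizer ({S * S} : Set RuOrder.H)), x * x * x = 1 → x ≠ 1 →
        orderOf (⟨x, hx⟩ : centralizer ({S * S} : Set RuOrder.H)) = 3 := by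
      intro x hx h3 h1
      apply orderOf_eq_prime
      · apply Subtype.ext
        show x ^ 3 = 1
        rw [pow_succ, pow_two, h3]
      · intro h
        exact h1 (congrArg Subtype.val h)
    obtain ⟨k, hk⟩ := conj_three (by rw [XCover.card_cent]; decide) (ord b hbm hb hb1) (ord D hDm D_three D_ne)
    refine ⟨k * V [1, 0] * (k : RuOrder.H)⁻¹, R_norm k.2 x_mem, ?_⟩
    rcases hk with hk | hk
    · have h1 : b = k * D * (k : RuOrder.H)⁻¹ := congrArg Subtype.val hk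
      intro h2
      apply goodD
      rw [h1] at h2
      generalize V [1, 0] = x at *
      calc x * D * x⁻¹ * D⁻¹ * (x * D * x⁻¹ * D⁻¹) = (k : RuOrder.H)⁻¹ * (k * x * (k : RuOrder.H)⁻¹ * (k * D * (k : RuOrder.H)⁻¹) *
            (k * x * (k : RuOrder.H)⁻¹)⁻¹ * (k * D * (k : RuOrder.H)⁻¹)⁻¹ * (k * x * (k : RuOrder.H)⁻¹ *
            (k * D * (k : RuOrder.H)⁻¹) * (k * x * (k : RuOrder.H)⁻¹)⁻¹ * (k * D * (k : RuOrder.H)⁻¹)⁻¹)) * k := by group
        _ = 1 := by rw [h2]; group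
    · have h1 : b = k * D⁻¹ * (k : RuOrder.H)⁻¹ := congrArg Subtype.val hk
      intro h2
      apply goodD'
      rw [h1] at h2
      generalize V [1, 0] = x at *
      calc x * D⁻¹ * x⁻¹ * D⁻¹⁻¹ * (x * D⁻¹ * x⁻¹ * D⁻¹⁻¹) = (k : RuOrder.H)⁻¹ * (k * x * (k : RuOrder.H)⁻¹ *
            (k * D⁻¹ * (k : RuOrder.H)⁻¹) * (k * x * (k : RuOrder.H)⁻¹)⁻¹ * (k * D⁻¹ * (k : RuOrder.H)⁻¹)⁻¹ *
            (k * x * (k : RuOrder.H)⁻¹ * (k * D⁻¹ * (k : RuOrder.H)⁻¹) * (k * x * (k : RuOrder.H)⁻¹)⁻¹ *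
            (k * D⁻¹ * (k : RuOrder.H)⁻¹)⁻¹)) * k := by group
        _ = 1 := by rw [h2]; group

/-- **the fact**: every involution `z` is in the class 2A and there is `B` with `Good z B`, or no element of order
three commutes with `z` -/
theorem main {z : RuOrder.H} (hz : z * z = 1) (hz1 : z ≠ 1) :
    (∃ B, Good z B) ∨ ∀ b : RuOrder.H, b * z = z * b → b * b * b = 1 → b = 1 := by
  rcases isConj_or hz hz1 with h | h
  · obtain ⟨g, rfl⟩ := isConj_iff.1 h
    exact Or.inl ⟨_, good_SS.conj g⟩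
  · right
    intro b hbz hb
    obtain ⟨g, rfl⟩ := isConj_iff.1 h
    have h1 : g⁻¹ * b * g = 1 := by
      apply cent_T
      · calc g⁻¹ * b * g * (g⁻¹ * b * g) * (g⁻¹ * b * g) = g⁻¹ * (b * b * b) * g := by group
          _ = 1 := by rw [hb]; group
      · calc g⁻¹ * b * g * T = g⁻¹ * (b * (g * T * g⁻¹)) * g := by group
          _ = g⁻¹ * (g * T * g⁻¹ * b) * g := by rw [hbz]
          _ = _ := by group
    calc b = g * (g⁻¹ * b * g) * g⁻¹ := by group
      _ = 1 := by rw [h1]; group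

end Cfsg.Agent.OddHalf.NI3.Bad.ExRuK
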