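import Cfsg.Agent.OddHalf.NI3.Bad.StepOneOut
import Cfsg.Agent.Omega.Lie.Out.Small
import Cfsg.Agent.OddHalf.NI3.TC
import Cfsg.Agent.SignalizersComponents.IntrinsicDiag

/-!
# NI over `F₃`, THEOREM NIB, step (1): the criterion for `NoFix`

* `aut_fix` : `X` quasisimple with a classical `SL₂(3)` `J ∋ x`; an automorphism of order 3 trivial on `C(x)` is trivial;
* `noFix_of` : `NoFix X`, if `C_X(O₂(C(x))) = ⟨x⟩`.
-/

set_option autoImplicit false
set_option linter.style.haveILetI false

namespace Cfsg.Agent.OddHalf.NI3.Bad.NoFixOf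

open Subgroup Cfsg Cfsg.Agent.Cit Cfsg.Agent.Cit.SolvTwo Cfsg.Agent.OddHalf.NI3
open Cfsg.Agent.SignalizersComponents

universe u

/-! ### Automorphisms trivial on `C(x)` -/

theorem aut_fix (hT : TStmt.{u}) {X : Type u} [Group X] [Finite X] (hq : IsQuasisimple X)
    (h2 : IsPGroup 2 ↥(center X)) {x : X} {J : Subgroup X} (h : Cl x J) {β : MulAut X} (h3 : β * β * β = 1)
    (hc : ∀ c, c * x = x * c → β c = c) : β = 1 := by
  haveI : Finite (MulAut X) := inferInstance
  let B : Subgroup (MulAut X) := zpowers β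
  let φ : B →* MulAut X := B.subtype
  haveI : Finite (X ⋊[φ] B) := Finite.of_equiv _ SemidirectProduct.equivProd.symm
  let b : B := ⟨β, mem_zpowers β⟩
  let v : X ⋊[φ] B := SemidirectProduct.inr b
  let f : X →* X ⋊[φ] B := SemidirectProduct.inl
  have hf : Function.Injective f := SemidirectProduct.inl_injective
  have hv : ∀ y : X, v * f y * v⁻¹ = f (β y) := fun y => by
    show SemidirectProduct.inr b * SemidirectProduct.inl y * (SemidirectProduct.inr b)⁻¹ = SemidirectProduct.inl (β y)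
    rw [← map_inv, ← SemidirectProduct.inl_aut]
    rfl
  have hbx : ∀ g : B, ∀ c, c * x = x * c → (g : MulAut X) c = c := by
    rintro ⟨g, hg⟩ c hcx
    obtain ⟨n, rfl⟩ := mem_zpowers_iff.1 hg
    have h1 : β ∈ MulAction.stabilizer (MulAut X) c := hc c hcx
    exact (zpow_mem h1 n : β ^ n ∈ MulAction.stabilizer (MulAut X) c)
  -- the classical pair
  have hcl : Cl (f x) (J.map f) := by
    refine ⟨h.pr.map f (by rw [← map_one f]; exact fun h1 => h.pr.t3.z_ne (hf h1)), ?_⟩
    refine (h.sn.map f).trans ?_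
    refine Sn.of_normal ?_ ?_
    · rintro _ ⟨c, hc', rfl⟩
      rw [mem_centralizer_singleton_iff]
      have := mem_centralizer_singleton_iff.1 hc'
      rw [← map_mul, this, map_mul]
    · have key : ∀ y ∈ centralizer ({f x} : Set (X ⋊[φ] B)), ∀ z ∈ (centralizer ({x} : Set X)).map f,
          y * z * y⁻¹ ∈ (centralizer ({x} : Set X)).map f := by
        rintro y hy _ ⟨c, hc', rfl⟩
        have hcx := mem_centralizer_singleton_iff.1 hc'
        rw [mem_centralizer_singleton_iff] at hy
        -- `y = inl d * inr g`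
        have e1 : y = f y.left * SemidirectProduct.inr y.right := (SemidirectProduct.inl_left_mul_inr_right y).symm
        have e2 : ∀ w : X, y * f w * y⁻¹ = f (y.left * (y.right : MulAut X) w * y.left⁻¹) := by
          intro w
          have e3 : (SemidirectProduct.inr y.right : X ⋊[φ] B) * f w * (SemidirectProduct.inr y.right)⁻¹ =
              f ((y.right : MulAut X) w) := by
            show SemidirectProduct.inr y.right * SemidirectProduct.inl w * (SemidirectProduct.inr y.right)⁻¹ = _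
            rw [← map_inv, ← SemidirectProduct.inl_aut]
            rfl
          conv_lhs => rw [e1]
          rw [map_mul, map_mul, map_inv, ← e3]
          group
        have e4 : y.left * x = x * y.left := by
          have h1 := e2 x
          rw [hbx y.right x rfl, hy, mul_inv_cancel_right] at h1
          have h2 := hf h1
          exact (eq_mul_inv_iff_mul_eq.1 h2).symm
        rw [e2, hbx y.right c hcx]
        refine ⟨_, ?_, rfl⟩
        exact mul_mem (mul_mem (mem_centralizer_singleton_iff.2 e4) hc') (inv_mem (mem_centralizer_singleton_iff.2 e4))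
      intro y hy
      rw [mem_normalizer_iff]
      intro z
      refine ⟨key y hy z, fun hz => ?_⟩
      have := key y⁻¹ (inv_mem hy) _ hz
      have e : y⁻¹ * (y * z * y⁻¹) * y⁻¹⁻¹ = z := by group
      rwa [e] at this
  -- the group `X`
  have e : X ≃* ↥f.range := MonoidHom.ofInjective hf
  have hqr : IsQuasisimple ↥f.range := LayerBasic.quasisimple_congr e hq
  have h2r : IsPGroup 2 ↥(center ↥f.range) := isPGroup_center_congr e h2
  have hnr : v ∈ normalizer (f.range : Set (X ⋊[φ] B)) := by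
    rw [mem_normalizer_iff]
    intro z
    constructor
    · rintro ⟨y, rfl⟩
      rw [hv]
      exact ⟨_, rfl⟩
    · rintro ⟨y, hy⟩
      refine ⟨β⁻¹ y, ?_⟩
      have h1 := hv (β⁻¹ y)
      rw [MulAut.apply_inv_self, hy] at h1
      exact mul_left_cancel (mul_right_cancel h1)
  have hv3 : v * v * v = 1 := by
    show (SemidirectProduct.inr b : X ⋊[φ] B) * SemidirectProduct.inr b * SemidirectProduct.inr b = 1
    rw [← map_mul, ← map_mul]
    have : b * b * b = 1 := Subtype.ext h3
    rw [this, map_one]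
  have hfin := hcl.fix hT hqr h2r (by rintro _ ⟨y, _, rfl⟩; exact ⟨y, rfl⟩) hnr hv3 (by
    rintro _ ⟨c, rfl⟩ hcx
    rw [← map_mul, ← map_mul] at hcx
    have h1 := hv c
    rw [hc c (hf hcx)] at h1
    exact mul_inv_eq_iff_eq_mul.1 h1)
  apply MulEquiv.ext
  intro y
  have h1 := hfin (f y) ⟨y, rfl⟩
  have h4 := hv y
  rw [h1, mul_inv_cancel_right] at h4
  exact (hf h4).symm

/-! ### `O₂(C(x))` -/

section

variable {X : Type*} [Group X]

/-- `O₂(C(x))` -/
def P2 (x : X) : Subgroup X := (pCore 2 ↥(centralizer ({x} : Set X))).map (centralizer ({x} : Set X)).subtype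

theorem P2_le (x : X) : P2 x ≤ centralizer ({x} : Set X) := by
  rintro _ ⟨c, _, rfl⟩
  exact c.2

theorem P2_isPGroup [Finite X] (x : X) : IsPGroup 2 (P2 x) := by
  haveI : Fact (Nat.Prime 2) := ⟨Nat.prime_two⟩
  exact (Lib.Cores.pCore_isPGroup (G := ↥(centralizer ({x} : Set X))) 2).map _

theorem P2_conj {x c p : X} (hc : c * x = x * c) (hp : p ∈ P2 x) : c * p * c⁻¹ ∈ P2 x := by
  obtain ⟨q, hq, rfl⟩ := hp
  have hn : (pCore 2 ↥(centralizer ({x} : Set X))).Normal := Lib.Cores.pCore_normal 2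
  exact ⟨_, hn.conj_mem q hq ⟨c, mem_centralizer_singleton_iff.2 hc⟩, rfl⟩

theorem le_P2 {x : X} {N : Subgroup X} (h1 : N ≤ centralizer ({x} : Set X)) (h2 : IsPGroup 2 N)
    (h3 : ∀ c, c * x = x * c → ∀ n ∈ N, c * n * c⁻¹ ∈ N) : N ≤ P2 x := by
  have hn : (N.subgroupOf (centralizer ({x} : Set X))).Normal := by
    refine ⟨fun n hn c => ?_⟩
    rw [mem_subgroupOf] at hn ⊢
    exact h3 c (mem_centralizer_singleton_iff.1 c.2) n hn
  have h4 : N.subgroupOf (centralizer ({x} : Set X)) ≤ pCore 2 ↥(centralizer ({x} : Set X)) :=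
    Lib.Cores.le_pCore hn (h2.comap_subtype)
  intro n hn
  exact ⟨⟨n, h1 hn⟩, h4 (mem_subgroupOf.2 hn), rfl⟩

theorem le_P2_of_sn [Finite X] {x : X} {E : Subgroup X} (h : Sn E (centralizer ({x} : Set X))) (hp : IsPGroup 2 E) :
    E ≤ P2 x := by
  have h1 := CompBasic.subnormal_pGroup_le_pCore h.2 (hp.comap_subtype (K := centralizer ({x} : Set X)))
  intro n hn
  exact ⟨⟨n, h.1 hn⟩, h1 (mem_subgroupOf.2 hn), rfl⟩

theorem P2_map [Finite X] (φ : MulAut X) {x p : X} (hp : p ∈ P2 x) : φ p ∈ P2 (φ x) := by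
  have h1 : (P2 x).map φ.toMonoidHom ≤ P2 (φ x) := by
    refine le_P2 ?_ ((P2_isPGroup x).map _) ?_
    · rintro _ ⟨q, hq, rfl⟩
      rw [mem_centralizer_singleton_iff]
      show φ q * φ x = φ x * φ q
      rw [← map_mul, mem_centralizer_singleton_iff.1 (P2_le x hq), map_mul]
    · rintro c hc _ ⟨q, hq, rfl⟩
      refine ⟨φ⁻¹ c * q * (φ⁻¹ c)⁻¹, P2_conj ?_ hq, ?_⟩
      · apply φ.injective
        rw [map_mul, map_mul, MulAut.apply_inv_self, hc]
      · show φ (φ⁻¹ c * q * (φ⁻¹ c)⁻¹) = c * φ q * c⁻¹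
        rw [map_mul, map_mul, map_inv, MulAut.apply_inv_self]
  exact h1 ⟨p, hp, rfl⟩

end

/-! ### The criterion -/

/-- **The criterion.** -/
theorem noFix_of (hT : TStmt.{u}) {X : Type u} [Group X] [Finite X] [IsSimpleGroup X] (hna : ¬ IsMulCommutative X)
    {x : X} {J : Subgroup X} (h : Cl x J) {ι : Type*} (E : ι → Subgroup X)
    (hs : ∀ k, Sn (E k) (centralizer ({x} : Set X))) (hp : ∀ k, IsPGroup 2 (E k))
    (hc : ∀ g, (∀ k, ∀ e ∈ E k, g * e = e * g) → g = 1 ∨ g = x) : StepOne.NoFix X := by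
  intro α β hα hβ hαβ hfix
  haveI : Fact (Nat.Prime 2) := ⟨Nat.prime_two⟩
  haveI : Finite (MulAut X) := inferInstance
  have hinj := Omega.Lie.OutT.Small.conj_inj hna
  have hx1 : x ≠ 1 := h.pr.t3.z_ne
  have hxx : x * x = 1 := by rw [← pow_two, ← h.pr.ord, pow_orderOf_eq_one]
  have hxP : x ∈ P2 x := by
    refine (le_P2 (N := zpowers x) ?_ ?_ ?_) (mem_zpowers x)
    · rw [zpowers_le, mem_centralizer_singleton_iff]
    · rintro ⟨_, n, rfl⟩
      refine ⟨1, Subtype.ext ?_⟩
      show (x ^ n) ^ 2 ^ 1 = 1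
      rw [pow_one, pow_two, ← zpow_add, ← two_mul, zpow_mul]
      rw [show x ^ (2 : ℤ) = 1 by rw [zpow_two, hxx], one_zpow]
    · rintro c hcx _ ⟨n, rfl⟩
      have h1 : Commute c x := hcx
      refine ⟨n, ?_⟩
      show x ^ n = c * x ^ n * c⁻¹
      rw [(h1.zpow_right n).eq, mul_inv_cancel_right]
  have hcP : ∀ g, (∀ p ∈ P2 x, g * p = p * g) → g = 1 ∨ g = x := fun g hg =>
    hc g fun k e he => hg e (le_P2_of_sn (hs k) (hp k) he)
  -- an `α`-invariant Sylow subgroup
  have hα2 : IsPGroup 2 (zpowers α) := by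
    rintro ⟨_, n, rfl⟩
    refine ⟨1, Subtype.ext ?_⟩
    show (α ^ n) ^ 2 ^ 1 = 1
    rw [pow_one, pow_two, ← zpow_add, ← two_mul, zpow_mul]
    rw [show α ^ (2 : ℤ) = 1 by rw [zpow_two, hα], one_zpow]
  obtain ⟨S, hS⟩ := Omega.Lie.OutT.Small.exists_sylow hα2
  have hSα : ∀ s ∈ S, α s ∈ S := hS α (mem_zpowers α)
  obtain ⟨S0, hS0⟩ := (P2_isPGroup x).exists_le_sylow
  obtain ⟨g, hg⟩ := MulAction.exists_smul_eq X S0 S
  obtain ⟨y, hy⟩ : ∃ y, y = g * x * g⁻¹ := ⟨_, rfl⟩
  have hyφ : y = MulAut.conj g x := by rw [MulAut.conj_apply, hy]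
  have hPS : P2 y ≤ (S : Subgroup X) := by
    intro p hp'
    have h1 : (MulAut.conj g)⁻¹ p ∈ P2 x := by
      have h2 := P2_map (MulAut.conj g)⁻¹ hp'
      rwa [hyφ, MulAut.inv_apply_self] at h2
    have h2 := hS0 h1
    rw [← hg]
    refine ⟨(MulAut.conj g)⁻¹ p, h2, ?_⟩
    exact MulAut.apply_inv_self X (MulAut.conj g) p
  have hcy : ∀ t : X, (∀ p ∈ P2 y, t * p = p * t) → t = 1 ∨ t = y := by
    intro t ht
    have h1 : (MulAut.conj g)⁻¹ t = 1 ∨ (MulAut.conj g)⁻¹ t = x := by
      apply hcP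
      intro p hp'
      have h2 := ht (MulAut.conj g p) (by rw [hyφ]; exact P2_map _ hp')
      apply (MulAut.conj g).injective
      rw [map_mul, map_mul, MulAut.apply_inv_self]
      exact h2
    rcases h1 with h1 | h1
    · left
      have := congrArg (MulAut.conj g) h1
      rwa [MulAut.apply_inv_self, map_one] at this
    · right
      have := congrArg (MulAut.conj g) h1
      rwa [MulAut.apply_inv_self, ← hyφ] at this
  have hy1 : y ≠ 1 := by
    intro h1
    apply hx1
    have : MulAut.conj g x = MulAut.conj g 1 := by rw [← hyφ, h1, map_one]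
    exact (MulAut.conj g).injective this
  have hyP : y ∈ P2 y := by
    have := P2_map (MulAut.conj g) hxP
    rwa [← hyφ] at this
  -- `y` is central in `S`
  have hyZ : ∀ s ∈ S, y * s = s * y := by
    have hnt : Nontrivial ↥(S : Subgroup X) := ⟨⟨y, hPS hyP⟩, 1, fun h1 => hy1 (congrArg Subtype.val h1)⟩
    haveI := S.2.center_nontrivial
    obtain ⟨⟨⟨t, htS⟩, htZ⟩, ht1⟩ := exists_ne (1 : ↥(center ↥(S : Subgroup X)))
    have ht : ∀ s ∈ S, t * s = s * t := fun s hs' =>
      (congrArg Subtype.val (mem_center_iff.1 htZ ⟨s, hs'⟩)).symm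
    rcases hcy t (fun p hp' => ht p (hPS hp')) with h1 | h1
    · exfalso
      apply ht1
      exact Subtype.ext (Subtype.ext h1)
    · rw [← h1]; exact ht
  have hαα : ∀ z, α (α z) = z := fun z => DFunLike.congr_fun hα z
  have hαy : α y = y := by
    rcases hcy (α y) (fun p hp' => by
      have h1 := hyZ (α p) (hSα p (hPS hp'))
      have h2 := congrArg α h1
      rw [map_mul, map_mul, hαα] at h2
      exact h2) with h1 | h1
    · exfalso
      apply hy1
      apply α.injective
      rw [h1, map_one]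
    · exact h1
  have hβy : β y = y := hfix y hαy
  -- Thompson's lemma
  have key : ∀ p ∈ P2 y, β p = p := by
    have hu : ∀ γ : MulAut X, γ y = y → zpowers γ ≤ normalizer ((P2 y).map (MulAut.conj : X →* MulAut X) : Set (MulAut X)) := by
      intro γ hγ
      rw [zpowers_le]
      have h0 : ∀ γ : MulAut X, γ y = y → ∀ u ∈ (P2 y).map (MulAut.conj : X →* MulAut X),
          γ * u * γ⁻¹ ∈ (P2 y).map (MulAut.conj : X →* MulAut X) := by
        rintro γ hγ _ ⟨p, hp', rfl⟩
        refine ⟨γ p, by have := P2_map γ hp'; rwa [hγ] at this, ?_⟩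
        exact Omega.Lie.OutT.Small.conj_apply_eq γ p
      rw [mem_normalizer_iff]
      intro u
      refine ⟨h0 γ hγ u, fun hu => ?_⟩
      have hγ' : γ⁻¹ y = y := by
        apply γ.injective
        rw [MulAut.apply_inv_self, hγ]
      have := h0 γ⁻¹ hγ' _ hu
      have e : γ⁻¹ * (γ * u * γ⁻¹) * γ⁻¹⁻¹ = u := by group
      rwa [e] at this
    have hcomm : zpowers α ≤ centralizer (zpowers β : Set (MulAut X)) := by
      rw [zpowers_le, mem_centralizer_iff]
      rintro _ ⟨n, rfl⟩
      have h1 : Commute α β := hαβ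
      exact (h1.zpow_right n).symm
    have h1 := Lib.ThompsonPQ.thompson_p_times_q 2 (zpowers α) (zpowers β)
      ((P2 y).map (MulAut.conj : X →* MulAut X)) hα2 ?_ ((P2_isPGroup y).map _) hcomm (hu α hαy) (hu β hβy) ?_
    · intro p hp'
      have h2 := mem_centralizer_iff.1 (h1 (mem_zpowers β)) (MulAut.conj p) ⟨p, hp', rfl⟩
      have h3 := Omega.Lie.OutT.Small.conj_apply_eq β p
      rw [← h2, mul_inv_cancel_right] at h3
      exact hinj h3
    · rw [Nat.card_zpowers]
      have h7 : Odd (orderOf β) := odd_of_cube hβ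
      exact (Nat.coprime_two_right.2 h7)
    · rintro _ ⟨⟨p, hp', rfl⟩, hpα⟩
      have h2 := mem_centralizer_iff.1 hpα α (mem_zpowers α)
      have h3 := Omega.Lie.OutT.Small.conj_apply_eq α p
      rw [h2, mul_inv_cancel_right] at h3
      have h4 : α p = p := hinj h3
      have h5 := hfix p h4
      have h6 := Omega.Lie.OutT.Small.conj_apply_eq β p
      rw [h5] at h6
      have h8 : Commute (MulAut.conj p) β := by
        show MulAut.conj p * β = β * MulAut.conj p
        nth_rewrite 1 [h6]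
        rw [inv_mul_cancel_right]
      rw [mem_centralizer_iff]
      rintro _ ⟨n, rfl⟩
      exact (h8.zpow_right n).symm
  -- `β` is trivial on `C(y)`
  have hC : ∀ c, c * y = y * c → β c = c := by
    intro c hcy'
    have h1 : c⁻¹ * β c = 1 ∨ c⁻¹ * β c = y := by
      apply hcy
      intro p hp'
      have h2 := P2_conj hcy' hp'
      have h3 := key _ h2
      rw [map_mul, map_mul, map_inv, key p hp'] at h3
      -- `β c p (β c)⁻¹ = c p c⁻¹`
      calc c⁻¹ * β c * p = c⁻¹ * (β c * p * (β c)⁻¹) * β c := by group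
        _ = p * (c⁻¹ * β c) := by rw [h3]; group
    rcases h1 with h1 | h1
    · exact (inv_mul_eq_one.1 h1).symm
    · exfalso
      have h2 : β c = c * y := by rw [← h1]; group
      have hyy : y * y = 1 := by
        rw [hyφ, ← map_mul, hxx, map_one]
      have h3 : β (β (β c)) = c := DFunLike.congr_fun hβ c
      rw [h2, map_mul, hβy, h2, mul_assoc, hyy, mul_one, h2] at h3
      exact hy1 (mul_eq_left.1 h3)
  have hclY : Cl y (Cit.cj g J) := by
    have h1 := h.pr.map (MulAut.conj g).toMonoidHom (by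
      show MulAut.conj g x ≠ 1
      rw [← hyφ]; exact hy1)
    refine ⟨by rw [hyφ]; exact h1, ?_⟩
    have h2 := h.sn.cj g
    have e : Cit.cj g (centralizer ({x} : Set X)) = centralizer ({y} : Set X) := by
      ext z
      rw [Cit.mem_cj, mem_centralizer_singleton_iff, mem_centralizer_singleton_iff, hy]
      constructor
      · intro h3
        calc z * (g * x * g⁻¹) = g * (g⁻¹ * z * g * x) * g⁻¹ := by group
          _ = g * x * g⁻¹ * z := by rw [h3]; group
      · intro h3
        calc g⁻¹ * z * g * x = g⁻¹ * (z * (g * x * g⁻¹)) * g := by group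
          _ = x * (g⁻¹ * z * g) := by rw [h3]; group
    rwa [e] at h2
  exact aut_fix hT (IntrinsicDiag.quasisimple_of_simple inferInstance hna) (by
    have : center X = ⊥ := by
      rcases (inferInstance : (center X).Normal).eq_bot_or_eq_top with h1 | h1
      · exact h1
      · exact absurd ⟨⟨fun a b => (mem_center_iff.1 (h1 ▸ mem_top a : a ∈ center X) b).symm⟩⟩ hna
    rw [this]; exact IsPGroup.of_bot) hclY hβ hC

end Cfsg.Agent.OddHalf.NI3.Bad.NoFixOf
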