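import Cfsg.Agent.OddHalf.NI3.Bad.Defs

/-!
# THEOREM NIB: the rows of (KD) are invariant under isomorphisms (helper931)

`Pos.mapE`, `RowO.congr`, `RowA.congr`, `RowA'.congr`, `RowB.congr`, `RowC.congr` : `(e : D ≃* D') → Row D' → Row D`.
-/

set_option autoImplicit false
set_option linter.style.haveILetI false

namespace Cfsg.Agent.OddHalf.NI3

open Subgroup Cfsg
open Cfsg.Agent.OddHalf.NI (CompIn)

section

variable {D D' : Type*} [Group D] [Group D']

theorem compIn_iff {H K : Subgroup D} : CompIn H K ↔ Sn K H ∧ IsQuasisimple ↥K := by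
  constructor
  · rintro ⟨h1, h2, h3⟩
    exact ⟨⟨h1, h2⟩, SignalizersComponents.LayerBasic.quasisimple_congr (subgroupOfEquivOfLe h1) h3⟩
  · rintro ⟨⟨h1, h2⟩, h3⟩
    exact ⟨h1, h2, SignalizersComponents.LayerBasic.quasisimple_congr (subgroupOfEquivOfLe h1).symm h3⟩

theorem cent_mapE (e : D ≃* D') (x : D) :
    (centralizer ({x} : Set D)).map e.toMonoidHom = centralizer ({e x} : Set D') := by
  ext y
  rw [mem_centralizer_singleton_iff, mem_map]
  constructor
  · rintro ⟨g, hg, rfl⟩
    rw [mem_centralizer_singleton_iff] at hg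
    show e g * e x = e x * e g
    rw [← map_mul, hg, map_mul]
  · intro hy
    refine ⟨e.symm y, ?_, e.apply_symm_apply y⟩
    rw [mem_centralizer_singleton_iff]
    apply e.injective
    rw [map_mul, map_mul, e.apply_symm_apply, hy]

theorem IsPr.mapE (e : D ≃* D') {x : D} {J : Subgroup D} (h : IsPr J x) : IsPr (J.map e.toMonoidHom) (e x) :=
  h.map e.toMonoidHom (by
    show e x ≠ 1
    intro h1
    exact h.t3.z_ne (e.injective (by rw [h1, map_one])))

theorem Cl.mapE (e : D ≃* D') {x : D} {J : Subgroup D} (h : Cl x J) : Cl (e x) (J.map e.toMonoidHom) := by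
  refine ⟨h.pr.mapE e, ?_⟩
  rw [← cent_mapE]
  exact h.sn.map e.toMonoidHom

theorem compIn_mapE (e : D ≃* D') {H K : Subgroup D} (h : CompIn H K) :
    CompIn (H.map e.toMonoidHom) (K.map e.toMonoidHom) := by
  rw [compIn_iff] at h ⊢
  exact ⟨h.1.map e.toMonoidHom, SignalizersComponents.LayerBasic.quasisimple_congr
    (K.equivMapOfInjective e.toMonoidHom e.injective) h.2⟩

namespace Bad

theorem Pos.mapE (e : D ≃* D') {x w : D} {A B : Subgroup D} (h : Pos x A B w) :
    Pos (e x) (A.map e.toMonoidHom) (B.map e.toMonoidHom) (e w) := by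
  refine ⟨h.a.mapE e, h.b.mapE e, ?_, ?_⟩
  · rintro _ ⟨b, hb, rfl⟩
    rw [mem_centralizer_iff]
    rintro _ ⟨a, ha, rfl⟩
    show e a * e b = e b * e a
    rw [← map_mul, mem_centralizer_iff.1 (h.comm hb) a ha, map_mul]
  · obtain ⟨p, hp, q, hq, h1, h2, h3⟩ := h.dec
    exact ⟨e p, mem_map_of_mem _ hp, e q, mem_map_of_mem _ hq, by rw [← map_mul, h1], by rw [← map_mul, h2],
      by rw [h3, map_mul]⟩

theorem RowO.congr (e : D ≃* D') (h : RowO D') : RowO D := fun _ _ _ _ hp => h _ _ _ _ (hp.mapE e)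

theorem RowA.congr (e : D ≃* D') (h : RowA D') : RowA D := by
  intro x A B w hp
  obtain ⟨J, hJ⟩ := h _ _ _ _ (hp.mapE e)
  refine ⟨J.map e.symm.toMonoidHom, ?_⟩
  have h1 := hJ.mapE e.symm
  rwa [e.symm_apply_apply] at h1

theorem RowA'.congr (e : D ≃* D') (h : RowA' D') : RowA' D := by
  intro x A B w hp
  obtain ⟨E, hE, hw⟩ := h _ _ _ _ (hp.mapE e)
  refine ⟨E.map e.symm.toMonoidHom, ?_, ?_⟩
  · have h1 := compIn_mapE e.symm hE
    rwa [cent_mapE, e.symm_apply_apply] at h1
  · exact ⟨_, hw, e.symm_apply_apply w⟩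

theorem RowB.congr (e : D ≃* D') (h : RowB D') : RowB D := by
  intro x A B w hp
  obtain ⟨E, hE, hw, hα⟩ := h _ _ _ _ (hp.mapE e)
  refine ⟨E.map e.symm.toMonoidHom, ?_, ?_, ?_⟩
  · have h1 := compIn_mapE e.symm hE
    rwa [cent_mapE, e.symm_apply_apply] at h1
  · exact ⟨_, hw, by show e.symm (e w * e x) = _; rw [← map_mul, e.symm_apply_apply]⟩
  · intro α h3 hfix
    set f : ↥E ≃* ↥(E.map e.symm.toMonoidHom) := E.equivMapOfInjective e.symm.toMonoidHom e.symm.injective with hf
    have hfa : ∀ g : ↥E, ((f g : ↥(E.map e.symm.toMonoidHom)) : D) = e.symm (g : D') := fun g =>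
      coe_equivMapOfInjective_apply E e.symm.toMonoidHom e.symm.injective g
    have h4 := hα ((f.trans α).trans f.symm) ?_ ?_
    · ext g
      have h5 : ((f.trans α).trans f.symm) (f.symm g) = f.symm g := by rw [h4]; rfl
      have h6 : f.symm (α (f (f.symm g))) = f.symm g := h5
      rw [f.apply_symm_apply] at h6
      rw [f.symm.injective h6]
      rfl
    · ext g
      rw [pow_succ, pow_two]
      show ((f.symm (α (f (f.symm (α (f (f.symm (α (f g)))))))) : ↥E) : D') = g
      rw [f.apply_symm_apply, f.apply_symm_apply]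
      have h5 : α (α (α (f g))) = f g := by
        have := congrArg (fun β : MulAut _ => β (f g)) h3
        rwa [pow_succ, pow_two] at this
      rw [h5, f.symm_apply_apply]
    · intro g hg
      show f.symm (α (f g)) = g
      rw [hfix (f g) ?_, f.symm_apply_apply]
      rw [hfa]
      apply e.injective
      have k1 : e (e.symm (g : D') * (w * x)) = g * (e w * e x) := by
        rw [map_mul, e.apply_symm_apply, map_mul]
      have k2 : e (w * x * e.symm (g : D')) = e w * e x * g := by
        rw [map_mul, e.apply_symm_apply, map_mul]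
      rw [k1, k2]
      exact hg

theorem RowC.congr (e : D ≃* D') (h : RowC D') : RowC D := by
  intro x A B w hp
  obtain ⟨E, hE, hw, ⟨f⟩⟩ := h _ _ _ _ (hp.mapE e)
  refine ⟨E.map e.symm.toMonoidHom, ?_, ?_, ?_⟩
  · have h1 := hE.map e.symm.toMonoidHom
    rwa [cent_mapE, e.symm_apply_apply] at h1
  · exact ⟨_, hw, by show e.symm (e w * e x) = _; rw [← map_mul, e.symm_apply_apply]⟩
  · exact ⟨(E.equivMapOfInjective e.symm.toMonoidHom e.symm.injective).symm.trans f⟩

end Bad

end

end Cfsg.Agent.OddHalf.NI3
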