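import Cfsg.Agent.OddHalf.NI3.Bad.O8pModel
import Cfsg.Agent.OddHalf.NI3.Bad.Trans
import Cfsg.Agent.OddHalf.NI3.Bad.NoFixOf
import Cfsg.Agent.OddHalf.NI3.Bad.OutPow
import Cfsg.Agent.S0296

/-!
# NI over `F₃`, THEOREM NIB, step (1): `NoFix` for `PΩ₈⁺(3)`

In the model `Ω(V)/Z`, `V = M₂(3) ⟂ M₂(3)` (helper100, `OrthStd`): `x` the image of `z0 = (-1, 1)`, the four groups
`SL₂(3)` are subnormal in `C(x)` and the centralizer of their quaternion groups is `⟨x⟩`.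
-/

set_option autoImplicit false
set_option linter.unusedSectionVars false
set_option linter.style.haveILetI false

namespace Cfsg.Agent.OddHalf.NI3.Bad.O8pSheet

open Subgroup Cfsg Cfsg.Agent.LieClassical.OrthCore Cfsg.Agent.LieClassical.OrthFourPlus
  Cfsg.Agent.LieClassical.OrthFourCommon Cfsg.Agent.OddHalf.NI3.Bad.Sim Cfsg.Agent.OddHalf.NI3.Bad.OrthEight
  Cfsg.Agent.OddHalf.NI3.Bad.OrthStd Cfsg.Agent.OddHalf.NI3
open Cfsg.Agent.OddHalf.NI3.Bad.RowO8p (pi pi_eq_one mem_center ngO_sq ngO_ne)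
open scoped MatrixGroups

abbrev F := ZMod 3
abbrev V := OrthStd.V
abbrev Q := OrthStd.Q

/-! ### The four subgroups in `Ω(V)` -/

theorem good : LieClassical.OrthTrans.Good Q :=
  LieClassical.OrthFinite.good_of_finite nondeg_Q (by rw [finrank_V]; norm_num)

theorem sq_mem_Om {g : V ≃ₗ[F] V} (hg : g ∈ O Q) : g * g ∈ Om Q := by
  have h1 := OutPow.O_sq good hg
  rwa [← good.commutator_eq_E] at h1

set_option maxRecDepth 100000 in
theorem cube_Q8 : ∀ a : SL23, (a * a * a) * (a * a * a) = 1 ∨ (a * a * a) * (a * a * a) = -1 := by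
  decide +kernel

theorem mem_Om {k : SL23 →* (V ≃ₗ[F] V)} (hk : ∀ a, k a ∈ O Q) (a : SL23) : k a ∈ Om Q := by
  have e : k a = k (a * a * a) * (k a⁻¹ * k a⁻¹) := by
    rw [← map_mul, ← map_mul]
    congr 1
    group
  rw [e]
  exact mul_mem (mem_Om_of_Q8 hk (cube_Q8 a)) (sq_mem_Om (hk _))

noncomputable def kk : Fin 4 → (SL23 →* (V ≃ₗ[F] V)) := ![k1, k2, k3, k4]

theorem kk_mem_O (i : Fin 4) (a : SL23) : kk i a ∈ O Q := by
  fin_cases i
  · exact k1_mem_O a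
  · exact k2_mem_O a
  · exact k3_mem_O a
  · exact k4_mem_O a

theorem kk_injective (i : Fin 4) : Function.Injective (kk i) := by
  fin_cases i
  · exact k1_injective
  · exact k2_injective
  · exact k3_injective
  · exact k4_injective

noncomputable def ka (i : Fin 4) : SL23 →* ↥(Om Q) := (kk i).codRestrict (Om Q) (mem_Om (kk_mem_O i))

theorem coe_ka (i : Fin 4) (a : SL23) : (ka i a : V ≃ₗ[F] V) = kk i a := rfl

/-- the involution -/
noncomputable def z : ↥(Om Q) := ka 0 (-1)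

theorem z_coe : (z : V ≃ₗ[F] V) = z0 := by
  show k1 (-1) = z0
  rw [k1_def]
  show pr (LL (-1), 1) = pr (LinearEquiv.neg F, 1)
  congr 1
  refine Prod.ext ?_ rfl
  ext1 X
  rw [LL_apply, Matrix.SpecialLinearGroup.coe_neg, Matrix.SpecialLinearGroup.coe_one, neg_mul, one_mul]
  rfl

/-! ### Conjugation -/

theorem isom_conj (g : isom (dt F)) (q : Gam F) : ∃ r : Gam F, g * psi q * g⁻¹ = psi r := by
  obtain ⟨p, hp | hp⟩ := exists_eq g
  · exact ⟨p * q * p⁻¹, by rw [hp, map_mul, map_mul, map_inv]⟩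
  · refine ⟨p * sw q * p⁻¹, ?_⟩
    rw [hp, map_mul, map_mul, map_inv, ← tau_conj]
    group

theorem conjL (p : Gam F) (q : SL23) :
    ∃ r : SL23, (psi p : isom (dt F)).1 * LL q * ((psi p : isom (dt F)).1)⁻¹ = LL r ∧ (q ∈ Q8 → r ∈ Q8) := by
  by_cases hq : q ∈ Q8
  · obtain ⟨r, hr, h⟩ := conj_LL p hq
    exact ⟨r, h, fun _ => hr⟩
  have hd : ((p.1.1 : MM) * (q : MM) * ((p.1.1⁻¹ : GL (Fin 2) F) : MM)).det = 1 := by
    rw [Matrix.det_mul, Matrix.det_mul, q.2, mul_one, ← Matrix.det_mul, ← Units.val_mul, mul_inv_cancel,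
      Units.val_one, Matrix.det_one]
  obtain ⟨r, hr⟩ : ∃ r : SL23, (r : MM) = (p.1.1 : MM) * (q : MM) * ((p.1.1⁻¹ : GL (Fin 2) F) : MM) := ⟨⟨_, hd⟩, rfl⟩
  refine ⟨r, ?_, fun h => absurd h hq⟩
  rw [mul_inv_eq_iff_eq_mul]
  ext1 X
  show (psi p : isom (dt F)).1 (LL q X) = LL r ((psi p : isom (dt F)).1 X)
  rw [LL_apply, LL_apply, psi_coe_apply, psi_coe_apply, hr]
  calc (p.1.1 : MM) * ((q : MM) * X) * ((p.1.2⁻¹ : GL (Fin 2) F) : MM)
      = (p.1.1 : MM) * (q : MM) * 1 * X * ((p.1.2⁻¹ : GL (Fin 2) F) : MM) := by noncomm_ring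
    _ = (p.1.1 : MM) * (q : MM) * (((p.1.1⁻¹ : GL (Fin 2) F) : MM) * (p.1.1 : MM)) * X *
        ((p.1.2⁻¹ : GL (Fin 2) F) : MM) := by rw [Units.inv_mul]
    _ = _ := by noncomm_ring

theorem conjR (p : Gam F) (q : SL23) :
    ∃ r : SL23, (psi p : isom (dt F)).1 * RR q * ((psi p : isom (dt F)).1)⁻¹ = RR r ∧ (q ∈ Q8 → r ∈ Q8) := by
  by_cases hq : q ∈ Q8
  · obtain ⟨r, hr, h⟩ := conj_RR p hq
    exact ⟨r, h, fun _ => hr⟩
  have hd : ((p.1.2 : MM) * ((q⁻¹ : SL23) : MM) * ((p.1.2⁻¹ : GL (Fin 2) F) : MM)).det = 1 := by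
    rw [Matrix.det_mul, Matrix.det_mul, (q⁻¹ : SL23).2, mul_one, ← Matrix.det_mul, ← Units.val_mul, mul_inv_cancel,
      Units.val_one, Matrix.det_one]
  obtain ⟨r, hr⟩ : ∃ r : SL23, (r : MM) = (p.1.2 : MM) * ((q⁻¹ : SL23) : MM) * ((p.1.2⁻¹ : GL (Fin 2) F) : MM) :=
    ⟨⟨_, hd⟩, rfl⟩
  refine ⟨r⁻¹, ?_, fun h => absurd h hq⟩
  rw [mul_inv_eq_iff_eq_mul]
  ext1 X
  show (psi p : isom (dt F)).1 (RR q X) = RR r⁻¹ ((psi p : isom (dt F)).1 X)
  rw [RR_apply, RR_apply, psi_coe_apply, psi_coe_apply, inv_inv, hr]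
  calc (p.1.1 : MM) * (X * ((q⁻¹ : SL23) : MM)) * ((p.1.2⁻¹ : GL (Fin 2) F) : MM)
      = (p.1.1 : MM) * X * 1 * ((q⁻¹ : SL23) : MM) * ((p.1.2⁻¹ : GL (Fin 2) F) : MM) := by noncomm_ring
    _ = (p.1.1 : MM) * X * (((p.1.2⁻¹ : GL (Fin 2) F) : MM) * (p.1.2 : MM)) * ((q⁻¹ : SL23) : MM) *
        ((p.1.2⁻¹ : GL (Fin 2) F) : MM) := by rw [Units.inv_mul]
    _ = _ := by noncomm_ring

/-- the map `(p, p') ↦ (psi p, psi p')` -/
noncomputable def Psi2 : Gam F × Gam F →* (V ≃ₗ[F] V) :=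
  pr.comp (MonoidHom.prodMap ((isom (dt F)).subtype.comp psi) ((isom (dt F)).subtype.comp psi))

theorem Psi2_apply (p p' : Gam F) : Psi2 (p, p') = pr ((psi p : isom (dt F)).1, (psi p' : isom (dt F)).1) := rfl

theorem conjK (i : Fin 4) (p p' : Gam F) (q : SL23) :
    ∃ r : SL23, Psi2 (p, p') * kk i q * (Psi2 (p, p'))⁻¹ = kk i r ∧ (q ∈ Q8 → r ∈ Q8) := by
  have hone : ∀ g : MM ≃ₗ[F] MM, g * 1 * g⁻¹ = 1 := fun g => by group
  fin_cases i
  · obtain ⟨r, hr, hr'⟩ := conjL p q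
    refine ⟨r, ?_, hr'⟩
    show Psi2 (p, p') * k1 q * (Psi2 (p, p'))⁻¹ = k1 r
    rw [Psi2_apply, k1_def, k1_def, ← map_mul, ← map_inv, ← map_mul, ← hr]
    congr 1
    exact Prod.ext rfl (hone _)
  · obtain ⟨r, hr, hr'⟩ := conjR p q
    refine ⟨r, ?_, hr'⟩
    show Psi2 (p, p') * k2 q * (Psi2 (p, p'))⁻¹ = k2 r
    rw [Psi2_apply, k2_def, k2_def, ← map_mul, ← map_inv, ← map_mul, ← hr]
    congr 1
    exact Prod.ext rfl (hone _)
  · obtain ⟨r, hr, hr'⟩ := conjL p' q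
    refine ⟨r, ?_, hr'⟩
    show Psi2 (p, p') * k3 q * (Psi2 (p, p'))⁻¹ = k3 r
    rw [Psi2_apply, k3_def, k3_def, ← map_mul, ← map_inv, ← map_mul, ← hr]
    congr 1
    exact Prod.ext (hone _) rfl
  · obtain ⟨r, hr, hr'⟩ := conjR p' q
    refine ⟨r, ?_, hr'⟩
    show Psi2 (p, p') * k4 q * (Psi2 (p, p'))⁻¹ = k4 r
    rw [Psi2_apply, k4_def, k4_def, ← map_mul, ← map_inv, ← map_mul, ← hr]
    congr 1
    exact Prod.ext (hone _) rfl

/-! ### Subnormality -/

/-- pairs of proper isometries -/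
noncomputable def S1 : Subgroup ↥(Om Q) := Psi2.range.comap (Om Q).subtype

theorem mem_S1 {g : ↥(Om Q)} : g ∈ S1 ↔ ∃ p p' : Gam F, Psi2 (p, p') = (g : V ≃ₗ[F] V) := by
  constructor
  · rintro ⟨⟨p, p'⟩, h⟩
    exact ⟨p, p', h⟩
  · rintro ⟨p, p', h⟩
    exact ⟨(p, p'), h⟩

theorem S1_le : S1 ≤ centralizer ({z} : Set ↥(Om Q)) := by
  intro g hg
  obtain ⟨p, p', h⟩ := mem_S1.1 hg
  rw [mem_centralizer_singleton_iff]
  apply Subtype.ext
  rw [Subgroup.coe_mul, Subgroup.coe_mul, z_coe, ← h, Psi2_apply]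
  exact pr_comm_z0 _ _

theorem normalizer_of {G : Type*} [Group G] {J C : Subgroup G} (h : ∀ c ∈ C, ∀ j ∈ J, c * j * c⁻¹ ∈ J) :
    C ≤ normalizer (J : Set G) := by
  intro c hc
  rw [mem_normalizer_iff]
  intro x
  refine ⟨h c hc x, fun hx => ?_⟩
  have := h c⁻¹ (inv_mem hc) _ hx
  have e : c⁻¹ * (c * x * c⁻¹) * c⁻¹⁻¹ = x := by group
  rwa [e] at this

theorem S1_normal : centralizer ({z} : Set ↥(Om Q)) ≤ normalizer (S1 : Set ↥(Om Q)) := by
  refine normalizer_of fun c hc g hg => ?_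
  rw [mem_centralizer_singleton_iff] at hc
  obtain ⟨p, p', h⟩ := mem_S1.1 hg
  have hc0 : (c : V ≃ₗ[F] V) * z0 = z0 * c := by rw [← z_coe]; exact congrArg Subtype.val hc
  have hcO : (c : V ≃ₗ[F] V) ∈ O Q := Om_le_O c.2
  have e := eq_pr _ hc0
  obtain ⟨r, hr⟩ := isom_conj ⟨_, fst_mem hc0 hcO⟩ p
  obtain ⟨r', hr'⟩ := isom_conj ⟨_, snd_mem hc0 hcO⟩ p'
  refine mem_S1.2 ⟨r, r', ?_⟩
  show Psi2 (r, r') = (c : V ≃ₗ[F] V) * g * (c : V ≃ₗ[F] V)⁻¹
  rw [← h, e, Psi2_apply, Psi2_apply, ← map_mul, ← map_inv, ← map_mul, ← hr, ← hr']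
  rfl

theorem ka_mem_S1 (i : Fin 4) (a : SL23) : ka i a ∈ S1 := by
  fin_cases i
  · exact mem_S1.2 ⟨inc (a, 1), 1, by rw [Psi2_apply, map_one]; rfl⟩
  · exact mem_S1.2 ⟨inc (1, a), 1, by rw [Psi2_apply, map_one]; rfl⟩
  · exact mem_S1.2 ⟨1, inc (a, 1), by rw [Psi2_apply, map_one]; rfl⟩
  · exact mem_S1.2 ⟨1, inc (1, a), by rw [Psi2_apply, map_one]; rfl⟩

theorem sn_range (i : Fin 4) : Sn (ka i).range (centralizer ({z} : Set ↥(Om Q))) := by
  have h1 : (ka i).range ≤ S1 := by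
    rintro _ ⟨a, rfl⟩
    exact ka_mem_S1 i a
  refine (Sn.of_normal h1 (normalizer_of ?_)).trans (Sn.of_normal S1_le S1_normal)
  rintro c hc _ ⟨a, rfl⟩
  obtain ⟨p, p', h⟩ := mem_S1.1 hc
  obtain ⟨r, hr, -⟩ := conjK i p p' a
  refine ⟨r, Subtype.ext ?_⟩
  show kk i r = (c : V ≃ₗ[F] V) * kk i a * (c : V ≃ₗ[F] V)⁻¹
  rw [← hr, h]

theorem sn_Q8 (i : Fin 4) : Sn (Q8.map (ka i)) (centralizer ({z} : Set ↥(Om Q))) := by
  have h1 : Q8.map (ka i) ≤ S1 := by
    rintro _ ⟨a, -, rfl⟩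
    exact ka_mem_S1 i a
  refine (Sn.of_normal h1 (normalizer_of ?_)).trans (Sn.of_normal S1_le S1_normal)
  rintro c hc _ ⟨a, ha, rfl⟩
  obtain ⟨p, p', h⟩ := mem_S1.1 hc
  obtain ⟨r, hr, hr'⟩ := conjK i p p' a
  refine ⟨r, hr' ha, Subtype.ext ?_⟩
  show kk i r = (c : V ≃ₗ[F] V) * kk i a * (c : V ≃ₗ[F] V)⁻¹
  rw [← hr, h]

/-! ### In `PΩ(V)` -/

theorem ng_central (g : ↥(Om Q)) : g * EightPair.ngO neg_Q = EightPair.ngO neg_Q * g :=
  mem_center_iff.1 ((mem_center _).2 (Or.inr rfl)) g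

theorem ng_apply (v : V) : (EightPair.ngO neg_Q : V ≃ₗ[F] V) v = -v := rfl

theorem comm_aux {G : Type*} [Group G] {y u z n : G} (hcn : ∀ g, g * n = n * g) (hnn : n * n = 1)
    (h3 : y * z = n * (z * y)) (hu : u * z = z * u) : y * u * y⁻¹ * z = z * (y * u * y⁻¹) := by
  have h5 : z * y = n * (y * z) := by rw [h3, ← mul_assoc, hnn, one_mul]
  have h4 : y⁻¹ * z = n * (z * y⁻¹) := by
    calc y⁻¹ * z = y⁻¹ * (z * y) * y⁻¹ := by group
      _ = (y⁻¹ * n) * (y * z) * y⁻¹ := by rw [h5]; group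
      _ = (n * y⁻¹) * (y * z) * y⁻¹ := by rw [hcn y⁻¹]
      _ = n * (z * y⁻¹) := by group
  calc y * u * y⁻¹ * z = y * u * (y⁻¹ * z) := by group
    _ = y * (u * n) * z * y⁻¹ := by rw [h4]; group
    _ = (y * n) * (u * z) * y⁻¹ := by rw [hcn u]; group
    _ = n * (y * z) * u * y⁻¹ := by rw [hcn y, hu]; group
    _ = (n * n) * (z * y) * u * y⁻¹ := by rw [h3]; group
    _ = z * (y * u * y⁻¹) := by rw [hnn]; group

theorem cent_normal : centralizer ({pi z} : Set (↥(Om Q) ⧸ center ↥(Om Q))) ≤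
    normalizer ((centralizer ({z} : Set ↥(Om Q))).map pi : Set (↥(Om Q) ⧸ center ↥(Om Q))) := by
  refine normalizer_of ?_
  rintro c hc _ ⟨u, hu, rfl⟩
  obtain ⟨y, rfl⟩ := QuotientGroup.mk_surjective c
  change pi y ∈ _ at hc
  rw [mem_centralizer_singleton_iff] at hc
  rw [SetLike.mem_coe, mem_centralizer_singleton_iff] at hu
  have h1 : pi (y * z * y⁻¹ * z⁻¹) = 1 := by
    rw [map_mul, map_mul, map_mul, map_inv, map_inv, hc]; group
  have key : y * u * y⁻¹ * z = z * (y * u * y⁻¹) := by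
    rcases (mem_center _).1 (pi_eq_one.1 h1) with h2 | h2
    · have h3 : y * z = z * y := by
        calc y * z = (y * z * y⁻¹ * z⁻¹) * (z * y) := by group
          _ = z * y := by rw [h2, one_mul]
      have c1 : Commute y z := h3
      have c2 : Commute u z := hu
      exact ((c1.mul_left c2).mul_left c1.inv_left).eq
    · refine comm_aux ng_central ngO_sq ?_ hu
      rw [← h2]; group
  refine ⟨y * u * y⁻¹, ?_, ?_⟩
  · rw [SetLike.mem_coe, mem_centralizer_singleton_iff]; exact key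
  · show pi (y * u * y⁻¹) = pi y * pi u * (pi y)⁻¹
    rw [map_mul, map_mul, map_inv]

theorem cent_le : (centralizer ({z} : Set ↥(Om Q))).map pi ≤
    centralizer ({pi z} : Set (↥(Om Q) ⧸ center ↥(Om Q))) := by
  rintro _ ⟨u, hu, rfl⟩
  rw [SetLike.mem_coe, mem_centralizer_singleton_iff] at hu
  rw [mem_centralizer_singleton_iff, ← map_mul, hu, map_mul]

theorem sn_pi {E : Subgroup ↥(Om Q)} (h : Sn E (centralizer ({z} : Set ↥(Om Q)))) :
    Sn (E.map pi) (centralizer ({pi z} : Set (↥(Om Q) ⧸ center ↥(Om Q)))) :=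
  (h.map pi).trans (Sn.of_normal cent_le cent_normal)

/-! ### The centralizer of the quaternion groups -/

set_option maxRecDepth 100000 in
theorem no_ii : ∀ a : MM, (a = -((ii : MM) * a) → a = 0) ∧ (a = -(a * ((ii⁻¹ : SL23) : MM)) → a = 0) := by
  decide +kernel

set_option maxRecDepth 100000 in
theorem no_jj : ∀ a : MM, (a = -((jj : MM) * a) → a = 0) ∧ (a = -(a * ((jj⁻¹ : SL23) : MM)) → a = 0) := by
  decide +kernel

theorem one_ne_zero_MM : (1 : MM) ≠ 0 := by decide +kernel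

theorem no_neg (i : Fin 4) {q : SL23}
    (hq : ∀ a : MM, (a = -((q : MM) * a) → a = 0) ∧ (a = -(a * ((q⁻¹ : SL23) : MM)) → a = 0)) {g : V ≃ₗ[F] V}
    (h : ∀ v, g (kk i q v) = -(kk i q (g v))) : False := by
  have key : ∀ v : V, v ≠ 0 → kk i q v = v → False := by
    intro v hv hkv
    have h1 := h v
    rw [hkv] at h1
    apply hv
    apply g.injective
    rw [map_zero]
    have hz : ∀ w : V, w = -(kk i q w) → w = 0 := by
      intro w hw
      fin_cases i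
      · have h2 : w.1 = -((q : MM) * w.1) := by
          have := congrArg Prod.fst hw
          change w.1 = -(LL q w.1) at this
          rwa [LL_apply] at this
        have h3 : w.2 = -w.2 := congrArg Prod.snd hw
        exact Prod.ext ((hq _).1 h2) (ne_neg _ h3)
      · have h2 : w.1 = -(w.1 * ((q⁻¹ : SL23) : MM)) := by
          have := congrArg Prod.fst hw
          change w.1 = -(RR q w.1) at this
          rwa [RR_apply] at this
        have h3 : w.2 = -w.2 := congrArg Prod.snd hw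
        exact Prod.ext ((hq _).2 h2) (ne_neg _ h3)
      · have h2 : w.2 = -((q : MM) * w.2) := by
          have := congrArg Prod.snd hw
          change w.2 = -(LL q w.2) at this
          rwa [LL_apply] at this
        have h3 : w.1 = -w.1 := congrArg Prod.fst hw
        exact Prod.ext (ne_neg _ h3) ((hq _).1 h2)
      · have h2 : w.2 = -(w.2 * ((q⁻¹ : SL23) : MM)) := by
          have := congrArg Prod.snd hw
          change w.2 = -(RR q w.2) at this
          rwa [RR_apply] at this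
        have h3 : w.1 = -w.1 := congrArg Prod.fst hw
        exact Prod.ext (ne_neg _ h3) ((hq _).2 h2)
    exact hz _ h1
  have e1 : ((0, 1) : V) ≠ 0 := fun h => one_ne_zero_MM (congrArg Prod.snd h)
  have e2 : ((1, 0) : V) ≠ 0 := fun h => one_ne_zero_MM (congrArg Prod.fst h)
  fin_cases i
  · exact key (0, 1) e1 (Prod.ext (map_zero (LL q)) rfl)
  · exact key (0, 1) e1 (Prod.ext (map_zero (RR q)) rfl)
  · exact key (1, 0) e2 (Prod.ext rfl (map_zero (LL q)))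
  · exact key (1, 0) e2 (Prod.ext rfl (map_zero (RR q)))

theorem comm_of_pi (i : Fin 4) {q : SL23}
    (hq : ∀ a : MM, (a = -((q : MM) * a) → a = 0) ∧ (a = -(a * ((q⁻¹ : SL23) : MM)) → a = 0)) {y : ↥(Om Q)}
    (h : pi y * pi (ka i q) = pi (ka i q) * pi y) :
    (y : V ≃ₗ[F] V) * kk i q = kk i q * (y : V ≃ₗ[F] V) := by
  have h1 : pi (y * ka i q * y⁻¹ * (ka i q)⁻¹) = 1 := by
    rw [map_mul, map_mul, map_mul, map_inv, map_inv, h]; group
  rcases (mem_center _).1 (pi_eq_one.1 h1) with h2 | h2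
  · have h3 : y * ka i q = ka i q * y := by
      calc y * ka i q = (y * ka i q * y⁻¹ * (ka i q)⁻¹) * (ka i q * y) := by group
        _ = ka i q * y := by rw [h2, one_mul]
    exact congrArg Subtype.val h3
  · exfalso
    have h3 : y * ka i q = EightPair.ngO neg_Q * (ka i q * y) := by
      rw [← h2]; group
    exact no_neg i hq (g := (y : V ≃ₗ[F] V)) fun v => congrArg (fun k : ↥(Om Q) => (k : V ≃ₗ[F] V) v) h3

set_option maxRecDepth 100000 in
theorem scalar3 : ∀ s : MM, (ii : MM) * s = s * (ii : MM) → (jj : MM) * s = s * (jj : MM) → s = 0 ∨ s = 1 ∨ s = -1 := by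
  decide +kernel

theorem pm (f : MM ≃ₗ[F] MM) (hi : f * LL ii = LL ii * f) (hj : f * LL jj = LL jj * f)
    (hi' : f * RR ii = RR ii * f) (hj' : f * RR jj = RR jj * f) : f = 1 ∨ f = LinearEquiv.neg F := by
  have h1 := left_comm f hi hj
  have h2 := right_comm f hi' hj'
  have h4 : ∀ X : MM, X * f 1 = f 1 * X := fun X => by rw [← h1, ← h2]
  rcases scalar3 (f 1) (h4 _) (h4 _) with h | h | h
  · exfalso
    apply one_ne_zero_MM
    apply f.injective
    rw [h, map_zero]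
  · left
    ext1 X
    rw [h1, h, mul_one]; rfl
  · right
    ext1 X
    rw [h1, h, mul_neg, mul_one]; rfl

theorem ii_sq : ii * ii = -1 := by decide +kernel

theorem pi_ng : pi (EightPair.ngO neg_Q) = 1 := pi_eq_one.2 ((mem_center _).2 (Or.inr rfl))

theorem cen (g : ↥(Om Q) ⧸ center ↥(Om Q))
    (h : ∀ i : Fin 4, ∀ e ∈ (Q8.map (ka i)).map pi, g * e = e * g) : g = 1 ∨ g = pi z := by
  obtain ⟨y, rfl⟩ := QuotientGroup.mk_surjective g
  change ∀ i : Fin 4, ∀ e ∈ (Q8.map (ka i)).map pi, pi y * e = e * pi y at h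
  change pi y = 1 ∨ pi y = pi z
  have hI : ∀ i : Fin 4, (y : V ≃ₗ[F] V) * kk i ii = kk i ii * (y : V ≃ₗ[F] V) := fun i =>
    comm_of_pi i no_ii (h i _ ⟨_, ⟨ii, ii_mem, rfl⟩, rfl⟩)
  have hJ : ∀ i : Fin 4, (y : V ≃ₗ[F] V) * kk i jj = kk i jj * (y : V ≃ₗ[F] V) := fun i =>
    comm_of_pi i no_jj (h i _ ⟨_, ⟨jj, jj_mem, rfl⟩, rfl⟩)
  have hz0 : (y : V ≃ₗ[F] V) * z0 = z0 * y := by
    have h1 : kk 0 ii * kk 0 ii = z0 := by
      rw [← map_mul, ii_sq]
      exact z_coe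
    rw [← h1, ← mul_assoc, hI, mul_assoc, hI, mul_assoc]
  have e := eq_pr _ hz0
  set f := fstE _ hz0 with hf
  set f' := sndE _ hz0 with hf'
  have c1 : ∀ a : MM ≃ₗ[F] MM, (y : V ≃ₗ[F] V) * pr (a, 1) = pr (a, 1) * y → f * a = a * f := by
    intro a ha
    rw [e, ← map_mul, ← map_mul] at ha
    exact congrArg Prod.fst (pr_injective ha)
  have c2 : ∀ a : MM ≃ₗ[F] MM, (y : V ≃ₗ[F] V) * pr (1, a) = pr (1, a) * y → f' * a = a * f' := by
    intro a ha
    rw [e, ← map_mul, ← map_mul] at ha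
    exact congrArg Prod.snd (pr_injective ha)
  have p1 := pm f (c1 _ (hI 0)) (c1 _ (hJ 0)) (c1 _ (hI 1)) (c1 _ (hJ 1))
  have p2 := pm f' (c2 _ (hI 2)) (c2 _ (hJ 2)) (c2 _ (hI 3)) (c2 _ (hJ 3))
  rcases p1 with p1 | p1 <;> rcases p2 with p2 | p2
  · left
    have : y = 1 := Subtype.ext (by rw [e, p1, p2]; rfl)
    rw [this, map_one]
  · right
    have : y = EightPair.ngO neg_Q * z := by
      apply Subtype.ext
      rw [Subgroup.coe_mul, z_coe, e, p1, p2]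
      ext1 v
      show ((v.1, -v.2) : V) = -(z0 v)
      rw [z0_apply, Prod.neg_mk, neg_neg]
    rw [this, map_mul, pi_ng, one_mul]
  · right
    have : y = z := Subtype.ext (by rw [e, p1, p2, z_coe]; rfl)
    rw [this]
  · left
    have : y = EightPair.ngO neg_Q := by
      apply Subtype.ext
      rw [e, p1, p2]
      rfl
    rw [this, pi_ng]

/-! ### The classical pair -/

theorem pi_ka_injective : Function.Injective (pi.comp (ka 0)) := by
  rw [injective_iff_map_eq_one]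
  intro a ha
  rcases (mem_center _).1 (pi_eq_one.1 ha) with h | h
  · exact kk_injective 0 (by rw [map_one]; exact congrArg Subtype.val h)
  · exfalso
    have h1 : k1 a ((0, 1) : V) = -((0, 1) : V) := congrArg (fun k : ↥(Om Q) => (k : V ≃ₗ[F] V) (0, 1)) h
    have h2 : (1 : MM) = -1 := congrArg Prod.snd h1
    exact absurd h2 (by decide +kernel)

theorem neg_one_ne : (-1 : SL23) ≠ 1 := by decide +kernel

theorem cl : Cl (pi z) ((ka 0).range.map pi) := by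
  have hr : (pi.comp (ka 0)).range = (ka 0).range.map pi := MonoidHom.range_comp _ _
  refine ⟨⟨?_, ?_, ?_⟩, sn_pi (sn_range 0)⟩
  · rw [← hr]
    exact ⟨(MonoidHom.ofInjective pi_ka_injective).symm⟩
  · have h1 : pi z = (pi.comp (ka 0)) (-1) := rfl
    refine orderOf_eq_prime ?_ ?_
    · rw [h1, ← map_pow, pow_two, neg_mul_neg, one_mul, map_one]
    · rw [h1]
      intro h2
      exact neg_one_ne (pi_ka_injective (by rw [h2, map_one]))
  · exact ⟨z, ⟨-1, rfl⟩, rfl⟩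

/-! ### Transfer -/

/-- the sheet -/
def Sh (X : Type*) [Group X] : Prop :=
  ∃ (x : X) (J : Subgroup X) (E : Fin 4 → Subgroup X), Cl x J ∧ (∀ k, Sn (E k) (centralizer ({x} : Set X))) ∧
    (∀ k, IsPGroup 2 (E k)) ∧ ∀ g, (∀ k, ∀ e ∈ E k, g * e = e * g) → g = 1 ∨ g = x

theorem sh_model : Sh (↥(Om Q) ⧸ center ↥(Om Q)) := by
  refine ⟨pi z, _, fun i => (Q8.map (ka i)).map pi, cl, fun i => sn_pi (sn_Q8 i), fun i => ?_, cen⟩
  have h : IsPGroup 2 Q8 := fun q => ⟨2, Subtype.ext (Q8_pow q.2)⟩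
  exact (h.map _).map _

theorem Sh.of_equiv {X Y : Type*} [Group X] [Group Y] (e : X ≃* Y) (h : Sh X) : Sh Y := by
  obtain ⟨x, J, E, h1, h2, h3, h4⟩ := h
  refine ⟨e x, J.map e.toMonoidHom, fun k => (E k).map e.toMonoidHom, h1.mapE e, fun k => ?_, fun k => (h3 k).map _,
    fun g hg => ?_⟩
  · rw [← cent_mapE]
    exact (h2 k).map _
  · rcases h4 (e.symm g) (fun k a ha => by
      have h5 := hg k (e a) ⟨a, ha, rfl⟩
      apply e.injective
      rw [map_mul, map_mul, e.apply_symm_apply]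
      exact h5) with h5 | h5
    · left
      rw [← e.apply_symm_apply g, h5, map_one]
    · right
      rw [← e.apply_symm_apply g, h5]

theorem sh {X : Type*} [Group X] (h : XO8p X) : Sh X := by
  obtain ⟨K, i, i', hK, ⟨e⟩⟩ := h
  obtain ⟨e1⟩ := Cfsg.Agent.S1082.result (F := K)
  obtain ⟨e2⟩ := Cfsg.Agent.S1082.result (F := F)
  obtain ⟨e3⟩ := Models.om8p card_F nondeg_Q finrank_V neg_Q
  have hcard : Fintype.card K = Fintype.card F := by rw [hK]; rfl
  let φ : K ≃+* F := FiniteField.ringEquivOfCardEq hcard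
  let e4 := ChevalleyStructure.FieldIso.groupEquiv Lie.chevD4 φ
  exact sh_model.of_equiv ((((e.trans e1.symm).trans e4).trans e2).trans e3.symm).symm

universe u

/-- **`NoFix` for `PΩ₈⁺(3)`** -/
theorem o8p (hT : Cit.TStmt.{u}) (X : Type u) [Group X] [Finite X] (h : XO8p X) : StepOne.NoFix X := by
  obtain ⟨x, J, E, h1, h2, h3, h4⟩ := sh h
  have hs : IsSimpleGroup X := by
    obtain ⟨K, _, _, hK, ⟨e⟩⟩ := h
    have h5 : IsSimpleGroup (POmega K (quadFormPlus 4 K)) := S0296.result 4 le_rfl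
    have : Nontrivial X := e.toEquiv.nontrivial
    exact IsSimpleGroup.isSimpleGroup_of_surjective e.symm.toMonoidHom e.symm.surjective
  have hna : ¬ IsMulCommutative X := by
    intro hc
    obtain ⟨i, j, d, hl⟩ := h1.pr.sl
    have h6 := hl.q.ji
    have h7 : j * i = i * j := hc.is_comm.comm j i
    have h8 : x = 1 := by
      have h9 : x * (i * j) = 1 * (i * j) := by
        rw [one_mul, ← h6, h7]
      exact mul_right_cancel h9
    exact h1.pr.t3.z_ne h8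
  exact NoFixOf.noFix_of hT hna h1 E h2 h3 h4

end Cfsg.Agent.OddHalf.NI3.Bad.O8pSheet
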