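import Cfsg.Agent.Omega.Lie.OutChev
import Cfsg.Agent.OddHalf.NI3.Bad.OutPow
import Cfsg.Agent.OddHalf.LieOddFam
import Cfsg.Agent.S1055

/-!
# `OutNil` for `G₂(3)`

`R` a root group datum with groups `X (sr i)` of order three and a diagram whose symmetries are involutions: the fourth
powers of all automorphisms are inner.
-/

set_option autoImplicit false
set_option linter.unusedSectionVars false

namespace Cfsg.Agent.OddHalf.NI3.Bad.OutThree

open CoxeterSystem Cfsg.Agent.ChevalleyStructure.CoxeterGeom Cfsg.Agent.Tits.Roots Cfsg.Agent.Tits.Core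
  Cfsg.Agent.Tits.RootComb Cfsg.Agent.Nodes.Comb Cfsg.Agent.Nodes.Reps Cfsg.Agent.Nodes.BNOf Cfsg.Agent.Nodes.BNOf.RGD
  Cfsg.Agent.FixBN Cfsg.Agent.Tits.OfBN Cfsg.Agent.Tits.OppRes Cfsg.Agent.LieExceptional.BNPairCore
  Cfsg.Agent.OddHalf.Table.AutBldg Cfsg.Agent.OddHalf.Table.AutRGD Cfsg.Agent.OddHalf.Table.AutNorm
  Cfsg.Agent.OddHalf.Table.OutTorus Cfsg.Agent.Omega.Lie.OutT Cfsg.Agent.Omega.Lie.OutRgd

variable {I W Y : Type*} [Fintype I] [DecidableEq I] [Group W] [Group Y] {M : CoxeterMatrix I}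
  {cs : CoxeterSystem M W} {A : I → I → ℤ} {h : IsCartan M A} {p : ℕ} {T : Subgroup Y} {n : I → Y}
  {X : (I → ℤ) → Subgroup Y} [Finite W]

section

variable {R : RGD cs h p T n X} {hgen : B cs h T X ⊔ NN cs R.nsys = ⊤}
  [hN : (((R.bnPair hgen).B ⊓ (R.bnPair hgen).N).subgroupOf (R.bnPair hgen).N).Normal]
  {cs' : CoxeterSystem M (WP (R.bnPair hgen))}
  (hcs : ∀ i, cs'.simple i = QuotientGroup.mk
    (⟨(eS R hgen i : Y), (R.bnPair hgen).subset (eS R hgen i).2⟩ : (R.bnPair hgen).N))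
  {g₀ : (R.bnPair hgen).N} (hg₀ : (QuotientGroup.mk g₀ : WP (R.bnPair hgen)) = w0 cs')
  [Finite Y] [Fact p.Prime] (hcore : (B cs h T X).normalCore = ⊥)
  (h3 : ∀ i, ∀ x ∈ X (sr i), ∀ y ∈ X (sr i), ∀ z ∈ X (sr i), x ≠ 1 → y ≠ 1 → z ≠ 1 → x = y ∨ y = z ∨ x = z)

omit [Finite Y] [Fact p.Prime] in
theorem eq_of_mk {i : I} {x y : Y} (hx : x ∈ X (sr i)) (hy : y ∈ X (sr i))
    (he : (QuotientGroup.mk (x * n i) : Y ⧸ (R.bnPair hgen).B) = QuotientGroup.mk (y * n i)) : x = y := by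
  have h1 : (QuotientGroup.mk ((y⁻¹ * x) * n i) : Y ⧸ (R.bnPair hgen).B) = QuotientGroup.mk (n i) := by
    rw [FixBN.OfBN.mk_eq] at he ⊢
    have e : ((y⁻¹ * x) * n i)⁻¹ * n i = (x * n i)⁻¹ * (y * n i) := by group
    rw [e]; exact he
  have h2 := x_eq_one (mul_mem (inv_mem hy) hx) h1
  rw [inv_mul_eq_one] at h2
  exact h2.symm

include hcs hg₀ hcore h3 in
/-- A type preserving normalised automorphism is an involution. -/
theorem sq_eq_one {β : MulAut Y} (hβ : Nrm R hgen g₀ β) (hσ : ∀ i, sg (eS R hgen) cs' hcs hβ.keep i = i) :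
    β * β = 1 := by
  have hI : Finite I := inferInstance
  have hW : Finite (WP (R.bnPair hgen)) := inferInstance
  have hC : Cox cs' := inferInstance
  have hs : ∀ i, sg (eS R hgen) cs' hcs (hβ.mul hβ).keep i = i := by
    intro i
    refine (sg_mul (eS R hgen) cs' hcs hβ.keep hβ.keep i).trans ?_
    rw [hσ, hσ]
  have h1 : β * β = MulAut.conj 1 := by
    refine (hβ.mul hβ).eq_conj hcs hcore hg₀ hs (one_mem _) ?_
    intro i x hx
    have e : act (β * β) (hβ.mul hβ).keep (QuotientGroup.mk (x * n i)) =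
        act β hβ.keep (act β hβ.keep (QuotientGroup.mk (x * n i))) := by
      rw [act_mk, act_mk, act_mk, MulAut.mul_apply]
    rw [e, one_smul]
    by_cases hx1 : x = 1
    · have h4 := hβ.act_n hcs hg₀ i
      rw [hσ] at h4
      rw [hx1, one_mul, h4, h4]
    · obtain ⟨y, hy, hy1, hxy⟩ := Nrm.val hcs hg₀ hβ (hσ i) hx hx1
      rw [hxy]
      obtain ⟨z, hz, hz1, hyz⟩ := Nrm.val hcs hg₀ hβ (hσ i) hy hy1
      rcases h3 i x hx y hy z hz hx1 hy1 hz1 with h5 | h5 | h5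
      · rw [← h5] at hxy ⊢; exact hxy
      · rw [← h5, ← hxy] at hyz
        have h6 := act_inj hβ.keep hyz
        rw [hxy] at hyz
        rw [hyz]
        exact hxy.symm.trans h6
      · rw [hyz, ← h5]
  rw [h1, map_one]

end

/-- **The fourth powers of all automorphisms are inner.** -/
theorem pow_four_inner [Finite Y] [Fact p.Prime] (R : RGD cs h p T n X) (hgen : B cs h T X ⊔ NN cs R.nsys = ⊤)
    (hcore : (B cs h T X).normalCore = ⊥)
    (h3 : ∀ i, ∀ x ∈ X (sr i), ∀ y ∈ X (sr i), ∀ z ∈ X (sr i), x ≠ 1 → y ≠ 1 → z ≠ 1 → x = y ∨ y = z ∨ x = z)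
    (hM : ∀ σ : I → I, Function.Injective σ → (∀ i j, M (σ i) (σ j) = M i j) → ∀ i, σ (σ i) = i) (α : MulAut Y) :
    α ^ 4 ∈ (MulAut.conj : Y →* MulAut Y).range := by
  obtain ⟨hN, cs', hcs, hW, S⟩ := exists_setup R hgen hcore
  obtain ⟨g₀, hg₀⟩ := exists_g0 R hgen cs'
  have hI : Finite I := inferInstance
  have hC : Cox cs' := inferInstance
  obtain ⟨g, hg⟩ := exists_nrm hcs hcore hg₀ α
  have hn := Cfsg.Agent.Schreier.Basic.conj_range_normal Y
  set β := MulAut.conj g * α with hβ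
  have h1 : (β * β) * (β * β) = 1 := by
    refine sq_eq_one hcs hg₀ hcore h3 (hg.mul hg) fun i => ?_
    refine (sg_mul (eS R hgen) cs' hcs hg.keep hg.keep i).trans ?_
    exact hM _ (sg_injective _ _ _ _) (fun i j => sg_M _ _ _ _ i j) i
  rw [← QuotientGroup.eq_one_iff, QuotientGroup.mk_pow]
  have h2 : (QuotientGroup.mk α : MulAut Y ⧸ (MulAut.conj : Y →* MulAut Y).range) = QuotientGroup.mk β := by
    rw [hβ, QuotientGroup.mk_mul, (QuotientGroup.eq_one_iff (N := (MulAut.conj : Y →* MulAut Y).range)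
      (MulAut.conj g)).2 ⟨g, rfl⟩, one_mul]
  rw [h2, ← QuotientGroup.mk_pow]
  have h4 : β ^ 4 = 1 := by
    rw [show (4 : ℕ) = 2 + 2 by norm_num, pow_add, pow_two]
    exact h1
  rw [h4, QuotientGroup.mk_one]

/-! ### `G₂(3)` -/

section

open Cfsg.Agent.Nodes.RGDChev Cfsg.Agent.KFacts.RgdChevCoord Cfsg.Agent.KFacts.RgdField
open Cfsg.Lie Cfsg.Agent.ChevalleyStructure Cfsg.Agent.ChevalleyStructure.Elts
  Cfsg.Agent.ChevalleyStructure.RootVec Cfsg.Agent.ChevalleyStructure.RootVecTab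
  Cfsg.Agent.ChevalleyStructure.NPerm Cfsg.Agent.ChevalleyStructure.CoxeterGeomTypes

universe u

theorem outNil_G2 {F : Type u} [Field F] [Fintype F] (hF : Fintype.card F = 3) :
    OutNil ↥(chevG2.group F) := by
  have hprime : Fact (Nat.Prime 3) := ⟨Nat.prime_three⟩
  have hchar : CharP F 3 := charP_of_card_eq_prime hF
  have h20 := OutPow.two_ne_zero_three hF
  have : IsSimpleGroup ↥(chevG2.group F) := (S1055.result ⟨-1, neg_ne_zero.2 one_ne_zero, fun h => h20 (by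
    have h1 : (1 : F) + 1 = 0 := by nth_rewrite 1 [← h]; exact neg_add_cancel 1
    rwa [one_add_one_eq_two] at h1)⟩).1
  have hp : IsType chevG2 2 CoxeterMatrix.G₂ := by simp [IsType, typeList]
  have hW := finite_W hp (CoxeterMatrix.G₂).toCoxeterSystem
  have R := rgd (K := F) hp (CoxeterMatrix.G₂).toCoxeterSystem 3
  have hgen := gen (K := F) hp (CoxeterMatrix.G₂).toCoxeterSystem 3
  have hcore := Cfsg.Agent.Tits.OfBN.normalCore_eq_bot (R.bnPair hgen) ⟨_, 0, rfl⟩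
  refine OutPow.outNil_of_pow 2 fun α => ?_
  refine pow_four_inner R hgen hcore ?_ ?_ α
  · intro i x hx y hy z hz hx1 hy1 hz1
    have C := (coords (K := F) hp (CoxeterMatrix.G₂).toCoxeterSystem 3).coord (sr i) (isRoot_sr _ hp.isCartan i)
    obtain ⟨a, rfl⟩ := (C.mem x).1 hx
    obtain ⟨b, rfl⟩ := (C.mem y).1 hy
    obtain ⟨c, rfl⟩ := (C.mem z).1 hz
    have ha : a ≠ 0 := fun e => hx1 (by rw [e, C.zero])
    have hb : b ≠ 0 := fun e => hy1 (by rw [e, C.zero])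
    have hc : c ≠ 0 := fun e => hz1 (by rw [e, C.zero])
    have key : ∀ a : F, a ≠ 0 → a = 1 ∨ a = -1 := fun a ha =>
      mul_self_eq_one_iff.1 (OutPow.mul_self_three hF ha)
    rcases key a ha with rfl | rfl <;> rcases key b hb with rfl | rfl <;> rcases key c hc with rfl | rfl <;> simp
  · intro σ h1 _ i
    have key : ∀ σ : Fin 2 → Fin 2, Function.Injective σ → ∀ i, σ (σ i) = i := by decide
    exact key σ h1 i

end

end Cfsg.Agent.OddHalf.NI3.Bad.OutThree
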