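import Cfsg.Agent.OddHalf.NI3.Bad.Basic
import Cfsg.Agent.OddHalf.NI3.Bad.HLoc

/-!
# THEOREM NIB, step (3): the rows (3a), (3a'), (3b), (3c) in `G`

`Cfg N a b e A B` (`a = -1₁₂`, `b = -1₃₄`, `e = -1₅₆`, `z = a b`), `RP a b A B` : `O₂(A), O₂(B) ≤ O₂(C(z))`,
`In a b e A B c D` : `c ∈ N` the rotation, `D` a component of `C(a)` containing `A^c`, `B^c`.

`falseO`, `falseA`, `falseA'`, `falseB`, `falseC` : `D` has none of the properties `RowO`, `RowA`, `RowA'`, `RowB`, `RowC`.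
-/

set_option autoImplicit false

namespace Cfsg.Agent.OddHalf.NI3.Bad.StepThree

open Subgroup Cfsg Cfsg.Agent.OddHalf.Iface Cfsg.Agent.OddHalf.NI3.Bad Cfsg.Agent.OddHalf.NI3.Bad.HLoc
open Cfsg.Agent.OddHalf.NI (CompIn)
open Cfsg.Agent.Cit (cj TStmt)

universe u

section

variable {G : Type*} [Group G] {N A B : Subgroup G} {a b e : G}

/-- `R = O₂(A) O₂(B) ≤ O₂(C(z))` -/
def RP (a b : G) (A B : Subgroup G) : Prop :=
  (∀ x ∈ A, x * x = a * b → x ∈ PP (a * b)) ∧ (∀ x ∈ B, x * x = a * b → x ∈ PP (a * b))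

theorem a_mem (h : Cfg N a b e A B) : a ∈ centralizer ({a * b} : Set G) :=
  mem_centralizer_singleton_iff.2 (by rw [← mul_assoc, h.aa, one_mul, h.ab, mul_assoc, h.aa, mul_one])

theorem e_mem (h : Cfg N a b e A B) : e ∈ centralizer ({a * b} : Set G) :=
  mem_centralizer_singleton_iff.2 (by
    calc e * (a * b) = (e * a) * b := by group
      _ = a * (e * b) := by rw [← h.ae]; group
      _ = a * b * e := by rw [← h.be]; group)

theorem comap_cent {z x : G} (hx : x ∈ centralizer ({z} : Set G)) :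
    (centralizer ({z} : Set G) ⊓ centralizer ({x} : Set G)).comap (centralizer ({z} : Set G)).subtype =
      centralizer ({(⟨x, hx⟩ : ↥(centralizer ({z} : Set G)))} : Set ↥(centralizer ({z} : Set G))) := by
  ext y
  rw [mem_comap, mem_inf]
  simp only [coe_subtype, mem_centralizer_singleton_iff]
  constructor
  · rintro ⟨-, h⟩
    exact Subtype.ext h
  · intro h
    exact ⟨mem_centralizer_singleton_iff.1 y.2, congrArg Subtype.val h⟩

/-- the local situation in `C(z)` -/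
theorem loc (h : Cfg N a b e A B) (hR : RP a b A B) :
    Loc (A.subgroupOf (centralizer ({a * b} : Set G))) (B.subgroupOf (centralizer ({a * b} : Set G)))
      (⟨a * b, h.A_le_z h.prA.mem⟩ : ↥(centralizer ({a * b} : Set G))) ⟨a, a_mem h⟩ ⟨e, e_mem h⟩ where
  p1 := h.prA.subgroupOf h.A_le_z
  p2 := h.prB.subgroupOf h.B_le_z
  comm := fun x hx y hy => Subtype.ext (h.AB x hx y hy)
  sn1 := by
    rw [← comap_cent]
    exact h.snA_e.comap _
  sn2 := by
    rw [← comap_cent]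
    exact h.snB_e.comap _
  P1 := fun x hx hxx => (mem_PP x.2).1 (hR.1 x hx (congrArg Subtype.val hxx))
  P2 := fun x hx hxx => (mem_PP x.2).1 (hR.2 x hx (congrArg Subtype.val hxx))
  dec := by
    obtain ⟨p, hp, q, hq, h1, h2, h3⟩ := h.a_eq
    exact ⟨⟨p, h.A_le_z hp⟩, hp, ⟨q, h.B_le_z hq⟩, hq, Subtype.ext h1, Subtype.ext h2, Subtype.ext h3⟩

/-- a subnormal subgroup of `C_D(b)` is subnormal in `C_{C(z)}(a)` -/
theorem sn_of (h : Cfg N a b e A B) {D : Subgroup G} (hD : Sn D (centralizer ({a} : Set G))) (hb : b ∈ D)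
    {E : Subgroup ↥D} (hE : Sn E (centralizer ({(⟨b, hb⟩ : ↥D)} : Set ↥D))) :
    Sn ((E.map D.subtype).subgroupOf (centralizer ({a * b} : Set G)))
      (centralizer ({(⟨a, a_mem h⟩ : ↥(centralizer ({a * b} : Set G)))} : Set ↥(centralizer ({a * b} : Set G)))) ∧
      E.map D.subtype ≤ centralizer ({a * b} : Set G) := by
  have h1 := hE.map D.subtype
  have h2 : (centralizer ({(⟨b, hb⟩ : ↥D)} : Set ↥D)).map D.subtype = D ⊓ centralizer ({b} : Set G) := by
    ext x
    rw [mem_map, mem_inf]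
    constructor
    · rintro ⟨y, hy, rfl⟩
      rw [mem_centralizer_singleton_iff] at hy
      exact ⟨y.2, mem_centralizer_singleton_iff.2 (congrArg Subtype.val hy)⟩
    · rintro ⟨hx, hxb⟩
      exact ⟨⟨x, hx⟩, mem_centralizer_singleton_iff.2 (Subtype.ext (mem_centralizer_singleton_iff.1 hxb)), rfl⟩
  rw [h2] at h1
  have h3 := h1.trans (hD.inf (centralizer ({b} : Set G)))
  have h4 : centralizer ({a} : Set G) ⊓ centralizer ({b} : Set G) =
      centralizer ({a * b} : Set G) ⊓ centralizer ({a} : Set G) := by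
    rw [← cent_inf_eq, inf_comm]
  rw [h4] at h3
  refine ⟨?_, h3.le.trans inf_le_left⟩
  rw [← comap_cent]
  exact h3.comap _

end

section

variable {G : Type u} [Group G] {N A B : Subgroup G} {a b e : G}

/-- `z a = b` in `C(z)` -/
theorem za_eq (h : Cfg N a b e A B) :
    (⟨a * b, h.A_le_z h.prA.mem⟩ : ↥(centralizer ({a * b} : Set G))) * ⟨a, a_mem h⟩ =
      ⟨b, mem_centralizer_singleton_iff.2 (by rw [← mul_assoc, h.ab])⟩ :=
  Subtype.ext h.z_a

theorem cent_za (h : Cfg N a b e A B) :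
    centralizer ({(⟨a * b, h.A_le_z h.prA.mem⟩ : ↥(centralizer ({a * b} : Set G))) * ⟨a, a_mem h⟩} :
      Set ↥(centralizer ({a * b} : Set G))) =
    centralizer ({(⟨a, a_mem h⟩ : ↥(centralizer ({a * b} : Set G)))} : Set ↥(centralizer ({a * b} : Set G))) := by
  ext y
  rw [mem_centralizer_singleton_iff, mem_centralizer_singleton_iff]
  have hz : y * (⟨a * b, h.A_le_z h.prA.mem⟩ : ↥(centralizer ({a * b} : Set G))) =
      ⟨a * b, h.A_le_z h.prA.mem⟩ * y := Subtype.ext (mem_centralizer_singleton_iff.1 y.2)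
  constructor
  · intro h3
    rw [← mul_assoc, hz, mul_assoc, mul_assoc] at h3
    exact mul_left_cancel h3
  · intro h3
    rw [← mul_assoc, hz, mul_assoc, h3, mul_assoc]

/-- `O(C_{C(z)}(e)) = 1` -/
theorem core_bot [Finite G] (hT : TStmt.{u}) (h : Cfg N a b e A B)
    (hO : pPrimeCore 2 ↥(centralizer ({e} : Set G)) = ⊥) :
    pPrimeCore 2 ↥(centralizer ({(⟨e, e_mem h⟩ : ↥(centralizer ({a * b} : Set G)))} :
      Set ↥(centralizer ({a * b} : Set G)))) = ⊥ := by
  have h1 := core_cent_eq_bot hT hO h.clA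
  rw [← comap_cent] at h1 ⊢
  have e1 : ↥((centralizer ({e} : Set G) ⊓ centralizer ({a * b} : Set G)).comap (centralizer ({e} : Set G)).subtype) ≃*
      ↥(centralizer ({e} : Set G) ⊓ centralizer ({a * b} : Set G)) := subgroupOfEquivOfLe inf_le_left
  have e2 : ↥((centralizer ({a * b} : Set G) ⊓ centralizer ({e} : Set G)).comap (centralizer ({a * b} : Set G)).subtype) ≃*
      ↥(centralizer ({a * b} : Set G) ⊓ centralizer ({e} : Set G)) := subgroupOfEquivOfLe inf_le_left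
  have e3 : ↥(centralizer ({e} : Set G) ⊓ centralizer ({a * b} : Set G)) ≃*
      ↥(centralizer ({a * b} : Set G) ⊓ centralizer ({e} : Set G)) := MulEquiv.subgroupCongr (inf_comm _ _)
  have h2 := Lib.Cores.map_equiv_pPrimeCore ((e1.trans e3).trans e2.symm) 2
  rw [h1, Subgroup.map_bot] at h2
  exact h2.symm

theorem core_of_ctx (C : Ctx G) {x : G} (hx : orderOf x = 2) : pPrimeCore 2 ↥(centralizer ({x} : Set G)) = ⊥ :=
  (Subgroup.map_eq_bot_iff_of_injective _ (centralizer ({x} : Set G)).subtype_injective).1 (C.bal x hx)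

/-- `J₁` is not subnormal in `C(z)` -/
theorem false_of_sn (C : Ctx G) (h : Cfg N a b e A B)
    (hs : (A.subgroupOf (centralizer ({a * b} : Set G))).IsSubnormal) : False :=
  Cfg.not_cl C (x := a * b) (J := A) ⟨h.prA, h.A_le_z, hs⟩

theorem e_ne [Finite G] (h : Cfg N a b e A B) : e ≠ 1 := by
  rintro rfl
  obtain ⟨c, hc, h1, h2, h3⟩ := h.rot
  have h4 : a = 1 := by rw [← h3]; group
  have h5 : b = 1 := by rw [← h1, h4]; group
  apply h.y_ne
  rw [h4, h5]; simp

/-- the data of step (3) -/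
structure In (a b e : G) (A B : Subgroup G) (c : G) (D : Subgroup G) : Prop where
  h1 : c * a * c⁻¹ = b
  h2 : c * b * c⁻¹ = e
  h3 : c * e * c⁻¹ = a
  cD : D3.Comp a D
  cA : cj c A ≤ D
  cB : cj c B ≤ D

theorem b_mem (h : Cfg N a b e A B) {c : G} {D : Subgroup G} (i : In a b e A B c D) : b ∈ D := by
  obtain ⟨p, hp, q, hq, -, -, h3⟩ := h.a_eq
  have h4 : b = (c * p * c⁻¹) * (c * q * c⁻¹) := by rw [← i.h1, h3]; group
  rw [h4]
  exact mul_mem (i.cA ⟨p, hp, rfl⟩) (i.cB ⟨q, hq, rfl⟩)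

theorem be_mem (h : Cfg N a b e A B) {c : G} {D : Subgroup G} (i : In a b e A B c D) : b * e ∈ D := by
  have h4 : b * e = c * (a * b) * c⁻¹ := by
    calc b * e = (c * a * c⁻¹) * (c * b * c⁻¹) := by rw [i.h1, i.h2]
      _ = c * (a * b) * c⁻¹ := by group
  rw [h4]
  exact i.cA ⟨_, h.prA.mem, rfl⟩

theorem snD {c : G} {D : Subgroup G} (i : In a b e A B c D) : Sn D (centralizer ({a} : Set G)) :=
  ⟨i.cD.le, i.cD.comp.1⟩

/-- the position in `D` -/
theorem posD (h : Cfg N a b e A B) {c : G} (hc : c ∈ N) {D : Subgroup G} (i : In a b e A B c D) :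
    Pos (⟨b * e, be_mem h i⟩ : D) ((cj c A).subgroupOf D) ((cj c B).subgroupOf D) ⟨b, b_mem h i⟩ :=
  h.pos hc i.h1 i.h2 i.h3 i.cD.le i.cA i.cB (b_mem h i) (be_mem h i)

/-- `b (b e) = e` in `D` -/
theorem wx_eq (h : Cfg N a b e A B) {c : G} {D : Subgroup G} (i : In a b e A B c D) :
    ((⟨b, b_mem h i⟩ * ⟨b * e, be_mem h i⟩ : ↥D) : G) = e := by
  show b * (b * e) = e
  rw [← mul_assoc, h.bb, one_mul]

/-- **(3), no position** -/
theorem falseO (h : Cfg N a b e A B) {c : G} (hc : c ∈ N) {D : Subgroup G} (i : In a b e A B c D)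
    (hr : RowO ↥D) : False :=
  hr _ _ _ _ (posD h hc i)

/-- **(3a)** -/
theorem falseA (C : Ctx G) (h : Cfg N a b e A B) (hR : RP a b A B) {c : G} (hc : c ∈ N) {D : Subgroup G}
    (i : In a b e A B c D) (hr : RowA ↥D) : False := by
  have := C.fin
  obtain ⟨J, hJ⟩ := hr _ _ _ _ (posD h hc i)
  obtain ⟨h1, h2⟩ := sn_of h (snD i) (b_mem h i) hJ.sn
  refine (loc h hR).falseA (J := (J.map D.subtype).subgroupOf (centralizer ({a * b} : Set G))) ?_
  refine ⟨?_, ?_⟩
  · rw [za_eq h]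
    have h3 := hJ.pr.map D.subtype (fun h4 => hJ.pr.t3.z_ne (Subtype.ext h4))
    exact h3.subgroupOf h2
  · rw [cent_za h]
    exact h1

theorem qs_of {D : Subgroup G} {E : Subgroup ↥D} {x : ↥D} (hE : CompIn (centralizer ({x} : Set ↥D)) E) {K : Subgroup G}
    (hK : E.map D.subtype ≤ K) : IsQuasisimple ↥((E.map D.subtype).subgroupOf K) :=
  SignalizersComponents.LayerBasic.quasisimple_congr
    ((E.equivMapOfInjective _ D.subtype_injective).trans (subgroupOfEquivOfLe hK).symm) hE.quasi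

/-- **(3a')** -/
theorem falseA' (C : Ctx G) (h : Cfg N a b e A B) (hR : RP a b A B) {c : G} (hc : c ∈ N) {D : Subgroup G}
    (i : In a b e A B c D) (hr : RowA' ↥D) : False := by
  have := C.fin
  obtain ⟨E, hE, hm⟩ := hr _ _ _ _ (posD h hc i)
  obtain ⟨h1, h2⟩ := sn_of h (snD i) (b_mem h i) ⟨hE.le, hE.comp.1⟩
  refine (loc h hR).falseA' h1 (qs_of hE h2) ?_
  rw [za_eq h]
  exact ⟨_, hm, rfl⟩

/-- **(3b)** -/
theorem falseB (C : Ctx G) (hT : TStmt.{u}) (h : Cfg N a b e A B) (hR : RP a b A B) {c : G} (hc : c ∈ N)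
    {D : Subgroup G} (i : In a b e A B c D) (hr : RowB ↥D) : False := by
  have := C.fin
  obtain ⟨E, hE, hm, hα⟩ := hr _ _ _ _ (posD h hc i)
  obtain ⟨h1, h2⟩ := sn_of h (snD i) (b_mem h i) ⟨hE.le, hE.comp.1⟩
  have hee : orderOf e = 2 := orderOf_eq_prime (by rw [pow_two, h.ee]) (e_ne h)
  refine false_of_sn C h ((loc h hR).subB (core_bot hT h (core_of_ctx C hee)) h1 (qs_of hE h2) ?_ ?_)
  · exact ⟨_, hm, wx_eq h i⟩
  · intro α hα3 hfix
    set f : ↥E ≃* ↥((E.map D.subtype).subgroupOf (centralizer ({a * b} : Set G))) :=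
      (E.equivMapOfInjective _ D.subtype_injective).trans (subgroupOfEquivOfLe h2).symm with hf
    have hfv : ∀ g : ↥E, (((f g : ↥(centralizer ({a * b} : Set G))) : G)) = ((g : ↥D) : G) := fun g => rfl
    have h3 := hα ((MulAut.congr f).symm α) (by rw [← map_pow, hα3, map_one]) (by
      intro g hg
      show f.symm (α (f g)) = g
      rw [hfix (f g) (Subtype.ext ?_), f.symm_apply_apply]
      have h4 : ((g : ↥D) : G) * e = e * ((g : ↥D) : G) := by
        have h5 : ((g : ↥D) : G) * (b * (b * e)) = b * (b * e) * ((g : ↥D) : G) := congrArg Subtype.val hg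
        rwa [← mul_assoc b b e, h.bb, one_mul] at h5
      exact h4)
    have h4 := congrArg (MulAut.congr f) h3
    rwa [MulEquiv.apply_symm_apply, map_one] at h4

/-- **(3c)** -/
theorem falseC (C : Ctx G) (h : Cfg N a b e A B) (hR : RP a b A B) {c : G} (hc : c ∈ N)
    {D : Subgroup G} (i : In a b e A B c D) (hr : RowC ↥D) : False := by
  have := C.fin
  obtain ⟨E, hE, hm, ⟨iso⟩⟩ := hr _ _ _ _ (posD h hc i)
  obtain ⟨h1, h2⟩ := sn_of h (snD i) (b_mem h i) hE
  refine false_of_sn C h ((loc h hR).subC (Subtype.ext h.ee) (fun h4 => e_ne h (congrArg Subtype.val h4)) h1 ?_ ?_)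
  · exact ⟨_, hm, wx_eq h i⟩
  · exact ⟨((E.equivMapOfInjective _ D.subtype_injective).trans (subgroupOfEquivOfLe h2).symm).symm.trans iso⟩

/-- **(3), (3a), (3a'), (3b), (3c)** -/
theorem false_of_rows (C : Ctx G) (hT : TStmt.{u}) (h : Cfg N a b e A B) (hR : RP a b A B) {c : G} (hc : c ∈ N)
    {D : Subgroup G} (i : In a b e A B c D)
    (hr : RowO ↥D ∨ RowA ↥D ∨ RowA' ↥D ∨ RowB ↥D ∨ RowC ↥D) : False := by
  rcases hr with hr | hr | hr | hr | hr
  · exact falseO h hc i hr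
  · exact falseA C h hR hc i hr
  · exact falseA' C h hR hc i hr
  · exact falseB C hT h hR hc i hr
  · exact falseC C h hR hc i hr

end

end Cfsg.Agent.OddHalf.NI3.Bad.StepThree
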