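import Cfsg.Agent.OddHalf.NI3.TC

/-!
# `PSL(2,F)`, `|F|` odd, has no subgroup `SL₂(3)`
-/

set_option autoImplicit false

namespace Cfsg.Agent.OddHalf.NI3.Bad.PslTwo

open Subgroup Matrix Cfsg

variable {F : Type*} [Field F]

/-- two matrices commuting with a nonscalar matrix commute -/
theorem comm_of_comm {X A B : Matrix (Fin 2) (Fin 2) F} (hX : X 0 1 ≠ 0 ∨ X 1 0 ≠ 0 ∨ X 0 0 - X 1 1 ≠ 0)
    (hA : A * X = X * A) (hB : B * X = X * B) : A * B = B * A := by
  have a1 := congrFun (congrFun hA 0) 0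
  have a2 := congrFun (congrFun hA 0) 1
  have a3 := congrFun (congrFun hA 1) 0
  have b1 := congrFun (congrFun hB 0) 0
  have b2 := congrFun (congrFun hB 0) 1
  have b3 := congrFun (congrFun hB 1) 0
  simp only [mul_apply, Fin.sum_univ_two] at a1 a2 a3 b1 b2 b3
  have key : ∀ {x1 x2 x3 α1 α2 α3 β1 β2 β3 : F}, (x1 ≠ 0 ∨ x2 ≠ 0 ∨ x3 ≠ 0) → α1 * x2 = α2 * x1 →
      α1 * x3 = α3 * x1 → α2 * x3 = α3 * x2 → β1 * x2 = β2 * x1 → β1 * x3 = β3 * x1 → β2 * x3 = β3 * x2 →
      α1 * β2 = α2 * β1 ∧ α1 * β3 = α3 * β1 ∧ α2 * β3 = α3 * β2 := by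
    intro x1 x2 x3 α1 α2 α3 β1 β2 β3 hx h1 h2 h3 h4 h5 h6
    rcases hx with hx | hx | hx
    · have e2 : α2 = α1 * x2 / x1 := by field_simp; exact h1.symm
      have e3 : α3 = α1 * x3 / x1 := by field_simp; exact h2.symm
      have f2 : β2 = β1 * x2 / x1 := by field_simp; exact h4.symm
      have f3 : β3 = β1 * x3 / x1 := by field_simp; exact h5.symm
      subst e2 e3 f2 f3
      refine ⟨?_, ?_, ?_⟩ <;> field_simp
    · have e1 : α1 = α2 * x1 / x2 := by field_simp; exact h1
      have e3 : α3 = α2 * x3 / x2 := by field_simp; exact h3.symm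
      have f1 : β1 = β2 * x1 / x2 := by field_simp; exact h4
      have f3 : β3 = β2 * x3 / x2 := by field_simp; exact h6.symm
      subst e1 e3 f1 f3
      refine ⟨?_, ?_, ?_⟩ <;> field_simp
    · have e1 : α1 = α3 * x1 / x3 := by field_simp; exact h2
      have e2 : α2 = α3 * x2 / x3 := by field_simp; exact h3
      have f1 : β1 = β3 * x1 / x3 := by field_simp; exact h5
      have f2 : β2 = β3 * x2 / x3 := by field_simp; exact h6
      subst e1 e2 f1 f2
      refine ⟨?_, ?_, ?_⟩ <;> field_simp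
  obtain ⟨k1, k2, k3⟩ := key hX (α1 := A 0 1) (α2 := A 1 0) (α3 := A 0 0 - A 1 1) (β1 := B 0 1) (β2 := B 1 0)
    (β3 := B 0 0 - B 1 1) (by linear_combination a1) (by linear_combination (-1 : F) * a2)
    (by linear_combination a3) (by linear_combination b1) (by linear_combination (-1 : F) * b2)
    (by linear_combination b3)
  ext i j
  fin_cases i <;> fin_cases j <;> simp only [mul_apply, Fin.sum_univ_two, Fin.mk_zero, Fin.mk_one, Fin.isValue]
  · linear_combination k1
  · linear_combination (-1 : F) * k2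
  · linear_combination k3
  · linear_combination (-1 : F) * k1

/-- a noncentral element of `SL(2,F)` is not scalar -/
theorem nonscalar {X : SpecialLinearGroup (Fin 2) F} (hX : X ∉ center (SpecialLinearGroup (Fin 2) F)) :
    (X : Matrix (Fin 2) (Fin 2) F) 0 1 ≠ 0 ∨ (X : Matrix (Fin 2) (Fin 2) F) 1 0 ≠ 0 ∨
      (X : Matrix (Fin 2) (Fin 2) F) 0 0 - (X : Matrix (Fin 2) (Fin 2) F) 1 1 ≠ 0 := by
  by_contra h
  simp only [not_or, not_not] at h
  obtain ⟨h1, h2, h3⟩ := h
  apply hX
  rw [mem_center_iff]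
  intro g
  have h4 : (X : Matrix (Fin 2) (Fin 2) F) 1 1 = (X : Matrix (Fin 2) (Fin 2) F) 0 0 := (sub_eq_zero.1 h3).symm
  refine Matrix.SpecialLinearGroup.ext _ _ fun i j => ?_
  rw [Matrix.SpecialLinearGroup.coe_mul, Matrix.SpecialLinearGroup.coe_mul]
  fin_cases i <;> fin_cases j <;> simp [mul_apply, Fin.sum_univ_two, h1, h2, h4, mul_comm]

/-- `PSL(2,F)`, `|F|` odd, has no subgroup `SL₂(3)`. -/
theorem false_of_isPr [Fintype F] (hF : Odd (Fintype.card F)) {J : Subgroup (ProjectiveSpecialLinearGroup (Fin 2) F)}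
    {z : ProjectiveSpecialLinearGroup (Fin 2) F} (h : IsPr J z) : False := by
  have h2 : (2 : F) ≠ 0 := by
    intro h0
    have h1 : ringChar F = 2 := by
      have h3 : ringChar F ∣ 2 := (CharP.cast_eq_zero_iff F (ringChar F) 2).1 (by exact_mod_cast h0)
      rcases (Nat.dvd_prime Nat.prime_two).1 h3 with h4 | h4
      · exfalso
        have h5 := CharP.cast_eq_zero F (ringChar F)
        rw [h4, Nat.cast_one] at h5
        exact one_ne_zero h5
      · exact h4
    have h3 := (FiniteField.even_card_iff_char_two (F := F)).1 h1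
    rw [Nat.odd_iff] at hF
    omega
  obtain ⟨X, rfl⟩ := QuotientGroup.mk_surjective z
  have hXc : X ∉ center (SpecialLinearGroup (Fin 2) F) := by
    intro h1
    have := h.ord
    rw [(QuotientGroup.eq_one_iff X).2 h1, orderOf_one] at this
    omega
  have hXn := nonscalar hXc
  -- central elements have square one
  have hc2 : ∀ c ∈ center (SpecialLinearGroup (Fin 2) F), (c : Matrix (Fin 2) (Fin 2) F) = 1 ∨
      (c : Matrix (Fin 2) (Fin 2) F) = -1 := by
    intro c hc
    obtain ⟨r, hr, hrc⟩ := Matrix.SpecialLinearGroup.mem_center_iff.1 hc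
    rw [← hrc]
    simp only [Fintype.card_fin] at hr
    have h5 : (r - 1) * (r + 1) = 0 := by linear_combination hr
    rcases mul_eq_zero.1 h5 with h6 | h6
    · left
      rw [sub_eq_zero.1 h6, map_one]
    · right
      rw [eq_neg_of_add_eq_zero_left h6, map_neg, map_one]
  -- lifts of the elements of order three
  have key : ∀ g : SpecialLinearGroup (Fin 2) F,
      (QuotientGroup.mk g : ProjectiveSpecialLinearGroup (Fin 2) F) ∈ J →
      (QuotientGroup.mk g : ProjectiveSpecialLinearGroup (Fin 2) F) * QuotientGroup.mk g * QuotientGroup.mk g = 1 →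
      (g : Matrix (Fin 2) (Fin 2) F) * X = X * g := by
    intro g hg h3
    have h4 : (QuotientGroup.mk g : ProjectiveSpecialLinearGroup (Fin 2) F) * QuotientGroup.mk X =
      QuotientGroup.mk X * QuotientGroup.mk g := h.comm_z hg
    have h5 : (X * g)⁻¹ * (g * X) ∈ center (SpecialLinearGroup (Fin 2) F) := QuotientGroup.eq.1 h4.symm
    have h6 : g * g * g ∈ center (SpecialLinearGroup (Fin 2) F) := (QuotientGroup.eq_one_iff _).1 h3
    set ζ := (X * g)⁻¹ * (g * X) with hζ
    have h7 : g * X = X * g * ζ := by rw [hζ]; group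
    have h7' : (g : Matrix (Fin 2) (Fin 2) F) * X = X * g * ζ := by
      have := congrArg (fun y : SpecialLinearGroup (Fin 2) F => (y : Matrix (Fin 2) (Fin 2) F)) h7
      simpa using this
    rcases hc2 ζ h5 with h8 | h8
    · rw [h7', h8, mul_one]
    · exfalso
      have e1 : (g : Matrix (Fin 2) (Fin 2) F) * X = -(X * g) := by rw [h7', h8, mul_neg, mul_one]
      set g' : Matrix (Fin 2) (Fin 2) F := (g : Matrix (Fin 2) (Fin 2) F)
      set X' : Matrix (Fin 2) (Fin 2) F := (X : Matrix (Fin 2) (Fin 2) F)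
      have e2 : g' * g' * g' * X' = -(X' * (g' * g' * g')) := by
        calc g' * g' * g' * X' = g' * g' * (g' * X') := by noncomm_ring
          _ = g' * (g' * -(X' * g')) := by rw [e1, mul_assoc]
          _ = g' * (-(g' * X') * g') := by noncomm_ring
          _ = g' * (X' * g' * g') := by rw [e1, neg_neg]
          _ = (g' * X') * g' * g' := by noncomm_ring
          _ = -(X' * (g' * g' * g')) := by rw [e1]; noncomm_ring
      have e3 : g' * g' * g' = 1 ∨ g' * g' * g' = -1 := by
        have := hc2 _ h6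
        rwa [Matrix.SpecialLinearGroup.coe_mul, Matrix.SpecialLinearGroup.coe_mul] at this
      have e4 : X' = -X' := by
        rcases e3 with h9 | h9
        · rw [h9, one_mul, mul_one] at e2; exact e2
        · rw [h9, neg_one_mul, mul_neg_one, neg_neg] at e2; exact e2.symm
      have e5 : X' = 0 := by
        ext i j
        have h10 := congrFun (congrFun e4 i) j
        rw [Matrix.neg_apply] at h10
        have h11 : (2 : F) * X' i j = 0 := by linear_combination h10
        rw [Matrix.zero_apply]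
        exact (mul_eq_zero.1 h11).resolve_left h2
      have e6 : X'.det = 1 := X.2
      rw [e5, det_zero] at e6
      exact zero_ne_one e6
  -- the elements of order three commute
  have hcomm : ∀ v ∈ J, v * v * v = 1 → ∀ w ∈ J, w * w * w = 1 → v * w = w * v := by
    intro v hv hv3 w hw hw3
    obtain ⟨g, rfl⟩ := QuotientGroup.mk_surjective v
    obtain ⟨k, rfl⟩ := QuotientGroup.mk_surjective w
    have h3 := comm_of_comm hXn (key g hv hv3) (key k hw hw3)
    have h4 : g * k = k * g := Subtype.ext h3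
    rw [← QuotientGroup.mk_mul, h4, QuotientGroup.mk_mul]
  have h3 : ∀ w ∈ J, w * w * w = 1 → J ≤ centralizer ({w} : Set _) := fun w hw hw3 =>
    h.le_of_cube fun v hv hv3 => mem_centralizer_singleton_iff.2 (hcomm v hv hv3 w hw hw3)
  have h4 : J ≤ centralizer (J : Set _) := h.le_of_cube fun v hv hv3 => by
    rw [mem_centralizer_iff]
    intro y hy
    exact mem_centralizer_singleton_iff.1 (h3 v hv hv3 hy)
  obtain ⟨s, hs, t, ht, -, -, hst⟩ := h.t3.ex4
  exact hst (mem_centralizer_iff.1 (h4 ht) s hs)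

end Cfsg.Agent.OddHalf.NI3.Bad.PslTwo
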