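import Cfsg.Agent.OddHalf.NI3.Bad.Piece
import Cfsg.Agent.OddHalf.NI3.Bad.PslTwo
import Cfsg.Agent.OddHalf.NI3.Final
import Cfsg.Agent.OddHalf.NI.Quot
import Cfsg.Agent.OddHalf.NI.NotBigOf
import Cfsg.Agent.S1152
import Cfsg.Agent.S1157

/-!
# NI over `F₃`, THEOREM NIB: the types of the component `D`

`D` a component of an involution centralizer with a position `Pos x A B w`: `D` is one of the simple groups of `Small3`, or
`2.U₄(3)`.
-/

set_option autoImplicit false
set_option linter.style.haveILetI false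
set_option linter.unusedSectionVars false

namespace Cfsg.Agent.OddHalf.NI3.Bad

open Subgroup Cfsg Cfsg.Agent.OddHalf.Iface Cfsg.Agent.OddHalf.LieOddFam Cfsg.Agent.SignalizersComponents
open Cfsg.Agent.OddHalf.D3 (Comp)
open Cfsg.Agent.OddHalf.NI (CompIn)
open Cfsg.Agent.Cit (cj TStmt pc cls)

universe u

/-- Rank at least 2 over `F₃`, the centre a nontrivial 2-group: the multiplier is even. -/
def CovOf : Prop :=
  ∀ (K : Type u) [Group K] [Finite K], IsQuasisimple K → IsPGroup 2 ↥(center K) → center K ≠ ⊥ →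
    Rk (K ⧸ center K) 3 → Cov3 (K ⧸ center K)

/-- The input of `types`. -/
structure TypeHyps : Prop where
  p1310 : Stmts.P1310.{u}
  noThree : NoThree.{u}
  noBig : NI.NoBig.{u}
  f13 : F13.{u}
  f13c : F13c.{u}
  cov : CovOf.{u}

section

variable {D : Type u} [Group D] [Finite D]

theorem Pos.not_center (hq : IsQuasisimple D) {x w : D} {A B : Subgroup D} (hp : Pos x A B w) : x ∉ center D := by
  intro hx
  obtain ⟨e⟩ := hp.a.pr.iso
  refine not_subnormal hq e ?_
  have h1 : centralizer ({x} : Set D) = ⊤ := by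
    rw [eq_top_iff]
    intro g _
    rw [mem_centralizer_singleton_iff]
    exact mem_center_iff.1 hx g
  have h2 := hp.a.sn
  rw [h1] at h2
  exact h2.isSubnormal IsSubnormal.top

/-- the image of `A` in the simple quotient -/
theorem Pos.map_pr (hq : IsQuasisimple D) {x w : D} {A B : Subgroup D} (hp : Pos x A B w) {Y : Type*} [Group Y]
    (e : D ⧸ center D ≃* Y) : ∃ (J : Subgroup Y) (z : Y), IsPr J z := by
  let f : D →* Y := e.toMonoidHom.comp (QuotientGroup.mk' (center D))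
  have hf : f x ≠ 1 := by
    intro h1
    apply hp.not_center hq
    have h2 : e (QuotientGroup.mk x) = e 1 := by rw [map_one]; exact h1
    exact (QuotientGroup.eq_one_iff x).1 (e.injective h2)
  exact ⟨_, _, hp.a.pr.map f hf⟩

/-- the Ree groups have no `SL₂(3)` -/
theorem ree_false {Y : Type*} [Group Y] [Finite Y] (hY : Lie.IsoRee Y) {J : Subgroup Y} {z : Y} (h : IsPr J z) :
    False := by
  haveI : Fact (Nat.Prime 2) := ⟨Nat.prime_two⟩
  obtain ⟨K, _, _, m, -, hK, ⟨e⟩⟩ := hY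
  obtain ⟨a, haH, ha1, ha2⟩ := Cfsg.Agent.S1157.exists_involution hK
  obtain ⟨-, hS⟩ := Cfsg.Agent.S1152.result hK a haH ha1 ha2
  obtain ⟨s, hs, t, ht, hsz, -, -⟩ := h.t3.ex4
  have h4 : s ^ 2 ^ 2 = 1 := by
    have : s ^ 4 = (s * s) * (s * s) := by rw [pow_succ, pow_succ, pow_two, mul_assoc]
    rw [show (2 : ℕ) ^ 2 = 4 by norm_num, this, hsz, h.t3.z_sq]
  have hp : IsPGroup 2 (zpowers (e s)) := by
    refine IsPGroup.of_card_dvd_pow (n := 2) ?_
    rw [Nat.card_zpowers]
    refine orderOf_dvd_of_pow_eq_one ?_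
    rw [← map_pow, h4, map_one]
  obtain ⟨Q, hQ⟩ := hp.exists_le_sylow
  have h5 := (hS Q).2 (e s) (hQ (mem_zpowers _))
  apply h.t3.z_ne
  rw [← hsz]
  apply e.injective
  rw [map_mul, map_one, h5]

end

section

variable {G : Type u} [Group G]

/-- **The types of `D`.** -/
theorem types (T : TypeHyps.{u}) (hM11 : ∀ (X : Type u) [Group X] [Finite X], IsQuasisimple X →
      IsPGroup 2 ↥(center X) → Spor.IsoM11 (X ⧸ center X) → RowO X) (C : Ctx G) {a : G}
    (ha : orderOf a = 2) {D : Subgroup G} (hD : Comp a D) {x w : ↥D} {A B : Subgroup ↥D} (hp : Pos x A B w) :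
    (center ↥D = ⊥ ∧ Small3 ↥D) ∨ IsN ↥D := by
  have := C.fin
  have hq : IsQuasisimple ↥D := hD.quasi
  have hZ : IsPGroup 2 ↥(center ↥D) := Soft.CompOf.center_isPGroup (C.bal a ha) ⟨hD.le, hD.comp⟩
  obtain ⟨e⟩ := hp.a.pr.iso
  have hY : ¬ HasY ↥D := T.noThree G C a D ha ⟨hD.le, hD.comp⟩
  rcases NI.Quot.lieOdd_of_classical T.p1310 hq hp.a.pr.ord (hp.not_center hq) hp.a.sn.1 hp.a.pr.mem hp.a.sn.2
    (F := ZMod 3) (by rw [ZMod.card]; decide) e with h | h
  · rcases NI.lieOdd_split h with ⟨F, _, _, hF, ⟨f⟩⟩ | h | ⟨q, hq', h⟩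
    · exfalso
      obtain ⟨J, z, hJ⟩ := hp.map_pr hq f
      exact PslTwo.false_of_isPr hF hJ
    · exfalso
      obtain ⟨J, z, hJ⟩ := hp.map_pr hq (MulEquiv.refl _)
      exact ree_false h hJ
    · by_cases hq3 : q = 3
      · subst hq3
        by_cases hc : center ↥D = ⊥
        · left
          refine ⟨hc, ?_⟩
          have e1 : ↥D ⧸ center ↥D ≃* ↥D := (QuotientGroup.quotientMulEquivOfEq hc).trans QuotientGroup.quotientBot
          by_contra hs
          exact hY (T.f13 ↥D (NI3.Final.simple_of_center hc hq.2) (rk_congr e1 h) hs).hasY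
        · right
          by_contra hN
          refine hY (T.f13c ↥D hq hZ hc (T.cov ↥D hq hZ hc h) ?_)
          rintro ⟨h1, h2⟩
          exact hN ⟨hq, h1, h2⟩
      · exfalso
        exact T.noBig G C a D ha ⟨hD.le, hD.comp⟩ (NI.Rows.lieBig_of_rk hq' (hq'.ne_four hq3) h)
  · exfalso
    exact hM11 ↥D hq hZ h x A B w hp

end

end Cfsg.Agent.OddHalf.NI3.Bad
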