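import Cfsg.Agent.OddHalf.NI3.Bad.StepOneOut
import Cfsg.Agent.OddHalf.NI3.Bad.StepThree
import Cfsg.Agent.OddHalf.NI3.Bad.Types
import Cfsg.Agent.OddHalf.NI3.Entrance
import Cfsg.Agent.OddHalf.NI3.Ex.Cut

/-!
# NI over `F₃`, THEOREM NIB, step (1) in `G`: `O₂(A), O₂(B) ≤ O₂(C(z))`

`hR` : from `Ctx G`, `Cfg N a b e A B` and the named inputs `OneHyps`.
-/

set_option autoImplicit false
set_option linter.style.haveILetI false

namespace Cfsg.Agent.OddHalf.NI3.Bad.StepOneG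

open Subgroup Cfsg Cfsg.Agent.OddHalf.Iface Cfsg.Agent.OddHalf.LieOddFam Cfsg.Agent.OddHalf.D9.Cut
  Cfsg.Agent.SignalizersComponents Cfsg.Agent.OddHalf.NI3.Bad Cfsg.Agent.OddHalf.NI3.Bad.StepThree
open Cfsg.Agent.OddHalf.D3 (Comp)
open Cfsg.Agent.OddHalf.NI (CompIn Even8)
open Cfsg.Agent.OddHalf.NI.Ex (MulOdd rankOne_false altCover_comp)
open Cfsg.Agent.Cit (cj TStmt)
open Cfsg.Agent.Omega.Lie.OutT (OutNil)

universe u

/-- The second alternative: `O₂(J) ≤ L`, a component of `C(z)`. -/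
structure In2 {G : Type u} [Group G] (z w g : G) (L J : Subgroup G) : Prop where
  z2 : orderOf z = 2
  w2 : orderOf w = 2
  zw : z * w = w * z
  comp : Comp z L
  pr : IsPr J z
  sn : Sn J (centralizer ({z} : Set G) ⊓ centralizer ({w} : Set G))
  core : pPrimeCore 2 ↥(centralizer ({z} : Set G) ⊓ centralizer ({w} : Set G)) = ⊥
  wL : cj w L = L
  JL : J ≤ normalizer (L : Set G)
  Q : ∀ y ∈ J, y * y = z → y ∈ L
  gz : g * z = z * g
  gJ : cj g J = J
  gL : cj g L = L
  g4 : (g * g) * (g * g) = 1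
  inn : ∃ l ∈ L, ∃ c ∈ centralizer (L : Set G), g * g * w = l * c

/-- **(EX4)** in `G` (helper219). -/
def Ex4G : Prop :=
  ∀ (G : Type u) [Group G], Ctx G → ∀ (z w g : G) (L J : Subgroup G), In2 z w g L J →
    ¬ LieOdd (↥L ⧸ center ↥L) → False

/-- The K-facts for the third alternative. -/
structure OutRows : Prop where
  l2 : ∀ (F : Type) [Field F] [Fintype F], Odd (Fintype.card F) →
    IsSimpleGroup (Matrix.ProjectiveSpecialLinearGroup (Fin 2) F) →
    OutNil (Matrix.ProjectiveSpecialLinearGroup (Fin 2) F)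
  ree : ∀ (X : Type u) [Group X] [Finite X], IsSimpleGroup X → Lie.IsoRee X → OutNil X
  alt : ∀ n : ℕ, Odd n → 7 ≤ n → OutNil ↥(alternatingGroup (Fin n))
  l34 : ∀ (F : Type) [Field F] [Fintype F], Fintype.card F = 4 →
    OutNil (Matrix.ProjectiveSpecialLinearGroup (Fin 3) F)
  he : ∀ (X : Type u) [Group X] [Finite X], Spor.IsoHe X → OutNil X
  small : ∀ (X : Type u) [Group X] [Finite X], Small3 X → ¬ XO8p X → OutNil X
  u43 : ∀ (X : Type u) [Group X] [Finite X], XU43 X → OutNil X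
  o8p : ∀ (X : Type u) [Group X] [Finite X], XO8p X → StepOne.NoFix X

/-- The inputs of step (1), besides `TypeHyps`. -/
structure OneHyps : Prop where
  gw : RankOne.GW.{u}
  p1738 : Stmts.P1738.{u}
  p1311 : Stmts.P1311.{u}
  d5 : D5cover.{u}
  mulOdd : MulOdd.{u}
  frame : FrameFact3.{u}
  x3 : ∀ (G : Type u) [Group G], Ctx G → NoFam3 G
  ex4 : Ex4G.{u}
  rows : OutRows.{u}

variable {G : Type u} [Group G]

/-! ### The second alternative -/

theorem In2.z_mem {z w g : G} {L J : Subgroup G} (h : In2 z w g L J) : z ∈ L := by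
  obtain ⟨x, hx, -, -, hxz, -, -⟩ := h.pr.t3.ex4
  rw [← hxz]
  exact mul_mem (h.Q x hx hxz) (h.Q x hx hxz)

theorem In2.even {z w g : G} {L J : Subgroup G} (h : In2 z w g L J) : Even8 (⟨z, h.z_mem⟩ : ↥L) := by
  obtain ⟨i, j, d, hs⟩ := h.pr.sl
  refine ⟨by rw [Subgroup.orderOf_mk]; exact h.z2, ⟨i, h.Q i hs.hi hs.q.i2⟩, ⟨j, h.Q j hs.hj hs.q.j2⟩,
    Subtype.ext hs.q.i2, Subtype.ext hs.q.j2, ?_⟩
  apply Subtype.ext
  show i * j * i⁻¹ * j⁻¹ = z
  have h1 := hs.q.ji
  rw [mul_inv_eq_iff_eq_mul, mul_inv_eq_iff_eq_mul, mul_assoc, h1, ← mul_assoc, hs.q.z2, one_mul]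

theorem In2.false (T : TypeHyps.{u}) (O : OneHyps.{u}) (C : Ctx G) {z w g : G} {L J : Subgroup G}
    (h : In2 z w g L J) : False := by
  have := C.fin
  have := C.simple
  have hzL := h.z_mem
  have hc : CompOf z L := NI.Final.compOf_of_comp h.comp
  have hq : IsQuasisimple ↥L := h.comp.quasi
  have hyZ : (⟨z, hzL⟩ : ↥L) ∈ center ↥L := by
    rw [mem_center_iff]
    intro g
    exact Subtype.ext (mem_centralizer_singleton_iff.mp (h.comp.le g.2))
  have hyo : orderOf (⟨z, hzL⟩ : ↥L) = 2 := by rw [Subgroup.orderOf_mk]; exact h.z2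
  have hzne : center ↥L ≠ ⊥ := by
    intro h
    rw [h, mem_bot] at hyZ
    rw [hyZ, orderOf_one] at hyo
    omega
  have hz : IsPGroup 2 ↥(center ↥L) := Soft.CompOf.center_isPGroup (C.bal z h.z2) hc
  have hrk : ¬ PRankLE 2 1 ↥L := fun h' => rankOne_false O.gw C h.z2 hc hzL h'
  by_cases halt : IsAlternating (↥L ⧸ center ↥L)
  · obtain ⟨n, hn, f⟩ := halt
    obtain ⟨h8, hcov⟩ := O.d5 ↥L inferInstance hq hz hzne hrk n hn f
    exact altCover_comp O.p1738 C h.z2 hc hzL n h8 hcov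
  by_cases hodd : LieOdd (↥L ⧸ center ↥L)
  · rcases lieOdd_cases hodd halt with h' | h' | h' | ⟨q, hOq, h'⟩
    · exact hrk (O.mulOdd.l2 ↥L hq hz hzne (Or.inl h'))
    · exact hrk (O.mulOdd.l2 ↥L hq hz hzne (Or.inr h'))
    · exact O.mulOdd.ree ↥L hq hz hzne h'
    · by_cases h3 : q = 3
      · subst h3
        exact comp_rk3_false O.frame C (O.x3 G C) h.z2 h.comp hzL h.even h'
      · exact T.noBig G C z L h.z2 hc (NI.Rows.lieBig_of_rk hOq (hOq.ne_four h3) h')
  exact O.ex4 G C z w g L J h hodd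

/-! ### The third alternative -/

theorem types_out (T : TypeHyps.{u}) (O : OneHyps.{u}) (C : Ctx G) {z : G} (hzo : orderOf z = 2) {K : Subgroup G}
    (hK : Comp z K) (hout : ¬ OutNil ↥K) (hfix : ¬ StepOne.NoFix ↥K) (hunb : Unb.IsUnb (↥K ⧸ center ↥K)) :
    False := by
  have := C.fin
  have hc' : CompOf z K := NI.Final.compOf_of_comp hK
  have hZ : IsPGroup 2 ↥(center ↥K) := Soft.CompOf.center_isPGroup (C.bal z hzo) hc'
  have hY : ¬ HasY ↥K := T.noThree G C z K hzo hc'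
  have hq : IsQuasisimple ↥K := hK.quasi
  have hout' : ¬ OutNil (↥K ⧸ center ↥K) := fun h1 => hout (h1.lift hq.1)
  have hs : IsSimpleGroup (↥K ⧸ center ↥K) := hq.2
  rcases hunb with h1 | ⟨n, hn, h7, ⟨e⟩⟩ | ⟨F, i, j, hF, ⟨e⟩⟩ | h1
  · rcases NI.lieOdd_split h1 with ⟨F, i, j, hF, ⟨e⟩⟩ | h1 | ⟨q, hq', h1⟩
    · exact hout' ((O.rows.l2 F hF e.symm.isSimpleGroup).of_equiv e.symm)
    · exact hout' (O.rows.ree _ hs h1)
    · by_cases hq3 : q = 3
      · subst hq3
        by_cases hc : center ↥K = ⊥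
        · have e1 : ↥K ⧸ center ↥K ≃* ↥K := (QuotientGroup.quotientMulEquivOfEq hc).trans QuotientGroup.quotientBot
          have hS : Small3 ↥K := by
            by_contra hs
            exact hY (T.f13 ↥K (NI3.Final.simple_of_center hc hq.2) (rk_congr e1 h1) hs).hasY
          by_cases h8 : XO8p ↥K
          · exact hfix (O.rows.o8p ↥K h8)
          · exact hout (O.rows.small ↥K hS h8)
        · have hU : XU43 (↥K ⧸ center ↥K) := by
            by_contra hN
            exact hY (T.f13c ↥K hq hZ hc (T.cov ↥K hq hZ hc h1) (fun h2 => hN h2.2))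
          exact hout' (O.rows.u43 _ hU)
      · exact T.noBig G C z K hzo hc' (NI.Rows.lieBig_of_rk hq' (hq'.ne_four hq3) h1)
  · exact hout' ((O.rows.alt n hn h7).of_equiv e.symm)
  · exact hout' ((O.rows.l34 F hF).of_equiv e.symm)
  · exact hout' (O.rows.he _ h1)

/-! ### Step (1) -/

section

variable {N A B : Subgroup G} {a b e : G}

/-- a component of the centralizer as a subgroup of `G` -/
theorem comp_map {z : G} {L : Subgroup ↥(centralizer ({z} : Set G))} (hL : IsComponent L) :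
    Comp z (L.map (centralizer ({z} : Set G)).subtype) := by
  refine ⟨map_subtype_le L, ?_⟩
  have h1 : (L.map (centralizer ({z} : Set G)).subtype).subgroupOf (centralizer ({z} : Set G)) = L :=
    comap_map_eq_self_of_injective (subtype_injective _) L
  rw [h1]; exact hL

theorem cj_map {H : Subgroup G} (g : ↥H) (K : Subgroup ↥H) : cj (g : G) (K.map H.subtype) = (cj g K).map H.subtype := by
  rw [Cit.cj_def, Cit.cj_def, Subgroup.map_map, Subgroup.map_map]
  congr 1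

/-- `O(C(z) ∩ C(e)) = 1` -/
theorem core_inf [Finite G] (hT : TStmt.{u}) (h : Cfg N a b e A B)
    (hO : pPrimeCore 2 ↥(centralizer ({e} : Set G)) = ⊥) :
    pPrimeCore 2 ↥(centralizer ({a * b} : Set G) ⊓ centralizer ({e} : Set G)) = ⊥ := by
  have h1 := core_bot hT h hO
  rw [← comap_cent] at h1
  have e2 : ↥((centralizer ({a * b} : Set G) ⊓ centralizer ({e} : Set G)).comap (centralizer ({a * b} : Set G)).subtype) ≃*
      ↥(centralizer ({a * b} : Set G) ⊓ centralizer ({e} : Set G)) := subgroupOfEquivOfLe inf_le_left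
  have h2 := Lib.Cores.map_equiv_pPrimeCore e2 2
  rw [h1, Subgroup.map_bot] at h2
  exact h2.symm

/-- the second alternative gives `In2` -/
theorem exists_in2 [Finite G] (hT : TStmt.{u}) (h : Cfg N a b e A B)
    (hO : pPrimeCore 2 ↥(centralizer ({e} : Set G)) = ⊥) {L : Subgroup ↥(centralizer ({a * b} : Set G))}
    (hL : IsComponent L) (hwL : cj ⟨e, e_mem h⟩ L = L)
    (hJL : A.subgroupOf (centralizer ({a * b} : Set G)) ≤ normalizer (L : Set ↥(centralizer ({a * b} : Set G))))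
    (hQ : ∀ y ∈ A.subgroupOf (centralizer ({a * b} : Set G)), y * y = ⟨a * b, h.A_le_z h.prA.mem⟩ → y ∈ L) :
    ∃ g : G, In2 (a * b) e g (L.map (centralizer ({a * b} : Set G)).subtype) A := by
  obtain ⟨g, hgN, hgg, hgz, hgA, hgB⟩ := h.root
  have hgC : g ∈ centralizer ({a * b} : Set G) := mem_centralizer_singleton_iff.2 hgz
  -- `Q ≤ L`
  have hQ' : ∀ (y : G) (hy : y ∈ A), y * y = a * b → (⟨y, h.A_le_z hy⟩ : ↥(centralizer ({a * b} : Set G))) ∈ L :=
    fun y hy hyy => hQ ⟨y, h.A_le_z hy⟩ hy (Subtype.ext hyy)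
  obtain ⟨i, j, d, hs⟩ := h.prA.sl
  have hiL := hQ' i hs.hi hs.q.i2
  have hjL := hQ' j hs.hj hs.q.j2
  -- `L^g = L`
  have hgL : cj (⟨g, hgC⟩ : ↥(centralizer ({a * b} : Set G))) L = L := by
    by_contra hne
    have h1 : (⟨i, h.A_le_z hs.hi⟩ : ↥(centralizer ({a * b} : Set G))) ∈ cj ⟨g, hgC⟩ L := by
      rw [Cit.mem_cj]
      have h2 : g⁻¹ * i * g ∈ A := by
        rw [← Cit.mem_cj, hgA]; exact hs.hi
      have h3 : (g⁻¹ * i * g) * (g⁻¹ * i * g) = a * b := by
        calc (g⁻¹ * i * g) * (g⁻¹ * i * g) = g⁻¹ * (i * i) * g := by group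
          _ = g⁻¹ * (g * (a * b)) := by rw [hs.q.i2, mul_assoc, hgz]
          _ = a * b := by group
      exact hQ' _ h2 h3
    have h2 := Cit.Comp.comm_of_ne (Cit.Comp.isComponent_cj hL _) hL hne h1 hjL
    exact hs.q.not_comm (congrArg Subtype.val h2)
  -- `a ∈ L C(L)`
  have hinn : ∃ l ∈ L.map (centralizer ({a * b} : Set G)).subtype,
      ∃ c ∈ centralizer ((L.map (centralizer ({a * b} : Set G)).subtype : Subgroup G) : Set G), g * g * e = l * c := by
    obtain ⟨p, hp, q, hq, hpp, hqq, hpq⟩ := h.a_eq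
    obtain ⟨s, hsN, hss, hse, hsz, hsA, hsB⟩ := h.swap
    have hsC : s ∈ centralizer ({a * b} : Set G) := mem_centralizer_singleton_iff.2 hsz
    have hga : g * g * e = p * q := by rw [hgg, mul_assoc, h.ee, mul_one, hpq]
    have hqs : (⟨q, h.B_le_z hq⟩ : ↥(centralizer ({a * b} : Set G))) ∈ cj ⟨s, hsC⟩ L := by
      rw [Cit.mem_cj]
      have h2 : s⁻¹ * q * s ∈ A := by
        rw [← Cit.mem_cj, hsA]; exact hq
      have h3 : (s⁻¹ * q * s) * (s⁻¹ * q * s) = a * b := by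
        calc (s⁻¹ * q * s) * (s⁻¹ * q * s) = s⁻¹ * (q * q) * s := by group
          _ = s⁻¹ * (s * (a * b)) := by rw [hqq, mul_assoc, hsz]
          _ = a * b := by group
      exact hQ' _ h2 h3
    by_cases hsL : cj (⟨s, hsC⟩ : ↥(centralizer ({a * b} : Set G))) L = L
    · rw [hsL] at hqs
      exact ⟨p * q, ⟨_, mul_mem (hQ' p hp hpp) hqs, rfl⟩, 1, one_mem _, by rw [hga, mul_one]⟩
    · refine ⟨p, ⟨_, hQ' p hp hpp, rfl⟩, q, ?_, hga⟩
      rw [mem_centralizer_iff]
      rintro _ ⟨l, hl, rfl⟩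
      exact congrArg Subtype.val (Cit.Comp.comm_of_ne hL (Cit.Comp.isComponent_cj hL _) (Ne.symm hsL) hl hqs)
  refine ⟨g, ?_⟩
  exact
    { z2 := h.z_ord
      w2 := orderOf_eq_prime (by rw [pow_two]; exact h.ee) (e_ne h)
      zw := (mem_centralizer_singleton_iff.1 (e_mem h)).symm
      comp := comp_map hL
      pr := h.prA
      sn := h.snA_e
      core := core_inf hT h hO
      wL := by rw [cj_map ⟨e, e_mem h⟩, hwL]
      JL := by
        intro x hx
        rw [Cit.mem_normalizer_iff_cj]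
        have h1 := Cit.mem_normalizer_iff_cj.1 (hJL (show (⟨x, h.A_le_z hx⟩ : ↥(centralizer ({a * b} : Set G))) ∈
          A.subgroupOf (centralizer ({a * b} : Set G)) from hx))
        rw [cj_map ⟨x, h.A_le_z hx⟩, h1]
      Q := fun y hy hyy => ⟨_, hQ' y hy hyy, rfl⟩
      gz := hgz
      gJ := hgA
      gL := by rw [cj_map ⟨g, hgC⟩, hgL]
      g4 := by
        rw [hgg]
        calc a * e * (a * e) = a * (e * a) * e := by group
          _ = (a * a) * (e * e) := by rw [← h.ae]; group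
          _ = 1 := by rw [h.aa, h.ee, one_mul]
      inn := hinn }

theorem hRA (T : TypeHyps.{u}) (O : OneHyps.{u}) (C : Ctx G) (hT : TStmt.{u}) (h : Cfg N a b e A B) :
    ∀ x ∈ A, x * x = a * b → x ∈ PP (a * b) := by
  have := C.fin
  have hzo : orderOf (a * b) = 2 := h.z_ord
  have heo : orderOf e = 2 := orderOf_eq_prime (by rw [pow_two]; exact h.ee) (e_ne h)
  have hpr := h.prA.subgroupOf h.A_le_z
  have hsn : Sn (A.subgroupOf (centralizer ({a * b} : Set G)))
      (centralizer ({(⟨e, e_mem h⟩ : ↥(centralizer ({a * b} : Set G)))} : Set ↥(centralizer ({a * b} : Set G)))) := by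
    rw [← comap_cent]
    exact h.snA_e.comap _
  have hO : pPrimeCore 2 ↥(centralizer ({a * b} : Set G)) = ⊥ := core_of_ctx C hzo
  have hOw := core_bot hT h (core_of_ctx C heo)
  have hee : (⟨e, e_mem h⟩ : ↥(centralizer ({a * b} : Set G))) * ⟨e, e_mem h⟩ = 1 := Subtype.ext h.ee
  have hzc : ∀ x : ↥(centralizer ({a * b} : Set G)), (⟨a * b, h.A_le_z h.prA.mem⟩ : ↥(centralizer ({a * b} : Set G))) * x =
      x * ⟨a * b, h.A_le_z h.prA.mem⟩ := fun x => Subtype.ext (mem_centralizer_singleton_iff.1 x.2).symm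
  rcases StepOne.main hO hee hOw hpr hsn with h1 | ⟨L, hL, hwL, hJL, hQ⟩ | ⟨L, hL, hwL, hJL, hne, hP, hcen⟩
  · intro x hx hxx
    exact (mem_PP (h.A_le_z hx)).2 (h1 ⟨x, h.A_le_z hx⟩ hx (Subtype.ext hxx))
  · exfalso
    obtain ⟨g, hg⟩ := exists_in2 hT h (core_of_ctx C heo) hL hwL hJL hQ
    exact hg.false T O C
  · exfalso
    have h3 : StepOne.Out3 L (A.subgroupOf (centralizer ({a * b} : Set G))) ⟨e, e_mem h⟩
        ⟨a * b, h.A_le_z h.prA.mem⟩ := ⟨hL, hwL, hJL, hne, hP, hcen⟩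
    have hc : Comp (a * b) (L.map (centralizer ({a * b} : Set G)).subtype) := comp_map hL
    have hc' : CompOf (a * b) (L.map (centralizer ({a * b} : Set G)).subtype) := NI.Final.compOf_of_comp hc
    have e1 : ↥L ≃* ↥(L.map (centralizer ({a * b} : Set G)).subtype) :=
      L.equivMapOfInjective _ (subtype_injective _)
    have hZ : IsPGroup 2 ↥(center ↥L) := by
      have h4 := Soft.CompOf.center_isPGroup (C.bal (a * b) hzo) hc'
      exact h4.of_equiv (Subgroup.centerCongr e1).symm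
    have h5 := h3.not_outNil hpr hsn.1 (fun x _ => hzc x) hZ
    have h6 := h3.not_noFix hee hpr hsn.1
    have h7 := h3.unb O.p1311 hee hpr hsn.1 hZ
    exact types_out T O C hzo hc (fun h8 => h5 (h8.of_equiv e1.symm)) (fun h8 => h6 (h8.of_equiv e1.symm))
      (h7.congr (NI3.Final.quoCongr e1))

/-- **STEP (1)**: `O₂(A), O₂(B) ≤ O₂(C(z))`. -/
theorem hR (T : TypeHyps.{u}) (O : OneHyps.{u}) (C : Ctx G) (hT : TStmt.{u}) (h : Cfg N a b e A B) :
    (∀ x ∈ A, x * x = a * b → x ∈ PP (a * b)) ∧ (∀ x ∈ B, x * x = a * b → x ∈ PP (a * b)) := by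
  have h1 := hRA T O C hT h
  refine ⟨h1, ?_⟩
  intro x hx hxx
  obtain ⟨s, hsN, hss, hse, hsz, hsA, hsB⟩ := h.swap
  have hsC : s ∈ centralizer ({a * b} : Set G) := mem_centralizer_singleton_iff.2 hsz
  have h2 : s⁻¹ * x * s ∈ A := by
    rw [← Cit.mem_cj, hsA]; exact hx
  have h3 : (s⁻¹ * x * s) * (s⁻¹ * x * s) = a * b := by
    calc (s⁻¹ * x * s) * (s⁻¹ * x * s) = s⁻¹ * (x * x) * s := by group
      _ = s⁻¹ * (s * (a * b)) := by rw [hxx, mul_assoc, hsz]
      _ = a * b := by group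
  have h4 := h1 _ h2 h3
  have h5 := (mem_PP (h.A_le_z h2)).1 h4
  haveI : (pCore 2 ↥(centralizer ({a * b} : Set G))).Normal := Lib.Cores.pCore_normal 2
  have h6 := (inferInstance : (pCore 2 ↥(centralizer ({a * b} : Set G))).Normal).conj_mem _ h5 ⟨s, hsC⟩
  refine ⟨_, h6, ?_⟩
  show s * (s⁻¹ * x * s) * s⁻¹ = x
  group

end

end Cfsg.Agent.OddHalf.NI3.Bad.StepOneG
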