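import Cfsg.Agent.OddHalf.NI3.Bad.OutPow
import Cfsg.Agent.OddHalf.NI3.Bad.OutThree
import Cfsg.Agent.OddHalf.NI3.Bad.StepOneG
import Cfsg.Agent.OddHalf.NI3.Bad.O8pSheet

/-!
# NI over `F₃`, THEOREM NIB, step (1): the K-facts `OutRows`

`rows` : all fields of `OutRows` but `o8p`; `outRows` : `TStmt → OutRows`.
-/

set_option autoImplicit false
set_option linter.style.haveILetI false

namespace Cfsg.Agent.OddHalf.NI3.Bad.OutRowsOf

open Subgroup Cfsg Cfsg.Agent.OddHalf.LieOddFam Cfsg.Agent.OddHalf.NI3.Bad.StepOneG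
open Cfsg.Agent.Omega.Lie.OutT (OutNil)

universe u

theorem u43 {X : Type u} [Group X] (h : XU43 X) : OutNil X := by
  obtain ⟨F, _, _, hF, ⟨e⟩⟩ := h
  exact (OutPow.outNil_PSU_nine hF (by norm_num)).of_equiv e.symm

theorem small {X : Type u} [Group X] (h : Small3 X) (h' : ¬ XO8p X) : OutNil X := by
  rcases small3_iff.1 h with h | h | h | h | h | h | h | h | h
  · obtain ⟨F, _, _, hF, ⟨e⟩⟩ := h
    exact (OutPow.outNil_PSL_three hF (by norm_num)).of_equiv e.symm
  · obtain ⟨F, _, _, hF, ⟨e⟩⟩ := h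
    exact (OutPow.outNil_PSU_nine hF le_rfl).of_equiv e.symm
  · obtain ⟨F, _, _, hF, ⟨e⟩⟩ := h
    exact (OutPow.outNil_PSL_three hF (by norm_num)).of_equiv e.symm
  · exact u43 h
  · obtain ⟨F, _, _, hF, ⟨e⟩⟩ := h
    exact (OutPow.outNil_PSp_three hF le_rfl).of_equiv e.symm
  · obtain ⟨F, _, _, hF, ⟨e⟩⟩ := h
    exact (OutThree.outNil_G2 hF).of_equiv e.symm
  · obtain ⟨F, _, _, hF, ⟨e⟩⟩ := h
    exact (OutPow.outNil_odd_three hF le_rfl).of_equiv e.symm
  · exact absurd h h'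
  · obtain ⟨F, _, _, b, c, hF, hbc, ⟨e⟩⟩ := h
    exact (OutPow.outNil_minus_three hF le_rfl b c hbc).of_equiv e.symm

/-- **The K-facts of step (1)**, except `PΩ₈⁺(3)`. -/
theorem rows (o8p : ∀ (X : Type u) [Group X] [Finite X], XO8p X → StepOne.NoFix X) : OutRows.{u} where
  l2 := fun F _ _ _ _ => OutPow.outNil_PSL_two F
  ree := fun X _ _ _ h => Omega.Lie.OutT.outNil_ree h
  alt := fun n _ hn => OutPow.outNil_alt hn
  l34 := fun F _ _ h4 => by
    have hc : CharP F 2 := by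
      have h1 : (2 : F) * 2 = 0 := by
        have h2 : (Fintype.card F : F) = 0 := Nat.cast_card_eq_zero F
        rw [h4] at h2
        calc (2 : F) * 2 = ((4 : ℕ) : F) := by norm_num
          _ = 0 := h2
      have h2 : (2 : F) = 0 := by
        rcases mul_eq_zero.1 h1 with h | h <;> exact h
      obtain ⟨p, hp⟩ := CharP.exists F
      have h3 : p ∣ 2 := (CharP.cast_eq_zero_iff F p 2).1 (by exact_mod_cast h2)
      have h5 : p.Prime := CharP.char_is_prime F p
      rwa [(Nat.prime_dvd_prime_iff_eq h5 Nat.prime_two).1 h3] at hp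
    exact Omega.Lie.OutT.outNil_PSL (by norm_num)
  he := fun X _ _ h => OutPow.outNil_he h
  small := fun X _ _ h h' => small h h'
  u43 := fun X _ _ h => u43 h
  o8p := o8p

/-- **The K-facts of step (1)** -/
theorem outRows (hT : Cit.TStmt.{u}) : OutRows.{u} := rows fun X _ _ h => O8pSheet.o8p hT X h

end Cfsg.Agent.OddHalf.NI3.Bad.OutRowsOf
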