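import Cfsg.Agent.OddHalf.NI3.Bad.StepDOf
import Cfsg.Agent.OddHalf.NI3.Bad.CaseA

/-!
# THEOREM NIB, step (3d), (a4): `z` is not a commutator in `C_P(Q₁ Q₂ Q₃ Q₄)`

* `Dbl.hC_of_sq` : `HC` from an element `x₀` not commuting with `z` and commuting with all squares of `C_P(Q₁ Q₂ Q₃ Q₄)`;
* `Dbl.hC_of_refl` : `HC` from the dichotomy rotation / reflection.
-/

set_option autoImplicit false
set_option linter.style.haveILetI false

namespace Cfsg.Agent.OddHalf.NI3.Bad

open Subgroup Cfsg Cfsg.Agent.OddHalf.Iface Cfsg.Agent.OddHalf.LieOddFam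
open Cfsg.Agent.OddHalf.D3 (Comp)
open Cfsg.Agent.OddHalf.NI (CompIn)
open Cfsg.Agent.Cit (cj)

universe u

namespace Dbl

variable {G : Type*} [Group G] {N D : Subgroup G} {a b e e' : G} {A B A' B' : Subgroup G}

/-- `C_P(Q₁ Q₂ Q₃ Q₄)` -/
def C0 (a b : G) (A B A' B' : Subgroup G) (c : G) : Prop :=
  c ∈ PP (a * b) ∧ ∀ y, (y ∈ A ∨ y ∈ B) ∨ y ∈ A' ∨ y ∈ B' → y * y = a * b → c * y = y * c

theorem C0.mul {c c' : G} (h : C0 a b A B A' B' c) (h' : C0 a b A B A' B' c') : C0 a b A B A' B' (c * c') :=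
  ⟨mul_mem h.1 h'.1, fun y hy hyy => ((show Commute c y from h.2 y hy hyy).mul_left
    (show Commute c' y from h'.2 y hy hyy)).eq⟩

/-- `z` is not a commutator if some `x₀` commutes with all squares and does not commute with `z` -/
theorem hC_of_sq (h : Dbl N D a b e e' A B A' B') {x₀ : G} (hx : x₀ * (a * b) ≠ a * b * x₀)
    (hsq : (∀ x, x ∈ A ∨ x ∈ B → ∀ y, y ∈ A' ∨ y ∈ B' → x * y = y * x) →
      ∀ c, C0 a b A B A' B' c → c * c * x₀ = x₀ * (c * c)) : HC a b A B A' B' := by
  intro hcom c hc c' hc' h1 h2 hcc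
  set z := a * b with hz
  have zz : z * z = 1 := h.cfg.zz
  have m1 : C0 a b A B A' B' c := ⟨hc, h1⟩
  have m2 : C0 a b A B A' B' c' := ⟨hc', h2⟩
  have s1 := hsq hcom c m1
  have s2 := hsq hcom c' m2
  have s3 := hsq hcom (c * c') (m1.mul m2)
  have cz : c * z = z * c := PP_comm hc
  have e1 : c' * c = z * (c * c') := by
    rw [hcc, ← mul_assoc, zz, one_mul]
  have e2 : c * c' * (c * c') = z * (c * c * (c' * c')) := by
    calc c * c' * (c * c') = c * (c' * c) * c' := by group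
      _ = (c * z) * (c * c') * c' := by rw [e1]; group
      _ = z * (c * c * (c' * c')) := by rw [cz]; group
  rw [e2] at s3
  apply hx
  have e3 : c * c * (c' * c') * x₀ = x₀ * (c * c * (c' * c')) :=
    ((show Commute (c * c) x₀ from s1).mul_left (show Commute (c' * c') x₀ from s2)).eq
  have e4 : z * x₀ * (c * c * (c' * c')) = x₀ * z * (c * c * (c' * c')) := by
    calc z * x₀ * (c * c * (c' * c')) = z * (x₀ * (c * c * (c' * c'))) := by group
      _ = z * (c * c * (c' * c')) * x₀ := by rw [← e3]; group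
      _ = x₀ * z * (c * c * (c' * c')) := by rw [s3]; group
  exact (mul_right_cancel e4).symm

/-- elements of `C_P(Q₁ Q₂ Q₃ Q₄)` commute with `a`, `b`, `e`, `e'` -/
theorem C0.comm (h : Dbl N D a b e e' A B A' B') (hz : e * e' = a * b) {c : G} (hc : C0 a b A B A' B' c) :
    c * a = a * c ∧ c * b = b * c ∧ c * e = e * c ∧ c * e' = e' * c := by
  have k1 : c * a = a * c := by
    obtain ⟨p, hp, q, hq, h1, h2, h3⟩ := h.cfg.a_eq
    rw [h3]
    exact ((show Commute c p from hc.2 p (Or.inl (Or.inl hp)) h1).mul_right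
      (show Commute c q from hc.2 q (Or.inl (Or.inr hq)) h2)).eq
  have k2 : c * (a * b) = a * b * c := PP_comm hc.1
  have k3 : c * e = e * c := by
    obtain ⟨p, hp, q, hq, h1, h2, h3⟩ := h.sh.a_eq
    rw [hz] at h1 h2
    rw [h3]
    exact ((show Commute c p from hc.2 p (Or.inr (Or.inl hp)) h1).mul_right
      (show Commute c q from hc.2 q (Or.inr (Or.inr hq)) h2)).eq
  have inv_mul : ∀ x y : G, x * x = 1 → y = x * (x * y) := fun x y hx => by rw [← mul_assoc, hx, one_mul]
  refine ⟨k1, ?_, k3, ?_⟩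
  · rw [inv_mul a b h.cfg.aa]
    exact ((show Commute c a from k1).mul_right (show Commute c (a * b) from k2)).eq
  · rw [inv_mul e e' h.sh.aa, hz]
    exact ((show Commute c e from k3).mul_right (show Commute c (a * b) from k2)).eq

/-- elements of `C_P(Q₁ Q₂ Q₃ Q₄)` centralise `A'` and `B'` -/
theorem C0.comm' [Finite G] (h : Dbl N D a b e e' A B A' B') (hz : e * e' = a * b) {c : G} (hc : C0 a b A B A' B' c) :
    ∀ y, y ∈ A' ∨ y ∈ B' → c * y = y * c := by
  haveI : Fact (Nat.Prime 2) := ⟨Nat.prime_two⟩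
  have ca := (hc.comm h hz).1
  have hP2 : IsPGroup 2 (PP (a * b)) :=
    (Lib.Cores.pCore_isPGroup (G := ↥(centralizer ({a * b} : Set G))) 2).map _
  have hPn : centralizer ({a * b} : Set G) ≤ normalizer (PP (a * b) : Set G) := by
    intro g hg
    refine mem_normalizer_fintype ?_
    rintro _ ⟨x, hx, rfl⟩
    have hn : (pCore 2 ↥(centralizer ({a * b} : Set G))).Normal := Lib.Cores.pCore_normal 2
    exact ⟨⟨g, hg⟩ * x * ⟨g, hg⟩⁻¹, hn.conj_mem x hx _, rfl⟩
  -- for a factor `J`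
  have key : ∀ J : Subgroup G, IsPr J (a * b) →
      Sn J (centralizer ({a * b} : Set G) ⊓ centralizer ({a} : Set G)) → (∀ y ∈ J, y * y = a * b → c * y = y * c) →
      ∀ y ∈ J, c * y = y * c := by
    intro J hJ hs hy
    set X := PP (a * b) ⊓ centralizer ({a} : Set G) with hX
    have hX2 : IsPGroup 2 X := hP2.to_le inf_le_left
    have hJX : J ≤ normalizer (X : Set G) :=
      (le_inf ((hs.le.trans inf_le_left).trans hPn) ((hs.le.trans inf_le_right).trans le_normalizer)).trans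
        inf_normalizer_le_normalizer_inf
    have hs' : Sn J (J ⊔ X) :=
      hs.restrict (sup_le hs.le (inf_le_inf_right _ (PP_le _))) le_sup_left
    have h1 : J ≤ centralizer ({c} : Set G) := by
      refine hJ.le_of_cube fun v hv hv3 => ?_
      rw [mem_centralizer_singleton_iff]
      exact (comm_of_cent hJ.t3 hX2 hJX hs' (fun a' ha' => hJ.comm_z ha')
        (mem_inf.2 ⟨hc.1, mem_centralizer_singleton_iff.2 ca⟩) (fun y hyJ hyy => hy y hyJ hyy) hv hv3).symm
    intro y hyJ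
    exact (mem_centralizer_singleton_iff.1 (h1 hyJ)).symm
  have p3 := h.sh.prA
  have p4 := h.sh.prB
  rw [hz] at p3 p4
  rintro y (hy | hy)
  · exact key A' p3 h.snA' (fun y hy hyy => hc.2 y (Or.inr (Or.inl hy)) hyy) y hy
  · exact key B' p4 h.snB' (fun y hy hyy => hc.2 y (Or.inr (Or.inr hy)) hyy) y hy

/-- an element of `C(a)` commuting with `A'` normalises `D` -/
theorem norm_D (h : Dbl N D a b e e' A B A' B') {g : G} (ga : g * a = a * g) (hg : ∀ y ∈ A', g * y = y * g) :
    cj g D = D := by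
  by_contra hne
  have h1 := (h.comp.conj_of_comm ga).comm h.comp hne
  obtain ⟨x, hx, y, hy, -, -, hxy⟩ := h.sh.prA.t3.ex4
  have h2 : x ∈ cj g D := by
    refine ⟨x, h.sh.AN hx, ?_⟩
    show g * x * g⁻¹ = x
    rw [hg x hx]; group
  exact hxy (mem_centralizer_iff.1 (h1 h2) y (h.sh.AN hy)).symm

/-- `HC` from the dichotomy rotation / reflection: `p₅`, `q₅ ∈ D`, `r ∈ C_{Q₁Q₂}(a)` a reflection -/
theorem hC_of_refl [Finite G] (h : Dbl N D a b e e' A B A' B') (hz : e * e' = a * b) {p₅ q₅ x₀ x₁ x₂ : G}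
    (hx : x₀ * (a * b) ≠ a * b * x₀)
    (hdich : ∀ g : G, cj g D = D → g * a = a * g → g * b = b * g → g * e = e * g → g * e' = e' * g →
      (∀ y, y ∈ A' ∨ y ∈ B' → g * y = y * g) → g * p₅ * g⁻¹ = p₅ ∨ g * p₅ * g⁻¹ = q₅⁻¹)
    (hrefl : ∀ g : G, cj g D = D → g * a = a * g → g * b = b * g → g * e = e * g → g * e' = e' * g →
      (∀ y, y ∈ A' ∨ y ∈ B' → g * y = y * g) → g * p₅ * g⁻¹ = q₅⁻¹ → g * g * x₀ = x₀ * (g * g))
    (h1 : x₁ ∈ A) (h2 : x₂ ∈ B) (h11 : x₁ * x₁ = a * b) (h22 : x₂ * x₂ = a * b) (ha : x₁ * x₂ * a = a * (x₁ * x₂))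
    (hr : x₁ * x₂ * p₅ * (x₁ * x₂)⁻¹ = q₅⁻¹) : HC a b A B A' B' := by
  refine h.hC_of_sq hx fun hcom c hc => ?_
  obtain ⟨ca, cb, ce, ce'⟩ := hc.comm h hz
  have cA := hc.comm' h hz
  have cD := h.norm_D ca fun y hy => cA y (Or.inl hy)
  rcases hdich c cD ca cb ce ce' cA with hp | hp
  · -- `c` a rotation: `r c` is a reflection
    set r := x₁ * x₂ with hrdef
    have zz : (a * b) * (a * b) = 1 := h.cfg.zz
    have rr : r * r = 1 := by
      calc r * r = x₁ * (x₂ * x₁) * x₂ := by rw [hrdef]; group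
        _ = (x₁ * x₁) * (x₂ * x₂) := by rw [← h.cfg.AB x₁ h1 x₂ h2]; group
        _ = 1 := by rw [h11, h22, zz]
    have rA : ∀ y, y ∈ A' ∨ y ∈ B' → r * y = y * r := fun y hy =>
      ((show Commute x₁ y from hcom x₁ (Or.inl h1) y hy).mul_left
        (show Commute x₂ y from hcom x₂ (Or.inr h2) y hy)).eq
    have rz : Commute r (a * b) :=
      (show Commute x₁ (a * b) from h.cfg.prA.comm_z h1).mul_left (show Commute x₂ (a * b) from h.cfg.prB.comm_z h2)
    have ra : Commute r a := ha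
    have rb : Commute r b := by
      have e1 : b = a * (a * b) := by rw [← mul_assoc, h.cfg.aa, one_mul]
      rw [e1]; exact ra.mul_right rz
    have re : Commute r e := by
      obtain ⟨p, hp, q, hq, -, -, h3⟩ := h.sh.a_eq
      rw [h3]
      exact (show Commute r p from rA p (Or.inl hp)).mul_right (show Commute r q from rA q (Or.inr hq))
    have re' : Commute r e' := by
      have e1 : e' = e * (e * e') := by rw [← mul_assoc, h.sh.aa, one_mul]
      rw [e1, hz]; exact re.mul_right rz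
    have rD := h.norm_D ha fun y hy => rA y (Or.inl hy)
    have cr : Commute c r := by
      have k1 : Commute c x₁ := hc.2 x₁ (Or.inl (Or.inl h1)) h11
      have k2 : Commute c x₂ := hc.2 x₂ (Or.inl (Or.inr h2)) h22
      exact k1.mul_right k2
    have h5 : r * c * p₅ * (r * c)⁻¹ = q₅⁻¹ := by
      calc r * c * p₅ * (r * c)⁻¹ = r * (c * p₅ * c⁻¹) * r⁻¹ := by group
        _ = q₅⁻¹ := by rw [hp, hr]
    have h6 := hrefl (r * c) (by rw [Cit.cj_mul, cD, rD]) (ra.mul_left ca).eq (rb.mul_left cb).eq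
      (re.mul_left ce).eq (re'.mul_left ce').eq
      (fun y hy => ((show Commute r y from rA y hy).mul_left (show Commute c y from cA y hy)).eq) h5
    have h7 : r * c * (r * c) = c * c := by
      calc r * c * (r * c) = r * (c * r) * c := by group
        _ = (r * r) * (c * c) := by rw [cr.eq]; group
        _ = c * c := by rw [rr, one_mul]
    rwa [h7] at h6
  · exact hrefl c cD ca cb ce ce' cA hp

end Dbl

end Cfsg.Agent.OddHalf.NI3.Bad
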