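import Cfsg.Agent.OddHalf.NI3.Bad.FourLin
import Cfsg.Agent.OddHalf.NI3.TC

/-!
# Node NI over `F₃`, THEOREM NIB, (3d)(a4): the end

`Four.main` : under `Four P z i j d`, if `P` contains all normal 2-subgroups of `H` and all elements of
`⟨⟨i 0, d 0⟩^H⟩` centralising `P`, then `J 0 = ⟨i 0, d 0⟩` is subnormal in `H`.

`four_main` : the same for `P = O₂(H)` and `IsPr`.
-/

set_option autoImplicit false
set_option linter.style.haveILetI false
set_option linter.unusedSectionVars false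
set_option linter.unusedSimpArgs false
set_option linter.unreachableTactic false
set_option linter.unusedTactic false

namespace Cfsg.Agent.OddHalf.NI3.Bad.FourLin

open Subgroup Cfsg Cfsg.Agent.Cit Cfsg.Agent.Cit.SLThree

variable {H : Type*} [Group H]

/-- equality modulo `z` -/
def Mz (z x y : H) : Prop := ∃ b, x = zb z b * y

namespace Mz

variable {z x y x' y' w : H}

theorem rfl' : Mz z x x := ⟨false, by simp [zb]⟩

theorem of_eq (h : x = y) : Mz z x y := by rw [h]; exact rfl'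

theorem symm (hz : Cz z) (h : Mz z x y) : Mz z y x := by
  obtain ⟨b, hb⟩ := h
  exact ⟨b, by rw [hb, ← mul_assoc, hz.zb_sq, one_mul]⟩

theorem trans (hz : Cz z) (h : Mz z x y) (h' : Mz z y w) : Mz z x w := by
  obtain ⟨b, hb⟩ := h
  obtain ⟨b', hb'⟩ := h'
  exact ⟨xor b b', by rw [hb, hb', ← mul_assoc, hz.zb_xor]⟩

theorem mul (hz : Cz z) (h : Mz z x y) (h' : Mz z x' y') : Mz z (x * x') (y * y') := by
  obtain ⟨b, hb⟩ := h
  obtain ⟨b', hb'⟩ := h'
  refine ⟨xor b b', ?_⟩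
  rw [hb, hb', hz.zb_xor]
  calc zb z b * y * (zb z b' * y') = zb z b * (y * zb z b') * y' := by group
    _ = zb z b * (zb z b' * y) * y' := by rw [← hz.zb_cen b' y]
    _ = zb z b * zb z b' * (y * y') := by group

theorem conj (hz : Cz z) (g : H) (h : Mz z x y) : Mz z (g * x * g⁻¹) (g * y * g⁻¹) := by
  obtain ⟨b, hb⟩ := h
  refine ⟨b, ?_⟩
  rw [hb, ← mul_assoc g, ← hz.zb_cen]; group

theorem of_or (h : x = y ∨ x = z * y) : Mz z x y := by
  rcases h with h | h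
  · exact ⟨false, by simpa [zb] using h⟩
  · exact ⟨true, by simpa [zb] using h⟩

theorem rel {c : H} (h : Mz z (c * x * c⁻¹) x) : ∃ b, Rel z c x b := by
  obtain ⟨b, hb⟩ := h
  refine ⟨b, ?_⟩
  unfold Rel
  calc c * x = (c * x * c⁻¹) * c := by group
    _ = zb z b * (x * c) := by rw [hb]; group

end Mz

/-- two automorphisms of order 3 of the four-group `⟨i, j⟩ / z` commute -/
theorem comm_mod {S : Subgroup H} {z i j d r s δ : H} (hz : Cz z) (h : Root S z i j d) (h' : Root S z r s δ)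
    (hQ : closure ({i, j} : Set H) = closure {r, s}) :
    Mz z ((d * δ * d⁻¹ * δ⁻¹) * i * (d * δ * d⁻¹ * δ⁻¹)⁻¹) i ∧
      Mz z ((d * δ * d⁻¹ * δ⁻¹) * j * (d * δ * d⁻¹ * δ⁻¹)⁻¹) j := by
  have hq := h.q
  have hi := Qt.mem_i z i j
  have hj := Qt.mem_j z i j
  -- norm relation for `δ`
  have hN : ∀ x ∈ closure ({i, j} : Set H), Mz z (δ * (δ * x * δ⁻¹) * δ⁻¹) (x * (δ * x * δ⁻¹)) := by
    intro x hx
    rw [hQ] at hx
    have hq' := h'.q
    apply Mz.of_or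
    rcases hq'.mem_cases hx with rfl | rfl | rfl | rfl | rfl | rfl | rfl | rfl
    · left; group
    · right
      have e : δ * x * δ⁻¹ = x := by rw [h'.dz]; group
      rw [e, e, hq'.z2, mul_one]
    all_goals
      simp only [h'.dzz, h'.dr, h'.ds, h'.drs, mul_assoc, one_mul, mul_one, hq'.z2, hq'.zz, hq'.iz, hq'.jz, hq'.izx,
        hq'.jzx, hq'.i2, hq'.j2, hq'.iix, hq'.jjx, hq'.ji, hq'.jix, true_or, or_true]
  -- no fixed points
  have hF : ∀ x ∈ closure ({i, j} : Set H), x * x = z → ¬ Mz z (δ * x * δ⁻¹) x := by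
    intro x hx hx2 hM
    obtain ⟨b, hb⟩ := hM
    have h1 : x * (δ * x * δ⁻¹) = (δ * x * δ⁻¹) * x := by
      rw [hb, ← mul_assoc, ← hz.zb_cen, mul_assoc]
    rw [hQ] at hx
    rcases h'.fpf hx h1 with h2 | h2
    · apply hz.ne; rw [← hx2, h2, one_mul]
    · apply hz.ne; rw [← hx2, h2, hz.sq]
  have hmem : δ * i * δ⁻¹ ∈ closure ({i, j} : Set H) := by
    rw [hQ]; exact h'.sl.conj_mem (by rw [← hQ]; exact hi)
  have hsq : (δ * i * δ⁻¹) * (δ * i * δ⁻¹) = z := by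
    calc (δ * i * δ⁻¹) * (δ * i * δ⁻¹) = δ * (i * i) * δ⁻¹ := by group
      _ = z := by rw [hq.i2, h'.dz]; group
  have inv : ∀ g x y : H, Mz z (g * x * g⁻¹) y → Mz z (g⁻¹ * y * g⁻¹⁻¹) x := by
    intro g x y hxy
    have h1 := (hxy.symm hz).conj hz g⁻¹
    have h2 : g⁻¹ * (g * x * g⁻¹) * g⁻¹⁻¹ = x := by group
    rwa [h2] at h1
  have expand : ∀ x, (d * δ * d⁻¹ * δ⁻¹) * x * (d * δ * d⁻¹ * δ⁻¹)⁻¹ =
      d * (δ * (d⁻¹ * (δ⁻¹ * x * δ⁻¹⁻¹) * d⁻¹⁻¹) * δ⁻¹) * d⁻¹ := fun x => by group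
  have chain : ∀ x y w v : H, Mz z (δ⁻¹ * x * δ⁻¹⁻¹) y → Mz z (d⁻¹ * y * d⁻¹⁻¹) w → Mz z (δ * w * δ⁻¹) v →
      Mz z (d * v * d⁻¹) x → Mz z ((d * δ * d⁻¹ * δ⁻¹) * x * (d * δ * d⁻¹ * δ⁻¹)⁻¹) x := by
    intro x y w v h1 h2 h3 h4
    rw [expand]
    exact ((((((h1.conj hz d⁻¹).trans hz h2).conj hz δ).trans hz h3).conj hz d).trans hz h4)
  have di : Mz z (d * i * d⁻¹) j := Mz.of_eq h.dr
  have dj : Mz z (d * j * d⁻¹) (i * j) := Mz.of_eq h.ds
  have dk : Mz z (d * (i * j) * d⁻¹) i := Mz.of_eq h.drs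
  -- alternative (α)
  have alpha : Mz z (δ * i * δ⁻¹) j → Mz z ((d * δ * d⁻¹ * δ⁻¹) * i * (d * δ * d⁻¹ * δ⁻¹)⁻¹) i ∧
      Mz z ((d * δ * d⁻¹ * δ⁻¹) * j * (d * δ * d⁻¹ * δ⁻¹)⁻¹) j := by
    intro hα
    have e1 : Mz z (δ * j * δ⁻¹) (i * j) :=
      (((hα.symm hz).conj hz δ).trans hz (hN i hi)).trans hz (Mz.rfl'.mul hz hα)
    have e2 : Mz z (δ * (i * j) * δ⁻¹) i := by
      rw [Root.dmul]
      refine (hα.mul hz e1).trans hz (Mz.of_eq ?_)
      simp only [mul_assoc, one_mul, mul_one, hq.z2, hq.zz, hq.iz, hq.jz, hq.izx, hq.jzx, hq.i2, hq.j2, hq.iix,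
        hq.jjx, hq.ji, hq.jix]
    exact ⟨chain i (i * j) j (i * j) (inv _ _ _ e2) (inv _ _ _ dj) e1 dk,
      chain j i (i * j) i (inv _ _ _ hα) (inv _ _ _ dk) e2 di⟩
  have beta : Mz z (δ * i * δ⁻¹) (i * j) → Mz z ((d * δ * d⁻¹ * δ⁻¹) * i * (d * δ * d⁻¹ * δ⁻¹)⁻¹) i ∧
      Mz z ((d * δ * d⁻¹ * δ⁻¹) * j * (d * δ * d⁻¹ * δ⁻¹)⁻¹) j := by
    intro hβ
    have e1 : Mz z (δ * (i * j) * δ⁻¹) j := by
      refine ((((hβ.symm hz).conj hz δ).trans hz (hN i hi)).trans hz (Mz.rfl'.mul hz hβ)).trans hz (Mz.of_or (Or.inr ?_))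
      simp only [mul_assoc, one_mul, mul_one, hq.z2, hq.zz, hq.iz, hq.jz, hq.izx, hq.jzx, hq.i2, hq.j2, hq.iix,
        hq.jjx, hq.ji, hq.jix]
    have e2 : Mz z (δ * j * δ⁻¹) i := by
      have h1 : j = i⁻¹ * (i * j) := by group
      have h2 : Mz z (δ * i⁻¹ * δ⁻¹) (z * (i * j)) := by
        have h3 : δ * i⁻¹ * δ⁻¹ = z * (δ * i * δ⁻¹) := by
          rw [hq.i_inv, h'.dzz]
        rw [h3]
        exact (Mz.rfl' : Mz z z z).mul hz hβ
      rw [h1, Root.dmul]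
      refine (h2.mul hz e1).trans hz (Mz.of_eq ?_)
      simp only [mul_assoc, one_mul, mul_one, hq.z2, hq.zz, hq.iz, hq.jz, hq.izx, hq.jzx, hq.i2, hq.j2, hq.iix,
        hq.jjx, hq.ji, hq.jix]
    exact ⟨chain i j i (i * j) (inv _ _ _ e2) (inv _ _ _ di) hβ dk,
      chain j (i * j) j i (inv _ _ _ e1) (inv _ _ _ dj) e2 di⟩
  rcases hq.mem_cases hmem with h1 | h1 | h1 | h1 | h1 | h1 | h1 | h1
  · exact absurd (by rw [← hsq, h1, one_mul]) hz.ne
  · exact absurd (by rw [← hsq, h1, hz.sq]) hz.ne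
  · exact absurd (Mz.of_eq h1) (hF i hi hq.i2)
  · exact absurd (Mz.of_or (Or.inr h1)) (hF i hi hq.i2)
  · exact alpha (Mz.of_eq h1)
  · exact alpha (Mz.of_or (Or.inr h1))
  · exact beta (Mz.of_eq h1)
  · exact beta (Mz.of_or (Or.inr h1))

namespace Four

variable {P : Subgroup H} {z : H} {i j d : Fin 4 → H}

theorem rootP (h : Four P z i j d) [Finite H] (k : Fin 4) : Root P z (i k) (j k) (d k) := by
  have := h.rootT k
  rwa [h.T_eq] at this

/-- `[P, [d 0, δ]] ≤ ⟨z⟩` for every conjugate `δ` of `d 0` -/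
theorem comm_rel (h : Four P z i j d) [Finite H] (m : H) {p : H} (hp : p ∈ P) :
    ∃ b, Rel z (d 0 * (m * d 0 * m⁻¹) * (d 0)⁻¹ * (m * d 0 * m⁻¹)⁻¹) p b := by
  have hz := h.cz.cen
  have r0 := h.rootP 0
  have hm : m ∈ normalizer (P : Set H) := by
    haveI := h.hn
    rw [normalizer_eq_top_iff.2 h.hn]; exact mem_top m
  have r := r0.conj hz hm
  obtain ⟨l, hl⟩ := h.roots (r := m * i 0 * m⁻¹) (s := m * j 0 * m⁻¹) (δ := m * d 0 * m⁻¹) (by rw [h.T_eq]; exact r)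
  set r' := m * i 0 * m⁻¹ with hr'
  set s' := m * j 0 * m⁻¹ with hs'
  set δ := m * d 0 * m⁻¹ with hδ
  set c := d 0 * δ * (d 0)⁻¹ * δ⁻¹ with hc
  have hi := Qt.mem_i z (i 0) (j 0)
  have hj := Qt.mem_j z (i 0) (j 0)
  have hr := Qt.mem_i z r' s'
  have hs := Qt.mem_j z r' s'
  -- an element commuting with both commutes with `c`
  have hcc : ∀ x, d 0 * x = x * d 0 → δ * x = x * δ → Rel z c x false := by
    intro x h1 h2
    have a1 : Commute (d 0) x := h1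
    have a2 : Commute δ x := h2
    exact Rel.false_iff.2 (((a1.mul_left a2).mul_left a1.inv_left).mul_left a2.inv_left)
  obtain ⟨a, ha, b, hb, rfl, hb1, hb2, hb3⟩ := r0.fac hz h.hP hp
  by_cases hl0 : l = 0
  · -- `R = Q 0`
    subst hl0
    have hbr : δ * b = b * δ := by
      refine r.comm_d hz h.hP hb ?_ ?_
      · exact Root.comm_closure hb1 hb2 (by rw [hl]; exact hr)
      · exact Root.comm_closure hb1 hb2 (by rw [hl]; exact hs)
    have hcb := hcc b hb3 hbr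
    obtain ⟨h1, h2⟩ := comm_mod h.cz r0 r hl
    obtain ⟨b1, h1⟩ := Mz.rel h1
    obtain ⟨b2, h2⟩ := Mz.rel h2
    have hca : ∀ x ∈ closure ({i 0, j 0} : Set H), ∃ b, Rel z c x b := by
      intro x hx
      induction hx using closure_induction with
      | mem x hx =>
        rcases hx with rfl | rfl
        · exact ⟨b1, h1⟩
        · exact ⟨b2, h2⟩
      | one => exact ⟨false, Rel.one_left.symm h.cz⟩
      | mul x y _ _ hx hy =>
        obtain ⟨b3, h3⟩ := hx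
        obtain ⟨b4, h4⟩ := hy
        exact ⟨_, h3.mul_right h.cz h4⟩
      | inv x _ hx =>
        obtain ⟨b3, h3⟩ := hx
        exact ⟨_, h3.inv_right h.cz⟩
    obtain ⟨b3, h3⟩ := hca a ha
    exact ⟨_, h3.mul_right h.cz hcb⟩
  · -- `R ≠ Q 0`
    have hcom : ∀ x ∈ closure ({i 0, d 0} : Set H), ∀ y ∈ closure ({r', s'} : Set H), x * y = y * x := by
      intro x hx y hy
      rw [← hl] at hy
      exact (h.comQ hl0 hy hx).symm
    have hQJ := (h.sl 0).Qle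
    have hδQ : ∀ x ∈ closure ({i 0, j 0} : Set H), δ * x = x * δ := fun x hx =>
      r.comm_d hz h.hP (h.Qle 0 hx) (hcom x (hQJ hx) _ hr) (hcom x (hQJ hx) _ hs)
    have hd0 : ∀ y ∈ closure ({r', s'} : Set H), d 0 * y = y * d 0 := fun y hy => hcom _ (h.sl 0).hd y hy
    obtain ⟨a', ha', b', hb', rfl, hb1', hb2', hb3'⟩ := r.fac hz h.hP hb
    have e1 : b' * i 0 = i 0 * b' := by
      have h1 : a' * i 0 = i 0 * a' := (hcom _ (hQJ hi) a' ha').symm
      have h2 : a'⁻¹ * i 0 = i 0 * a'⁻¹ := (show Commute a' (i 0) from h1).inv_left.eq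
      have h3 : b' = a'⁻¹ * (a' * b') := by group
      rw [h3, mul_assoc, hb1, ← mul_assoc, h2, mul_assoc]
    have e2 : b' * j 0 = j 0 * b' := by
      have h1 : a' * j 0 = j 0 * a' := (hcom _ (hQJ hj) a' ha').symm
      have h2 : a'⁻¹ * j 0 = j 0 * a'⁻¹ := (show Commute a' (j 0) from h1).inv_left.eq
      have h3 : b' = a'⁻¹ * (a' * b') := by group
      rw [h3, mul_assoc, hb2, ← mul_assoc, h2, mul_assoc]
    have e3 : d 0 * b' = b' * d 0 := r0.comm_d hz h.hP hb' e1 e2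
    have c1 : Rel z c b' false := hcc b' e3 hb3'
    have c2 : Rel z c a false := by
      apply Rel.false_iff.2
      have h1 : (d 0)⁻¹ * a * d 0 ∈ closure ({i 0, j 0} : Set H) := by
        have h2 := (h.sl 0).conj_mem ((h.sl 0).conj_mem ha)
        have h3 : (d 0)⁻¹ = d 0 * d 0 := (h.sl 0).d_inv
        have h4 : (d 0)⁻¹ * a * d 0 = d 0 * (d 0 * a * (d 0)⁻¹) * (d 0)⁻¹ := by
          calc (d 0)⁻¹ * a * d 0 = (d 0)⁻¹ * a * ((d 0)⁻¹)⁻¹ := by rw [inv_inv]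
            _ = (d 0 * d 0) * a * (d 0 * d 0)⁻¹ := by rw [h3]
            _ = _ := by group
        rw [h4]; exact h2
      have h2 := hδQ a ha
      have h3 := hδQ _ h1
      have h4 : δ⁻¹ * a = a * δ⁻¹ := (show Commute δ a from h2).inv_left.eq
      rw [hc]
      calc d 0 * δ * (d 0)⁻¹ * δ⁻¹ * a = d 0 * δ * (d 0)⁻¹ * (δ⁻¹ * a) := by group
        _ = d 0 * (δ * ((d 0)⁻¹ * a * d 0)) * (d 0)⁻¹ * δ⁻¹ := by rw [h4]; group
        _ = a * (d 0 * δ * (d 0)⁻¹ * δ⁻¹) := by rw [h3]; group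
    have c3 : Rel z c a' false := by
      apply Rel.false_iff.2
      have h1 : δ⁻¹ * a' * δ ∈ closure ({r', s'} : Set H) := by
        have h2 := r.sl.conj_mem (r.sl.conj_mem ha')
        have h3 : δ⁻¹ = δ * δ := r.sl.d_inv
        have h4 : δ⁻¹ * a' * δ = δ * (δ * a' * δ⁻¹) * δ⁻¹ := by
          calc δ⁻¹ * a' * δ = δ⁻¹ * a' * (δ⁻¹)⁻¹ := by rw [inv_inv]
            _ = (δ * δ) * a' * (δ * δ)⁻¹ := by rw [h3]
            _ = _ := by group
        rw [h4]; exact h2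
      have h2 := hd0 _ h1
      have h4 : (d 0)⁻¹ * (δ⁻¹ * a' * δ) = (δ⁻¹ * a' * δ) * (d 0)⁻¹ :=
        (show Commute (d 0) (δ⁻¹ * a' * δ) from h2).inv_left.eq
      have h5 := hd0 a' ha'
      rw [hc]
      calc d 0 * δ * (d 0)⁻¹ * δ⁻¹ * a' = d 0 * δ * ((d 0)⁻¹ * (δ⁻¹ * a' * δ)) * δ⁻¹ := by group
        _ = (d 0 * a') * δ * (d 0)⁻¹ * δ⁻¹ := by rw [h4]; group
        _ = a' * (d 0 * δ * (d 0)⁻¹ * δ⁻¹) := by rw [h5]; group
    exact ⟨_, c2.mul_right h.cz (c3.mul_right h.cz c1)⟩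

/-- **the end** -/
theorem main (h : Four P z i j d) [Finite H] (hmax : ∀ N : Subgroup H, N.Normal → IsPGroup 2 N → N ≤ P)
    (hE : ∀ g ∈ normalClosure (closure ({i 0, d 0} : Set H) : Set H), (∀ p ∈ P, g * p = p * g) → g ∈ P) :
    (closure ({i 0, d 0} : Set H)).IsSubnormal := by
  have hz := h.cz.cen
  have r0 := h.rootP 0
  haveI hPn := h.hn
  set J := closure ({i 0, d 0} : Set H) with hJ
  set L := normalClosure (J : Set H) with hL
  have hLn : L.Normal := normalClosure_normal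
  have hJL : J ≤ L := subset_normalClosure
  have hd0 : d 0 ∈ J := (h.sl 0).hd
  -- the normal 2-subgroup `N`
  let N : Subgroup H :=
    { carrier := {g | g ∈ L ∧ ∀ p ∈ P, ∃ b, Rel z g p b}
      one_mem' := ⟨one_mem _, fun p _ => ⟨false, Rel.one_left⟩⟩
      mul_mem' := by
        rintro g g' ⟨hg, hg'⟩ ⟨hk, hk'⟩
        refine ⟨mul_mem hg hk, fun p hp => ?_⟩
        obtain ⟨b, hb⟩ := hg' p hp
        obtain ⟨b', hb'⟩ := hk' p hp
        exact ⟨_, hb.mul_left h.cz hb'⟩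
      inv_mem' := by
        rintro g ⟨hg, hg'⟩
        refine ⟨inv_mem hg, fun p hp => ?_⟩
        obtain ⟨b, hb⟩ := hg' p hp
        exact ⟨_, hb.inv_left h.cz⟩ }
  have hNn : N.Normal := by
    refine ⟨?_⟩
    rintro g ⟨hg, hg'⟩ m
    refine ⟨hLn.conj_mem _ hg _, fun p hp => ?_⟩
    obtain ⟨b, hb⟩ := hg' (m⁻¹ * p * m) (by
      have := hPn.conj_mem p hp m⁻¹
      rwa [inv_inv] at this)
    refine ⟨b, ?_⟩
    have h1 := hb.conj h.cz m
    have h2 : m * (m⁻¹ * p * m) * m⁻¹ = p := by group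
    rwa [h2] at h1
  have hN2 : IsPGroup 2 N := by
    rintro ⟨g, hg, hg'⟩
    have h1 : g * g ∈ P := by
      refine hE _ (mul_mem hg hg) fun p hp => ?_
      obtain ⟨b, hb⟩ := hg' p hp
      have h2 := hb.mul_left h.cz hb
      rw [Bool.xor_self] at h2
      exact Rel.false_iff.1 h2
    obtain ⟨n, hn⟩ := h.hP ⟨g * g, h1⟩
    refine ⟨n + 1, Subtype.ext ?_⟩
    show g ^ 2 ^ (n + 1) = 1
    have h2 : (g * g) ^ 2 ^ n = 1 := by simpa using congrArg Subtype.val hn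
    rw [pow_succ, mul_comm, pow_mul, pow_two]
    exact h2
  have hNP : N ≤ P := hmax N hNn hN2
  have hcP : ∀ m : H, d 0 * (m * d 0 * m⁻¹) * (d 0)⁻¹ * (m * d 0 * m⁻¹)⁻¹ ∈ P := by
    intro m
    apply hNP
    have h1 : m * d 0 * m⁻¹ ∈ L := hLn.conj_mem _ (hJL hd0) _
    exact ⟨mul_mem (mul_mem (mul_mem (hJL hd0) h1) (inv_mem (hJL hd0))) (inv_mem h1), fun p hp => h.comm_rel m hp⟩
  -- `A = P⟨d 0⟩`, `B = P⟨d 0 ^ H⟩`
  set A := P ⊔ zpowers (d 0) with hA
  set L1 := normalClosure ({d 0} : Set H) with hL1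
  set B := P ⊔ L1 with hB
  have hL1n : L1.Normal := normalClosure_normal
  have hBn : B.Normal := inferInstance
  have hAB : A ≤ B := sup_le_sup_left (zpowers_le.2 (subset_normalClosure (Set.mem_singleton _))) P
  have hdA : d 0 ∈ A := mem_sup_right (mem_zpowers _)
  have hBA : B ≤ normalizer (A : Set H) := by
    refine sup_le (le_sup_left.trans le_normalizer) ?_
    rw [hL1, normalClosure, closure_le]
    intro y hy
    rw [Group.mem_conjugatesOfSet_iff] at hy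
    obtain ⟨a, ha, hay⟩ := hy
    rw [Set.mem_singleton_iff] at ha
    subst ha
    obtain ⟨m, rfl⟩ := isConj_iff.1 hay
    rw [SetLike.mem_coe, Cit.mem_normalizer_iff_cj]
    have h1 : Cit.cj (m * d 0 * m⁻¹) A ≤ A := by
      rw [Cit.cj_def, map_le_iff_le_comap, hA]
      refine sup_le ?_ ?_
      · intro p hp
        exact mem_sup_left (hPn.conj_mem p hp _)
      · rw [zpowers_le]
        show (m * d 0 * m⁻¹) * d 0 * (m * d 0 * m⁻¹)⁻¹ ∈ P ⊔ zpowers (d 0)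
        have h2 : (m * d 0 * m⁻¹) * d 0 * (m * d 0 * m⁻¹)⁻¹ =
            (d 0 * (m * d 0 * m⁻¹) * (d 0)⁻¹ * (m * d 0 * m⁻¹)⁻¹)⁻¹ * d 0 := by group
        rw [h2]
        exact mul_mem (inv_mem (mem_sup_left (hcP m))) (mem_sup_right (mem_zpowers _))
    refine eq_of_le_of_card_ge h1 (le_of_eq ?_)
    exact Nat.card_congr (equivMapOfInjective A _ (MulAut.conj (m * d 0 * m⁻¹)).injective).toEquiv
  -- `J` is normal in `A`
  have hJA : J ≤ A := by
    rw [hJ, closure_le]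
    rintro x (rfl | rfl)
    · exact mem_sup_left (h.hi 0)
    · exact hdA
  have hAJ : A ≤ normalizer (J : Set H) := by
    refine sup_le ?_ (zpowers_le.2 (le_normalizer hd0))
    intro p hp
    obtain ⟨a, ha, b, hb, rfl, hb1, hb2, hb3⟩ := r0.fac hz h.hP hp
    refine mul_mem (le_normalizer ((h.sl 0).Qle ha)) (centralizer_le_normalizer _ ?_)
    have h1 : J ≤ centralizer ({b} : Set H) := by
      rw [hJ, closure_le]
      rintro x (rfl | rfl)
      · exact mem_centralizer_singleton_iff.2 hb1.symm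
      · exact mem_centralizer_singleton_iff.2 hb3
    rw [mem_centralizer_iff]
    intro x hx
    exact mem_centralizer_singleton_iff.1 (h1 hx)
  exact ((Sn.of_normal hJA hAJ).trans (Sn.of_normal hAB hBA)).isSubnormal hBn.isSubnormal

end Four

/-- coordinates of `J ≅ SL₂(3)` with a given `i` -/
theorem exists_sl {J : Subgroup H} {z a : H} (hJ : IsPr J z) (ha : a ∈ J) (ha2 : a * a = z) :
    ∃ j d, Sl J z a j d := by
  obtain ⟨i, j, d, h⟩ := hJ.sl
  obtain ⟨g, hg, hga⟩ := hJ.t3.conj i h.hi a ha h.q.i2 ha2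
  have h1 := h.of_cj g
  have h2 : Cit.cj g J = J := Cit.mem_normalizer_iff_cj.1 (le_normalizer hg)
  have h3 : g * z * g⁻¹ = z := by rw [hJ.comm_z hg]; group
  rw [h2, h3, hga] at h1
  exact ⟨_, _, h1⟩

/-- **Four commuting `SL₂(3)` with the same central involution `z` of `H` and `O₂(J k) ≤ O₂(H)`.** -/
theorem four_main [Finite H] {z : H} (hz : ∀ x : H, z * x = x * z) {J : Fin 4 → Subgroup H}
    (hJ : ∀ k, IsPr (J k) z) (hcom : ∀ k l, k ≠ l → ∀ a ∈ J k, ∀ b ∈ J l, a * b = b * a)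
    (hQ : ∀ k, ∀ y ∈ J k, y * y = z → y ∈ pCore 2 H) {a : Fin 4 → H} (ha : ∀ k, a k ∈ J k)
    (ha2 : ∀ k, a k * a k = z) (s0 : Sn (J 0) (centralizer {a 2 * a 3})) (s1 : Sn (J 1) (centralizer {a 2 * a 3}))
    (s2 : Sn (J 2) (centralizer {a 0 * a 1})) (s3 : Sn (J 3) (centralizer {a 0 * a 1}))
    (hC : ∀ c ∈ pCore 2 H, ∀ c' ∈ pCore 2 H, (∀ k, ∀ y ∈ J k, y * y = z → c * y = y * c) →
      (∀ k, ∀ y ∈ J k, y * y = z → c' * y = y * c') → c * c' ≠ z * (c' * c))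
    (hE : ∀ g ∈ normalClosure (J 0 : Set H), (∀ p ∈ pCore 2 H, g * p = p * g) → g ∈ pCore 2 H) :
    (J 0).IsSubnormal := by
  choose j d hsl using fun k => exists_sl (hJ k) (ha k) (ha2 k)
  have hg : ∀ k, closure {a k, d k} = J k := fun k => (hsl k).gen.symm
  have hz1 : z ≠ 1 := (hsl 0).q.z1
  have hF : Four (pCore 2 H) z a j d := by
    refine ⟨⟨hz, (hsl 0).q.z2, hz1⟩, fun k => (hsl k).q, fun k => (hsl k).di, fun k => (hsl k).dj,
      fun k => (hsl k).d3, ?_, Lib.Cores.pCore_isPGroup 2, Lib.Cores.pCore_normal 2, fun k => hQ k _ (ha k) (ha2 k),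
      ?_, ?_⟩
    · intro k l hkl
      rw [hg, hg]
      exact hcom k l hkl
    · intro k
      rw [hg]
      fin_cases k
      · exact s0
      · exact s1
      · exact s2
      · exact s3
    · intro c hc c' hc' h1 h2
      have key : ∀ c, (∀ k, c * a k = a k * c ∧ c * j k = j k * c) → ∀ k, ∀ y ∈ J k, y * y = z → c * y = y * c := by
        intro c h3 k y hy hyz
        refine Root.comm_closure (h3 k).1 (h3 k).2 ?_
        refine (hsl k).mem_Q hy (P := pCore 2 H) (Lib.Cores.pCore_isPGroup 2) ?_ (hQ k y hy hyz)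
        rw [closure_le]
        rintro x (rfl | rfl)
        · exact hQ k _ (ha k) (ha2 k)
        · exact hQ k _ (hsl k).hj (hsl k).q.j2
      exact hC c hc c' hc' (key c h1) (key c' h2)
  have h1 := hF.main (fun N hN hN2 => by
      exact SignalizersComponents.CompBasic.subnormal_pGroup_le_pCore hN.isSubnormal hN2) (by rw [hg]; exact hE)
  rwa [hg] at h1

/-- `C(O₂(H)) ∩ ⟨J^H⟩ ≤ O₂(H)` if `O(H) = 1` and `J` centralises the components of `H` -/
theorem mem_pCore_of_comm [Finite H] (hO : pPrimeCore 2 H = ⊥) {J : Subgroup H}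
    (hJ : ∀ L : Subgroup H, IsComponent L → ∀ x ∈ J, ∀ y ∈ L, x * y = y * x) {g : H}
    (hg : g ∈ normalClosure (J : Set H)) (hc : ∀ p ∈ pCore 2 H, g * p = p * g) : g ∈ pCore 2 H := by
  have h1 : ∀ L : Subgroup H, IsComponent L → ∀ y ∈ L, g * y = y * g := by
    have h2 : normalClosure (J : Set H) ≤
        ⨅ L : {L : Subgroup H // IsComponent L}, centralizer ((L : Subgroup H) : Set H) := by
      rw [normalClosure, closure_le]
      intro x hx
      rw [Group.mem_conjugatesOfSet_iff] at hx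
      obtain ⟨a, ha, hax⟩ := hx
      obtain ⟨m, rfl⟩ := isConj_iff.1 hax
      rw [SetLike.mem_coe, mem_iInf]
      rintro ⟨L, hL⟩
      rw [mem_centralizer_iff]
      intro y hy
      have h3 : IsComponent (Cit.cj m⁻¹ L) := Comp.isComponent_cj hL m⁻¹
      have h4 : m⁻¹ * y * m ∈ Cit.cj m⁻¹ L := ⟨y, hy, by simp⟩
      have h5 := hJ _ h3 a ha _ h4
      calc y * (m * a * m⁻¹) = m * ((m⁻¹ * y * m) * a) * m⁻¹ := by group
        _ = m * (a * (m⁻¹ * y * m)) * m⁻¹ := by rw [h5]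
        _ = m * a * m⁻¹ * y := by group
    intro L hL y hy
    have h3 := h2 hg
    rw [mem_iInf] at h3
    exact (mem_centralizer_iff.1 (h3 ⟨L, hL⟩) y hy).symm
  have h5 : g ∈ centralizer (generalizedFittingSubgroup H : Set H) := by
    refine OneComp.mem_centralizer_genFit hO ?_ ?_
    · intro L hL
      rw [mem_centralizer_iff]
      intro y hy
      exact (h1 L hL y hy).symm
    · rw [mem_centralizer_iff]
      intro y hy
      exact (hc y hy).symm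
  exact OneComp.centralizer_genFit_le hO h5

/-- **NIB (3d)(a3) + (a4)**: `four_main` with `O(H) = 1` and `[J 0, E(H)] = 1`. -/
theorem four_main' [Finite H] (hO : pPrimeCore 2 H = ⊥) {z : H} (hz : ∀ x : H, z * x = x * z) {J : Fin 4 → Subgroup H}
    (hJ : ∀ k, IsPr (J k) z) (hcom : ∀ k l, k ≠ l → ∀ a ∈ J k, ∀ b ∈ J l, a * b = b * a)
    (hQ : ∀ k, ∀ y ∈ J k, y * y = z → y ∈ pCore 2 H) {a : Fin 4 → H} (ha : ∀ k, a k ∈ J k)
    (ha2 : ∀ k, a k * a k = z) (s0 : Sn (J 0) (centralizer {a 2 * a 3})) (s1 : Sn (J 1) (centralizer {a 2 * a 3}))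
    (s2 : Sn (J 2) (centralizer {a 0 * a 1})) (s3 : Sn (J 3) (centralizer {a 0 * a 1}))
    (hC : ∀ c ∈ pCore 2 H, ∀ c' ∈ pCore 2 H, (∀ k, ∀ y ∈ J k, y * y = z → c * y = y * c) →
      (∀ k, ∀ y ∈ J k, y * y = z → c' * y = y * c') → c * c' ≠ z * (c' * c))
    (hE : ∀ L : Subgroup H, IsComponent L → ∀ x ∈ J 0, ∀ y ∈ L, x * y = y * x) : (J 0).IsSubnormal :=
  four_main hz hJ hcom hQ ha ha2 s0 s1 s2 s3 hC fun _ hg hc => mem_pCore_of_comm hO hE hg hc

end Cfsg.Agent.OddHalf.NI3.Bad.FourLin
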