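import Cfsg.Agent.OddHalf.NI3.Bad.FourQ
import Cfsg.Agent.OddHalf.NI3.Bad.FourEnd

/-!
# THEOREM NIB, step (3d) (a), K-free part assembled (helper598, helper289)

`caseA_pr` : in a finite group `H` with `O(H) = 1` and a central involution `z`, `J₁, J₂` commuting subgroups `SL₂(3)`
with involution `z`, subnormal in `C(w)`, `J₃, J₄` commuting subgroups `SL₂(3)` with involution `z`, subnormal in `C(w')`,
`w' = a₁ a₂ ∈ J₁J₂`, `w = a₃ a₄ ∈ J₃J₄` (`a_i` of order 4), `O₂(J_i) ≤ O₂(H)`; `J₁`, `J₂` centralise the components of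
`H`; (a2): every `x₁ x₂` with `x_k` of order 4 in `J_k`, inverting `a_k`, centralises `J₃`, `J₄`; (a4): two elements
of `O₂(H)` which centralise the four quaternion groups have commutator `≠ z`. Then `J₁` is subnormal in `H`.

`caseA_G` : the same for subgroups of `G`, `H = C(z)`.
-/

set_option autoImplicit false

namespace Cfsg.Agent.OddHalf.NI3.Bad

open Subgroup Cfsg Cfsg.Agent.Cit Cfsg.Agent.Cit.SLThree

/-- **(3d) (a)**, K-free part, abstract group. -/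
theorem caseA_pr {H : Type*} [Group H] [Finite H] (hO : pPrimeCore 2 H = ⊥) {z w w' : H}
    (hz : ∀ x : H, x * z = z * x) {J₁ J₂ J₃ J₄ : Subgroup H} (p₁ : IsPr J₁ z) (p₂ : IsPr J₂ z) (p₃ : IsPr J₃ z)
    (p₄ : IsPr J₄ z) (c₁₂ : ∀ x ∈ J₁, ∀ y ∈ J₂, x * y = y * x) (c₃₄ : ∀ x ∈ J₃, ∀ y ∈ J₄, x * y = y * x)
    (s₁ : Sn J₁ (centralizer ({w} : Set H))) (s₂ : Sn J₂ (centralizer ({w} : Set H)))
    (s₃ : Sn J₃ (centralizer ({w'} : Set H))) (s₄ : Sn J₄ (centralizer ({w'} : Set H)))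
    (r₁ : ∀ x ∈ J₁, x * x = z → x ∈ pCore 2 H) (r₂ : ∀ x ∈ J₂, x * x = z → x ∈ pCore 2 H)
    (r₃ : ∀ x ∈ J₃, x * x = z → x ∈ pCore 2 H) (r₄ : ∀ x ∈ J₄, x * x = z → x ∈ pCore 2 H)
    {a₁ a₂ a₃ a₄ : H} (h₁ : a₁ ∈ J₁) (h₂ : a₂ ∈ J₂) (h₃ : a₃ ∈ J₃) (h₄ : a₄ ∈ J₄)
    (e₁ : a₁ * a₁ = z) (e₂ : a₂ * a₂ = z) (e₃ : a₃ * a₃ = z) (e₄ : a₄ * a₄ = z) (hw' : w' = a₁ * a₂)
    (hw : w = a₃ * a₄)
    (hE₁ : ∀ L : Subgroup H, IsComponent L → ∀ x ∈ J₁, ∀ y ∈ L, x * y = y * x)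
    (hE₂ : ∀ L : Subgroup H, IsComponent L → ∀ x ∈ J₂, ∀ y ∈ L, x * y = y * x)
    (hr : ∀ x₁ ∈ J₁, ∀ x₂ ∈ J₂, x₁ * x₁ = z → x₂ * x₂ = z → x₁ * a₁ = z * (a₁ * x₁) → x₂ * a₂ = z * (a₂ * x₂) →
      ∀ y, y ∈ J₃ ∨ y ∈ J₄ → x₁ * x₂ * y = y * (x₁ * x₂))
    (hC : (∀ x, x ∈ J₁ ∨ x ∈ J₂ → ∀ y, y ∈ J₃ ∨ y ∈ J₄ → x * y = y * x) →
      ∀ c ∈ pCore 2 H, ∀ c' ∈ pCore 2 H,
      (∀ y, (y ∈ J₁ ∨ y ∈ J₂) ∨ y ∈ J₃ ∨ y ∈ J₄ → y * y = z → c * y = y * c) →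
      (∀ y, (y ∈ J₁ ∨ y ∈ J₂) ∨ y ∈ J₃ ∨ y ∈ J₄ → y * y = z → c' * y = y * c') → c * c' ≠ z * (c' * c)) :
    J₁.IsSubnormal := by
  have hPn : (pCore 2 H).Normal := Lib.Cores.pCore_normal 2
  have hall : ∀ x, x ∈ J₁ ∨ x ∈ J₂ → ∀ y, y ∈ J₃ ∨ y ∈ J₄ → x * y = y * x := by
    obtain ⟨i₁, j₁, v₁, i₂, j₂, v₂, D⟩ := half_of p₁ p₂ c₁₂ s₁ s₂ r₁ r₂
    obtain ⟨i₃, j₃, v₃, i₄, j₄, v₄, D'⟩ := half_of p₃ p₄ c₃₄ s₃ s₄ r₃ r₄
    have hJE : ∀ L : Subgroup H, IsComponent L → ∀ x ∈ J₁ ⊔ J₂, ∀ y ∈ L, x * y = y * x := by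
      intro L hL x hx y hy
      have h1 : J₁ ⊔ J₂ ≤ centralizer {y} := by
        refine sup_le ?_ ?_
        · intro x hx
          exact mem_centralizer_singleton_iff.2 (hE₁ L hL x hx y hy)
        · intro x hx
          exact mem_centralizer_singleton_iff.2 (hE₂ L hL x hx y hy)
      exact mem_centralizer_singleton_iff.1 (h1 hx)
    exact comm_all (Lib.Cores.pCore_isPGroup 2) D D' (mem_Q_of_sqrt D.h1 h₁ e₁) (mem_Q_of_sqrt D.h2 h₂ e₂)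
      (mem_Q_of_sqrt D'.h1 h₃ e₃) (mem_Q_of_sqrt D'.h2 h₄ e₄) e₁ e₂ e₃ e₄ hw' hw
      (K := normalClosure ((J₁ ⊔ J₂ : Subgroup H) : Set H)) (le_sup_left.trans le_normalClosure)
      (le_sup_right.trans le_normalClosure) (fun y hy hc => FourLin.mem_pCore_of_comm hO hJE hy hc) hr
  have hC' := hC hall
  have key := FourLin.four_main' hO (fun x => (hz x).symm) (J := ![J₁, J₂, J₃, J₄]) (a := ![a₁, a₂, a₃, a₄])
    (by intro k; fin_cases k <;> assumption)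
    (by
      intro k l hkl x hx y hy
      fin_cases k <;> fin_cases l <;> simp only [Fin.zero_eta, Fin.isValue, Fin.mk_one, Fin.reduceFinMk,
        Matrix.cons_val_zero, Matrix.cons_val_one, Matrix.cons_val] at hkl hx hy
      · exact absurd rfl hkl
      · exact c₁₂ x hx y hy
      · exact hall x (Or.inl hx) y (Or.inl hy)
      · exact hall x (Or.inl hx) y (Or.inr hy)
      · exact (c₁₂ y hy x hx).symm
      · exact absurd rfl hkl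
      · exact hall x (Or.inr hx) y (Or.inl hy)
      · exact hall x (Or.inr hx) y (Or.inr hy)
      · exact (hall y (Or.inl hy) x (Or.inl hx)).symm
      · exact (hall y (Or.inr hy) x (Or.inl hx)).symm
      · exact absurd rfl hkl
      · exact c₃₄ x hx y hy
      · exact (hall y (Or.inl hy) x (Or.inr hx)).symm
      · exact (hall y (Or.inr hy) x (Or.inr hx)).symm
      · exact (c₃₄ y hy x hx).symm
      · exact absurd rfl hkl)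
    (by intro k; fin_cases k <;> assumption)
    (by intro k; fin_cases k <;> assumption)
    (by intro k; fin_cases k <;> assumption)
    (by rw [hw] at s₁; exact s₁) (by rw [hw] at s₂; exact s₂) (by rw [hw'] at s₃; exact s₃)
    (by rw [hw'] at s₄; exact s₄)
    (by
      intro c hc c' hc' h1 h2
      refine hC' c hc c' hc' ?_ ?_
      · rintro y ((hy | hy) | hy | hy) hyz
        · exact h1 0 y hy hyz
        · exact h1 1 y hy hyz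
        · exact h1 2 y hy hyz
        · exact h1 3 y hy hyz
      · rintro y ((hy | hy) | hy | hy) hyz
        · exact h2 0 y hy hyz
        · exact h2 1 y hy hyz
        · exact h2 2 y hy hyz
        · exact h2 3 y hy hyz)
    hE₁
  exact key

/-- **(3d) (a)**, K-free part, for subgroups of `G`, `H = C(z)`. -/
theorem caseA_G {G : Type*} [Group G] [Finite G] {z w w' : G}
    (hO : pPrimeCore 2 ↥(centralizer ({z} : Set G)) = ⊥) {J₁ J₂ J₃ J₄ : Subgroup G}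
    (p₁ : IsPr J₁ z) (p₂ : IsPr J₂ z) (p₃ : IsPr J₃ z) (p₄ : IsPr J₄ z)
    (c₁₂ : ∀ x ∈ J₁, ∀ y ∈ J₂, x * y = y * x) (c₃₄ : ∀ x ∈ J₃, ∀ y ∈ J₄, x * y = y * x)
    (s₁ : Sn J₁ (centralizer ({z} : Set G) ⊓ centralizer ({w} : Set G)))
    (s₂ : Sn J₂ (centralizer ({z} : Set G) ⊓ centralizer ({w} : Set G)))
    (s₃ : Sn J₃ (centralizer ({z} : Set G) ⊓ centralizer ({w'} : Set G)))
    (s₄ : Sn J₄ (centralizer ({z} : Set G) ⊓ centralizer ({w'} : Set G)))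
    (r₁ : ∀ x ∈ J₁, x * x = z → x ∈ PP z) (r₂ : ∀ x ∈ J₂, x * x = z → x ∈ PP z)
    (r₃ : ∀ x ∈ J₃, x * x = z → x ∈ PP z) (r₄ : ∀ x ∈ J₄, x * x = z → x ∈ PP z)
    {a₁ a₂ a₃ a₄ : G} (h₁ : a₁ ∈ J₁) (h₂ : a₂ ∈ J₂) (h₃ : a₃ ∈ J₃) (h₄ : a₄ ∈ J₄)
    (e₁ : a₁ * a₁ = z) (e₂ : a₂ * a₂ = z) (e₃ : a₃ * a₃ = z) (e₄ : a₄ * a₄ = z) (hw' : w' = a₁ * a₂)
    (hw : w = a₃ * a₄)
    (hE₁ : ∀ L : Subgroup G, D3.Comp z L → ∀ x ∈ J₁, ∀ y ∈ L, x * y = y * x)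
    (hE₂ : ∀ L : Subgroup G, D3.Comp z L → ∀ x ∈ J₂, ∀ y ∈ L, x * y = y * x)
    (hr : ∀ x₁ ∈ J₁, ∀ x₂ ∈ J₂, x₁ * x₁ = z → x₂ * x₂ = z → x₁ * a₁ = z * (a₁ * x₁) → x₂ * a₂ = z * (a₂ * x₂) →
      ∀ y, y ∈ J₃ ∨ y ∈ J₄ → x₁ * x₂ * y = y * (x₁ * x₂))
    (hC : (∀ x, x ∈ J₁ ∨ x ∈ J₂ → ∀ y, y ∈ J₃ ∨ y ∈ J₄ → x * y = y * x) →
      ∀ c ∈ PP z, ∀ c' ∈ PP z,
      (∀ y, (y ∈ J₁ ∨ y ∈ J₂) ∨ y ∈ J₃ ∨ y ∈ J₄ → y * y = z → c * y = y * c) →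
      (∀ y, (y ∈ J₁ ∨ y ∈ J₂) ∨ y ∈ J₃ ∨ y ∈ J₄ → y * y = z → c' * y = y * c') → c * c' ≠ z * (c' * c)) :
    Sn J₁ (centralizer ({z} : Set G)) := by
  have l₁ : J₁ ≤ centralizer ({z} : Set G) := s₁.le.trans inf_le_left
  have l₂ : J₂ ≤ centralizer ({z} : Set G) := s₂.le.trans inf_le_left
  have l₃ : J₃ ≤ centralizer ({z} : Set G) := s₃.le.trans inf_le_left
  have l₄ : J₄ ≤ centralizer ({z} : Set G) := s₄.le.trans inf_le_left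
  have w'C : w' ∈ centralizer ({z} : Set G) := by rw [hw']; exact mul_mem (l₁ h₁) (l₂ h₂)
  have wC : w ∈ centralizer ({z} : Set G) := by rw [hw]; exact mul_mem (l₃ h₃) (l₄ h₄)
  refine sn_of_sub l₁ ?_
  have hr' : ∀ {J : Subgroup G} (_ : J ≤ centralizer ({z} : Set G)) (hz' : z ∈ centralizer ({z} : Set G)),
      (∀ x ∈ J, x * x = z → x ∈ PP z) → ∀ x ∈ J.subgroupOf (centralizer ({z} : Set G)),
        x * x = (⟨z, hz'⟩ : ↥(centralizer ({z} : Set G))) → x ∈ pCore 2 ↥(centralizer ({z} : Set G)) := by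
    intro J _ hz' h x hx hxx
    have h1 := h x hx (congrArg Subtype.val hxx)
    exact (mem_PP x.2).1 h1
  have hE : ∀ {J : Subgroup G}, (∀ L : Subgroup G, D3.Comp z L → ∀ x ∈ J, ∀ y ∈ L, x * y = y * x) →
      ∀ L : Subgroup ↥(centralizer ({z} : Set G)), IsComponent L →
        ∀ x ∈ J.subgroupOf (centralizer ({z} : Set G)), ∀ y ∈ L, x * y = y * x := by
    intro J h L hL x hx y hy
    refine Subtype.ext (h (L.map (centralizer ({z} : Set G)).subtype) ⟨map_subtype_le _, ?_⟩ x hx y ⟨y, hy, rfl⟩)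
    rwa [Subgroup.subgroupOf, Subgroup.comap_map_eq_self_of_injective (subtype_injective _)]
  refine caseA_pr (z := ⟨z, l₁ p₁.mem⟩) (w := ⟨w, wC⟩) (w' := ⟨w', w'C⟩) (J₂ := J₂.subgroupOf _)
    (J₃ := J₃.subgroupOf _) (J₄ := J₄.subgroupOf _) (a₁ := ⟨a₁, l₁ h₁⟩) (a₂ := ⟨a₂, l₂ h₂⟩) (a₃ := ⟨a₃, l₃ h₃⟩)
    (a₄ := ⟨a₄, l₄ h₄⟩) hO ?_ (p₁.subgroupOf l₁) (p₂.subgroupOf l₂) (p₃.subgroupOf l₃) (p₄.subgroupOf l₄) ?_ ?_
    (sn_sub wC s₁) (sn_sub wC s₂) (sn_sub w'C s₃) (sn_sub w'C s₄) (hr' l₁ _ r₁) (hr' l₂ _ r₂) (hr' l₃ _ r₃)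
    (hr' l₄ _ r₄) h₁ h₂ h₃ h₄ (Subtype.ext e₁) (Subtype.ext e₂) (Subtype.ext e₃) (Subtype.ext e₄) (Subtype.ext hw')
    (Subtype.ext hw) (hE hE₁) (hE hE₂) ?_ ?_
  · intro x
    exact Subtype.ext (mem_centralizer_singleton_iff.1 x.2)
  · intro x hx y hy
    exact Subtype.ext (c₁₂ x hx y hy)
  · intro x hx y hy
    exact Subtype.ext (c₃₄ x hx y hy)
  · intro x₁ hx₁ x₂ hx₂ f₁ f₂ f₃ f₄ y hy
    exact Subtype.ext (hr x₁ hx₁ x₂ hx₂ (congrArg Subtype.val f₁) (congrArg Subtype.val f₂) (congrArg Subtype.val f₃)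
      (congrArg Subtype.val f₄) y hy)
  · intro hall c hc c' hc' f f' he
    have hall' : ∀ x, x ∈ J₁ ∨ x ∈ J₂ → ∀ y, y ∈ J₃ ∨ y ∈ J₄ → x * y = y * x := by
      intro x hx y hy
      have hxC : x ∈ centralizer ({z} : Set G) := by
        rcases hx with hx | hx
        · exact l₁ hx
        · exact l₂ hx
      have hyC : y ∈ centralizer ({z} : Set G) := by
        rcases hy with hy | hy
        · exact l₃ hy
        · exact l₄ hy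
      exact congrArg Subtype.val (hall ⟨x, hxC⟩ hx ⟨y, hyC⟩ hy)
    have hf : ∀ {c : ↥(centralizer ({z} : Set G))},
        (∀ y, (y ∈ J₁.subgroupOf (centralizer ({z} : Set G)) ∨ y ∈ J₂.subgroupOf (centralizer ({z} : Set G))) ∨
          y ∈ J₃.subgroupOf (centralizer ({z} : Set G)) ∨ y ∈ J₄.subgroupOf (centralizer ({z} : Set G)) →
          y * y = (⟨z, l₁ p₁.mem⟩ : ↥(centralizer ({z} : Set G))) → c * y = y * c) →
        ∀ y, (y ∈ J₁ ∨ y ∈ J₂) ∨ y ∈ J₃ ∨ y ∈ J₄ → y * y = z → (c : G) * y = y * c := by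
      intro c f y hy hyz
      have hyC : y ∈ centralizer ({z} : Set G) := by
        rcases hy with (hy | hy) | hy | hy
        · exact l₁ hy
        · exact l₂ hy
        · exact l₃ hy
        · exact l₄ hy
      exact congrArg Subtype.val (f ⟨y, hyC⟩ hy (Subtype.ext hyz))
    exact hC hall' c ((mem_PP c.2).2 hc) c' ((mem_PP c'.2).2 hc') (hf f) (hf f') (congrArg Subtype.val he)

end Cfsg.Agent.OddHalf.NI3.Bad
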