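import Cfsg.Agent.OddHalf.NI3.Bad.Dbl
import Cfsg.Agent.OddHalf.NI3.Bad.FourAll
import Cfsg.Agent.OddHalf.NI3.Bad.StepThree

/-!
# THEOREM NIB, step (3d), assembly (helper355; bb ODD #14136)

`Dbl.false_of` : the contradiction, from (a1), (a2) and (a4):
* `Dbl.HE` : (a1) `A`, `B` centralise the components of `C(z)`;
* `Dbl.HR` : (a2) the involutions `x₁ x₂` of `Q₁ Q₂` commuting with `a` centralise `A'`, `B'`;
* `Dbl.HC` : (a4) `z` is not the commutator of two elements of `C_P(Q₁ Q₂ Q₃ Q₄)`, if `[A B, A' B'] = 1`.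
-/

set_option autoImplicit false
set_option linter.style.haveILetI false

namespace Cfsg.Agent.OddHalf.NI3.Bad

open Subgroup Cfsg Cfsg.Agent.OddHalf.Iface Cfsg.Agent.OddHalf.LieOddFam
open Cfsg.Agent.OddHalf.D3 (Comp)
open Cfsg.Agent.OddHalf.NI (CompIn)
open Cfsg.Agent.Cit (cj)

universe u

namespace Dbl

/-- (a1) -/
def HE {G : Type*} [Group G] (a b : G) (A B : Subgroup G) : Prop :=
  ∀ L : Subgroup G, Comp (a * b) L → (∀ x ∈ A, ∀ y ∈ L, x * y = y * x) ∧ (∀ x ∈ B, ∀ y ∈ L, x * y = y * x)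

/-- (a2) -/
def HR {G : Type*} [Group G] (a b : G) (A B A' B' : Subgroup G) : Prop :=
  ∀ p ∈ A, ∀ q ∈ B, p * p = a * b → q * q = a * b → a = p * q → ∀ x₁ ∈ A, ∀ x₂ ∈ B, x₁ * x₁ = a * b →
    x₂ * x₂ = a * b → x₁ * p = a * b * (p * x₁) → x₂ * q = a * b * (q * x₂) → ∀ y, y ∈ A' ∨ y ∈ B' →
      x₁ * x₂ * y = y * (x₁ * x₂)

/-- (a4) -/
def HC {G : Type*} [Group G] (a b : G) (A B A' B' : Subgroup G) : Prop :=
  (∀ x, x ∈ A ∨ x ∈ B → ∀ y, y ∈ A' ∨ y ∈ B' → x * y = y * x) → ∀ c ∈ PP (a * b), ∀ c' ∈ PP (a * b),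
    (∀ y, (y ∈ A ∨ y ∈ B) ∨ y ∈ A' ∨ y ∈ B' → y * y = a * b → c * y = y * c) →
    (∀ y, (y ∈ A ∨ y ∈ B) ∨ y ∈ A' ∨ y ∈ B' → y * y = a * b → c' * y = y * c') → c * c' ≠ a * b * (c' * c)

/-- **(3d) is dead**, from (a1), (a2), (a4) -/
theorem false_of {G : Type u} [Group G] (C : Ctx G) {N D : Subgroup G} {a b e e' : G} {A B A' B' : Subgroup G}
    (h : Dbl N D a b e e' A B A' B') (hE : HE a b A B) (hR : HR a b A B A' B') (hC : HC a b A B A' B') : False := by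
  haveI := C.fin
  have hz : e * e' = a * b := h.z_eq C
  have p₃ := h.sh.prA
  have p₄ := h.sh.prB
  have r₃ := h.rA'
  have r₄ := h.rB'
  obtain ⟨a₁, h₁, a₂, h₂, e₁, e₂, hw'⟩ := h.cfg.a_eq
  obtain ⟨a₃, h₃, a₄, h₄, e₃, e₄, hw⟩ := h.sh.a_eq
  rw [hz] at p₃ p₄ r₃ r₄ e₃ e₄
  have hO : pPrimeCore 2 ↥(centralizer ({a * b} : Set G)) = ⊥ := StepThree.core_of_ctx C h.cfg.prA.ord
  refine Cfg.not_cl C (x := a * b) (J := A) ⟨h.cfg.prA, ?_⟩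
  exact caseA_G hO h.cfg.prA h.cfg.prB p₃ p₄ h.cfg.AB h.sh.AB h.cfg.snA_e h.cfg.snB_e h.snA' h.snB' h.rA h.rB r₃ r₄
    h₁ h₂ h₃ h₄ e₁ e₂ e₃ e₄ hw' hw (fun L hL => (hE L hL).1) (fun L hL => (hE L hL).2)
    (fun x₁ hx₁ x₂ hx₂ => hR a₁ h₁ a₂ h₂ e₁ e₂ hw' x₁ hx₁ x₂ hx₂) hC

end Dbl

end Cfsg.Agent.OddHalf.NI3.Bad
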