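import Cfsg.Agent.OddHalf.NI3.Bad.Main
import Cfsg.Agent.OddHalf.NI3.Bad.StepDOf
import Cfsg.Agent.OddHalf.NI3.Bad.AOne
import Cfsg.Agent.OddHalf.NI3.Bad.HC
import Cfsg.Agent.OddHalf.NI3.Bad.ATwo

/-!
# THEOREM NIB, step (3d): the case `D = 2.U₄(3)` (helper355; bb ODD #14136)

`stepD_of` : `StepD` from (a2) and (a4); `stepD` : `StepD` (from the odd order theorem).
-/

set_option autoImplicit false
set_option linter.style.haveILetI false

namespace Cfsg.Agent.OddHalf.NI3.Bad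

open Subgroup Cfsg Cfsg.Agent.OddHalf.Iface Cfsg.Agent.OddHalf.LieOddFam
open Cfsg.Agent.OddHalf.D3 (Comp FT BL)
open Cfsg.Agent.OddHalf.NI (CompIn)
open Cfsg.Agent.Cit (cj TStmt)
open Cfsg.Agent.OddHalf.NI3.Bad.StepThree (RP In)

universe u

/-- `StepD` from (a2), (a4) -/
theorem stepD_of (ft : ∀ (G : Type u) [Group G], Finite G → FT G)
    (two : ∀ (G : Type u) [Group G], Ctx G → ∀ (N : Subgroup G) (a b e : G) (A B : Subgroup G), Cfg N a b e A B →
      RP a b A B → ∀ (c : G) (D : Subgroup G), c ∈ N → In a b e A B c D → ∀ e' : G,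
      Sheet D b e e' (cj c A) (cj c B) → ∀ A' B' : Subgroup G, Dbl N D a b e e' A B A' B' → e * e' = a * b →
      Dbl.HR a b A B A' B' ∧ Dbl.HC a b A B A' B') : StepD.{u} := by
  intro G _ C N a b e A B h hR c D hc i e' hS
  haveI := C.fin
  obtain ⟨A', B', hd⟩ := Dbl.of h hR i.cD hS
  have hz : e * e' = a * b := hd.z_eq C
  have he : e ∈ PP (a * b) := by
    obtain ⟨p, hp, q, hq, h1, h2, h3⟩ := hd.sh.a_eq
    have h4 := mul_mem (hd.rA' p hp h1) (hd.rB' q hq h2)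
    rwa [← h3] at h4
  have hFT := ft G C.fin
  have hB := NI.bl_core hFT C.bal
  obtain ⟨hr, hcc⟩ := two G C N a b e A B h hR c D hc i e' hS A' B' hd hz
  exact hd.false_of C (fun L hL => ⟨h.hE hFT hB he L hL, h.hE' hFT hB he L hL⟩) hr hcc

/-- **Step (3d)** : `StepD` -/
theorem stepD (ft : ∀ (G : Type u) [Group G], Finite G → FT G) : StepD.{u} := by
  refine stepD_of ft ?_
  intro G _ C N a b e A B h hR c D hc i e' hS A' B' hd hz
  haveI := C.fin
  refine ⟨ATwo.a_two hd hz hc i.h1 i.h2 i.h3 hS, ?_⟩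
  obtain ⟨p₅, q₅, x₀, x₁, x₂, hx, hdich, hrefl, h1, h2, h11, h22, ha, hr⟩ := ATwo.dich hd hc i.h1 i.h2 i.h3 hS
  exact hd.hC_of_refl hz hx (fun g gD _ _ _ _ hy => hdich g gD hy) (fun g gD _ _ _ _ hy => hrefl g gD hy) h1 h2 h11 h22
    ha hr

end Cfsg.Agent.OddHalf.NI3.Bad
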