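import Cfsg.Agent.OddHalf.NI3.Bad.KDFinal
import Cfsg.Agent.OddHalf.NI3.Bad.StepD
import Cfsg.Agent.OddHalf.NI3.Bad.OutRows
import Cfsg.Agent.OddHalf.NI3.Bad.CovOf
import Cfsg.Agent.OddHalf.NI3.Ex4.RowsOf
import Cfsg.Agent.OddHalf.NI3.Assemble
import Cfsg.Agent.OddHalf.Table.SignAll

/-!
# NI over `F₃`: THEOREM NIB, the assembly

`nib : Base → NIB`: everything on main is plugged; `Base` is `NI3.Assemble.Left` without `nib`, S1311 and the open rows
`Ex4.Open4` of (EX4). `left : Base → NI3.Assemble.Left`.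
-/

set_option autoImplicit false

namespace Cfsg.Agent.OddHalf.NI3.Bad.Final

open Subgroup Cfsg Cfsg.Agent.OddHalf.Iface Cfsg.Agent.OddHalf.LieOddFam
open Cfsg.Agent.Cit (TStmt)
open Cfsg.Agent.OddHalf.NI.FTwo (S7Big)

universe u

/-- The input. -/
structure Base : Prop where
  /-- THEOREM T -/
  tst : TStmt.{u}
  /-- (F2'₃): the pieces without chart -/
  sf : FThree.SmallFalse.{u}
  p1310 : Stmts.P1310.{u}
  p1311 : Stmts.P1311.{u}
  gw : RankOne.GW.{u}
  p1738 : Stmts.P1738.{u}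
  d5 : D5cover.{u}
  mult : D9.Cut.Mult.{u}
  /-- (EX) -/
  xrows : NI.Ex.Final.XRows.{u}
  no44 : NI.Ex.L34.No44.{u}
  /-- (EX3) -/
  rows3 : Ex.Rows3.{u}
  /-- (EX4) -/
  o4 : Ex4.Open4.{u}
  ft : ∀ (X : Type u) [Group X] [Finite X], Odd (Nat.card X) → Group.IsSolvable X
  f13 : F13.{u}
  f13c : F13c.{u}

variable (L : Base.{u})

include L

theorem hFT : ∀ (G : Type u) [Group G] [Finite G], D3.FT G := fun _ _ _ K hK => L.ft ↥K hK

theorem noFam3 : ∀ (G : Type u) [Group G], Ctx G → NoFam3 G := by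
  refine noFam3_of L.tst (FThree.f23a_of L.tst L.sf) ?_ L.ft
  intro N _ _ hN h2 x z J' J h1 h3 h4 h5 h6
  obtain ⟨T, h7, h8, h9⟩ := FThree.f23b_of L.tst L.sf N hN h2 x z J' J h1 h3 h4 h5 h6
  exact ⟨T, h7, h8, ZMod 3, inferInstance, inferInstance, h9⟩

theorem entrance : NI.NI3.{u} := ni3 Fr.frameFact3 (noFam3 L)

theorem facts : NI.Assemble.Facts.{u} S7Big where
  frame := Cfsg.Agent.OddHalf.NI.FrameFact.frameFact
  f2 := NI.FTwo.f2' L.tst
  autM := by
    rintro N _ _ c d A B A' ⟨F, _, _, -, H⟩ α hA hB hA'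
    exact NI.PosStd.aut_sq H α hA hB hA'
  sol := Sol.sol_of fun N _ _ c d A B A' ⟨F, i, j, _, H⟩ => ⟨F, i, j, H⟩
  p1310 := L.p1310
  ex := NI.Ex.Final.ex_of L.gw L.p1738 L.d5 L.mult L.xrows L.no44 (entrance L)
  ni3 := entrance L
  ft := L.ft

theorem noBig : NI.NoBig.{u} := NI.Assemble.noBig_of (facts L)

theorem niv : NI.NIV.{u} := NI.Assemble.niv_of (facts L)

theorem noFam : ∀ (G : Type u) [Group G], Ctx G → NI.NoFam G :=
  NI.noFam (facts L).f2 (facts L).autM (facts L).sol (NI.Assemble.lieCl L.p1310) L.ft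

theorem noThree : NoThree.{u} :=
  NI3.Final.noThree (niv L)
    (NI3.niv3 (hFT L) (noFam L) (noFam3 L) Cfsg.Agent.OddHalf.NI.FrameFact.frameFact Fr.frameFact3 Assemble.ree
      (Ex.ex3 L.gw L.p1738 L.d5 L.mult L.rows3))
    (NI3.niv3b (hFT L) (noFam L) (noFam3 L) Cfsg.Agent.OddHalf.NI.FrameFact.frameFact Fr.frameFact3 Assemble.ree
      (Cfsg.Agent.OddHalf.NI3.Ex.Big.ex3b L.gw L.p1738 L.d5 L.mult))

theorem types : TypeHyps.{u} where
  p1310 := L.p1310
  noThree := noThree L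
  noBig := noBig L
  f13 := L.f13
  f13c := L.f13c
  cov := covOf

theorem one : StepOneG.OneHyps.{u} where
  gw := L.gw
  p1738 := L.p1738
  p1311 := L.p1311
  d5 := L.d5
  mulOdd := NI.Ex.Final.mulOdd
  frame := Fr.frameFact3
  x3 := noFam3 L
  ex4 := Ex4.ex4G L.gw L.p1738 L.d5 L.mult Table.SignAll.signRows (Ex4.rows4 L.o4)
  rows := OutRowsOf.outRows L.tst

/-- **THEOREM NIB** -/
theorem nib : NIB.{u} :=
  Bad.nib
    { ft := fun G _ hG => by haveI := hG; exact hFT L G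
      t := L.tst
      types := types L
      kd := kdFinal
      ex := NSideN.exSheet
      one := fun G _ C N a b e A B h => StepOneG.hR (types L) (one L) C L.tst h
      d := stepD fun G _ hG => by haveI := hG; exact hFT L G }

/-- the input of `NI3.Assemble` -/
theorem left : Assemble.Left.{u} where
  tst := L.tst
  sf := L.sf
  p1310 := L.p1310
  gw := L.gw
  p1738 := L.p1738
  d5 := L.d5
  mult := L.mult
  xrows := L.xrows
  no44 := L.no44
  rows3 := L.rows3
  ft := L.ft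
  f13 := L.f13
  f13c := L.f13c
  nib := nib L

end Cfsg.Agent.OddHalf.NI3.Bad.Final
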