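import Cfsg.Agent.OddHalf.NI3.Bad.FourRoot

/-!
# Node NI over `F₃`, THEOREM NIB, (3d)(a3), (a4): four commuting `SL₂(3)` with the same involution

`Four P z i j d` : `P` a normal 2-subgroup of `H`, `z` a central involution, `J k = ⟨i k, d k⟩ ≅ SL₂(3)` (`k : Fin 4`)
pairwise commuting, with involution `z`, `i k ∈ P`; `J 0`, `J 1` are subnormal in `C(i 2 * i 3)`, `J 2`, `J 3` in
`C(i 0 * i 1)`; the involution `z` is not a commutator of elements of `C_P(Q)`, `Q = Q 0 Q 1 Q 2 Q 3`.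

* `Four.T` : the subgroup `Q C_P(Q)` of `P`; `Four.roots` : every root of `T` is one of the four `Q k`;
* `Four.T_eq` : `T = P`;
* `Four.main` : `J 0` is subnormal in `H`.
-/

set_option autoImplicit false
set_option linter.style.haveILetI false
set_option linter.unusedSectionVars false
set_option linter.unusedSimpArgs false
set_option linter.unreachableTactic false
set_option linter.unusedTactic false

namespace Cfsg.Agent.OddHalf.NI3.Bad.FourLin

open Subgroup Cfsg Cfsg.Agent.Cit Cfsg.Agent.Cit.SLThree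

variable {H : Type*} [Group H]

/-! ### Commutators modulo a central involution -/

/-- a central involution -/
structure Cz (z : H) : Prop where
  cen : ∀ x : H, z * x = x * z
  sq : z * z = 1
  ne : z ≠ 1

/-- `z ^ b` -/
def zb (z : H) (b : Bool) : H := if b then z else 1

namespace Cz

variable {z : H}

theorem zb_xor (h : Cz z) (a b : Bool) : zb z (xor a b) = zb z a * zb z b := by
  cases a <;> cases b <;> simp [zb, h.sq]

theorem zb_cen (h : Cz z) (b : Bool) (x : H) : zb z b * x = x * zb z b := by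
  cases b
  · simp [zb]
  · simpa [zb] using h.cen x

theorem zb_sq (h : Cz z) (b : Bool) : zb z b * zb z b = 1 := by
  cases b <;> simp [zb, h.sq]

theorem zb_inj (h : Cz z) {a b : Bool} (e : zb z a = zb z b) : a = b := by
  have := h.ne
  cases a <;> cases b <;> simp_all [zb]

end Cz

/-- `x y = z ^ b y x` -/
def Rel (z x y : H) (b : Bool) : Prop := x * y = zb z b * (y * x)

namespace Rel

variable {z x x' y y' : H} {b b' : Bool}

theorem false_iff : Rel z x y false ↔ x * y = y * x := by simp [Rel, zb]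

theorem true_iff : Rel z x y true ↔ x * y = z * (y * x) := by simp [Rel, zb]

theorem symm (h : Cz z) (h1 : Rel z x y b) : Rel z y x b := by
  unfold Rel at *
  rw [h1, ← mul_assoc, h.zb_sq, one_mul]

theorem mul_left (h : Cz z) (h1 : Rel z x y b) (h2 : Rel z x' y b') : Rel z (x * x') y (xor b b') := by
  unfold Rel at *
  calc x * x' * y = x * (x' * y) := by group
    _ = x * (zb z b' * (y * x')) := by rw [h2]
    _ = (x * zb z b') * (y * x') := by group
    _ = zb z b' * (x * y) * x' := by rw [← h.zb_cen]; group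
    _ = zb z b' * (zb z b * (y * x)) * x' := by rw [h1]
    _ = (zb z b' * zb z b) * (y * (x * x')) := by group
    _ = zb z (xor b b') * (y * (x * x')) := by rw [h.zb_xor, h.zb_cen b' (zb z b)]

theorem mul_right (h : Cz z) (h1 : Rel z x y b) (h2 : Rel z x y' b') : Rel z x (y * y') (xor b b') :=
  (mul_left h (h1.symm h) (h2.symm h)).symm h

theorem inv_left (h : Cz z) (h1 : Rel z x y b) : Rel z x⁻¹ y b := by
  unfold Rel at *
  have h2 : y * x = zb z b * (x * y) := by rw [h1, ← mul_assoc, h.zb_sq, one_mul]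
  calc x⁻¹ * y = x⁻¹ * (y * x) * x⁻¹ := by group
    _ = x⁻¹ * (zb z b * (x * y)) * x⁻¹ := by rw [h2]
    _ = (x⁻¹ * zb z b) * (x * y) * x⁻¹ := by group
    _ = zb z b * (y * x⁻¹) := by rw [← h.zb_cen]; group

theorem inv_right (h : Cz z) (h1 : Rel z x y b) : Rel z x y⁻¹ b := (inv_left h (h1.symm h)).symm h

theorem uniq (h : Cz z) (h1 : Rel z x y b) (h2 : Rel z x y b') : b = b' := by
  unfold Rel at *
  rw [h1] at h2
  exact h.zb_inj (mul_right_cancel h2)

theorem conj (h : Cz z) (m : H) (h1 : Rel z x y b) : Rel z (m * x * m⁻¹) (m * y * m⁻¹) b := by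
  unfold Rel at *
  calc m * x * m⁻¹ * (m * y * m⁻¹) = m * (x * y) * m⁻¹ := by group
    _ = m * (zb z b * (y * x)) * m⁻¹ := by rw [h1]
    _ = (m * zb z b) * (y * x) * m⁻¹ := by group
    _ = zb z b * (m * y * m⁻¹ * (m * x * m⁻¹)) := by rw [← h.zb_cen]; group

theorem of_or (h : x * y = y * x ∨ x * y = z * (y * x)) : ∃ b, Rel z x y b := by
  rcases h with h | h
  · exact ⟨false, false_iff.2 h⟩
  · exact ⟨true, true_iff.2 h⟩

theorem or_of (h : ∃ b, Rel z x y b) : x * y = y * x ∨ x * y = z * (y * x) := by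
  obtain ⟨b, h⟩ := h
  cases b
  · exact Or.inl (false_iff.1 h)
  · exact Or.inr (true_iff.1 h)

end Rel

/-- `i ^ x j ^ y` -/
def ev (i j : H) (x y : Bool) : H := (if x then i else 1) * (if y then j else 1)

theorem ev_mem (i j : H) (x y : Bool) : ev i j x y ∈ closure ({i, j} : Set H) := by
  have h1 : i ∈ closure ({i, j} : Set H) := subset_closure (by simp)
  have h2 : j ∈ closure ({i, j} : Set H) := subset_closure (by simp)
  cases x <;> cases y <;> simp [ev, h1, h2, mul_mem]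

theorem Rel.one_left {z y : H} : Rel z 1 y false := by simp [Rel, zb]

theorem Rel.self {z y : H} : Rel z y y false := by simp [Rel, zb]

theorem Rel.ev {z i j t : H} {a b : Bool} (h : Cz z) (h1 : Rel z i t a) (h2 : Rel z j t b) (x y : Bool) :
    Rel z (ev i j x y) t (xor (x && a) (y && b)) := by
  have e1 : Rel z (if x then i else 1) t (x && a) := by
    cases x
    · simpa using Rel.one_left
    · simpa using h1
  have e2 : Rel z (if y then j else 1) t (y && b) := by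
    cases y
    · simpa using Rel.one_left
    · simpa using h2
  exact e1.mul_left h e2

theorem Rel.ev_i {z i j : H} (h : Cz z) (hq : Qt z i j) (x y : Bool) : Rel z (FourLin.ev i j x y) i y := by
  have h1 : Rel z j i true := Rel.true_iff.2 hq.ji
  have h2 := Rel.ev h Rel.self h1 x y
  simpa using h2

theorem Rel.ev_j {z i j : H} (h : Cz z) (hq : Qt z i j) (x y : Bool) : Rel z (FourLin.ev i j x y) j x := by
  have h1 : Rel z i j true := (Rel.true_iff.2 hq.ji : Rel z j i true).symm h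
  have h2 := Rel.ev h h1 Rel.self x y
  simpa using h2

/-! ### The Boolean lemma -/

theorem lemE : ∀ a b a' b' c d c' d' : Bool,
    (∃ x y x' y' : Bool, (x || y) = true ∧ (x' || y') = true ∧
      xor (xor (x && a) (y && b)) (xor (x' && c) (y' && d)) = false ∧
      xor (xor (x && a') (y && b')) (xor (x' && c') (y' && d')) = false) ∨
    xor (xor (b && a') (a && b')) (xor (d && c') (c && d')) = true := by
  decide

/-! ### The configuration -/

/-- the first index of the other pair -/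
def o1 : Fin 4 → Fin 4 := ![2, 2, 0, 0]

/-- the second index of the other pair -/
def o2 : Fin 4 → Fin 4 := ![3, 3, 1, 1]

/-- the other index of the same pair -/
def pn : Fin 4 → Fin 4 := ![1, 0, 3, 2]

theorem ind (k : Fin 4) : k ≠ o1 k ∧ k ≠ o2 k ∧ o1 k ≠ o2 k ∧ pn k ≠ k ∧ pn k ≠ o1 k ∧ pn k ≠ o2 k ∧ o1 (pn k) = o1 k ∧
    o2 (pn k) = o2 k := by
  revert k; decide

theorem ind2 (k l : Fin 4) (h : l = o1 k ∨ l = o2 k) : (o1 l = k ∨ o1 l = pn k) ∧ (o2 l = k ∨ o2 l = pn k) ∧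
    l ≠ k ∧ l ≠ pn k := by
  revert h; revert l; revert k; decide

theorem ind3 (k m : Fin 4) : m = k ∨ m = pn k ∨ m = o1 k ∨ m = o2 k := by
  revert m; revert k; decide

/-- four commuting `SL₂(3)` -/
structure Four (P : Subgroup H) (z : H) (i j d : Fin 4 → H) : Prop where
  cz : Cz z
  q : ∀ k, Qt z (i k) (j k)
  di : ∀ k, d k * i k * (d k)⁻¹ = j k
  dj : ∀ k, d k * j k * (d k)⁻¹ = i k * j k
  d3 : ∀ k, d k * d k * d k = 1
  com : ∀ k l, k ≠ l → ∀ a ∈ closure ({i k, d k} : Set H), ∀ b ∈ closure ({i l, d l} : Set H), a * b = b * a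
  hP : IsPGroup 2 P
  hn : P.Normal
  hi : ∀ k, i k ∈ P
  sn : ∀ k, Sn (closure {i k, d k}) (centralizer {i (o1 k) * i (o2 k)})
  hC : ∀ c ∈ P, ∀ c' ∈ P, (∀ k, c * i k = i k * c ∧ c * j k = j k * c) →
    (∀ k, c' * i k = i k * c' ∧ c' * j k = j k * c') → c * c' ≠ z * (c' * c)

namespace Four

variable {P : Subgroup H} {z : H} {i j d : Fin 4 → H}

theorem sl (h : Four P z i j d) (k : Fin 4) : Sl (closure {i k, d k}) z (i k) (j k) (d k) :=
  ⟨h.q k, h.di k, h.dj k, h.d3 k, rfl⟩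

theorem hj (h : Four P z i j d) (k : Fin 4) : j k ∈ P := by
  rw [← h.di k]; exact h.hn.conj_mem _ (h.hi k) _

theorem Qle (h : Four P z i j d) (k : Fin 4) : closure {i k, j k} ≤ P := by
  rw [closure_le]
  rintro x (rfl | rfl)
  · exact h.hi k
  · exact h.hj k

theorem comQ (h : Four P z i j d) {k l : Fin 4} (hkl : k ≠ l) {a b : H} (ha : a ∈ closure ({i k, j k} : Set H))
    (hb : b ∈ closure ({i l, d l} : Set H)) : a * b = b * a :=
  h.com k l hkl a ((h.sl k).Qle ha) b hb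

/-- the roots of `C_P(i (o1 k) * i (o2 k))` -/
theorem rootX (h : Four P z i j d) [Finite H] (k : Fin 4) :
    Root (P ⊓ centralizer {i (o1 k) * i (o2 k)}) z (i k) (j k) (d k) := by
  obtain ⟨n1, n2, n3, -, -, -, -, -⟩ := ind k
  set w := i (o1 k) * i (o2 k) with hw
  set S := P ⊓ centralizer {w} with hS
  have hJw : closure ({i k, d k} : Set H) ≤ centralizer {w} := (h.sn k).1
  have hiS : ∀ x ∈ closure ({i k, j k} : Set H), x ∈ S := fun x hx => ⟨h.Qle k hx, hJw ((h.sl k).Qle hx)⟩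
  have hJn : closure ({i k, d k} : Set H) ≤ normalizer (S : Set H) := by
    refine (le_inf ?_ (hJw.trans le_normalizer)).trans inf_normalizer_le_normalizer_inf
    haveI := h.hn
    rw [normalizer_eq_top_iff.2 h.hn]; exact le_top
  have hS2 : IsPGroup 2 S := h.hP.to_le inf_le_left
  refine ⟨h.q k, h.di k, h.dj k, h.d3 k, hiS _ (Qt.mem_i z _ _), hiS _ (Qt.mem_j z _ _), ?_⟩
  intro t ht
  have hd := (h.sl k).hd
  have hsn : Sn (closure {i k, d k}) (closure {i k, d k} ⊔ S) :=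
    (h.sn k).restrict (sup_le hJw inf_le_right) le_sup_left
  have h1 : t * (d k)⁻¹ * t⁻¹ ∈ closure ({i k, d k} : Set H) := by
    refine mem_of_sup hsn hS2 hJn ?_ ?_
    · exact mul_mem (mul_mem (mem_sup_right ht) (mem_sup_left (inv_mem hd))) (inv_mem (mem_sup_right ht))
    · apply odd_of_cube
      calc t * (d k)⁻¹ * t⁻¹ * (t * (d k)⁻¹ * t⁻¹) * (t * (d k)⁻¹ * t⁻¹) = t * (d k * d k * d k)⁻¹ * t⁻¹ := by group
        _ = 1 := by rw [h.d3]; group
  have h2 : d k * t * (d k)⁻¹ * t⁻¹ ∈ closure ({i k, d k} : Set H) := by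
    have h3 : d k * t * (d k)⁻¹ * t⁻¹ = d k * (t * (d k)⁻¹ * t⁻¹) := by group
    rw [h3]; exact mul_mem hd h1
  have h3 : d k * t * (d k)⁻¹ * t⁻¹ ∈ S := mul_mem ((mem_normalizer_iff.1 (hJn hd) t).1 ht) (inv_mem ht)
  exact (h.sl k).mem_Q h2 hS2 (fun x hx => hiS x hx) h3

/-- `d k` centralises `C_P(Q)` -/
theorem d_comm (h : Four P z i j d) [Finite H] {c : H} (hc : c ∈ P)
    (hc' : ∀ k, c * i k = i k * c ∧ c * j k = j k * c) (k : Fin 4) : d k * c = c * d k := by
  refine (h.rootX k).comm_d h.cz.cen (h.hP.to_le inf_le_left) ⟨hc, mem_centralizer_singleton_iff.2 ?_⟩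
    (hc' k).1 (hc' k).2
  rw [← mul_assoc, (hc' _).1, mul_assoc, (hc' _).1, mul_assoc]

/-- the group `T = Q C_P(Q)` -/
def T (h : Four P z i j d) : Subgroup H where
  carrier := {x | x ∈ P ∧ ∀ k, (∃ b, Rel z x (i k) b) ∧ (∃ b, Rel z x (j k) b)}
  one_mem' := ⟨one_mem _, fun k => ⟨⟨false, Rel.one_left⟩, ⟨false, Rel.one_left⟩⟩⟩
  mul_mem' := by
    rintro x y ⟨hx, hx'⟩ ⟨hy, hy'⟩
    refine ⟨mul_mem hx hy, fun k => ⟨?_, ?_⟩⟩
    · obtain ⟨b, hb⟩ := (hx' k).1
      obtain ⟨b', hb'⟩ := (hy' k).1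
      exact ⟨_, hb.mul_left h.cz hb'⟩
    · obtain ⟨b, hb⟩ := (hx' k).2
      obtain ⟨b', hb'⟩ := (hy' k).2
      exact ⟨_, hb.mul_left h.cz hb'⟩
  inv_mem' := by
    rintro x ⟨hx, hx'⟩
    refine ⟨inv_mem hx, fun k => ⟨?_, ?_⟩⟩
    · obtain ⟨b, hb⟩ := (hx' k).1
      exact ⟨_, hb.inv_left h.cz⟩
    · obtain ⟨b, hb⟩ := (hx' k).2
      exact ⟨_, hb.inv_left h.cz⟩

theorem mem_T (h : Four P z i j d) {x : H} :
    x ∈ h.T ↔ x ∈ P ∧ ∀ k, (∃ b, Rel z x (i k) b) ∧ (∃ b, Rel z x (j k) b) := Iff.rfl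

theorem T_le (h : Four P z i j d) : h.T ≤ P := fun _ hx => hx.1

theorem T_pg (h : Four P z i j d) : IsPGroup 2 h.T := h.hP.to_le h.T_le

/-- bits of commuting elements -/
theorem rel_ij (h : Four P z i j d) (k l : Fin 4) :
    (Rel z (i k) (i l) false) ∧ (Rel z (j k) (j l) false) ∧ (Rel z (i k) (j l) (decide (k = l))) ∧
      (Rel z (j k) (i l) (decide (k = l))) := by
  by_cases hkl : k = l
  · subst hkl
    have h1 : Rel z (j k) (i k) true := Rel.true_iff.2 (h.q k).ji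
    simp only [decide_true]
    exact ⟨Rel.self, Rel.self, h1.symm h.cz, h1⟩
  · have h1 : ∀ a ∈ closure ({i k, j k} : Set H), ∀ b ∈ closure ({i l, j l} : Set H), Rel z a b false :=
      fun a ha b hb => Rel.false_iff.2 (h.comQ hkl ha ((h.sl l).Qle hb))
    simp only [hkl, decide_false]
    exact ⟨h1 _ (Qt.mem_i z _ _) _ (Qt.mem_i z _ _), h1 _ (Qt.mem_j z _ _) _ (Qt.mem_j z _ _),
      h1 _ (Qt.mem_i z _ _) _ (Qt.mem_j z _ _), h1 _ (Qt.mem_j z _ _) _ (Qt.mem_i z _ _)⟩

theorem iT (h : Four P z i j d) (k : Fin 4) : i k ∈ h.T :=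
  ⟨h.hi k, fun l => ⟨⟨_, (h.rel_ij k l).1⟩, ⟨_, (h.rel_ij k l).2.2.1⟩⟩⟩

theorem jT (h : Four P z i j d) (k : Fin 4) : j k ∈ h.T :=
  ⟨h.hj k, fun l => ⟨⟨_, (h.rel_ij k l).2.2.2⟩, ⟨_, (h.rel_ij k l).2.1⟩⟩⟩

theorem QT (h : Four P z i j d) (k : Fin 4) : closure {i k, j k} ≤ h.T := by
  rw [closure_le]
  rintro x (rfl | rfl)
  · exact h.iT k
  · exact h.jT k

/-- `C_P(i 2 * i 3)`, `C_P(i 0 * i 1) ≤ T` -/
theorem cent_le (h : Four P z i j d) [Finite H] (k : Fin 4) {x : H} (hx : x ∈ P)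
    (hxw : x * (i (o1 k) * i (o2 k)) = (i (o1 k) * i (o2 k)) * x) : x ∈ h.T := by
  obtain ⟨n1, n2, n3, n4, n5, n6, n7, n8⟩ := ind k
  have hz := h.cz.cen
  set S := P ⊓ centralizer {i (o1 k) * i (o2 k)} with hS
  have hS2 : IsPGroup 2 S := h.hP.to_le inf_le_left
  have r1 : Root S z (i k) (j k) (d k) := h.rootX k
  have r2 : Root S z (i (pn k)) (j (pn k)) (d (pn k)) := by
    have := h.rootX (pn k)
    rwa [n7, n8] at this
  have hxS : x ∈ S := ⟨hx, mem_centralizer_singleton_iff.2 hxw⟩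
  obtain ⟨a, ha, b, hbS, hab, hb1, hb2, -⟩ := r1.fac hz hS2 hxS
  obtain ⟨a', ha', b', hbS', hab', hb1', hb2', -⟩ := r2.fac hz hS2 hbS
  -- `b'` commutes with `i k`
  have e1 : b' * i k = i k * b' := by
    have h1 : b' = a'⁻¹ * b := by rw [hab']; group
    have h2 : a' * i k = i k * a' := h.comQ n4 ha' ((h.sl k).hi)
    have h3 : a'⁻¹ * i k = i k * a'⁻¹ := (show Commute a' (i k) from h2).inv_left.eq
    rw [h1, mul_assoc, hb1, ← mul_assoc, h3, mul_assoc]
  have e2 : ∀ m, (m = k ∨ m = pn k) → b' * i m = i m * b' := by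
    rintro m (rfl | rfl)
    · exact e1
    · exact hb1'
  have e3 : ∀ l, (l = o1 k ∨ l = o2 k) → b' ∈ P ⊓ centralizer {i (o1 l) * i (o2 l)} := by
    intro l hl
    have h1 := ind2 k l hl
    refine ⟨hbS'.1, mem_centralizer_singleton_iff.2 ?_⟩
    rw [← mul_assoc, e2 _ h1.1, mul_assoc, e2 _ h1.2.1, mul_assoc]
  refine ⟨hx, fun m => ?_⟩
  have hm := ind3 k m
  have key : (m = o1 k ∨ m = o2 k) → (∃ b, Rel z x (i m) b) ∧ (∃ b, Rel z x (j m) b) := by
    intro hm
    have h1 := (ind2 k m hm).2.2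
    have hS3 : IsPGroup 2 (P ⊓ centralizer {i (o1 m) * i (o2 m)} : Subgroup H) := h.hP.to_le inf_le_left
    have h2 := Rel.of_or ((h.rootX m).sign hz hS3 (e3 m hm) (Qt.mem_i z _ _))
    have h3 := Rel.of_or ((h.rootX m).sign hz hS3 (e3 m hm) (Qt.mem_j z _ _))
    have hx' : x = a * (a' * b') := by rw [hab, hab']
    have q1 : ∀ y ∈ closure ({i m, d m} : Set H), Rel z a y false := fun y hy =>
      Rel.false_iff.2 (h.comQ h1.1.symm ha hy)
    have q2 : ∀ y ∈ closure ({i m, d m} : Set H), Rel z a' y false := fun y hy =>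
      Rel.false_iff.2 (h.comQ h1.2.symm ha' hy)
    obtain ⟨b2, h2⟩ := h2
    obtain ⟨b3, h3⟩ := h3
    rw [hx']
    exact ⟨⟨_, (q1 _ (h.sl m).hi).mul_left h.cz ((q2 _ (h.sl m).hi).mul_left h.cz h2)⟩,
      ⟨_, (q1 _ (h.sl m).hj).mul_left h.cz ((q2 _ (h.sl m).hj).mul_left h.cz h3)⟩⟩
  rcases hm with hm | hm | hm
  · rw [hm]
    exact ⟨Rel.of_or (r1.sign hz hS2 hxS (Qt.mem_i z _ _)), Rel.of_or (r1.sign hz hS2 hxS (Qt.mem_j z _ _))⟩
  · rw [hm]
    exact ⟨Rel.of_or (r2.sign hz hS2 hxS (Qt.mem_i z _ _)), Rel.of_or (r2.sign hz hS2 hxS (Qt.mem_j z _ _))⟩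
  · exact key hm

/-- **the roots of `T`** -/
theorem rootT (h : Four P z i j d) [Finite H] (k : Fin 4) : Root h.T z (i k) (j k) (d k) := by
  refine ⟨h.q k, h.di k, h.dj k, h.d3 k, h.iT k, h.jT k, ?_⟩
  intro t ht
  have hz := h.cz.cen
  obtain ⟨⟨α, hα⟩, ⟨β, hβ⟩⟩ := ht.2 k
  set a := ev (i k) (j k) β α with ha
  have haQ : a ∈ closure ({i k, j k} : Set H) := ev_mem _ _ _ _
  set b := a⁻¹ * t with hb
  have hbT : b ∈ h.T := mul_mem (inv_mem (h.QT k haQ)) ht
  have hbi : b * i k = i k * b := by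
    have h1 : Rel z a (i k) α := Rel.ev_i h.cz (h.q k) β α
    have h2 := (h1.inv_left h.cz).mul_left h.cz hα
    rw [Bool.xor_self] at h2
    exact Rel.false_iff.1 h2
  have hbj : b * j k = j k * b := by
    have h1 : Rel z a (j k) β := Rel.ev_j h.cz (h.q k) β α
    have h2 := (h1.inv_left h.cz).mul_left h.cz hβ
    rw [Bool.xor_self] at h2
    exact Rel.false_iff.1 h2
  have hbQ : ∀ x ∈ closure ({i k, j k} : Set H), b * x = x * b := fun x hx => Root.comm_closure hbi hbj hx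
  -- `d k` commutes with `b`
  have hd : d k * b = b * d k := by
    set y := d k * b * (d k)⁻¹ * b⁻¹ with hy
    have hyP : y ∈ P := mul_mem (h.hn.conj_mem _ hbT.1 _) (inv_mem hbT.1)
    have hyc : ∀ l, y * i l = i l * y ∧ y * j l = j l * y := by
      intro l
      by_cases hkl : l = k
      · subst hkl
        have key : ∀ x ∈ closure ({i l, j l} : Set H), y * x = x * y := by
          intro x hx
          have h1 : (d l)⁻¹ * x * d l ∈ closure ({i l, j l} : Set H) := by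
            have h2 := (h.sl l).conj_mem ((h.sl l).conj_mem hx)
            have h3 : (d l)⁻¹ = d l * d l := (h.sl l).d_inv
            have h4 : (d l)⁻¹ * x * d l = d l * (d l * x * (d l)⁻¹) * (d l)⁻¹ := by
              calc (d l)⁻¹ * x * d l = (d l)⁻¹ * x * ((d l)⁻¹)⁻¹ := by rw [inv_inv]
                _ = (d l * d l) * x * (d l * d l)⁻¹ := by rw [h3]
                _ = _ := by group
            rw [h4]; exact h2
          have h5 := hbQ _ h1
          have h6 : (d l * b * (d l)⁻¹) * x = x * (d l * b * (d l)⁻¹) := by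
            calc (d l * b * (d l)⁻¹) * x = d l * (b * ((d l)⁻¹ * x * d l)) * (d l)⁻¹ := by group
              _ = d l * (((d l)⁻¹ * x * d l) * b) * (d l)⁻¹ := by rw [h5]
              _ = x * (d l * b * (d l)⁻¹) := by group
          have h7 : b⁻¹ * x = x * b⁻¹ := (show Commute b x from hbQ x hx).inv_left.eq
          rw [hy, mul_assoc, h7, ← mul_assoc, h6, mul_assoc]
        exact ⟨key _ (Qt.mem_i z _ _), key _ (Qt.mem_j z _ _)⟩
      · have key : ∀ x ∈ closure ({i l, d l} : Set H), (∃ c, Rel z b x c) → y * x = x * y := by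
          rintro x hx ⟨c, hc⟩
          have h1 : d k * x = x * d k := h.com k l (Ne.symm hkl) _ (h.sl k).hd _ hx
          have h2 : d k * x * (d k)⁻¹ = x := by rw [h1]; group
          have h3 := hc.conj h.cz (d k)
          rw [h2] at h3
          have h4 := h3.mul_left h.cz (hc.inv_left h.cz)
          rw [Bool.xor_self] at h4
          exact Rel.false_iff.1 h4
        exact ⟨key _ (h.sl l).hi (hbT.2 l).1, key _ (h.sl l).hj (hbT.2 l).2⟩
    have hdy := h.d_comm hyP hyc k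
    have e1 : d k * b * (d k)⁻¹ = y * b := by rw [hy]; group
    have e2 : d k * (y * b) * (d k)⁻¹ = y * (y * b) := by
      calc d k * (y * b) * (d k)⁻¹ = (d k * y) * b * (d k)⁻¹ := by group
        _ = y * (d k * b * (d k)⁻¹) := by rw [hdy]; group
        _ = y * (y * b) := by rw [e1]
    have e3 : d k * (y * (y * b)) * (d k)⁻¹ = y * (y * (y * b)) := by
      calc d k * (y * (y * b)) * (d k)⁻¹ = (d k * y) * (y * b) * (d k)⁻¹ := by group
        _ = y * (d k * (y * b) * (d k)⁻¹) := by rw [hdy]; group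
        _ = y * (y * (y * b)) := by rw [e2]
    have e4 : y * y * y = 1 := by
      have h1 : d k * (d k * (d k * b * (d k)⁻¹) * (d k)⁻¹) * (d k)⁻¹ = b := by
        calc d k * (d k * (d k * b * (d k)⁻¹) * (d k)⁻¹) * (d k)⁻¹ = (d k * d k * d k) * b * (d k * d k * d k)⁻¹ := by
              group
          _ = b := by rw [h.d3]; group
      rw [e1, e2, e3] at h1
      have h2 : (y * y * y) * b = 1 * b := by rw [one_mul]; simpa only [mul_assoc] using h1
      exact mul_right_cancel h2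
    obtain ⟨n, hn⟩ := h.hP ⟨y, hyP⟩
    have hn' : y ^ 2 ^ n = 1 := by simpa using congrArg Subtype.val hn
    have e5 : y = 1 := Cit.SLThree.Sl.eq_one_of_cube e4 hn'
    rw [hy, mul_inv_eq_one, mul_inv_eq_iff_eq_mul] at e5
    exact e5
  have h1 : t = a * b := by rw [hb]; group
  have h2 : d k * t * (d k)⁻¹ * t⁻¹ = (d k * a * (d k)⁻¹) * a⁻¹ := by
    rw [h1]
    calc d k * (a * b) * (d k)⁻¹ * (a * b)⁻¹ = d k * a * (b * (d k)⁻¹) * b⁻¹ * a⁻¹ := by group
      _ = d k * a * (b * (d k)⁻¹) * b⁻¹ * a⁻¹ := rfl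
      _ = d k * a * ((d k)⁻¹ * (d k * b) * (d k)⁻¹) * b⁻¹ * a⁻¹ := by group
      _ = d k * a * ((d k)⁻¹ * (b * d k) * (d k)⁻¹) * b⁻¹ * a⁻¹ := by rw [hd]
      _ = (d k * a * (d k)⁻¹) * a⁻¹ := by group
  rw [h2]
  exact mul_mem ((h.sl k).conj_mem haQ) (inv_mem haQ)

/-- the elements of the other pair -/
theorem sn_ev (h : Four P z i j d) (k : Fin 4) {x y x' y' : Bool} (h1 : (x || y) = true) (h2 : (x' || y') = true) :
    Sn (closure {i k, d k})
      (centralizer {ev (i (o1 k)) (j (o1 k)) x y * ev (i (o2 k)) (j (o2 k)) x' y'}) := by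
  have key : ∀ l : Fin 4, ∀ x y : Bool, (x || y) = true → ∃ g ∈ closure ({i l, d l} : Set H),
      g * i l * g⁻¹ = ev (i l) (j l) x y := by
    intro l x y hxy
    have hd := (h.sl l).hd
    cases x <;> cases y
    · simp at hxy
    · exact ⟨d l, hd, by rw [h.di]; simp [ev]⟩
    · exact ⟨1, one_mem _, by simp [ev]⟩
    · refine ⟨d l * d l, mul_mem hd hd, ?_⟩
      have : d l * d l * i l * (d l * d l)⁻¹ = d l * (d l * i l * (d l)⁻¹) * (d l)⁻¹ := by group
      rw [this, h.di, h.dj]; simp [ev]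
  obtain ⟨n1, n2, n3, -, -, -, -, -⟩ := ind k
  obtain ⟨g, hg, hg'⟩ := key (o1 k) x y h1
  obtain ⟨g', hgm, hgm'⟩ := key (o2 k) x' y' h2
  rw [← hg', ← hgm']
  have c1 : g * g' = g' * g := h.com _ _ n3 g hg g' hgm
  have c2 : g * i (o2 k) = i (o2 k) * g := h.com _ _ n3 g hg _ (h.sl _).hi
  have c3 : g' * i (o1 k) = i (o1 k) * g' := h.com _ _ n3.symm g' hgm _ (h.sl _).hi
  have e1 : g * i (o1 k) * g⁻¹ * (g' * i (o2 k) * g'⁻¹) = (g * g') * (i (o1 k) * i (o2 k)) * (g * g')⁻¹ := by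
    have c1' : g⁻¹ * g' = g' * g⁻¹ := (show Commute g g' from c1).inv_left.eq
    have c2' : g⁻¹ * i (o2 k) = i (o2 k) * g⁻¹ := (show Commute g (i (o2 k)) from c2).inv_left.eq
    have c1'' : g'⁻¹ * g⁻¹ = g⁻¹ * g'⁻¹ := by rw [← mul_inv_rev, ← mul_inv_rev, c1]
    calc g * i (o1 k) * g⁻¹ * (g' * i (o2 k) * g'⁻¹) = g * i (o1 k) * (g⁻¹ * g') * (i (o2 k) * g'⁻¹) := by group
      _ = g * (i (o1 k) * g') * (g⁻¹ * i (o2 k)) * g'⁻¹ := by rw [c1']; group
      _ = g * (g' * i (o1 k)) * (i (o2 k) * g⁻¹) * g'⁻¹ := by rw [c3, c2']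
      _ = (g * g') * (i (o1 k) * i (o2 k)) * (g⁻¹ * g'⁻¹) := by group
      _ = (g * g') * (i (o1 k) * i (o2 k)) * (g * g')⁻¹ := by rw [← c1'']; group
  rw [e1]
  have h3 := (h.sn k).cj (g * g')
  have h4 : Cit.cj (g * g') (closure {i k, d k}) = closure {i k, d k} := by
    have hgg : ∀ x ∈ closure ({i k, d k} : Set H), (g * g') * x = x * (g * g') := by
      intro x hx
      have a1 : g * x = x * g := (h.com k _ n1 x hx g hg).symm
      have a2 : g' * x = x * g' := (h.com k _ n2 x hx g' hgm).symm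
      rw [mul_assoc, a2, ← mul_assoc, a1, mul_assoc]
    ext x
    constructor
    · rintro ⟨y, hy, rfl⟩
      show (g * g') * y * (g * g')⁻¹ ∈ _
      rw [hgg y hy, mul_assoc, mul_inv_cancel, mul_one]
      exact hy
    · intro hx
      refine ⟨x, hx, ?_⟩
      show (g * g') * x * (g * g')⁻¹ = x
      rw [hgg x hx, mul_assoc, mul_inv_cancel, mul_one]
  have h5 : Cit.cj (g * g') (centralizer {i (o1 k) * i (o2 k)}) =
      centralizer {(g * g') * (i (o1 k) * i (o2 k)) * (g * g')⁻¹} := by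
    ext x
    rw [mem_centralizer_singleton_iff]
    constructor
    · rintro ⟨y, hy, rfl⟩
      have hy' := mem_centralizer_singleton_iff.1 hy
      show (g * g') * y * (g * g')⁻¹ * _ = _ * ((g * g') * y * (g * g')⁻¹)
      calc (g * g') * y * (g * g')⁻¹ * (g * g' * (i (o1 k) * i (o2 k)) * (g * g')⁻¹) =
          (g * g') * (y * (i (o1 k) * i (o2 k))) * (g * g')⁻¹ := by group
        _ = (g * g') * ((i (o1 k) * i (o2 k)) * y) * (g * g')⁻¹ := by rw [hy']
        _ = _ := by group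
    · intro hx
      refine ⟨(g * g')⁻¹ * x * (g * g'), mem_centralizer_singleton_iff.2 ?_, ?_⟩
      · calc (g * g')⁻¹ * x * (g * g') * (i (o1 k) * i (o2 k)) =
            (g * g')⁻¹ * (x * (g * g' * (i (o1 k) * i (o2 k)) * (g * g')⁻¹)) * (g * g') := by group
          _ = (g * g')⁻¹ * ((g * g' * (i (o1 k) * i (o2 k)) * (g * g')⁻¹) * x) * (g * g') := by rw [hx]
          _ = _ := by group
      · show (g * g') * ((g * g')⁻¹ * x * (g * g')) * (g * g')⁻¹ = x
        group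
  rw [h4, h5] at h3
  exact h3

/-- **(∗∗)** -/
theorem star (h : Four P z i j d) [Finite H] {r s δ : H} (hR : Root h.T z r s δ) (k : Fin 4) {x y x' y' : Bool}
    (h1 : (x || y) = true) (h2 : (x' || y') = true)
    (hr : r * (ev (i (o1 k)) (j (o1 k)) x y * ev (i (o2 k)) (j (o2 k)) x' y') =
      (ev (i (o1 k)) (j (o1 k)) x y * ev (i (o2 k)) (j (o2 k)) x' y') * r)
    (hs : s * (ev (i (o1 k)) (j (o1 k)) x y * ev (i (o2 k)) (j (o2 k)) x' y') =
      (ev (i (o1 k)) (j (o1 k)) x y * ev (i (o2 k)) (j (o2 k)) x' y') * s) :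
    closure ({i k, j k} : Set H) = closure {r, s} ∨
      ((r * i k = i k * r ∧ r * j k = j k * r) ∧ (s * i k = i k * s ∧ s * j k = j k * s)) := by
  obtain ⟨n1, n2, n3, -, -, -, -, -⟩ := ind k
  have hz := h.cz.cen
  have hsn := h.sn_ev k h1 h2
  set v := ev (i (o1 k)) (j (o1 k)) x y * ev (i (o2 k)) (j (o2 k)) x' y' with hv
  have hvT : v ∈ h.T := mul_mem (h.QT _ (ev_mem _ _ _ _)) (h.QT _ (ev_mem _ _ _ _))
  have hδv : δ * v = v * δ := hR.comm_d hz h.T_pg hvT hr.symm hs.symm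
  set S := h.T ⊓ centralizer {v} with hS
  set X := normalizer (h.T : Set H) ⊓ centralizer {v} with hX
  have hJv := hsn.1
  have rk := h.rootT k
  have r1 : Root S z (i k) (j k) (d k) :=
    rk.mono inf_le_left ⟨h.iT k, hJv (h.sl k).hi⟩ ⟨h.jT k, hJv (h.sl k).hj⟩
  have r2 : Root S z r s δ := hR.mono inf_le_left ⟨hR.hr, mem_centralizer_singleton_iff.2 hr⟩
    ⟨hR.hs, mem_centralizer_singleton_iff.2 hs⟩
  have hSX : S ≤ X := inf_le_inf_right _ le_normalizer
  have hXS : X ≤ normalizer (S : Set H) :=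
    (inf_le_inf_left _ le_normalizer).trans inf_normalizer_le_normalizer_inf
  have hJX : closure {i k, d k} ≤ X := by
    refine le_inf ?_ hJv
    rw [closure_le]
    rintro y (rfl | rfl)
    · exact le_normalizer (h.iT k)
    · exact rk.dS
  have hδX : δ ∈ X := ⟨hR.dS, mem_centralizer_singleton_iff.2 hδv⟩
  rcases dich hz _ X S le_rfl hSX hXS (h.T_pg.to_le inf_le_left) r1 r2 (hsn.restrict inf_le_right hJX) hδX with h3 | h3
  · exact Or.inl h3
  · right
    have h4 := hR.comm_r hz h.T_pg (h.iT k) h3.1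
    have h5 := hR.comm_r hz h.T_pg (h.jT k) h3.2
    exact ⟨⟨h4.1.symm, h5.1.symm⟩, ⟨h4.2.symm, h5.2.symm⟩⟩

/-- products -/
def E (i j : Fin 4 → H) (x y : Fin 4 → Bool) : H :=
  ev (i 0) (j 0) (x 0) (y 0) * (ev (i 1) (j 1) (x 1) (y 1) * (ev (i 2) (j 2) (x 2) (y 2) * ev (i 3) (j 3) (x 3) (y 3)))

theorem rel_E (h : Four P z i j d) (x y : Fin 4 → Bool) (k : Fin 4) :
    Rel z (E i j x y) (i k) (y k) ∧ Rel z (E i j x y) (j k) (x k) := by
  have h1 : ∀ l, Rel z (ev (i l) (j l) (x l) (y l)) (i k) (if l = k then y k else false) := by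
    intro l
    by_cases hlk : l = k
    · subst hlk
      rw [if_pos rfl]
      exact Rel.ev_i h.cz (h.q l) _ _
    · rw [if_neg hlk]
      exact Rel.false_iff.2 (h.comQ hlk (ev_mem _ _ _ _) (h.sl k).hi)
  have h2 : ∀ l, Rel z (ev (i l) (j l) (x l) (y l)) (j k) (if l = k then x k else false) := by
    intro l
    by_cases hlk : l = k
    · subst hlk
      rw [if_pos rfl]
      exact Rel.ev_j h.cz (h.q l) _ _
    · rw [if_neg hlk]
      exact Rel.false_iff.2 (h.comQ hlk (ev_mem _ _ _ _) (h.sl k).hj)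
  have h3 := (h1 0).mul_left h.cz ((h1 1).mul_left h.cz ((h1 2).mul_left h.cz (h1 3)))
  have h4 := (h2 0).mul_left h.cz ((h2 1).mul_left h.cz ((h2 2).mul_left h.cz (h2 3)))
  constructor
  · have e : xor (if (0 : Fin 4) = k then y k else false) (xor (if (1 : Fin 4) = k then y k else false)
        (xor (if (2 : Fin 4) = k then y k else false) (if (3 : Fin 4) = k then y k else false))) = y k := by
      fin_cases k <;> simp
    rw [e] at h3
    exact h3
  · have e : xor (if (0 : Fin 4) = k then x k else false) (xor (if (1 : Fin 4) = k then x k else false)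
        (xor (if (2 : Fin 4) = k then x k else false) (if (3 : Fin 4) = k then x k else false))) = x k := by
      fin_cases k <;> simp
    rw [e] at h4
    exact h4

theorem E_mem (h : Four P z i j d) (x y : Fin 4 → Bool) : E i j x y ∈ P :=
  mul_mem (h.Qle _ (ev_mem _ _ _ _)) (mul_mem (h.Qle _ (ev_mem _ _ _ _)) (mul_mem (h.Qle _ (ev_mem _ _ _ _))
    (h.Qle _ (ev_mem _ _ _ _))))

/-- **Every root of `T` is one of the four `Q k`.** -/
theorem roots (h : Four P z i j d) [Finite H] {r s δ : H} (hR : Root h.T z r s δ) :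
    ∃ k, closure ({i k, j k} : Set H) = closure {r, s} := by
  by_contra hno
  push Not at hno
  have hz := h.cz
  choose A hA using fun k => (hR.hr.2 k).1
  choose B hB using fun k => (hR.hr.2 k).2
  choose A' hA' using fun k => (hR.hs.2 k).1
  choose B' hB' using fun k => (hR.hs.2 k).2
  have hstar : ∀ (k : Fin 4) (x y x' y' : Bool), (x || y) = true → (x' || y') = true →
      xor (xor (x && A (o1 k)) (y && B (o1 k))) (xor (x' && A (o2 k)) (y' && B (o2 k))) = false →
      xor (xor (x && A' (o1 k)) (y && B' (o1 k))) (xor (x' && A' (o2 k)) (y' && B' (o2 k))) = false →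
      A k = false ∧ B k = false ∧ A' k = false ∧ B' k = false := by
    intro k x y x' y' h1 h2 h3 h4
    have e1 := (Rel.ev hz ((hA (o1 k)).symm hz) ((hB (o1 k)).symm hz) x y).mul_left hz
      (Rel.ev hz ((hA (o2 k)).symm hz) ((hB (o2 k)).symm hz) x' y')
    have e2 := (Rel.ev hz ((hA' (o1 k)).symm hz) ((hB' (o1 k)).symm hz) x y).mul_left hz
      (Rel.ev hz ((hA' (o2 k)).symm hz) ((hB' (o2 k)).symm hz) x' y')
    rw [h3] at e1
    rw [h4] at e2
    rcases h.star hR k h1 h2 (Rel.false_iff.1 e1).symm (Rel.false_iff.1 e2).symm with h5 | h5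
    · exact absurd h5 (hno k)
    · exact ⟨(hA k).uniq hz (Rel.false_iff.2 h5.1.1), (hB k).uniq hz (Rel.false_iff.2 h5.1.2),
        (hA' k).uniq hz (Rel.false_iff.2 h5.2.1), (hB' k).uniq hz (Rel.false_iff.2 h5.2.2)⟩
  -- the commutator form
  let D : Fin 4 → Bool := fun k => xor (B k && A' k) (A k && B' k)
  have hD : xor (D 0) (xor (D 1) (xor (D 2) (D 3))) = true := by
    set c := r * (E i j B A)⁻¹ with hc
    set c' := s * (E i j B' A')⁻¹ with hc'
    have hcP : c ∈ P := mul_mem hR.hr.1 (inv_mem (h.E_mem _ _))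
    have hcP' : c' ∈ P := mul_mem hR.hs.1 (inv_mem (h.E_mem _ _))
    have hcc : ∀ k, c * i k = i k * c ∧ c * j k = j k * c := by
      intro k
      have e1 := (hA k).mul_left hz ((h.rel_E B A k).1.inv_left hz)
      have e2 := (hB k).mul_left hz ((h.rel_E B A k).2.inv_left hz)
      rw [Bool.xor_self] at e1 e2
      exact ⟨Rel.false_iff.1 e1, Rel.false_iff.1 e2⟩
    have hcc' : ∀ k, c' * i k = i k * c' ∧ c' * j k = j k * c' := by
      intro k
      have e1 := (hA' k).mul_left hz ((h.rel_E B' A' k).1.inv_left hz)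
      have e2 := (hB' k).mul_left hz ((h.rel_E B' A' k).2.inv_left hz)
      rw [Bool.xor_self] at e1 e2
      exact ⟨Rel.false_iff.1 e1, Rel.false_iff.1 e2⟩
    have hrs : Rel z r s true := (Rel.true_iff.2 hR.q.ji : Rel z s r true).symm hz
    have e0 : ∀ k, Rel z (ev (i k) (j k) (B k) (A k)) s (D k) := fun k =>
      Rel.ev hz ((hA' k).symm hz) ((hB' k).symm hz) _ _
    have e1 : Rel z (E i j B A) s (xor (D 0) (xor (D 1) (xor (D 2) (D 3)))) :=
      (e0 0).mul_left hz ((e0 1).mul_left hz ((e0 2).mul_left hz (e0 3)))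
    have e2 := hrs.mul_left hz (e1.inv_left hz)
    have e3 : ∀ k, Rel z (ev (i k) (j k) (B' k) (A' k)) c false := by
      intro k
      have := Rel.ev hz (Rel.false_iff.2 (hcc k).1.symm : Rel z (i k) c false)
        (Rel.false_iff.2 (hcc k).2.symm : Rel z (j k) c false) (B' k) (A' k)
      simpa using this
    have e4 : Rel z (E i j B' A') c false := by
      have := (e3 0).mul_left hz ((e3 1).mul_left hz ((e3 2).mul_left hz (e3 3)))
      simpa [E] using this
    have e5 := e2.mul_right hz ((e4.symm hz).inv_right hz)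
    have h6 := h.hC c hcP c' hcP' hcc hcc'
    by_contra hne
    rw [Bool.not_eq_true] at hne
    rw [hne] at e5
    apply h6
    exact Rel.true_iff.1 e5
  have o10 : o1 0 = 2 := rfl
  have o20 : o2 0 = 3 := rfl
  have o11 : o1 1 = 2 := rfl
  have o21 : o2 1 = 3 := rfl
  have o12 : o1 2 = 0 := rfl
  have o22 : o2 2 = 1 := rfl
  have o13 : o1 3 = 0 := rfl
  have o23 : o2 3 = 1 := rfl
  have s0 := hstar 0
  have s1 := hstar 1
  have s2 := hstar 2
  have s3 := hstar 3
  rw [o10, o20] at s0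
  rw [o11, o21] at s1
  rw [o12, o22] at s2
  rw [o13, o23] at s3
  rcases lemE (A 2) (B 2) (A' 2) (B' 2) (A 3) (B 3) (A' 3) (B' 3) with ⟨x, y, x', y', h1, h2, h3, h4⟩ | h23
  · obtain ⟨a0, b0, a0', b0'⟩ := s0 x y x' y' h1 h2 h3 h4
    obtain ⟨a1, b1, a1', b1'⟩ := s1 x y x' y' h1 h2 h3 h4
    obtain ⟨a2, b2, a2', b2'⟩ := s2 true false true false rfl rfl (by simp [a0, b0, a1, b1]) (by simp [a0', b0', a1', b1'])
    obtain ⟨a3, b3, a3', b3'⟩ := s3 true false true false rfl rfl (by simp [a0, b0, a1, b1]) (by simp [a0', b0', a1', b1'])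
    simp [D, a0, b0, a0', b0', a1, b1, a1', b1', a2, b2, a2', b2', a3, b3, a3', b3'] at hD
  · rcases lemE (A 0) (B 0) (A' 0) (B' 0) (A 1) (B 1) (A' 1) (B' 1) with ⟨x, y, x', y', h1, h2, h3, h4⟩ | h01
    · obtain ⟨a2, b2, a2', b2'⟩ := s2 x y x' y' h1 h2 h3 h4
      obtain ⟨a3, b3, a3', b3'⟩ := s3 x y x' y' h1 h2 h3 h4
      simp [a2, b2, a2', b2', a3, b3, a3', b3'] at h23
    · have h1 : xor (D 0) (D 1) = true := h01
      have h2 : xor (D 2) (D 3) = true := h23
      rw [h2, ← Bool.xor_assoc, h1] at hD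
      simp at hD

/-! ### `T = P` -/

theorem rel_pow {z x y : H} (hz : Cz z) (hx : ∃ b, Rel z x y b) (m : ℕ) : ∃ b, Rel z (x ^ m) y b := by
  induction m with
  | zero => exact ⟨false, by rw [pow_zero]; exact Rel.one_left⟩
  | succ m ih =>
    obtain ⟨b, hb⟩ := hx
    obtain ⟨b', hb'⟩ := ih
    exact ⟨_, by rw [pow_succ]; exact hb'.mul_left hz hb⟩

theorem rel_of_cube {z x y : H} (hz : Cz z) {n : ℕ} (hn : x ^ 2 ^ n = 1) (h : ∃ b, Rel z (x * x * x) y b) :
    ∃ b, Rel z x y b := by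
  have h1 : Nat.Coprime (orderOf x) 3 := by
    have h2 : orderOf x ∣ 2 ^ n := orderOf_dvd_of_pow_eq_one hn
    exact Nat.Coprime.coprime_dvd_left h2 (Nat.Coprime.pow_left n (by norm_num))
  obtain ⟨m, hm⟩ := exists_pow_eq_self_of_coprime h1.symm
  have h3 : x ^ 3 = x * x * x := by rw [pow_succ, pow_succ, pow_one]
  have h4 := rel_pow hz h m
  rw [← h3, hm] at h4
  exact h4

theorem rel_cycle {z b x y w : H} (hz : Cz z) {a1 a2 a3 : Bool} (h1 : b * x = zb z a1 * (y * b))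
    (h2 : b * y = zb z a2 * (w * b)) (h3 : b * w = zb z a3 * (x * b)) : ∃ e, Rel z (b * b * b) x e := by
  refine ⟨xor a1 (xor a2 a3), ?_⟩
  unfold Rel
  have c : ∀ (a : Bool) (u v : H), u * (zb z a * v) = zb z a * (u * v) := fun a u v => by
    rw [← mul_assoc, ← hz.zb_cen, mul_assoc]
  calc (b * b * b) * x = b * (b * (b * x)) := by group
    _ = b * (b * (zb z a1 * (y * b))) := by rw [h1]
    _ = zb z a1 * (b * ((b * y) * b)) := by rw [c, c]; group
    _ = zb z a1 * (b * ((zb z a2 * (w * b)) * b)) := by rw [h2]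
    _ = zb z a1 * (b * (zb z a2 * (w * b * b))) := by group
    _ = zb z a1 * (zb z a2 * ((b * w) * (b * b))) := by rw [c]; group
    _ = zb z a1 * (zb z a2 * (zb z a3 * (x * b) * (b * b))) := by rw [h3]
    _ = zb z a1 * (zb z a2 * zb z a3) * (x * (b * b * b)) := by group
    _ = zb z (xor a1 (xor a2 a3)) * (x * (b * b * b)) := by rw [hz.zb_xor, hz.zb_xor]

/-- `N_P(T)` normalises `Q k` -/
theorem norm_Q (h : Four P z i j d) [Finite H] {p : H} (hp : p ∈ P) (hpT : p ∈ normalizer (h.T : Set H)) (k : Fin 4) :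
    closure ({i k, j k} : Set H) = closure {p * i k * p⁻¹, p * j k * p⁻¹} := by
  have hz := h.cz.cen
  have r := (h.rootT k).conj hz hpT
  obtain ⟨l, hl⟩ := h.roots r
  by_cases hlk : l = k
  · rw [← hl, hlk]
  exfalso
  have hcom : ∀ x ∈ closure ({i k, j k} : Set H), ∀ y ∈ closure ({p * i k * p⁻¹, p * j k * p⁻¹} : Set H),
      x * y = y * x := by
    intro x hx y hy
    rw [← hl] at hy
    exact h.comQ (Ne.symm hlk) hx ((h.sl l).Qle hy)
  have hδ : ∀ x ∈ closure ({i k, j k} : Set H), p * d k * p⁻¹ * x = x * (p * d k * p⁻¹) := fun x hx =>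
    r.comm_d hz h.T_pg (h.QT k hx) (hcom x hx _ (Qt.mem_i z _ _)) (hcom x hx _ (Qt.mem_j z _ _))
  set c := p * d k * p⁻¹ * (d k)⁻¹ with hc
  have hcP : c ∈ P := by
    have h1 : c = p * (d k * p⁻¹ * (d k)⁻¹) := by rw [hc]; group
    rw [h1]; exact mul_mem hp (h.hn.conj_mem _ (inv_mem hp) _)
  have hcx : ∀ x y, y ∈ closure ({i k, j k} : Set H) → d k * y * (d k)⁻¹ = x → c * x = y * c := by
    intro x y hy hxy
    rw [← hxy, hc]
    calc p * d k * p⁻¹ * (d k)⁻¹ * (d k * y * (d k)⁻¹) = (p * d k * p⁻¹ * y) * (d k)⁻¹ := by group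
      _ = y * (p * d k * p⁻¹ * (d k)⁻¹) := by rw [hδ y hy]; group
  have hi := Qt.mem_i z (i k) (j k)
  have hj := Qt.mem_j z (i k) (j k)
  obtain ⟨n, hn⟩ := h.hP ⟨c, hcP⟩
  have hn' : c ^ 2 ^ n = 1 := by simpa using congrArg Subtype.val hn
  have h1 := hcx _ _ hi (h.di k)
  have h2 := hcx _ _ (mul_mem hi hj) (h.sl k).dij
  have h3 := hcx _ _ hj (h.dj k)
  have h4 := comm_of_cube hn' (cube_of_cycle h1 h2 h3)
  rw [h1] at h4
  exact (h.q k).not_comm (by rw [mul_right_cancel h4])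

/-- `N_P(T)` acts on `Q k` by inner automorphisms -/
theorem rel_norm (h : Four P z i j d) [Finite H] {p : H} (hp : p ∈ P) (hpT : p ∈ normalizer (h.T : Set H))
    (k : Fin 4) : ∃ b, Rel z p (i k) b := by
  have hz := h.cz.cen
  have hQ := h.norm_Q hp hpT k
  have r := (h.rootT k).conj hz hpT
  have hq := h.q k
  set c := p * d k * p⁻¹ * (d k)⁻¹ with hc
  have hcP : c ∈ P := by
    have h1 : c = p * (d k * p⁻¹ * (d k)⁻¹) := by rw [hc]; group
    rw [h1]; exact mul_mem hp (h.hn.conj_mem _ (inv_mem hp) _)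
  have hcT : c ∈ h.T := by
    refine h.cent_le k hcP ?_
    obtain ⟨n1, n2, -, -, -, -, -, -⟩ := ind k
    set w := i (o1 k) * i (o2 k) with hw
    have hwT : w ∈ h.T := mul_mem (h.iT _) (h.iT _)
    have hwc : ∀ x ∈ closure ({i k, d k} : Set H), w * x = x * w := by
      intro x hx
      have a1 : x * i (o1 k) = i (o1 k) * x := h.com k _ n1 x hx _ (h.sl _).hi
      have a2 : x * i (o2 k) = i (o2 k) * x := h.com k _ n2 x hx _ (h.sl _).hi
      rw [hw, mul_assoc, ← a2, ← mul_assoc, ← a1, mul_assoc]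
    have h1 : ∀ x ∈ closure ({p * i k * p⁻¹, p * j k * p⁻¹} : Set H), w * x = x * w := by
      intro x hx
      rw [← hQ] at hx
      exact hwc x ((h.sl k).Qle hx)
    have h2 : p * d k * p⁻¹ * w = w * (p * d k * p⁻¹) :=
      r.comm_d hz h.T_pg hwT (h1 _ (Qt.mem_i z _ _)) (h1 _ (Qt.mem_j z _ _))
    have h3 : (d k)⁻¹ * w = w * (d k)⁻¹ := (hwc _ (inv_mem (h.sl k).hd)).symm
    rw [hc, mul_assoc, h3, ← mul_assoc, h2, mul_assoc]
  have hpd : p * d k = c * d k * p := by rw [hc]; group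
  -- the action modulo `z`
  have step : ∀ x y, x ∈ closure ({i k, j k} : Set H) → y ∈ closure ({i k, j k} : Set H) → ∀ a,
      p * x = zb z a * (y * p) → ∃ a', p * (d k * x * (d k)⁻¹) = zb z a' * ((d k * y * (d k)⁻¹) * p) := by
    intro x y hx hy a hxy
    obtain ⟨b, hb⟩ := Rel.of_or ((h.rootT k).sign hz h.T_pg hcT ((h.sl k).conj_mem hy))
    refine ⟨xor a b, ?_⟩
    have hpd' : d k * p * (d k)⁻¹ = c⁻¹ * p := by rw [hc]; group
    calc p * (d k * x * (d k)⁻¹) = (p * d k) * x * (d k)⁻¹ := by group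
      _ = c * d k * (p * x) * (d k)⁻¹ := by rw [hpd]; group
      _ = (c * d k * zb z a) * (y * p) * (d k)⁻¹ := by rw [hxy]; group
      _ = zb z a * (c * (d k * y * (d k)⁻¹)) * (d k * p * (d k)⁻¹) := by rw [← h.cz.zb_cen]; group
      _ = zb z a * (zb z b * ((d k * y * (d k)⁻¹) * c)) * (c⁻¹ * p) := by rw [hb, hpd']
      _ = (zb z a * zb z b) * ((d k * y * (d k)⁻¹) * p) := by group
      _ = zb z (xor a b) * ((d k * y * (d k)⁻¹) * p) := by rw [h.cz.zb_xor]
  obtain ⟨n, hn⟩ := h.hP ⟨p, hp⟩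
  have hn' : p ^ 2 ^ n = 1 := by simpa using congrArg Subtype.val hn
  have hi := Qt.mem_i z (i k) (j k)
  have hj := Qt.mem_j z (i k) (j k)
  have hdi := h.di k
  have hdj := h.dj k
  have hdij := (h.sl k).dij
  have hmem : p * i k * p⁻¹ ∈ closure ({i k, j k} : Set H) := by rw [hQ]; exact Qt.mem_i z _ _
  have e0 : p * i k = (p * i k * p⁻¹) * p := by group
  have hsq : (p * i k * p⁻¹) * (p * i k * p⁻¹) = z := by
    calc (p * i k * p⁻¹) * (p * i k * p⁻¹) = p * (i k * i k) * p⁻¹ := by group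
      _ = z := by rw [hq.i2, ← hz, mul_assoc, mul_inv_cancel, mul_one]
  have caseJ : ∀ a, p * i k = zb z a * (j k * p) → ∃ b, Rel z p (i k) b := by
    intro a ha
    obtain ⟨a2, h2⟩ := step _ _ hi hj a ha
    rw [hdi, hdj] at h2
    obtain ⟨a3, h3⟩ := step _ _ hj (mul_mem hi hj) a2 h2
    rw [hdj, hdij] at h3
    exact rel_of_cube h.cz hn' (rel_cycle h.cz ha h2 h3)
  have caseK : ∀ a, p * i k = zb z a * ((i k * j k) * p) → ∃ b, Rel z p (i k) b := by
    intro a ha
    obtain ⟨a2, h2⟩ := step _ _ hi (mul_mem hi hj) a ha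
    rw [hdi, hdij] at h2
    obtain ⟨a3, h3⟩ := step _ _ hj hi a2 h2
    rw [hdj, hdi] at h3
    exact rel_of_cube h.cz hn' (rel_cycle h.cz ha h3 h2)
  rcases hq.mem_cases hmem with h1 | h1 | h1 | h1 | h1 | h1 | h1 | h1 <;> rw [h1] at e0 hsq
  · exact absurd (by rw [← hsq, one_mul]) hq.z1
  · exact absurd (by rw [← hsq, hq.z2]) hq.z1
  · exact ⟨false, Rel.false_iff.2 e0⟩
  · exact ⟨true, Rel.true_iff.2 (by rw [e0, mul_assoc])⟩
  · exact caseJ false (by simpa [zb] using e0)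
  · exact caseJ true (by simpa [zb, mul_assoc] using e0)
  · exact caseK false (by simpa [zb] using e0)
  · exact caseK true (by simpa [zb, mul_assoc] using e0)

/-- an element of `N_P(T)` lies in `T` -/
theorem norm_le (h : Four P z i j d) [Finite H] {p : H} (hp : p ∈ P) (hpT : p ∈ normalizer (h.T : Set H)) :
    p ∈ h.T := by
  obtain ⟨b0, h0⟩ := h.rel_norm hp hpT 0
  obtain ⟨b1, h1⟩ := h.rel_norm hp hpT 1
  have h2 := h0.mul_right h.cz h1
  have o12 : o1 2 = 0 := rfl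
  have o22 : o2 2 = 1 := rfl
  have key : ∀ x ∈ P, Rel z x (i 0 * i 1) false → x ∈ h.T := by
    intro x hx hr
    refine h.cent_le 2 hx ?_
    rw [o12, o22]
    exact Rel.false_iff.1 hr
  cases hb : xor b0 b1
  · rw [hb] at h2
    exact key p hp h2
  · rw [hb] at h2
    have h3 : Rel z (j 0) (i 0 * i 1) true := by
      have a1 := (h.rel_ij 0 0).2.2.2
      have a2 := (h.rel_ij 0 1).2.2.2
      have a3 := a1.mul_right h.cz a2
      simpa using a3
    have h4 := h3.mul_left h.cz h2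
    rw [Bool.xor_self] at h4
    have h5 := key _ (mul_mem (h.hj 0) hp) h4
    have h6 : p = (j 0)⁻¹ * (j 0 * p) := by group
    rw [h6]
    exact mul_mem (inv_mem (h.jT 0)) h5

/-- **`T = P`** -/
theorem T_eq (h : Four P z i j d) [Finite H] : h.T = P := by
  refine le_antisymm h.T_le ?_
  by_contra hle
  haveI : Fact (Nat.Prime 2) := ⟨Nat.prime_two⟩
  have hnil : Group.IsNilpotent P := h.hP.isNilpotent
  have hlt : h.T.subgroupOf P < ⊤ := by
    rw [lt_top_iff_ne_top]
    intro h1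
    exact hle (subgroupOf_eq_top.1 h1)
  have h1 := Group.normalizerCondition_of_isNilpotent (G := P) (h.T.subgroupOf P) hlt
  obtain ⟨x, hx, hx'⟩ := SetLike.exists_of_lt h1
  apply hx'
  refine h.norm_le x.2 ?_
  rw [mem_normalizer_iff] at hx ⊢
  intro t
  constructor
  · intro ht
    exact (hx ⟨t, h.T_le ht⟩).1 ht
  · intro ht
    have h2 : t ∈ P := by
      have h3 : (x : H)⁻¹ * (x * t * (x : H)⁻¹) * x ∈ P := mul_mem (mul_mem (inv_mem x.2) (h.T_le ht)) x.2
      have h4 : (x : H)⁻¹ * (x * t * (x : H)⁻¹) * x = t := by group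
      rwa [h4] at h3
    exact (hx ⟨t, h2⟩).2 ht

end Four

end Cfsg.Agent.OddHalf.NI3.Bad.FourLin
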