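import Cfsg.Agent.OddHalf.NI3.Bad.FourPr
import Cfsg.Agent.Lib.ThompsonPQ

/-!
# THEOREM NIB, step (3d) (a2), the K-free part (helper598)

`H` a finite group, `P` a normal 2-subgroup, `J₁, J₂` commuting subgroups `SL₂(3)` with involution `z`, subnormal in
`C(w)`, `J₃, J₄` commuting subgroups `SL₂(3)` with the same involution `z`, subnormal in `C(w')`, `Q_i = O₂(J_i) ≤ P`,
`w' = a₁ a₂ ∈ Q₁Q₂`, `w = a₃ a₄ ∈ Q₃Q₄` noncentral involutions.

* `Loc`, `Loc.pair` : the pair lemma in a subgroup `X`.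
* `perm_four` : an element `g` of order 3 commuting with `w` such that `w'^g` and `w'^(g⁻¹)` centralise `J₃J₄` normalises
  `Q₃` and `Q₄`;
* `comm_of_cj` : it centralises them; `comm_v` : it commutes with `J₃`.
* `comm_all` : `[J₁J₂, J₃J₄] = 1`.
-/

set_option autoImplicit false
set_option linter.unusedSimpArgs false

namespace Cfsg.Agent.OddHalf.NI3.Bad

open Subgroup Cfsg Cfsg.Agent.Cit Cfsg.Agent.Cit.SLThree

section Gen

variable {H : Type*} [Group H]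

/-- `Sl` is reflected by injective homomorphisms -/
theorem sl_of_map {H' : Type*} [Group H'] (f : H →* H') (hf : Function.Injective f) {J : Subgroup H} {z i j d : H}
    (h : Sl (J.map f) (f z) (f i) (f j) (f d)) : Sl J z i j d where
  q := ⟨hf (by rw [map_mul, map_one, h.q.z2]), fun h1 => h.q.z1 (by rw [h1, map_one]),
    hf (by rw [map_mul, h.q.i2]), hf (by rw [map_mul, h.q.j2]), hf (by rw [map_mul, map_mul, map_mul, h.q.ji])⟩
  di := hf (by rw [map_mul, map_mul, map_inv, h.di])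
  dj := hf (by rw [map_mul, map_mul, map_inv, map_mul, h.dj])
  d3 := hf (by rw [map_mul, map_mul, map_one, h.d3])
  gen := Subgroup.map_injective hf (by rw [h.gen, MonoidHom.map_closure, Set.image_pair])

theorem sl_sub {X J : Subgroup H} {z i j d : H} (h : Sl J z i j d) (hJ : J ≤ X) :
    Sl (J.subgroupOf X) ⟨z, hJ h.hz⟩ ⟨i, hJ h.hi⟩ ⟨j, hJ h.hj⟩ ⟨d, hJ h.hd⟩ := by
  refine sl_of_map X.subtype X.subtype_injective ?_
  rw [subgroupOf_map_subtype, inf_eq_left.2 hJ]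
  exact h

theorem mem_closure_sub {X : Subgroup H} {i j : H} (hi : i ∈ X) (hj : j ∈ X) (x : X) :
    x ∈ closure ({⟨i, hi⟩, ⟨j, hj⟩} : Set X) ↔ (x : H) ∈ closure ({i, j} : Set H) := by
  have h1 : (closure ({⟨i, hi⟩, ⟨j, hj⟩} : Set X)).map X.subtype = closure ({i, j} : Set H) := by
    rw [MonoidHom.map_closure, Set.image_pair]
    rfl
  rw [← h1]
  constructor
  · intro h
    exact ⟨x, h, rfl⟩
  · rintro ⟨y, hy, hxy⟩
    rwa [← Subtype.ext hxy]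

/-- the pair lemma in a subgroup -/
theorem pair_sub [Finite H] {X S J J' : Subgroup H} {z i j v i' j' v' : H} (hSX : S ≤ X)
    (hn : X ≤ normalizer (S : Set H)) (hS : IsPGroup 2 S) (h : Sl J z i j v) (h' : Sl J' z i' j' v')
    (hQ : closure ({i, j} : Set H) ≤ S) (hQ' : closure ({i', j'} : Set H) ≤ S) (hB : Br S i j v)
    (hB' : Br S i' j' v') (hJ : Sn J X) (hJ' : J' ≤ X) :
    closure ({i, j} : Set H) = closure ({i', j'} : Set H) ∨ ∀ q ∈ closure ({i, j} : Set H), v' * q = q * v' := by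
  have hSn : (S.subgroupOf X).Normal := by
    constructor
    intro x hx g
    exact (mem_normalizer_iff.1 (hn g.2) x).1 hx
  have hS2 : IsPGroup 2 (S.subgroupOf X) := hS.comap_of_injective X.subtype X.subtype_injective
  have l := sl_sub h hJ.le
  have l' := sl_sub h' hJ'
  have key : ∀ {i j v : H} (hi : i ∈ X) (hj : j ∈ X) (hv : v ∈ X), Br S i j v →
      Br (S.subgroupOf X) (⟨i, hi⟩ : X) ⟨j, hj⟩ ⟨v, hv⟩ := by
    intro i j v hi hj hv hb s hs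
    rw [mem_closure_sub hi hj]
    exact hb s hs
  have hq : ∀ {i j : H} (hi : i ∈ X) (hj : j ∈ X), closure ({i, j} : Set H) ≤ S →
      closure ({⟨i, hi⟩, ⟨j, hj⟩} : Set X) ≤ S.subgroupOf X := by
    intro i j hi hj hle x hx
    exact hle ((mem_closure_sub hi hj x).1 hx)
  rcases pair hS2 l l' (hq _ _ hQ) (hq _ _ hQ') (key _ _ _ hB) (key _ _ _ hB') hJ.2 with h1 | h1
  · left
    have h2 := congrArg (Subgroup.map X.subtype) h1
    rw [MonoidHom.map_closure, Set.image_pair, MonoidHom.map_closure, Set.image_pair] at h2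
    exact h2
  · right
    intro q hq
    have hqX : q ∈ X := hSX (hQ hq)
    exact congrArg Subtype.val (h1 ⟨q, hqX⟩ ((mem_closure_sub _ _ _).2 hq))

/-- a local datum: `J = Q⟨v⟩` subnormal in `X`, `Q ≤ S`, `S` a normal 2-subgroup of `X` -/
structure Loc (X S : Subgroup H) (z : H) (J : Subgroup H) (i j v : H) : Prop where
  le : S ≤ X
  nor : X ≤ normalizer (S : Set H)
  two : IsPGroup 2 S
  sl : Sl J z i j v
  sn : Sn J X
  q : closure ({i, j} : Set H) ≤ S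

namespace Loc

variable {X S J J' : Subgroup H} {z i j v i' j' v' : H}

theorem br [Finite H] (L : Loc X S z J i j v) : Br S i j v :=
  br_of_sn L.sl L.sn L.le L.two (L.sn.le.trans L.nor) L.q

theorem pair [Finite H] (L : Loc X S z J i j v) (L' : Loc X S z J' i' j' v') :
    closure ({i, j} : Set H) = closure ({i', j'} : Set H) ∨
      ∀ q ∈ closure ({i, j} : Set H), ∀ q' ∈ closure ({i', j'} : Set H), q * q' = q' * q := by
  rcases pair_sub L.le L.nor L.two L.sl L'.sl L.q L'.q L.br L'.br L.sn L'.sn.le with h | h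
  · exact Or.inl h
  · right
    intro q hq q' hq'
    exact comm_of_comm_v L'.sl L.two L'.q L'.br (L.q hq) (h q hq) q' hq'

/-- `Q = Q'` or `Q = Q''` -/
theorem perm_one [Finite H] {J'' : Subgroup H} {i'' j'' v'' a b a' b' : H} (L : Loc X S z J i j v)
    (L' : Loc X S z J' i' j' v') (L'' : Loc X S z J'' i'' j'' v'') (ha : a ∈ closure ({i, j} : Set H))
    (s : a * a = z) (ha' : a' ∈ closure ({i', j'} : Set H)) (hb' : b' ∈ closure ({i'', j''} : Set H))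
    (hc : ∀ q ∈ closure ({i, j} : Set H), q * b = b * q) (e : a * b = a' * b') :
    closure ({i, j} : Set H) = closure ({i', j'} : Set H) ∨ closure ({i, j} : Set H) = closure ({i'', j''} : Set H) := by
  by_contra hcon
  push Not at hcon
  have c1 := (L.pair L').resolve_left hcon.1
  have c2 := (L.pair L'').resolve_left hcon.2
  obtain ⟨y, hy, -, hya⟩ := L.sl.q.exists_inv ha s
  have h1 : y * (a * b) = (a * b) * y := by
    rw [e, ← mul_assoc, c1 y hy a' ha', mul_assoc, c2 y hy b' hb', ← mul_assoc]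
  have h2 : y * (a * b) = z * (a * b * y) := by
    rw [← mul_assoc, hya, mul_assoc, mul_assoc, hc y hy]; group
  rw [h1] at h2
  exact L.sl.q.z1 (mul_right_cancel (b := a * b * y) (by rw [one_mul]; exact h2.symm))

end Loc

theorem cj_closure_pair (g i j : H) : closure ({g * i * g⁻¹, g * j * g⁻¹} : Set H) = Cit.cj g (closure ({i, j} : Set H)) := by
  rw [Cit.cj_def, MonoidHom.map_closure, Set.image_pair]
  rfl

/-- an element of order 3 -/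
theorem ne_z_mul' {z g x : H} (z1 : z ≠ 1) (z2 : z * z = 1) (gz : g * z = z * g) (g3 : g * g * g = 1)
    (hx : g * x * g⁻¹ = z * x) : False := by
  have dz : g * z * g⁻¹ = z := by rw [gz]; group
  have h5 : x = z * x := by
    calc x = (g * g * g) * x * (g * g * g)⁻¹ := by rw [g3]; group
      _ = g * (g * (g * x * g⁻¹) * g⁻¹) * g⁻¹ := by group
      _ = g * (g * (z * x) * g⁻¹) * g⁻¹ := by rw [hx]
      _ = g * ((g * z * g⁻¹) * (g * x * g⁻¹)) * g⁻¹ := by group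
      _ = g * (z * (z * x)) * g⁻¹ := by rw [dz, hx]
      _ = g * x * g⁻¹ := by rw [← mul_assoc z z, z2, one_mul]
      _ = z * x := hx
  exact z1 (mul_right_cancel (b := x) (by rw [one_mul]; exact h5.symm))

/-- an element of order 3 which normalises `Q` and centralises an element of order 4 centralises `Q` -/
theorem comm_of_fix {z i j g a : H} (h : Qt z i j) (g3 : g * g * g = 1) (gz : g * z = z * g)
    (n : ∀ q ∈ closure ({i, j} : Set H), g * q * g⁻¹ ∈ closure ({i, j} : Set H))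
    (ha : a ∈ closure ({i, j} : Set H)) (s : a * a = z) (ga : g * a = a * g) :
    ∀ q ∈ closure ({i, j} : Set H), g * q = q * g := by
  intro y hy
  have hga : g * a * g⁻¹ = a := by rw [ga]; group
  set c := g * y * g⁻¹ * y⁻¹ with hc
  have hcQ : c ∈ closure ({i, j} : Set H) := mul_mem (n y hy) (inv_mem hy)
  -- `c` commutes with `a`
  have hca : c * a * c⁻¹ = a := by
    have h1 : ∀ x, x = 1 ∨ x = z → x * x = 1 ∧ g * x * g⁻¹ = x := by
      rintro x (rfl | rfl)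
      · constructor <;> group
      · exact ⟨h.z2, by rw [gz]; group⟩
    obtain ⟨e, he, h2⟩ : ∃ e, (e = 1 ∨ e = z) ∧ y⁻¹ * a * y = e * a := by
      rcases q_conj h (inv_mem hy) ha with h3 | h3
      · exact ⟨1, Or.inl rfl, by rw [inv_inv] at h3; rw [h3, one_mul]⟩
      · exact ⟨z, Or.inr rfl, by rw [inv_inv] at h3; exact h3⟩
    obtain ⟨e1, e2⟩ := h1 e he
    have ec : ∀ x ∈ closure ({i, j} : Set H), x * e = e * x := by
      intro x hx
      rcases he with rfl | rfl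
      · rw [one_mul, mul_one]
      · exact h.comm_z hx
    have h4 : y * a * y⁻¹ = e * a := by
      have h5 : a = y * (e * a) * y⁻¹ := by rw [← h2]; group
      have h6 : y * (e * a) * y⁻¹ = e * (y * a * y⁻¹) := by
        rw [← mul_assoc y e a, ec y hy]; group
      calc y * a * y⁻¹ = (e * e) * (y * a * y⁻¹) := by rw [e1, one_mul]
        _ = e * (y * (e * a) * y⁻¹) := by rw [h6, mul_assoc]
        _ = e * a := by rw [← h5]
    calc c * a * c⁻¹ = g * (y * (g⁻¹ * (y⁻¹ * a * y) * g) * y⁻¹) * g⁻¹ := by rw [hc]; group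
      _ = g * (y * (g⁻¹ * (e * a) * g) * y⁻¹) * g⁻¹ := by rw [h2]
      _ = g * (y * (e * a) * y⁻¹) * g⁻¹ := by
          have h7 : g⁻¹ * (e * a) * g = e * a := by
            have h8 : g⁻¹ * e * g = e := by
              calc g⁻¹ * e * g = g⁻¹ * (g * e * g⁻¹) * g := by rw [e2]
                _ = e := by group
            have h9 : g⁻¹ * a * g = a := by
              calc g⁻¹ * a * g = g⁻¹ * (g * a * g⁻¹) * g := by rw [hga]
                _ = a := by group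
            calc g⁻¹ * (e * a) * g = (g⁻¹ * e * g) * (g⁻¹ * a * g) := by group
              _ = e * a := by rw [h8, h9]
          rw [h7]
      _ = g * (e * (y * a * y⁻¹)) * g⁻¹ := by
          have h6 : y * (e * a) * y⁻¹ = e * (y * a * y⁻¹) := by
            rw [← mul_assoc y e a, ec y hy]; group
          rw [h6]
      _ = g * (e * (e * a)) * g⁻¹ := by rw [h4]
      _ = g * a * g⁻¹ := by rw [← mul_assoc e e, e1, one_mul]
      _ = a := hga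
  have hca' : a * c = c * a := by
    have := mul_inv_eq_iff_eq_mul.1 hca
    exact this.symm
  -- `g` commutes with `c`
  have hgc : g * c * g⁻¹ = c := by
    rcases h.sq hcQ with h1 | h1
    · rcases h.sq_cases hcQ h1 with h2 | h2
      · rw [h2]; group
      · rw [h2, gz]; group
    · rcases h.eq_or ha hcQ s h1 hca' with h2 | h2
      · rw [h2]; exact hga
      · rw [h2]
        calc g * (z * a) * g⁻¹ = (g * z) * g⁻¹ * (g * a * g⁻¹) := by group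
          _ = z * a := by rw [gz, hga]; group
  have hgy : g * y * g⁻¹ = c * y := by rw [hc]; group
  have h3 : c * c * c = 1 := by
    have h4 : y = c * c * c * y := by
      calc y = (g * g * g) * y * (g * g * g)⁻¹ := by rw [g3]; group
        _ = g * (g * (g * y * g⁻¹) * g⁻¹) * g⁻¹ := by group
        _ = g * (g * (c * y) * g⁻¹) * g⁻¹ := by rw [hgy]
        _ = g * ((g * c * g⁻¹) * (g * y * g⁻¹)) * g⁻¹ := by group
        _ = g * (c * (c * y)) * g⁻¹ := by rw [hgc, hgy]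
        _ = (g * c * g⁻¹) * (g * c * g⁻¹) * (g * y * g⁻¹) := by group
        _ = c * c * c * y := by rw [hgc, hgy, mul_assoc (c * c)]
    exact (mul_right_cancel (b := y) (by rw [one_mul]; exact h4)).symm
  have h5 : c = 1 := by
    rcases h.sq hcQ with h1 | h1
    · rw [h1, one_mul] at h3; exact h3
    · exfalso
      have h6 : c = z := by
        rw [h1] at h3
        have h7 : c = z⁻¹ := (inv_eq_of_mul_eq_one_right h3).symm
        rw [h7, h.z_inv]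
      rw [h6, h.z2] at h1
      exact h.z1 h1.symm
  rw [h5, one_mul] at hgy
  exact mul_inv_eq_iff_eq_mul.1 hgy

/-- the `A × B` lemma -/
theorem axb [Finite H] {P A : Subgroup H} [hPn : P.Normal] (hP : IsPGroup 2 P) (hA : A ≤ P) {y : H}
    (hy : Odd (orderOf y)) (hyA : ∀ a ∈ A, y * a = a * y)
    (hc : ∀ p ∈ P, (∀ a ∈ A, p * a = a * p) → y * p = p * y) : ∀ p ∈ P, y * p = p * y := by
  have : Fact (Nat.Prime 2) := ⟨Nat.prime_two⟩
  have hnor : ∀ K : Subgroup H, K ≤ normalizer (P : Set H) := by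
    intro K
    rw [normalizer_eq_top]
    exact le_top
  have hz : ∀ x ∈ zpowers y, ∀ g, g * y = y * g → g * x = x * g := by
    rintro _ ⟨n, rfl⟩ g hg
    exact (Commute.zpow_right (show Commute g y from hg) n).eq
  have h1 := Lib.ThompsonPQ.thompson_p_times_q 2 A (zpowers y) P (hP.to_le hA)
    (by rw [Nat.card_zpowers]; exact Nat.coprime_two_right.2 hy) hP (by
      intro a ha
      rw [mem_centralizer_iff]
      intro x hx
      exact (hz x hx a (hyA a ha).symm).symm) (hnor _) (hnor _) (by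
      rintro p ⟨hp, hpA⟩
      rw [mem_centralizer_iff]
      intro x hx
      refine (hz x hx p ?_).symm
      exact (hc p hp fun a ha => (mem_centralizer_iff.1 hpA a ha).symm).symm)
  intro p hp
  exact (mem_centralizer_iff.1 (h1 (mem_zpowers y)) p hp).symm

/-- a subgroup without nontrivial elements of odd order is a 2-group -/
theorem isPGroup_of_odd [Finite H] {W : Subgroup H} (h : ∀ y ∈ W, Odd (orderOf y) → y = 1) : IsPGroup 2 W := by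
  rintro ⟨x, hx⟩
  obtain ⟨k, m, hm, hk⟩ := Nat.exists_eq_two_pow_mul_odd (orderOf_pos x).ne'
  refine ⟨k, Subtype.ext ?_⟩
  change x ^ 2 ^ k = 1
  refine h _ (pow_mem hx _) ?_
  have h1 : orderOf (x ^ 2 ^ k) ∣ m := by
    apply orderOf_dvd_of_pow_eq_one
    rw [← pow_mul, ← hk, pow_orderOf_eq_one]
  exact hm.of_dvd_nat h1

/-- `v' = v` -/
theorem comm_v [Finite H] {X S J J' K : Subgroup H} {z i j v v' : H} (L : Loc X S z J i j v)
    (L' : Loc X S z J' i j v') [hKn : K.Normal] (hu : v⁻¹ * v' ∈ K)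
    (hW : ∀ y ∈ K, y ∈ X → (∀ s ∈ S, y * s = s * y) → Odd (orderOf y) → y = 1) : v' = v := by
  set u := v⁻¹ * v' with hud
  have hvX : v ∈ X := L.sn.le L.sl.hd
  have hvX' : v' ∈ X := L'.sn.le L'.sl.hd
  -- `u` centralises `Q`
  have uQ : ∀ q ∈ closure ({i, j} : Set H), u * q = q * u := by
    have h1 : u * i = i * u := by
      have h2 : v' * i * v'⁻¹ = v * i * v⁻¹ := by rw [L.sl.di, L'.sl.di]
      calc u * i = v⁻¹ * (v' * i * v'⁻¹) * v' := by rw [hud]; group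
        _ = i * u := by rw [h2, hud]; group
    have h2 : u * j = j * u := by
      have h2 : v' * j * v'⁻¹ = v * j * v⁻¹ := by rw [L.sl.dj, L'.sl.dj]
      calc u * j = v⁻¹ * (v' * j * v'⁻¹) * v' := by rw [hud]; group
        _ = j * u := by rw [h2, hud]; group
    have h3 : closure ({i, j} : Set H) ≤ centralizer {u} := by
      rw [closure_le]
      rintro x (rfl | rfl)
      · exact mem_centralizer_singleton_iff.2 h1.symm
      · exact mem_centralizer_singleton_iff.2 h2.symm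
    intro q hq
    exact (mem_centralizer_singleton_iff.1 (h3 hq)).symm
  -- `u` centralises `S`
  have uS : ∀ s ∈ S, u * s = s * u := by
    intro s hs
    obtain ⟨q, hq, c, hc, rfl, hvc, hcQ⟩ := decomp L.sl L.two L.q L.br hs
    have hvc' := comm_v_of_comm L'.sl L'.br hc hcQ
    have h1 : u * c = c * u := by
      have h2 : v⁻¹ * c = c * v⁻¹ := by
        calc v⁻¹ * c = v⁻¹ * (c * v) * v⁻¹ := by group
          _ = v⁻¹ * (v * c) * v⁻¹ := by rw [hvc]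
          _ = c * v⁻¹ := by group
      rw [hud, mul_assoc, hvc', ← mul_assoc, h2, mul_assoc]
    rw [← mul_assoc, uQ q hq, mul_assoc, h1, ← mul_assoc]
  have uX : u ∈ X := mul_mem (inv_mem hvX) hvX'
  set W := (K ⊓ X) ⊓ centralizer (S : Set H) with hWd
  have memW : ∀ y, y ∈ W ↔ (y ∈ K ∧ y ∈ X) ∧ ∀ s ∈ S, y * s = s * y := by
    intro y
    rw [hWd, mem_inf, mem_inf, mem_centralizer_iff]
    exact ⟨fun h => ⟨h.1, fun s hs => (h.2 s hs).symm⟩, fun h => ⟨h.1, fun s hs => (h.2 s hs).symm⟩⟩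
  have hW2 : IsPGroup 2 W := isPGroup_of_odd fun y hy ho => hW y ((memW y).1 hy).1.1 ((memW y).1 hy).1.2 ((memW y).1 hy).2 ho
  have hWn : X ≤ normalizer (W : Set H) := by
    have key : ∀ x ∈ X, ∀ y ∈ W, x * y * x⁻¹ ∈ W := by
      intro x hx y hy
      obtain ⟨⟨h1, h2⟩, h3⟩ := (memW y).1 hy
      refine (memW _).2 ⟨⟨hKn.conj_mem y h1 x, mul_mem (mul_mem hx h2) (inv_mem hx)⟩, ?_⟩
      intro s hs
      have h4 : x⁻¹ * s * x ∈ S := by
        refine (mem_normalizer_iff.1 (L.nor hx) _).2 ?_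
        have e : x * (x⁻¹ * s * x) * x⁻¹ = s := by group
        rw [e]; exact hs
      calc x * y * x⁻¹ * s = x * (y * (x⁻¹ * s * x)) * x⁻¹ := by group
        _ = x * ((x⁻¹ * s * x) * y) * x⁻¹ := by rw [h3 _ h4]
        _ = s * (x * y * x⁻¹) := by group
    intro x hx
    rw [mem_normalizer_iff]
    intro y
    refine ⟨key x hx y, fun h => ?_⟩
    have h1 := key x⁻¹ (inv_mem hx) _ h
    have e : x⁻¹ * (x * y * x⁻¹) * x⁻¹⁻¹ = y := by group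
    rwa [e] at h1
  have hWX : W ≤ X := inf_le_left.trans inf_le_right
  -- `S W` is a normal 2-subgroup of `X`
  have hSW2 : IsPGroup 2 (S ⊔ W : Subgroup H) :=
    IsPGroup.to_sup_of_normal_right' L.two hW2 (L.le.trans hWn)
  have hSWn : X ≤ normalizer ((S ⊔ W : Subgroup H) : Set H) := by
    intro x hx
    rw [mem_normalizer_iff_cj, show Cit.cj x (S ⊔ W) = Cit.cj x S ⊔ Cit.cj x W from Subgroup.map_sup _ _ _,
      mem_normalizer_iff_cj.1 (L.nor hx), mem_normalizer_iff_cj.1 (hWn hx)]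
  have L2 : Loc X (S ⊔ W) z J i j v := ⟨sup_le L.le hWX, hSWn, hSW2, L.sl, L.sn, L.q.trans le_sup_left⟩
  have huW : u ∈ W := (memW u).2 ⟨⟨hu, uX⟩, uS⟩
  have h1 : v * u * v⁻¹ * u⁻¹ ∈ closure ({i, j} : Set H) := L2.br u (mem_sup_right huW)
  have h2 : v * u * v⁻¹ * u⁻¹ ∈ W := mul_mem ((mem_normalizer_iff.1 (hWn hvX) u).1 huW) (inv_mem huW)
  have h3 : v * u * v⁻¹ * u⁻¹ = 1 ∨ v * u * v⁻¹ * u⁻¹ = z :=
    L.sl.q.central h1 (((memW _).1 h2).2 i (L.q (Qt.mem_i z i j))) (((memW _).1 h2).2 j (L.q (Qt.mem_j z i j)))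
  have h4 : v * u = u * v := by
    rcases h3 with h3 | h3
    · exact mul_inv_eq_iff_eq_mul.1 (mul_inv_eq_one.1 h3)
    · exact (ne_z_mul L.sl (mul_inv_eq_iff_eq_mul.1 h3)).elim
  have h5 : u * u * u = 1 := by
    have e1 : v' = v * u := by rw [hud]; group
    have e2 : v' * v' * v' = (v * v * v) * (u * u * u) := by
      rw [e1]
      calc v * u * (v * u) * (v * u) = v * (u * v) * u * v * u := by group
        _ = v * (v * u) * u * v * u := by rw [h4]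
        _ = v * v * u * (u * v) * u := by group
        _ = v * v * u * (v * u) * u := by rw [h4]
        _ = v * v * (u * v) * u * u := by group
        _ = v * v * (v * u) * u * u := by rw [h4]
        _ = (v * v * v) * (u * u * u) := by group
    rw [show v' * v' * v' = 1 from L'.sl.d3, show v * v * v = 1 from L.sl.d3, one_mul] at e2
    exact e2.symm
  obtain ⟨n, hn⟩ := hW2 ⟨u, huW⟩
  have h6 : u = 1 := SLThree.Sl.eq_one_of_cube h5 (n := n) (by simpa using congrArg Subtype.val hn)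
  rw [hud] at h6
  exact (inv_mul_eq_one.1 h6).symm

/-- `Q₃ ∩ Q₄ ≤ ⟨z⟩`, `Q₃ ≠ Q₄` -/
theorem Half.inter {P : Subgroup H} {z w : H} {J₁ J₂ : Subgroup H} {i₁ j₁ v₁ i₂ j₂ v₂ : H}
    (D : Half P z w J₁ J₂ i₁ j₁ v₁ i₂ j₂ v₂) {x : H} (h1 : x ∈ closure ({i₁, j₁} : Set H))
    (h2 : x ∈ closure ({i₂, j₂} : Set H)) : x = 1 ∨ x = z :=
  D.h1.q.central h1 (D.cm i₁ D.h1.hi x (D.h2.Qle h2)).symm (D.cm j₁ D.h1.hj x (D.h2.Qle h2)).symm

theorem Half.ne {P : Subgroup H} {z w : H} {J₁ J₂ : Subgroup H} {i₁ j₁ v₁ i₂ j₂ v₂ : H}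
    (D : Half P z w J₁ J₂ i₁ j₁ v₁ i₂ j₂ v₂) : closure ({i₁, j₁} : Set H) ≠ closure ({i₂, j₂} : Set H) := by
  intro h
  have h1 : i₁ ∈ closure ({i₂, j₂} : Set H) := h ▸ Qt.mem_i z i₁ j₁
  rcases D.inter (Qt.mem_i z i₁ j₁) h1 with h2 | h2
  · exact D.h1.q.i_ne h2
  · have h3 := D.h1.q.i2
    rw [h2, D.h1.q.z2] at h3
    exact D.h1.q.z1 h3.symm

section OneG

variable [Finite H] {P : Subgroup H} [hPn : P.Normal] (hP : IsPGroup 2 P) {z w w' : H} {J₃ J₄ : Subgroup H}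
  {i₃ j₃ v₃ i₄ j₄ v₄ : H} (D' : Half P z w' J₃ J₄ i₃ j₃ v₃ i₄ j₄ v₄) (hw'P : w' ∈ P)
  {a₃ a₄ : H} (ha₃ : a₃ ∈ closure ({i₃, j₃} : Set H)) (ha₄ : a₄ ∈ closure ({i₄, j₄} : Set H))
  (s₃ : a₃ * a₃ = z) (s₄ : a₄ * a₄ = z) (hw : w = a₃ * a₄)
  {g : H} (gz : g * z = z * g) (gw : g * w = w * g) (g3 : g * g * g = 1)
  (c₃ : ∀ y ∈ J₃, g * w' * g⁻¹ * y = y * (g * w' * g⁻¹)) (c₄ : ∀ y ∈ J₄, g * w' * g⁻¹ * y = y * (g * w' * g⁻¹))
  (c₃' : ∀ y ∈ J₃, g⁻¹ * w' * g * y = y * (g⁻¹ * w' * g)) (c₄' : ∀ y ∈ J₄, g⁻¹ * w' * g * y = y * (g⁻¹ * w' * g))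

/-- the subgroup `X = C(w') ∩ C(w'^g)` -/
def XX (w' g : H) : Subgroup H := centralizer ({w'} : Set H) ⊓ centralizer ({g * w' * g⁻¹} : Set H)

omit [Finite H] in
theorem mem_XX {w' g x : H} : x ∈ XX w' g ↔ x * w' = w' * x ∧ x * (g * w' * g⁻¹) = (g * w' * g⁻¹) * x := by
  rw [XX, mem_inf, mem_centralizer_singleton_iff, mem_centralizer_singleton_iff]

omit [Finite H] in
theorem XX_nor (w' g : H) : XX w' g ≤ normalizer ((P ⊓ XX w' g : Subgroup H) : Set H) := by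
  intro x hx
  rw [mem_normalizer_iff]
  intro y
  constructor
  · rintro ⟨h1, h2⟩
    exact mem_inf.2 ⟨hPn.conj_mem y h1 x, mul_mem (mul_mem hx h2) (inv_mem hx)⟩
  · rintro ⟨h1, h2⟩
    have e : x⁻¹ * (x * y * x⁻¹) * x⁻¹⁻¹ = y := by group
    refine mem_inf.2 ⟨?_, ?_⟩
    · have := hPn.conj_mem _ h1 x⁻¹
      rwa [e] at this
    · have := mul_mem (mul_mem (inv_mem hx) h2) (inv_mem (inv_mem hx))
      rwa [e] at this

include hP

omit [Finite H] in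
theorem loc_one {J : Subgroup H} {i j v : H} (hJ : Sl J z i j v) (hs : Sn J (centralizer ({w'} : Set H)))
    (hQ : closure ({i, j} : Set H) ≤ P) (hc : ∀ y ∈ J, g * w' * g⁻¹ * y = y * (g * w' * g⁻¹)) :
    Loc (XX w' g) (P ⊓ XX w' g) z J i j v := by
  have hX : J ≤ XX w' g := fun y hy =>
    mem_XX.2 ⟨mem_centralizer_singleton_iff.1 (hs.le hy), (hc y hy).symm⟩
  exact ⟨inf_le_right, XX_nor w' g, hP.to_le inf_le_left, hJ, hs.restrict inf_le_left hX, le_inf hQ (hJ.Qle.trans hX)⟩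

include gz

omit [Finite H] in
theorem loc_two {J : Subgroup H} {i j v : H} (hJ : Sl J z i j v) (hs : Sn J (centralizer ({w'} : Set H)))
    (hQ : closure ({i, j} : Set H) ≤ P) (hc : ∀ y ∈ J, g⁻¹ * w' * g * y = y * (g⁻¹ * w' * g)) :
    Loc (XX w' g) (P ⊓ XX w' g) z (Cit.cj g J) (g * i * g⁻¹) (g * j * g⁻¹) (g * v * g⁻¹) := by
  have hX : Cit.cj g J ≤ XX w' g := by
    rintro _ ⟨y, hy, rfl⟩
    change g * y * g⁻¹ ∈ XX w' g
    refine mem_XX.2 ⟨?_, ?_⟩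
    · calc g * y * g⁻¹ * w' = g * (y * (g⁻¹ * w' * g)) * g⁻¹ := by group
        _ = g * (g⁻¹ * w' * g * y) * g⁻¹ := by rw [hc y hy]
        _ = w' * (g * y * g⁻¹) := by group
    · have h1 : y * w' = w' * y := mem_centralizer_singleton_iff.1 (hs.le hy)
      calc g * y * g⁻¹ * (g * w' * g⁻¹) = g * (y * w') * g⁻¹ := by group
        _ = g * (w' * y) * g⁻¹ := by rw [h1]
        _ = g * w' * g⁻¹ * (g * y * g⁻¹) := by group
  have h1 : Sl (Cit.cj g J) z (g * i * g⁻¹) (g * j * g⁻¹) (g * v * g⁻¹) := by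
    have := hJ.of_cj g
    have e : g * z * g⁻¹ = z := by rw [gz]; group
    rwa [e] at this
  have h2 : Cit.cj g (centralizer ({w'} : Set H)) = centralizer ({g * w' * g⁻¹} : Set H) := by
    ext x
    rw [Cit.mem_cj, mem_centralizer_singleton_iff, mem_centralizer_singleton_iff]
    constructor
    · intro h
      calc x * (g * w' * g⁻¹) = g * (g⁻¹ * x * g * w') * g⁻¹ := by group
        _ = g * (w' * (g⁻¹ * x * g)) * g⁻¹ := by rw [h]
        _ = g * w' * g⁻¹ * x := by group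
    · intro h
      calc g⁻¹ * x * g * w' = g⁻¹ * (x * (g * w' * g⁻¹)) * g := by group
        _ = g⁻¹ * (g * w' * g⁻¹ * x) * g := by rw [h]
        _ = w' * (g⁻¹ * x * g) := by group
  have h3 := hs.cj g
  rw [h2] at h3
  refine ⟨inf_le_right, XX_nor w' g, hP.to_le inf_le_left, h1, h3.restrict inf_le_right hX, ?_⟩
  refine le_inf ?_ (h1.Qle.trans hX)
  rw [cj_closure_pair]
  rintro _ ⟨y, hy, rfl⟩
  exact hPn.conj_mem y (hQ hy) g

include D' ha₃ ha₄ s₃ s₄ hw gw g3 c₃ c₄ c₃' c₄'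

/-- `g` normalises `Q₃` and `Q₄` -/
theorem perm_four : Cit.cj g (closure ({i₃, j₃} : Set H)) = closure ({i₃, j₃} : Set H) ∧
    Cit.cj g (closure ({i₄, j₄} : Set H)) = closure ({i₄, j₄} : Set H) := by
  have L₃ := loc_one hP D'.h1 D'.sn1 D'.q1 c₃
  have L₄ := loc_one hP D'.h2 D'.sn2 D'.q2 c₄
  have L₃' := loc_two hP gz D'.h1 D'.sn1 D'.q1 c₃'
  have L₄' := loc_two hP gz D'.h2 D'.sn2 D'.q2 c₄'
  have cm : a₃ * a₄ = a₄ * a₃ := D'.cm a₃ (D'.h1.Qle ha₃) a₄ (D'.h2.Qle ha₄)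
  have m₃ : g * a₃ * g⁻¹ ∈ closure ({g * i₃ * g⁻¹, g * j₃ * g⁻¹} : Set H) := by
    rw [cj_closure_pair]; exact ⟨a₃, ha₃, rfl⟩
  have m₄ : g * a₄ * g⁻¹ ∈ closure ({g * i₄ * g⁻¹, g * j₄ * g⁻¹} : Set H) := by
    rw [cj_closure_pair]; exact ⟨a₄, ha₄, rfl⟩
  have e1 : a₃ * a₄ = (g * a₃ * g⁻¹) * (g * a₄ * g⁻¹) := by
    calc a₃ * a₄ = w * g * g⁻¹ := by rw [hw]; group
      _ = g * w * g⁻¹ := by rw [gw]
      _ = (g * a₃ * g⁻¹) * (g * a₄ * g⁻¹) := by rw [hw]; group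
  have h3 := L₃.perm_one L₃' L₄' ha₃ s₃ m₃ m₄
    (fun q hq => D'.cm q (D'.h1.Qle hq) a₄ (D'.h2.Qle ha₄)) e1
  have h4 := L₄.perm_one L₃' L₄' ha₄ s₄ m₃ m₄
    (fun q hq => (D'.cm a₃ (D'.h1.Qle ha₃) q (D'.h2.Qle hq)).symm) (cm.symm.trans e1)
  rw [cj_closure_pair, cj_closure_pair] at h3 h4
  have hne := D'.ne
  rcases h3 with h3 | h3 <;> rcases h4 with h4 | h4
  · exact absurd (h3.trans h4.symm) hne
  · exact ⟨h3.symm, h4.symm⟩
  · exfalso
    have h5 : Cit.cj (g * g * g) (closure ({i₃, j₃} : Set H)) = closure ({i₃, j₃} : Set H) := by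
      rw [g3, Cit.cj_one]
    rw [cj_mul, cj_mul, ← h4, ← h3, ← h4] at h5
    exact hne h5.symm
  · exact absurd (h3.trans h4.symm) hne

/-- `g` centralises `Q₃` -/
theorem comm_Q3 : ∀ q ∈ closure ({i₃, j₃} : Set H), g * q = q * g := by
  obtain ⟨n₃, n₄⟩ := perm_four hP D' ha₃ ha₄ s₃ s₄ hw gz gw g3 c₃ c₄ c₃' c₄'
  have n₃' : ∀ q ∈ closure ({i₃, j₃} : Set H), g * q * g⁻¹ ∈ closure ({i₃, j₃} : Set H) := by
    intro q hq
    rw [← n₃]; exact ⟨q, hq, rfl⟩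
  have n₄' : ∀ q ∈ closure ({i₄, j₄} : Set H), g * q * g⁻¹ ∈ closure ({i₄, j₄} : Set H) := by
    intro q hq
    rw [← n₄]; exact ⟨q, hq, rfl⟩
  refine comm_of_fix D'.h1.q g3 gz n₃' ha₃ s₃ ?_
  -- `g` commutes with `a₃`
  have e1 : a₃ * a₄ = (g * a₃ * g⁻¹) * (g * a₄ * g⁻¹) := by
    calc a₃ * a₄ = w * g * g⁻¹ := by rw [hw]; group
      _ = g * w * g⁻¹ := by rw [gw]
      _ = (g * a₃ * g⁻¹) * (g * a₄ * g⁻¹) := by rw [hw]; group
  have e2 : (g * a₃ * g⁻¹)⁻¹ * a₃ = (g * a₄ * g⁻¹) * a₄⁻¹ := by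
    calc (g * a₃ * g⁻¹)⁻¹ * a₃ = (g * a₃ * g⁻¹)⁻¹ * (a₃ * a₄) * a₄⁻¹ := by group
      _ = (g * a₄ * g⁻¹) * a₄⁻¹ := by rw [e1]; group
  have h1 : (g * a₃ * g⁻¹)⁻¹ * a₃ ∈ closure ({i₃, j₃} : Set H) := mul_mem (inv_mem (n₃' _ ha₃)) ha₃
  have h2 : (g * a₃ * g⁻¹)⁻¹ * a₃ ∈ closure ({i₄, j₄} : Set H) := by
    rw [e2]; exact mul_mem (n₄' _ ha₄) (inv_mem ha₄)
  rcases D'.inter h1 h2 with h3 | h3
  · exact (mul_inv_eq_iff_eq_mul.1 (inv_mul_eq_one.1 h3))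
  · exfalso
    refine ne_z_mul' (g := g) (x := a₃) D'.h1.q.z1 D'.h1.q.z2 gz g3 ?_
    have h4 : a₃ = (g * a₃ * g⁻¹) * z := by rw [← h3]; group
    have h5 : (g * a₃ * g⁻¹) * z = z * (g * a₃ * g⁻¹) := D'.h1.q.comm_z (n₃' _ ha₃)
    calc g * a₃ * g⁻¹ = (z * z) * (g * a₃ * g⁻¹) := by rw [D'.h1.q.z2, one_mul]
      _ = z * (z * (g * a₃ * g⁻¹)) := by rw [mul_assoc]
      _ = z * a₃ := by rw [← h5, ← h4]

variable {K : Subgroup H} [hKn : K.Normal] (hg : g ∈ K)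
  (hK : ∀ y ∈ K, (∀ p ∈ P, y * p = p * y) → y ∈ P)

include hw'P hg hK

/-- `g` centralises `J₃` -/
theorem comm_J3 : ∀ y ∈ J₃, g * y = y * g := by
  have gQ := comm_Q3 hP D' ha₃ ha₄ s₃ s₄ hw gz gw g3 c₃ c₄ c₃' c₄'
  have L := loc_one hP D'.h1 D'.sn1 D'.q1 c₃
  have L' := loc_two hP gz D'.h1 D'.sn1 D'.q1 c₃'
  have e1 : g * i₃ * g⁻¹ = i₃ := by rw [gQ i₃ (Qt.mem_i z i₃ j₃)]; group
  have e2 : g * j₃ * g⁻¹ = j₃ := by rw [gQ j₃ (Qt.mem_j z i₃ j₃)]; group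
  rw [e1, e2] at L'
  have h1 : g * v₃ * g⁻¹ = v₃ := by
    refine comm_v (K := K) L L' ?_ ?_
    · have e : v₃⁻¹ * (g * v₃ * g⁻¹) = (v₃⁻¹ * g * v₃⁻¹⁻¹) * g⁻¹ := by group
      rw [e]
      exact mul_mem (hKn.conj_mem g hg v₃⁻¹) (inv_mem hg)
    · intro y hyK hyX hyS ho
      have h2 := mem_XX.1 hyX
      have hyP : ∀ p ∈ P, y * p = p * y := by
        refine axb (A := closure ({w', g * w' * g⁻¹} : Set H)) hP ?_ ho ?_ ?_
        · rw [closure_le]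
          rintro x (rfl | rfl)
          · exact hw'P
          · exact hPn.conj_mem _ hw'P g
        · have h3 : closure ({w', g * w' * g⁻¹} : Set H) ≤ centralizer {y} := by
            rw [closure_le]
            rintro x (rfl | rfl)
            · exact mem_centralizer_singleton_iff.2 h2.1.symm
            · exact mem_centralizer_singleton_iff.2 h2.2.symm
          intro a ha
          exact (mem_centralizer_singleton_iff.1 (h3 ha)).symm
        · intro p hp hpA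
          exact hyS p (mem_inf.2 ⟨hp, mem_XX.2 ⟨hpA _ (subset_closure (by simp)), hpA _ (subset_closure (by simp))⟩⟩)
      have hy := hK y hyK hyP
      obtain ⟨n, hn⟩ := hP ⟨y, hy⟩
      have hn' : y ^ 2 ^ n = 1 := by simpa using congrArg Subtype.val hn
      have h3 : orderOf y ∣ 2 ^ n := orderOf_dvd_of_pow_eq_one hn'
      have h4 : Nat.Coprime (orderOf y) (2 ^ n) := Nat.Coprime.pow_right n (Nat.coprime_two_right.2 ho)
      have h5 := Nat.dvd_gcd dvd_rfl h3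
      rw [h4] at h5
      exact orderOf_eq_one_iff.1 (Nat.dvd_one.1 h5)
  have h2 : J₃ ≤ centralizer {g} := by
    rw [D'.h1.gen, closure_le]
    rintro x (rfl | rfl)
    · exact mem_centralizer_singleton_iff.2 (gQ _ (Qt.mem_i z _ j₃)).symm
    · exact mem_centralizer_singleton_iff.2 (mul_inv_eq_iff_eq_mul.1 h1).symm
  intro y hy
  exact (mem_centralizer_singleton_iff.1 (h2 hy)).symm

/-- `g` centralises `J₄` -/
theorem comm_J4 : ∀ y ∈ J₄, g * y = y * g :=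
  comm_J3 hP D'.symm hw'P ha₄ ha₃ s₄ s₃ (hw.trans (D'.cm a₃ (D'.h1.Qle ha₃) a₄ (D'.h2.Qle ha₄))) gz gw g3 c₄ c₃
    c₄' c₃' hg hK

end OneG

/-- a conjugate of an element of order 4 under an element of order 3 -/
theorem anti {J : Subgroup H} {z i j v a : H} (h : Sl J z i j v) (ha : a ∈ closure ({i, j} : Set H)) (s : a * a = z)
    {u : H} (hu : u = v ∨ u = v⁻¹) : u * a * u⁻¹ ∈ closure ({i, j} : Set H) ∧ (u * a * u⁻¹) * (u * a * u⁻¹) = z ∧
      (u * a * u⁻¹) * a = z * (a * (u * a * u⁻¹)) := by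
  have key : ∀ a ∈ closure ({i, j} : Set H), a * a = z → v * a * v⁻¹ ∈ closure ({i, j} : Set H) ∧
      (v * a * v⁻¹) * (v * a * v⁻¹) = z ∧ (v * a * v⁻¹) * a = z * (a * (v * a * v⁻¹)) := by
    intro a ha s
    have hm := h.conj_mem ha
    have h2 : (v * a * v⁻¹) * (v * a * v⁻¹) = z := by
      calc (v * a * v⁻¹) * (v * a * v⁻¹) = v * (a * a) * v⁻¹ := by group
        _ = z := by rw [s, h.dz]; group
    refine ⟨hm, h2, ?_⟩
    rcases q_conj h.q hm ha with h3 | h3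
    · exfalso
      have h4 : a * (v * a * v⁻¹) = (v * a * v⁻¹) * a := (mul_inv_eq_iff_eq_mul.1 h3).symm
      rcases h.q.eq_or ha hm s h2 h4 with h5 | h5
      · have h6 := comm_of_fix h.q h.d3 h.dz (fun q hq => h.conj_mem hq) ha s (mul_inv_eq_iff_eq_mul.1 h5) i
          (Qt.mem_i z i j)
        have h7 := h.di
        rw [h6] at h7
        have h8 : i = j := by rw [← h7]; group
        exact h.q.not_comm (by rw [h8])
      · exact ne_z_mul h h5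
    · rw [mul_inv_eq_iff_eq_mul.1 h3, mul_assoc]
  rcases hu with rfl | rfl
  · exact key a ha s
  · have hm : v⁻¹ * a * v⁻¹⁻¹ ∈ closure ({i, j} : Set H) := by
      have h1 := h.conj_mem (h.conj_mem ha)
      have e : v * (v * a * v⁻¹) * v⁻¹ = v⁻¹ * a * v⁻¹⁻¹ := by
        have h4 : v * v = v⁻¹ := h.d_inv.symm
        calc v * (v * a * v⁻¹) * v⁻¹ = (v * v) * a * (v * v)⁻¹ := by group
          _ = v⁻¹ * a * v⁻¹⁻¹ := by rw [h4]
      rwa [e] at h1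
    have h2 : (v⁻¹ * a * v⁻¹⁻¹) * (v⁻¹ * a * v⁻¹⁻¹) = z := by
      calc (v⁻¹ * a * v⁻¹⁻¹) * (v⁻¹ * a * v⁻¹⁻¹) = v⁻¹ * (a * a) * v := by group
        _ = v⁻¹ * (z * v) := by rw [s]; group
        _ = z := by rw [← h.dz]; group
    have h3 := (key _ hm h2).2.2
    have e : v * (v⁻¹ * a * v⁻¹⁻¹) * v⁻¹ = a := by group
    rw [e] at h3
    refine ⟨hm, h2, ?_⟩
    rw [h3, h.q.zz]

/-- `J` is generated by an element of order 4 and one of order 3 -/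
theorem gen_mem {J : Subgroup H} {z i j v a : H} (h : Sl J z i j v) (ha : a ∈ closure ({i, j} : Set H))
    (s : a * a = z) {C : Subgroup H} (haC : a ∈ C) (hvC : v ∈ C) : J ≤ C := by
  have hzC : z ∈ C := by rw [← s]; exact mul_mem haC haC
  have hj : j ∈ C → i ∈ C := by
    intro hj
    have e : i = v⁻¹ * j * v := by rw [← h.di]; group
    rw [e]; exact mul_mem (mul_mem (inv_mem hvC) hj) hvC
  have hk : i * j ∈ C → j ∈ C := by
    intro hk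
    have e : j = v⁻¹ * (i * j) * v := by rw [← h.dj]; group
    rw [e]; exact mul_mem (mul_mem (inv_mem hvC) hk) hvC
  have hz : ∀ x, z * x ∈ C → x ∈ C := fun x hx => (C.mul_mem_cancel_left hzC).1 hx
  have hi : i ∈ C := by
    rcases h.q.mem_cases ha with e | e | e | e | e | e | e | e
    · exfalso; rw [e, one_mul] at s; exact h.q.z1 s.symm
    · exfalso; rw [e, h.q.z2] at s; exact h.q.z1 s.symm
    · rwa [e] at haC
    · rw [e] at haC; exact hz _ haC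
    · rw [e] at haC; exact hj haC
    · rw [e] at haC; exact hj (hz _ haC)
    · rw [e] at haC; exact hj (hk haC)
    · rw [e] at haC; exact hj (hk (hz _ haC))
  rw [h.gen, closure_le]
  rintro x (rfl | rfl)
  · exact hi
  · exact hvC

section All

variable [Finite H] {P : Subgroup H} [hPn : P.Normal] (hP : IsPGroup 2 P) {z w w' : H}
  {J₁ J₂ J₃ J₄ : Subgroup H} {i₁ j₁ v₁ i₂ j₂ v₂ i₃ j₃ v₃ i₄ j₄ v₄ : H}
  (D : Half P z w J₁ J₂ i₁ j₁ v₁ i₂ j₂ v₂) (D' : Half P z w' J₃ J₄ i₃ j₃ v₃ i₄ j₄ v₄)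
  {a₁ a₂ a₃ a₄ : H} (ha₁ : a₁ ∈ closure ({i₁, j₁} : Set H)) (ha₂ : a₂ ∈ closure ({i₂, j₂} : Set H))
  (ha₃ : a₃ ∈ closure ({i₃, j₃} : Set H)) (ha₄ : a₄ ∈ closure ({i₄, j₄} : Set H))
  (s₁ : a₁ * a₁ = z) (s₂ : a₂ * a₂ = z) (s₃ : a₃ * a₃ = z) (s₄ : a₄ * a₄ = z) (hw' : w' = a₁ * a₂)
  (hw : w = a₃ * a₄) {K : Subgroup H} [hKn : K.Normal] (k₁ : J₁ ≤ K) (k₂ : J₂ ≤ K)
  (hK : ∀ y ∈ K, (∀ p ∈ P, y * p = p * y) → y ∈ P)
  (hr : ∀ x₁ ∈ J₁, ∀ x₂ ∈ J₂, x₁ * x₁ = z → x₂ * x₂ = z → x₁ * a₁ = z * (a₁ * x₁) → x₂ * a₂ = z * (a₂ * x₂) →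
    ∀ y, y ∈ J₃ ∨ y ∈ J₄ → x₁ * x₂ * y = y * (x₁ * x₂))

include hP D D' ha₁ ha₂ ha₃ ha₄ s₁ s₂ s₃ s₄ hw' hw k₁ k₂ hK hr

/-- **(3d) (a2), K-free part**: `[J₁J₂, J₃J₄] = 1`. -/
theorem comm_all : ∀ x, x ∈ J₁ ∨ x ∈ J₂ → ∀ y, y ∈ J₃ ∨ y ∈ J₄ → x * y = y * x := by
  have cv : v₁ * v₂ = v₂ * v₁ := D.cm v₁ D.h1.hd v₂ D.h2.hd
  have m₁ : ∀ u₁, u₁ = v₁ ∨ u₁ = v₁⁻¹ → u₁ ∈ J₁ := by
    rintro u (rfl | rfl)
    · exact D.h1.hd
    · exact inv_mem D.h1.hd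
  have m₂ : ∀ u₂, u₂ = v₂ ∨ u₂ = v₂⁻¹ → u₂ ∈ J₂ := by
    rintro u (rfl | rfl)
    · exact D.h2.hd
    · exact inv_mem D.h2.hd
  have i₁' : ∀ u₁, u₁ = v₁ ∨ u₁ = v₁⁻¹ → u₁⁻¹ = v₁ ∨ u₁⁻¹ = v₁⁻¹ := by
    rintro u (rfl | rfl)
    · exact Or.inr rfl
    · exact Or.inl (inv_inv _)
  have i₂' : ∀ u₂, u₂ = v₂ ∨ u₂ = v₂⁻¹ → u₂⁻¹ = v₂ ∨ u₂⁻¹ = v₂⁻¹ := by
    rintro u (rfl | rfl)
    · exact Or.inr rfl
    · exact Or.inl (inv_inv _)
  have cub₁ : ∀ u₁, u₁ = v₁ ∨ u₁ = v₁⁻¹ → u₁ * u₁ * u₁ = 1 := by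
    rintro u (rfl | rfl)
    · exact D.h1.d3
    · have h3 : v₁ * v₁ * v₁ = 1 := D.h1.d3
      calc v₁⁻¹ * v₁⁻¹ * v₁⁻¹ = (v₁ * v₁ * v₁)⁻¹ := by group
        _ = 1 := by rw [h3, inv_one]
  have cub₂ : ∀ u₂, u₂ = v₂ ∨ u₂ = v₂⁻¹ → u₂ * u₂ * u₂ = 1 := by
    rintro u (rfl | rfl)
    · exact D.h2.d3
    · have h3 : v₂ * v₂ * v₂ = 1 := D.h2.d3
      calc v₂⁻¹ * v₂⁻¹ * v₂⁻¹ = (v₂ * v₂ * v₂)⁻¹ := by group
        _ = 1 := by rw [h3, inv_one]
  -- conjugates of `w'`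
  have cw : ∀ u₁, u₁ = v₁ ∨ u₁ = v₁⁻¹ → ∀ u₂, u₂ = v₂ ∨ u₂ = v₂⁻¹ →
      (u₁ * u₂) * w' * (u₁ * u₂)⁻¹ = (u₁ * a₁ * u₁⁻¹) * (u₂ * a₂ * u₂⁻¹) := by
    intro u₁ h₁ u₂ h₂
    have e1 : u₂ * a₁ = a₁ * u₂ := (D.cm a₁ (D.h1.Qle ha₁) u₂ (m₂ u₂ h₂)).symm
    have e2 : u₂ * a₂ * u₂⁻¹ * u₁⁻¹ = u₁⁻¹ * (u₂ * a₂ * u₂⁻¹) :=
      (D.cm u₁⁻¹ (inv_mem (m₁ u₁ h₁)) _ (mul_mem (mul_mem (m₂ u₂ h₂) (D.h2.Qle ha₂)) (inv_mem (m₂ u₂ h₂)))).symm
    calc (u₁ * u₂) * w' * (u₁ * u₂)⁻¹ = u₁ * (u₂ * a₁) * a₂ * u₂⁻¹ * u₁⁻¹ := by rw [hw']; group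
      _ = u₁ * a₁ * (u₂ * a₂ * u₂⁻¹ * u₁⁻¹) := by rw [e1]; group
      _ = (u₁ * a₁ * u₁⁻¹) * (u₂ * a₂ * u₂⁻¹) := by rw [e2]; group
  have cc : ∀ u₁, u₁ = v₁ ∨ u₁ = v₁⁻¹ → ∀ u₂, u₂ = v₂ ∨ u₂ = v₂⁻¹ → ∀ y, y ∈ J₃ ∨ y ∈ J₄ →
      (u₁ * u₂) * w' * (u₁ * u₂)⁻¹ * y = y * ((u₁ * u₂) * w' * (u₁ * u₂)⁻¹) := by
    intro u₁ h₁ u₂ h₂ y hy
    rw [cw u₁ h₁ u₂ h₂]
    obtain ⟨b1, b2, b3⟩ := anti D.h1 ha₁ s₁ h₁
    obtain ⟨b4, b5, b6⟩ := anti D.h2 ha₂ s₂ h₂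
    exact hr _ (D.h1.Qle b1) _ (D.h2.Qle b4) b2 b5 b3 b6 y hy
  have hw'P : w' ∈ P := by rw [hw']; exact mul_mem (D.q1 ha₁) (D.q2 ha₂)
  -- `u₁ u₂` centralises `J₃`, `J₄`
  have key : ∀ u₁, u₁ = v₁ ∨ u₁ = v₁⁻¹ → ∀ u₂, u₂ = v₂ ∨ u₂ = v₂⁻¹ → ∀ y, y ∈ J₃ ∨ y ∈ J₄ →
      (u₁ * u₂) * y = y * (u₁ * u₂) := by
    intro u₁ h₁ u₂ h₂ y hy
    have c12 : u₁ * u₂ = u₂ * u₁ := D.cm u₁ (m₁ u₁ h₁) u₂ (m₂ u₂ h₂)
    have gz : (u₁ * u₂) * z = z * (u₁ * u₂) := by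
      rw [mul_assoc, D.h2.comm_z (m₂ u₂ h₂), ← mul_assoc, D.h1.comm_z (m₁ u₁ h₁), mul_assoc]
    have gw : (u₁ * u₂) * w = w * (u₁ * u₂) := by
      have e1 : u₁ * w = w * u₁ := mem_centralizer_singleton_iff.1 (D.sn1.le (m₁ u₁ h₁))
      have e2 : u₂ * w = w * u₂ := mem_centralizer_singleton_iff.1 (D.sn2.le (m₂ u₂ h₂))
      rw [mul_assoc, e2, ← mul_assoc, e1, mul_assoc]
    have g3 : (u₁ * u₂) * (u₁ * u₂) * (u₁ * u₂) = 1 := by
      calc (u₁ * u₂) * (u₁ * u₂) * (u₁ * u₂) = u₁ * (u₂ * u₁) * (u₂ * u₁) * u₂ := by group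
        _ = u₁ * (u₁ * u₂) * (u₁ * u₂) * u₂ := by rw [c12]
        _ = u₁ * u₁ * (u₂ * u₁) * u₂ * u₂ := by group
        _ = u₁ * u₁ * (u₁ * u₂) * u₂ * u₂ := by rw [c12]
        _ = (u₁ * u₁ * u₁) * (u₂ * u₂ * u₂) := by group
        _ = 1 := by rw [cub₁ u₁ h₁, cub₂ u₂ h₂, one_mul]
    have gi : ∀ x, (u₁ * u₂)⁻¹ * x * (u₁ * u₂) = (u₁⁻¹ * u₂⁻¹) * x * (u₁⁻¹ * u₂⁻¹)⁻¹ := by
      intro x
      have e : (u₁ * u₂)⁻¹ = u₁⁻¹ * u₂⁻¹ := by rw [c12, mul_inv_rev]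
      rw [← e, inv_inv]
    have c' : ∀ y, y ∈ J₃ ∨ y ∈ J₄ → (u₁ * u₂)⁻¹ * w' * (u₁ * u₂) * y = y * ((u₁ * u₂)⁻¹ * w' * (u₁ * u₂)) := by
      intro y hy
      rw [gi w']
      exact cc u₁⁻¹ (i₁' u₁ h₁) u₂⁻¹ (i₂' u₂ h₂) y hy
    have c := cc u₁ h₁ u₂ h₂
    have gK : u₁ * u₂ ∈ K := mul_mem (k₁ (m₁ u₁ h₁)) (k₂ (m₂ u₂ h₂))
    rcases hy with hy | hy
    · exact comm_J3 hP D' hw'P ha₃ ha₄ s₃ s₄ hw gz gw g3 (fun y hy => c y (Or.inl hy)) (fun y hy => c y (Or.inr hy))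
        (fun y hy => c' y (Or.inl hy)) (fun y hy => c' y (Or.inr hy)) gK hK y hy
    · exact comm_J4 hP D' hw'P ha₃ ha₄ s₃ s₄ hw gz gw g3 (fun y hy => c y (Or.inl hy)) (fun y hy => c y (Or.inr hy))
        (fun y hy => c' y (Or.inl hy)) (fun y hy => c' y (Or.inr hy)) gK hK y hy
  -- conclusion
  intro x hx y hy
  have k1 : v₁ * v₂ ∈ centralizer ({y} : Set H) :=
    mem_centralizer_singleton_iff.2 (key v₁ (Or.inl rfl) v₂ (Or.inl rfl) y hy)
  have k2 : v₁ * v₂⁻¹ ∈ centralizer ({y} : Set H) :=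
    mem_centralizer_singleton_iff.2 (key v₁ (Or.inl rfl) v₂⁻¹ (Or.inr rfl) y hy)
  have hv₁ : v₁ ∈ centralizer ({y} : Set H) := by
    have e1 : (v₁ * v₂) * (v₁ * v₂⁻¹) = v₁ * v₁ := by
      calc (v₁ * v₂) * (v₁ * v₂⁻¹) = v₁ * (v₂ * v₁) * v₂⁻¹ := by group
        _ = v₁ * v₁ := by rw [← cv]; group
    have h1 := mul_mem k1 k2
    rw [e1] at h1
    have h2 := mul_mem h1 h1
    have h3 : v₁ * v₁ * v₁ = 1 := D.h1.d3
    have e2 : v₁ * v₁ * (v₁ * v₁) = v₁ := by rw [← mul_assoc, h3, one_mul]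
    rwa [e2] at h2
  have hv₂ : v₂ ∈ centralizer ({y} : Set H) := (mul_mem_cancel_left hv₁).1 k1
  obtain ⟨b1, b2, b3⟩ := anti D.h1 ha₁ s₁ (Or.inl rfl)
  obtain ⟨b4, b5, b6⟩ := anti D.h2 ha₂ s₂ (Or.inl rfl)
  set x₁ := v₁ * a₁ * v₁⁻¹ with hx₁
  set x₂ := v₂ * a₂ * v₂⁻¹ with hx₂
  have r0 : x₁ * x₂ ∈ centralizer ({y} : Set H) :=
    mem_centralizer_singleton_iff.2 (hr _ (D.h1.Qle b1) _ (D.h2.Qle b4) b2 b5 b3 b6 y hy)
  have sq : ∀ {x a : H}, x * z = z * x → a * z = z * a → z * z = 1 → x * x = z → a * a = z →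
      x * a = z * (a * x) → (x * a) * (x * a) = z ∧ (x * a) * a = z * (a * (x * a)) := by
    intro x a xz az zz hx ha hxa
    have hax : a * x = z * (x * a) := by rw [hxa, ← mul_assoc, zz, one_mul]
    constructor
    · calc (x * a) * (x * a) = x * (a * x) * a := by group
        _ = x * (z * (x * a)) * a := by rw [hax]
        _ = (x * z) * x * (a * a) := by group
        _ = z * (x * x) * (a * a) := by rw [xz]; group
        _ = z := by rw [hx, ha, zz, one_mul]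
    · calc (x * a) * a = x * a * a := rfl
        _ = z * (a * x) * a := by rw [hxa]
        _ = z * (a * (x * a)) := by group
  have ha₁C : a₁ ∈ centralizer ({y} : Set H) := by
    obtain ⟨e1, e2⟩ := sq (D.h1.q.comm_z b1) (D.h1.q.comm_z ha₁) D.h1.q.z2 b2 s₁ b3
    have r1 : x₁ * a₁ * x₂ ∈ centralizer ({y} : Set H) :=
      mem_centralizer_singleton_iff.2 (hr _ (mul_mem (D.h1.Qle b1) (D.h1.Qle ha₁)) _ (D.h2.Qle b4) e1 b5 e2 b6 y hy)
    have e3 : (x₁ * x₂)⁻¹ * (x₁ * a₁ * x₂) = a₁ := by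
      have e4 : a₁ * x₂ = x₂ * a₁ := D.cm a₁ (D.h1.Qle ha₁) x₂ (D.h2.Qle b4)
      calc (x₁ * x₂)⁻¹ * (x₁ * a₁ * x₂) = x₂⁻¹ * (a₁ * x₂) := by group
        _ = a₁ := by rw [e4]; group
    rw [← e3]; exact mul_mem (inv_mem r0) r1
  have ha₂C : a₂ ∈ centralizer ({y} : Set H) := by
    obtain ⟨e1, e2⟩ := sq (D.h2.q.comm_z b4) (D.h2.q.comm_z ha₂) D.h2.q.z2 b5 s₂ b6
    have r1 : x₁ * (x₂ * a₂) ∈ centralizer ({y} : Set H) :=
      mem_centralizer_singleton_iff.2 (hr _ (D.h1.Qle b1) _ (mul_mem (D.h2.Qle b4) (D.h2.Qle ha₂)) b2 e1 b3 e2 y hy)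
    have e3 : (x₁ * x₂)⁻¹ * (x₁ * (x₂ * a₂)) = a₂ := by group
    rw [← e3]; exact mul_mem (inv_mem r0) r1
  rcases hx with hx | hx
  · exact mem_centralizer_singleton_iff.1 (gen_mem D.h1 ha₁ s₁ ha₁C hv₁ hx)
  · exact mem_centralizer_singleton_iff.1 (gen_mem D.h2 ha₂ s₂ ha₂C hv₂ hx)

end All

end Gen

end Cfsg.Agent.OddHalf.NI3.Bad
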