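import Cfsg.Agent.OddHalf.NI3.Sn

/-!
# Node NI over `F₃`, THEOREM NIB: roots of a 2-group

`Root S z r s δ` : `δ³ = 1`, `⟨r, s⟩` is a quaternion subgroup of `S` with involution `z`, `δ` acts on it as a 3-cycle
and `[S, δ] ≤ ⟨r, s⟩`.
* `Root.fac` : `S = ⟨r, s⟩ C_S(⟨r, s, δ⟩)`; `Root.comm_iff` : `C_S(δ) = C_S(⟨r, s⟩)`;
* `dich` : for `J = ⟨i, j, v⟩` subnormal in `X ∋ δ`, two roots of the normal 2-subgroup `S` of `X` are equal, or `δ`
  centralises `⟨i, j⟩`.
-/

set_option autoImplicit false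
set_option linter.style.haveILetI false
set_option linter.unusedSectionVars false
set_option linter.unusedSimpArgs false
set_option linter.unreachableTactic false
set_option linter.unusedTactic false

namespace Cfsg.Agent.OddHalf.NI3.Bad.FourLin

open Subgroup Cfsg Cfsg.Agent.Cit Cfsg.Agent.Cit.SLThree

variable {H : Type*} [Group H]

/-- `x` commutes with `y` if `x³` does and `x` is a 2-element -/
theorem comm_of_cube {x y : H} {n : ℕ} (hn : x ^ 2 ^ n = 1) (h : (x * x * x) * y = y * (x * x * x)) :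
    x * y = y * x := by
  have h1 : Nat.Coprime (orderOf x) 3 := by
    have h2 : orderOf x ∣ 2 ^ n := orderOf_dvd_of_pow_eq_one hn
    exact Nat.Coprime.coprime_dvd_left h2 (Nat.Coprime.pow_left n (by norm_num))
  obtain ⟨m, hm⟩ := exists_pow_eq_self_of_coprime h1.symm
  have h3 : x ^ 3 = x * x * x := by rw [pow_succ, pow_succ, pow_one]
  rw [← hm, h3]
  exact (Commute.pow_left (show Commute (x * x * x) y from h) m).eq

theorem cube_of_cycle {b x y w : H} (h1 : b * x = y * b) (h2 : b * y = w * b) (h3 : b * w = x * b) :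
    (b * b * b) * x = x * (b * b * b) := by
  calc (b * b * b) * x = b * b * (b * x) := by group
    _ = b * (b * y) * b := by rw [h1]; group
    _ = (b * w) * b * b := by rw [h2]; group
    _ = x * (b * b * b) := by rw [h3]; group

/-- a root -/
structure Root (S : Subgroup H) (z r s δ : H) : Prop where
  q : Qt z r s
  dr : δ * r * δ⁻¹ = s
  ds : δ * s * δ⁻¹ = r * s
  d3 : δ * δ * δ = 1
  hr : r ∈ S
  hs : s ∈ S
  com : ∀ t ∈ S, δ * t * δ⁻¹ * t⁻¹ ∈ closure {r, s}

namespace Root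

variable {S : Subgroup H} {z r s δ : H}

theorem sl (h : Root S z r s δ) : Sl (closure {r, δ}) z r s δ := ⟨h.q, h.dr, h.ds, h.d3, rfl⟩

theorem le (h : Root S z r s δ) : closure {r, s} ≤ S := by
  rw [closure_le]
  rintro x (rfl | rfl)
  · exact h.hr
  · exact h.hs

theorem dz (h : Root S z r s δ) : δ * z = z * δ := h.sl.dz

theorem drs (h : Root S z r s δ) : δ * (r * s) * δ⁻¹ = r := h.sl.dij

/-- conjugation by `δ` is additive -/
theorem dmul (δ x y : H) : δ * (x * y) * δ⁻¹ = (δ * x * δ⁻¹) * (δ * y * δ⁻¹) := by group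

theorem dzz (h : Root S z r s δ) (x : H) : δ * (z * x) * δ⁻¹ = z * (δ * x * δ⁻¹) := by
  rw [← mul_assoc δ, h.dz]; group

/-- `δ` acts without fixed points on the elements of order 4 -/
theorem fpf (h : Root S z r s δ) {x : H} (hx : x ∈ closure {r, s}) (hc : x * (δ * x * δ⁻¹) = (δ * x * δ⁻¹) * x) :
    x = 1 ∨ x = z := by
  have hq := h.q
  have e1 : ∀ w : H, w = z * w → False := fun w hw =>
    hq.z1 (mul_right_cancel (b := w) (by rw [one_mul]; exact hw.symm))
  have e2 : ∀ w : H, z * w = w → False := fun w hw =>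
    hq.z1 (mul_right_cancel (b := w) (by rw [one_mul]; exact hw))
  rcases hq.mem_cases hx with rfl | rfl | rfl | rfl | rfl | rfl | rfl | rfl
  · exact Or.inl rfl
  · exact Or.inr rfl
  all_goals
    exfalso
    simp only [h.dzz, h.dr, h.ds, h.drs, mul_assoc, one_mul, mul_one, hq.z2, hq.zz, hq.iz, hq.jz, hq.izx, hq.jzx,
      hq.i2, hq.j2, hq.iix, hq.jjx, hq.ji, hq.jix] at hc
    first
    | exact e1 _ hc
    | exact e2 _ hc

/-- the cocycle condition -/
theorem cocycle (h : Root S z r s δ) {t u : H} (hu : δ * t * δ⁻¹ = u * t) :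
    (δ * (δ * u * δ⁻¹) * δ⁻¹) * (δ * u * δ⁻¹) * u = 1 := by
  have h1 : δ * (δ * (δ * t * δ⁻¹) * δ⁻¹) * δ⁻¹ = t := by
    calc δ * (δ * (δ * t * δ⁻¹) * δ⁻¹) * δ⁻¹ = (δ * δ * δ) * t * (δ * δ * δ)⁻¹ := by group
      _ = t := by rw [h.d3]; group
  have h2 : δ * (δ * t * δ⁻¹) * δ⁻¹ = (δ * u * δ⁻¹) * (u * t) := by rw [hu, dmul, hu]
  have h3 : δ * (δ * (δ * t * δ⁻¹) * δ⁻¹) * δ⁻¹ = (δ * (δ * u * δ⁻¹) * δ⁻¹) * ((δ * u * δ⁻¹) * (u * t)) := by
    rw [h2, dmul δ (δ * u * δ⁻¹) (u * t), dmul δ u t, hu]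
  refine mul_right_cancel (b := t) ?_
  rw [one_mul]
  conv_rhs => rw [← h1, h3]
  simp only [mul_assoc]

/-- a fixed point of `δ` in the coset `⟨r, s⟩ t` -/
theorem exists_fix (h : Root S z r s δ) {t : H} (ht : t ∈ S) :
    ∃ a ∈ closure ({r, s} : Set H), ∃ b, t = a * b ∧ δ * b = b * δ := by
  have hq := h.q
  set u := δ * t * δ⁻¹ * t⁻¹ with hu
  have hu1 : u ∈ closure ({r, s} : Set H) := h.com t ht
  have hu2 : δ * t * δ⁻¹ = u * t := by rw [hu]; group
  have hco := h.cocycle hu2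
  have hi := Qt.mem_i z r s
  have hj := Qt.mem_j z r s
  have key : ∀ q ∈ closure ({r, s} : Set H), (δ * q * δ⁻¹) * u = q →
      ∃ a ∈ closure ({r, s} : Set H), ∃ b, t = a * b ∧ δ * b = b * δ := by
    intro q hq' he
    refine ⟨q⁻¹, inv_mem hq', q * t, by group, ?_⟩
    rw [← mul_inv_eq_iff_eq_mul, dmul, hu2, ← mul_assoc, he]
  clear_value u
  rcases hq.mem_cases hu1 with rfl | rfl | rfl | rfl | rfl | rfl | rfl | rfl
  · exact key 1 (one_mem _) (by group)
  · exfalso
    apply hq.z1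
    have h2 : δ * u * δ⁻¹ = u := by rw [h.dz]; group
    rw [h2, h2, hq.z2, one_mul] at hco
    exact hco
  · refine key s hj ?_
    simp only [h.dr, h.ds, h.drs, mul_assoc, hq.ji, hq.izx, hq.iix, hq.zz]
  · exfalso
    apply hq.z1
    simpa only [h.dzz, h.dr, h.ds, h.drs, mul_assoc, one_mul, mul_one, hq.z2, hq.zz, hq.iz, hq.jz, hq.izx, hq.jzx,
      hq.i2, hq.j2, hq.iix, hq.jjx, hq.ji, hq.jix] using hco
  · refine key (r * u) (mul_mem hi hj) ?_
    simp only [h.drs]
  · exfalso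
    apply hq.z1
    simpa only [h.dzz, h.dr, h.ds, h.drs, mul_assoc, one_mul, mul_one, hq.z2, hq.zz, hq.iz, hq.jz, hq.izx, hq.jzx,
      hq.i2, hq.j2, hq.iix, hq.jjx, hq.ji, hq.jix] using hco
  · refine key r hi ?_
    simp only [h.dr, mul_assoc, hq.jix, hq.j2, hq.iz, hq.zz]
  · exfalso
    apply hq.z1
    simpa only [h.dzz, h.dr, h.ds, h.drs, mul_assoc, one_mul, mul_one, hq.z2, hq.zz, hq.iz, hq.jz, hq.izx, hq.jzx,
      hq.i2, hq.j2, hq.iix, hq.jjx, hq.ji, hq.jix] using hco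

/-- an element of `S` normalises `⟨r, s⟩` -/
theorem conj_mem (h : Root S z r s δ) {b : H} (hb : b ∈ S) {x : H} (hx : x ∈ closure ({r, s} : Set H)) :
    b * x * b⁻¹ ∈ closure ({r, s} : Set H) := by
  have key : ∀ y ∈ closure ({r, s} : Set H), b * (δ * y * δ⁻¹ * y⁻¹) * b⁻¹ ∈ closure ({r, s} : Set H) := by
    intro y hy
    have h1 := h.com (b * y) (mul_mem hb (h.le hy))
    have h2 : b * (δ * y * δ⁻¹ * y⁻¹) * b⁻¹ = (δ * b * δ⁻¹ * b⁻¹)⁻¹ * (δ * (b * y) * δ⁻¹ * (b * y)⁻¹) := by group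
    rw [h2]
    exact mul_mem (inv_mem (h.com b hb)) h1
  have h1 : b * r * b⁻¹ ∈ closure ({r, s} : Set H) := by
    have h2 := key s (Qt.mem_j z r s)
    rw [h.ds] at h2
    simpa only [mul_assoc, mul_inv_cancel, mul_one] using h2
  have h2 : b * s * b⁻¹ ∈ closure ({r, s} : Set H) := by
    have h2 := key r (Qt.mem_i z r s)
    rw [h.dr] at h2
    have h3 : b * s * b⁻¹ = (b * (s * r⁻¹) * b⁻¹) * (b * r * b⁻¹) := by group
    rw [h3]
    exact mul_mem h2 h1
  have h3 : closure {r, s} ≤ (closure {r, s}).comap (MulAut.conj b).toMonoidHom := by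
    rw [closure_le]
    rintro y (rfl | rfl)
    · exact h1
    · exact h2
  exact h3 hx

/-- `C_S(δ) ≤ C_S(⟨r, s⟩)` -/
theorem comm_r (h : Root S z r s δ) (hz : ∀ x : H, z * x = x * z) (hS : IsPGroup 2 S) {b : H} (hb : b ∈ S)
    (hd : δ * b = b * δ) : b * r = r * b ∧ b * s = s * b := by
  have hq := h.q
  obtain ⟨n, hn⟩ := hS ⟨b, hb⟩
  have hn' : b ^ 2 ^ n = 1 := by simpa using congrArg Subtype.val hn
  have hσ : ∀ x : H, b * (δ * x * δ⁻¹) * b⁻¹ = δ * (b * x * b⁻¹) * δ⁻¹ := by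
    intro x
    have e1 : δ⁻¹ * b⁻¹ = b⁻¹ * δ⁻¹ := by rw [← mul_inv_rev, ← mul_inv_rev, hd]
    calc b * (δ * x * δ⁻¹) * b⁻¹ = (b * δ) * x * (δ⁻¹ * b⁻¹) := by group
      _ = δ * (b * x * b⁻¹) * δ⁻¹ := by rw [← hd, e1]; group
  have key : b * r = r * b := by
    set r' := b * r * b⁻¹ with hr'
    have h1 : r' ∈ closure ({r, s} : Set H) := h.conj_mem hb (Qt.mem_i z r s)
    have h2 : b * s * b⁻¹ = δ * r' * δ⁻¹ := by rw [← h.dr, hσ]
    have h3 : δ * (δ * r' * δ⁻¹) * δ⁻¹ = r' * (δ * r' * δ⁻¹) := by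
      rw [← h2, ← hσ, h.ds]
      rw [hr']; group
    have h4 : r' * r' = z := by
      have : r' * r' = b * (r * r) * b⁻¹ := by rw [hr']; group
      rw [this, hq.i2, ← hz, mul_assoc, mul_inv_cancel, mul_one]
    have e0 : b * r = r' * b := by rw [hr']; group
    clear_value r'
    rcases hq.mem_cases h1 with rfl | rfl | rfl | rfl | rfl | rfl | rfl | rfl
    · exact absurd (by rw [← h4, one_mul]) hq.z1
    · exact absurd (by rw [← h4, hq.z2]) hq.z1
    · exact e0
    · exfalso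
      apply hq.z1
      have h5 : z * (r * s) = 1 * (r * s) := by
        rw [one_mul]
        simpa only [h.dzz, h.dr, h.ds, h.drs, mul_assoc, one_mul, mul_one, hq.z2, hq.zz, hq.iz, hq.jz, hq.izx, hq.jzx,
          hq.i2, hq.j2, hq.iix, hq.jjx, hq.ji, hq.jix] using h3
      exact mul_right_cancel h5
    · -- `b` acts as `δ`
      have e1 : b * r' = (r * r') * b := by rw [h.ds] at h2; rw [← h2]; group
      refine comm_of_cube hn' (cube_of_cycle e0 e1 ?_)
      rw [← mul_assoc, e0, mul_assoc, e1]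
      simp only [← mul_assoc]
      rw [hq.ji]
      simp only [mul_assoc]
      simp only [hq.jjx, hq.izx, hq.zz]
    · exfalso
      apply hq.z1
      have h5 : z * r = 1 * r := by
        rw [one_mul]
        simpa only [h.dzz, h.dr, h.ds, h.drs, mul_assoc, one_mul, mul_one, hq.z2, hq.zz, hq.iz, hq.jz, hq.izx, hq.jzx,
          hq.i2, hq.j2, hq.iix, hq.jjx, hq.ji, hq.jix] using h3
      exact mul_right_cancel h5
    · -- `b` acts as `δ⁻¹`
      have e1 : b * s = r * b := by rw [h.drs] at h2; rw [← h2]; group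
      refine comm_of_cube hn' (cube_of_cycle e0 ?_ e1)
      rw [← mul_assoc, e0, mul_assoc, e1]
      simp only [← mul_assoc]
      congr 1
      simp only [mul_assoc]
      simp only [hq.ji, hq.izx, hq.iix, hq.zz]
    · exfalso
      apply hq.z1
      have h5 : z * s = 1 * s := by
        rw [one_mul]
        simpa only [h.dzz, h.dr, h.ds, h.drs, mul_assoc, one_mul, mul_one, hq.z2, hq.zz, hq.iz, hq.jz, hq.izx, hq.jzx,
          hq.i2, hq.j2, hq.iix, hq.jjx, hq.ji, hq.jix] using h3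
      exact mul_right_cancel h5
  refine ⟨key, ?_⟩
  have h1 : b * s * b⁻¹ = s := by
    rw [← h.dr, hσ, key, mul_assoc r, mul_inv_cancel, mul_one]
  rw [← mul_inv_eq_iff_eq_mul]; exact h1

/-- `S = ⟨r, s⟩ C_S(⟨r, s, δ⟩)` -/
theorem fac (h : Root S z r s δ) (hz : ∀ x : H, z * x = x * z) (hS : IsPGroup 2 S) {t : H} (ht : t ∈ S) :
    ∃ a ∈ closure ({r, s} : Set H), ∃ b ∈ S, t = a * b ∧ b * r = r * b ∧ b * s = s * b ∧ δ * b = b * δ := by
  obtain ⟨a, ha, b, hab, hb⟩ := h.exists_fix ht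
  have hbS : b ∈ S := by
    have h1 : b = a⁻¹ * t := by rw [hab]; group
    rw [h1]; exact mul_mem (inv_mem (h.le ha)) ht
  obtain ⟨h1, h2⟩ := h.comm_r hz hS hbS hb
  exact ⟨a, ha, b, hbS, hab, h1, h2, hb⟩

/-- an element commuting with `r`, `s` commutes with `⟨r, s⟩` -/
theorem comm_closure {r s b x : H} (hr : b * r = r * b) (hs : b * s = s * b) (hx : x ∈ closure ({r, s} : Set H)) :
    b * x = x * b := by
  have h1 : closure ({r, s} : Set H) ≤ centralizer ({b} : Set H) := by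
    rw [closure_le]
    rintro y (rfl | rfl)
    · exact mem_centralizer_singleton_iff.2 hr.symm
    · exact mem_centralizer_singleton_iff.2 hs.symm
  exact (mem_centralizer_singleton_iff.1 (h1 hx)).symm

/-- `C_S(⟨r, s⟩) ≤ C_S(δ)` -/
theorem comm_d (h : Root S z r s δ) (hz : ∀ x : H, z * x = x * z) (hS : IsPGroup 2 S) {t : H} (ht : t ∈ S)
    (hr : t * r = r * t) (hs : t * s = s * t) : δ * t = t * δ := by
  obtain ⟨a, ha, b, hbS, hab, h1, h2, h3⟩ := h.fac hz hS ht
  have h4 : a = t * b⁻¹ := by rw [hab]; group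
  have e1 : ∀ y : H, t * y = y * t → b * y = y * b → a * y = y * a := by
    intro y hy hy'
    have e2 : b⁻¹ * y = y * b⁻¹ := (show Commute b y from hy').inv_left.eq
    rw [h4, mul_assoc, e2, ← mul_assoc, hy, mul_assoc]
  have h5 : a = 1 ∨ a = z := h.q.central ha (e1 r hr h1) (e1 s hs h2)
  rcases h5 with h5 | h5
  · rw [hab, h5, one_mul, h3]
  · rw [hab, h5, ← mul_assoc, ← hz, mul_assoc, h3, mul_assoc]

/-- an element of `S` acts on `⟨r, s⟩` as an inner automorphism -/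
theorem sign (h : Root S z r s δ) (hz : ∀ x : H, z * x = x * z) (hS : IsPGroup 2 S) {t : H} (ht : t ∈ S) {x : H}
    (hx : x ∈ closure ({r, s} : Set H)) : t * x = x * t ∨ t * x = z * (x * t) := by
  obtain ⟨a, ha, b, hbS, hab, h1, h2, h3⟩ := h.fac hz hS ht
  have h4 := comm_closure h1 h2 hx
  have h5 : a * x = x * a ∨ a * x = z * (x * a) := by
    have hq := h.q
    rcases hq.mem_cases ha with rfl | rfl | rfl | rfl | rfl | rfl | rfl | rfl <;>
    rcases hq.mem_cases hx with rfl | rfl | rfl | rfl | rfl | rfl | rfl | rfl <;>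
    simp only [mul_assoc, one_mul, mul_one, hq.z2, hq.zz, hq.iz, hq.jz, hq.izx, hq.jzx, hq.i2, hq.j2, hq.iix, hq.jjx,
      hq.ji, hq.jix, true_or, or_true]
  rcases h5 with h5 | h5
  · left
    rw [hab, mul_assoc, h4, ← mul_assoc, h5, mul_assoc]
  · right
    rw [hab, mul_assoc, h4, ← mul_assoc, h5]
    simp only [mul_assoc]

theorem conj (h : Root S z r s δ) (hz : ∀ x : H, z * x = x * z) {m : H} (hm : m ∈ normalizer (S : Set H)) :
    Root S z (m * r * m⁻¹) (m * s * m⁻¹) (m * δ * m⁻¹) := by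
  have hq := h.q
  have hmz : m * z * m⁻¹ = z := by rw [← hz, mul_assoc, mul_inv_cancel, mul_one]
  refine ⟨⟨hq.z2, hq.z1, ?_, ?_, ?_⟩, ?_, ?_, ?_, ?_, ?_, ?_⟩
  · calc m * r * m⁻¹ * (m * r * m⁻¹) = m * (r * r) * m⁻¹ := by group
      _ = z := by rw [hq.i2, hmz]
  · calc m * s * m⁻¹ * (m * s * m⁻¹) = m * (s * s) * m⁻¹ := by group
      _ = z := by rw [hq.j2, hmz]
  · calc m * s * m⁻¹ * (m * r * m⁻¹) = m * (s * r) * m⁻¹ := by group
      _ = (m * z * m⁻¹) * (m * r * m⁻¹ * (m * s * m⁻¹)) := by rw [hq.ji]; group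
      _ = z * (m * r * m⁻¹ * (m * s * m⁻¹)) := by rw [hmz]
  · calc m * δ * m⁻¹ * (m * r * m⁻¹) * (m * δ * m⁻¹)⁻¹ = m * (δ * r * δ⁻¹) * m⁻¹ := by group
      _ = m * s * m⁻¹ := by rw [h.dr]
  · calc m * δ * m⁻¹ * (m * s * m⁻¹) * (m * δ * m⁻¹)⁻¹ = m * (δ * s * δ⁻¹) * m⁻¹ := by group
      _ = m * r * m⁻¹ * (m * s * m⁻¹) := by rw [h.ds]; group
  · calc m * δ * m⁻¹ * (m * δ * m⁻¹) * (m * δ * m⁻¹) = m * (δ * δ * δ) * m⁻¹ := by group
      _ = 1 := by rw [h.d3]; group
  · exact (mem_normalizer_iff.1 hm r).1 h.hr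
  · exact (mem_normalizer_iff.1 hm s).1 h.hs
  · intro t ht
    have h1 : m⁻¹ * t * m ∈ S := by
      have := (mem_normalizer_iff.1 (inv_mem hm) t).1 ht
      rwa [inv_inv] at this
    have h2 := h.com _ h1
    have h3 : m * δ * m⁻¹ * t * (m * δ * m⁻¹)⁻¹ * t⁻¹ =
        m * (δ * (m⁻¹ * t * m) * δ⁻¹ * (m⁻¹ * t * m)⁻¹) * m⁻¹ := by group
    rw [h3]
    have h4 : closure {r, s} ≤ (closure {m * r * m⁻¹, m * s * m⁻¹}).comap (MulAut.conj m).toMonoidHom := by
      rw [closure_le]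
      rintro y (rfl | rfl)
      · exact subset_closure (Or.inl rfl)
      · exact subset_closure (Or.inr rfl)
    exact h4 h2

/-- `δ` normalises `S` -/
theorem dS (h : Root S z r s δ) : δ ∈ normalizer (S : Set H) := by
  have h1 : ∀ t ∈ S, δ * t * δ⁻¹ ∈ S := by
    intro t ht
    have h2 : δ * t * δ⁻¹ = (δ * t * δ⁻¹ * t⁻¹) * t := by group
    rw [h2]
    exact mul_mem (h.le (h.com t ht)) ht
  rw [mem_normalizer_iff]
  intro t
  refine ⟨h1 t, fun ht => ?_⟩
  have h2 := h1 _ (h1 _ ht)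
  have h3 : δ * (δ * (δ * t * δ⁻¹) * δ⁻¹) * δ⁻¹ = t := by
    calc δ * (δ * (δ * t * δ⁻¹) * δ⁻¹) * δ⁻¹ = (δ * δ * δ) * t * (δ * δ * δ)⁻¹ := by group
      _ = t := by rw [h.d3]; group
  rwa [h3] at h2

theorem mono (h : Root S z r s δ) {S' : Subgroup H} (hle : S' ≤ S) (hr : r ∈ S') (hs : s ∈ S') : Root S' z r s δ :=
  ⟨h.q, h.dr, h.ds, h.d3, hr, hs, fun t ht => h.com t (hle ht)⟩

end Root

/-- two elements of a quaternion group which do not commute generate it -/
theorem closure_eq [Finite H] {z i j x y : H} (h : Qt z i j) (hx : x ∈ closure ({i, j} : Set H))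
    (hy : y ∈ closure ({i, j} : Set H)) (hxy : x * y ≠ y * x) : closure ({x, y} : Set H) = closure {i, j} := by
  have h1 : Qt z x y := by
    have hx2 : x * x = z := by
      rcases h.sq hx with h1 | h1
      · exfalso
        rcases h.sq_cases hx h1 with rfl | rfl
        · exact hxy (by simp)
        · exact hxy (h.comm_z hy).symm
      · exact h1
    have hy2 : y * y = z := by
      rcases h.sq hy with h1 | h1
      · exfalso
        rcases h.sq_cases hy h1 with rfl | rfl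
        · exact hxy (by simp)
        · exact hxy (h.comm_z hx)
      · exact h1
    refine ⟨h.z2, h.z1, hx2, hy2, ?_⟩
    have h5 : y * x = x * y ∨ y * x = z * (x * y) := by
      rcases h.mem_cases hx with rfl | rfl | rfl | rfl | rfl | rfl | rfl | rfl <;>
      rcases h.mem_cases hy with rfl | rfl | rfl | rfl | rfl | rfl | rfl | rfl <;>
      simp only [mul_assoc, one_mul, mul_one, h.z2, h.zz, h.iz, h.jz, h.izx, h.jzx, h.i2, h.j2, h.iix, h.jjx,
        h.ji, h.jix, true_or, or_true]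
    rcases h5 with h5 | h5
    · exact absurd h5.symm hxy
    · exact h5
  refine eq_of_le_of_card_ge ?_ (by rw [h.card, h1.card])
  rw [closure_le]
  rintro w (rfl | rfl)
  · exact hx
  · exact hy

/-- `δ` normalises `⟨i, j⟩` -/
theorem Root.dich_norm [Finite H] {S : Subgroup H} {z i j v r s δ : H} (hz : ∀ x : H, z * x = x * z)
    (hS : IsPGroup 2 S) (h : Root S z i j v) (h' : Root S z r s δ) (hi : δ * i * δ⁻¹ ∈ closure ({i, j} : Set H))
    (hj : δ * j * δ⁻¹ ∈ closure ({i, j} : Set H)) :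
    closure ({i, j} : Set H) = closure {r, s} ∨ (δ * i = i * δ ∧ δ * j = j * δ) := by
  have hq := h.q
  have hq' := h'.q
  -- `δ y δ⁻¹ = z y` is impossible
  have hzy : ∀ y : H, δ * y * δ⁻¹ ≠ z * y := by
    intro y hy
    apply hq.z1
    have h1 := h'.cocycle hy
    have h2 : δ * z * δ⁻¹ = z := by rw [← hz]; group
    rw [h2, h2, hq.z2, one_mul] at h1
    exact h1
  have key : ∀ y ∈ closure ({i, j} : Set H), δ * y * δ⁻¹ ∈ closure ({i, j} : Set H) →
      (∀ x ∈ closure ({i, j} : Set H), δ * x * δ⁻¹ ∈ closure ({i, j} : Set H)) →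
      closure ({i, j} : Set H) = closure {r, s} ∨ δ * y = y * δ := by
    intro y hy hy' hn
    set x := δ * y * δ⁻¹ * y⁻¹ with hx
    have hxQ : x ∈ closure ({i, j} : Set H) := mul_mem hy' (inv_mem hy)
    have hxR : x ∈ closure ({r, s} : Set H) := h'.com y (h.le hy)
    by_cases h1 : x = 1
    · right
      rw [hx, mul_inv_eq_one, mul_inv_eq_iff_eq_mul] at h1
      exact h1
    by_cases h2 : x = z
    · exfalso
      apply hzy y
      rw [← h2, hx]; group
    left
    have h3 : x * (δ * x * δ⁻¹) ≠ (δ * x * δ⁻¹) * x := by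
      intro h3
      rcases h'.fpf hxR h3 with h4 | h4
      · exact h1 h4
      · exact h2 h4
    rw [← closure_eq hq hxQ (hn x hxQ) h3, ← closure_eq hq' hxR (h'.sl.conj_mem hxR) h3]
  have hn : ∀ x ∈ closure ({i, j} : Set H), δ * x * δ⁻¹ ∈ closure ({i, j} : Set H) := by
    have h3 : closure {i, j} ≤ (closure {i, j}).comap (MulAut.conj δ).toMonoidHom := by
      rw [closure_le]
      rintro y (rfl | rfl)
      · exact hi
      · exact hj
    exact fun x hx => h3 hx
  rcases key i (Qt.mem_i z i j) hi hn with h1 | h1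
  · exact Or.inl h1
  rcases key j (Qt.mem_j z i j) hj hn with h2 | h2
  · exact Or.inl h2
  · exact Or.inr ⟨h1, h2⟩

/-- `y ∈ S` commuting with `δ y δ⁻¹` commutes with `δ` -/
theorem Root.fix_of_comm {S : Subgroup H} {z r s δ : H} (h : Root S z r s δ) (hz : ∀ x : H, z * x = x * z)
    (hS : IsPGroup 2 S) {y : H} (hy : y ∈ S) (hc : y * (δ * y * δ⁻¹) = (δ * y * δ⁻¹) * y) : δ * y = y * δ := by
  obtain ⟨a, ha, b, hbS, rfl, h1, h2, h3⟩ := h.fac hz hS hy
  have e1 : δ * (a * b) * δ⁻¹ = (δ * a * δ⁻¹) * b := by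
    calc δ * (a * b) * δ⁻¹ = (δ * a * δ⁻¹) * (δ * b) * δ⁻¹ := by group
      _ = (δ * a * δ⁻¹) * b := by rw [h3]; group
  have ha' := h.sl.conj_mem ha
  have e2 := Root.comm_closure h1 h2 ha
  have e3 := Root.comm_closure h1 h2 ha'
  rw [e1] at hc
  have h4 : a * (δ * a * δ⁻¹) = (δ * a * δ⁻¹) * a := by
    have h5 : (a * (δ * a * δ⁻¹)) * (b * b) = ((δ * a * δ⁻¹) * a) * (b * b) := by
      calc (a * (δ * a * δ⁻¹)) * (b * b) = a * ((δ * a * δ⁻¹) * b) * b := by group
        _ = a * (b * (δ * a * δ⁻¹)) * b := by rw [e3]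
        _ = a * b * ((δ * a * δ⁻¹) * b) := by group
        _ = (δ * a * δ⁻¹) * b * (a * b) := hc
        _ = (δ * a * δ⁻¹) * (b * a) * b := by group
        _ = ((δ * a * δ⁻¹) * a) * (b * b) := by rw [e2]; group
    exact mul_right_cancel h5
  rcases h.fpf ha h4 with h5 | h5
  · rw [h5, one_mul, h3]
  · rw [h5, ← mul_assoc, ← hz, mul_assoc, h3, mul_assoc]

/-- **the pair lemma** for subgroups -/
theorem dich [Finite H] {z : H} (hz : ∀ x : H, z * x = x * z) :
    ∀ (n : ℕ) (X S : Subgroup H), Nat.card X ≤ n → S ≤ X → X ≤ normalizer (S : Set H) → IsPGroup 2 S →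
      ∀ {i j v r s δ : H}, Root S z i j v → Root S z r s δ → Sn (closure {i, v}) X → δ ∈ X →
      closure ({i, j} : Set H) = closure {r, s} ∨ (δ * i = i * δ ∧ δ * j = j * δ) := by
  intro n
  induction n with
  | zero =>
    intro X S hX
    exact absurd hX (by have := Nat.card_pos (α := X); omega)
  | succ n ih =>
    intro X S hX hSX hXS hS i j v r s δ h h' hsn hδ
    by_cases hJX : closure ({i, v} : Set H) = X
    · -- `δ ∈ J`
      have h1 : δ ∈ closure ({i, v} : Set H) := by rw [hJX]; exact hδ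
      have h2 : ∀ x ∈ closure ({i, j} : Set H), δ * x * δ⁻¹ ∈ closure ({i, j} : Set H) := by
        intro x hx
        obtain ⟨q, hq, h3⟩ := h.sl.mem_cases h1
        rcases h3 with rfl | rfl | rfl
        · exact mul_mem (mul_mem hq hx) (inv_mem hq)
        · have : q * v * x * (q * v)⁻¹ = q * (v * x * v⁻¹) * q⁻¹ := by group
          rw [this]
          exact mul_mem (mul_mem hq (h.sl.conj_mem hx)) (inv_mem hq)
        · have : q * (v * v) * x * (q * (v * v))⁻¹ = q * (v * (v * x * v⁻¹) * v⁻¹) * q⁻¹ := by group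
          rw [this]
          exact mul_mem (mul_mem hq (h.sl.conj_mem (h.sl.conj_mem hx))) (inv_mem hq)
      exact h.dich_norm hz hS h' (h2 i (Qt.mem_i z i j)) (h2 j (Qt.mem_j z i j))
    · -- a proper normal subgroup `N`
      obtain ⟨N, hNn, hJN, hNt⟩ : ∃ N : Subgroup X, N.Normal ∧ (closure {i, v}).subgroupOf X ≤ N ∧ N < ⊤ := by
        rcases hsn.2.lt_normal with h1 | h1
        · exfalso
          exact hJX (le_antisymm hsn.1 (subgroupOf_eq_top.1 h1))
        · exact h1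
      set N' : Subgroup H := N.map X.subtype with hN'
      have hN'X : N' ≤ X := map_subtype_le N
      have hcomap : N'.subgroupOf X = N := comap_map_eq_self_of_injective X.subtype_injective N
      have hXN : X ≤ normalizer (N' : Set H) := by
        have h1 : (N'.subgroupOf X).Normal := by rw [hcomap]; exact hNn
        exact (normal_subgroupOf_iff_le_normalizer hN'X).1 h1
      have hJN' : closure {i, v} ≤ N' := by
        intro x hx
        exact ⟨⟨x, hsn.1 hx⟩, hJN (show (⟨x, hsn.1 hx⟩ : X) ∈ (closure {i, v}).subgroupOf X from hx), rfl⟩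
      have hcard : Nat.card N' ≤ n := by
        have h1 : Nat.card N' ≠ Nat.card X := by
          intro h2
          have h3 : N' = X := eq_of_le_of_card_ge hN'X (le_of_eq h2.symm)
          apply hNt.ne
          rw [← hcomap, h3, subgroupOf_self]
        have h2 : Nat.card N' ≤ Nat.card X := Nat.card_le_card_of_injective (inclusion hN'X) (inclusion_injective _)
        omega
      have hnS : X ≤ normalizer ((S ⊓ N' : Subgroup H) : Set H) := (le_inf hXS hXN).trans inf_normalizer_le_normalizer_inf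
      have hiN : i ∈ N' := hJN' (subset_closure (by simp))
      have hvN : v ∈ N' := hJN' (subset_closure (by simp))
      have hjN : j ∈ N' := by
        rw [← h.dr]; exact mul_mem (mul_mem hvN hiN) (inv_mem hvN)
      have hS' : IsPGroup 2 (S ⊓ N' : Subgroup H) := hS.to_le inf_le_left
      have r1 : Root (S ⊓ N') z i j v := h.mono inf_le_left ⟨h.hr, hiN⟩ ⟨h.hs, hjN⟩
      have r2 := r1.conj hz (hnS hδ)
      have hvN' : δ * v * δ⁻¹ ∈ N' := (mem_normalizer_iff.1 (hXN hδ) v).1 hvN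
      have r3 := h.conj hz h'.dS
      rcases ih N' (S ⊓ N') hcard inf_le_right (hN'X.trans hnS) hS' r1 r2 (hsn.restrict hN'X hJN') hvN' with h1 | h1
      · refine h.dich_norm hz hS h' ?_ ?_
        · rw [h1]; exact Qt.mem_i z _ _
        · rw [h1]; exact Qt.mem_j z _ _
      · right
        have e1 := (r3.comm_r hz hS h.hr h1.1).1
        have e2 := (r3.comm_r hz hS h.hs h1.2).2
        exact ⟨h'.fix_of_comm hz hS h.hr e1, h'.fix_of_comm hz hS h.hs e2⟩

end Cfsg.Agent.OddHalf.NI3.Bad.FourLin
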