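import Cfsg.Agent.OddHalf.NI3.Bad.Pair

/-!
# THEOREM NIB, step (3d) (b), K-free (helper598; bb ODD #14136)

`H` a finite group, `P` a normal 2-subgroup, `J₁, J₂` commuting subgroups `SL₂(3)` with involution `z ∈ Z(H)`, subnormal
in `C(w)`, `J₃, J₄` commuting subgroups `SL₂(3)` with involution `z₃`, subnormal in `C(w')`, `Q_i = O₂(J_i) ≤ P`,
`w' ∈ Q₁Q₂`, `w ∈ Q₃Q₄` noncentral involutions.

* `Half` : one half of the configuration; `Half.br`, `Half.br_norm`;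
* `exists_g`, `le_normalizer` : `Y₁ = C_P(w') ≤ N(X₁)`, `X₁ = C_P(w)`;
* `caseB` : if `z₃ ≠ z` then `J₁` is subnormal in `H`.
-/

set_option autoImplicit false
set_option linter.unusedSimpArgs false

namespace Cfsg.Agent.OddHalf.NI3.Bad

open Subgroup Cfsg Cfsg.Agent.Cit Cfsg.Agent.Cit.SLThree

variable {H : Type*} [Group H]

/-- a proper subgroup of a finite 2-group is properly contained in its normaliser -/
theorem exists_normalizer [Finite H] {P T : Subgroup H} (hP : IsPGroup 2 P) (hT : T ≤ P) (hne : T ≠ P) :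
    ∃ x ∈ P, x ∈ normalizer (T : Set H) ∧ x ∉ T := by
  have : Fact (Nat.Prime 2) := ⟨Nat.prime_two⟩
  have : Group.IsNilpotent P := hP.isNilpotent
  have hlt : T.subgroupOf P < ⊤ := by
    rw [lt_top_iff_ne_top, Ne, subgroupOf_eq_top]
    exact fun h => hne (le_antisymm hT h)
  obtain ⟨x, hx1, hx2⟩ := SetLike.exists_of_lt (Group.normalizerCondition_of_isNilpotent (G := P) _ hlt)
  refine ⟨x, x.2, ?_, fun h => hx2 (mem_subgroupOf.2 h)⟩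
  rw [mem_normalizer_iff] at hx1 ⊢
  intro y
  constructor
  · intro hy
    exact mem_subgroupOf.1 ((hx1 ⟨y, hT hy⟩).1 (mem_subgroupOf.2 hy))
  · intro hy
    have hyT : y ∈ P := by
      have h3 := P.mul_mem (P.mul_mem (P.inv_mem x.2) (hT hy)) x.2
      have h4 : (x : H)⁻¹ * (x * y * (x : H)⁻¹) * x = y := by group
      rwa [h4] at h3
    exact mem_subgroupOf.1 ((hx1 ⟨y, hyT⟩).2 (mem_subgroupOf.2 hy))

/-- one half of the configuration -/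
structure Half (P : Subgroup H) (z w : H) (J₁ J₂ : Subgroup H) (i₁ j₁ v₁ i₂ j₂ v₂ : H) : Prop where
  h1 : Sl J₁ z i₁ j₁ v₁
  h2 : Sl J₂ z i₂ j₂ v₂
  cm : ∀ x ∈ J₁, ∀ y ∈ J₂, x * y = y * x
  sn1 : Sn J₁ (centralizer ({w} : Set H))
  sn2 : Sn J₂ (centralizer ({w} : Set H))
  q1 : closure ({i₁, j₁} : Set H) ≤ P
  q2 : closure ({i₂, j₂} : Set H) ≤ P

namespace Half

variable {P : Subgroup H} {z w : H} {J₁ J₂ : Subgroup H} {i₁ j₁ v₁ i₂ j₂ v₂ : H}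
  (D : Half P z w J₁ J₂ i₁ j₁ v₁ i₂ j₂ v₂)

include D

theorem symm : Half P z w J₂ J₁ i₂ j₂ v₂ i₁ j₁ v₁ where
  h1 := D.h2
  h2 := D.h1
  cm x hx y hy := (D.cm y hy x hx).symm
  sn1 := D.sn2
  sn2 := D.sn1
  q1 := D.q2
  q2 := D.q1

theorem q1_le : closure ({i₁, j₁} : Set H) ≤ P ⊓ centralizer ({w} : Set H) :=
  le_inf D.q1 (D.h1.Qle.trans D.sn1.1)

theorem q2_le : closure ({i₂, j₂} : Set H) ≤ P ⊓ centralizer ({w} : Set H) := D.symm.q1_le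

/-- `[C_P(w), v₁] ≤ Q₁` -/
theorem br [Finite H] [hPn : P.Normal] (hP : IsPGroup 2 P) : Br (P ⊓ centralizer ({w} : Set H)) i₁ j₁ v₁ := by
  refine br_of_sn D.h1 D.sn1 inf_le_right (hP.to_le inf_le_left) ?_ D.q1_le
  intro x hx
  rw [mem_normalizer_iff]
  intro y
  have hxw := D.sn1.1 hx
  constructor
  · rintro ⟨h1, h2⟩
    exact mem_inf.2 ⟨hPn.conj_mem y h1 x, mul_mem (mul_mem hxw h2) (inv_mem hxw)⟩
  · rintro ⟨h1, h2⟩
    have e : x⁻¹ * (x * y * x⁻¹) * x⁻¹⁻¹ = y := by group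
    refine ⟨?_, ?_⟩
    · have := hPn.conj_mem _ h1 x⁻¹
      rwa [e] at this
    · have := mul_mem (mul_mem (inv_mem hxw) h2) (inv_mem (inv_mem hxw))
      rwa [e] at this

/-- `[N_P(C_P(w)), v₁] ≤ Q₁` -/
theorem br_norm [Finite H] [hPn : P.Normal] (hP : IsPGroup 2 P) (hw : w ∈ P) :
    Br (P ⊓ normalizer ((P ⊓ centralizer ({w} : Set H) : Subgroup H) : Set H)) i₁ j₁ v₁ := by
  have hB := D.br hP
  have hX : IsPGroup 2 (P ⊓ centralizer ({w} : Set H) : Subgroup H) := hP.to_le inf_le_left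
  intro g hg
  refine comm_mem D.h1 hX D.q1_le hB ⟨?_, ?_⟩
  · exact P.mul_mem (hPn.conj_mem g hg.1 v₁) (P.inv_mem hg.1)
  · -- `w'' = g⁻¹ w g` is central in `C_P(w)`
    have hwX : w ∈ P ⊓ centralizer ({w} : Set H) := ⟨hw, mem_centralizer_singleton_iff.2 rfl⟩
    have hn : ∀ y, y ∈ P ⊓ centralizer ({w} : Set H) → g * y * g⁻¹ ∈ P ⊓ centralizer ({w} : Set H) :=
      fun y hy => (mem_normalizer_iff.1 hg.2 y).1 hy
    have hn' : ∀ y, y ∈ P ⊓ centralizer ({w} : Set H) → g⁻¹ * y * g ∈ P ⊓ centralizer ({w} : Set H) := by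
      intro y hy
      refine (mem_normalizer_iff.1 hg.2 _).2 ?_
      have e : g * (g⁻¹ * y * g) * g⁻¹ = y := by group
      rw [e]; exact hy
    have hc : ∀ q ∈ closure ({i₁, j₁} : Set H), (g⁻¹ * w * g) * q = q * (g⁻¹ * w * g) := by
      intro q hq
      have h1 := mem_centralizer_singleton_iff.1 (hn q (D.q1_le hq)).2
      calc (g⁻¹ * w * g) * q = g⁻¹ * (w * (g * q * g⁻¹)) * g := by group
        _ = g⁻¹ * ((g * q * g⁻¹) * w) * g := by rw [h1]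
        _ = q * (g⁻¹ * w * g) := by group
    have hv := comm_v_of_comm D.h1 hB (hn' w hwX) hc
    have hvw : v₁ * w = w * v₁ := mem_centralizer_singleton_iff.1 (D.sn1.1 D.h1.hd)
    change _ ∈ centralizer ({w} : Set H)
    rw [mem_centralizer_singleton_iff]
    have e1 : v₁⁻¹ * w = w * v₁⁻¹ := by
      calc v₁⁻¹ * w = v₁⁻¹ * (w * v₁) * v₁⁻¹ := by group
        _ = v₁⁻¹ * (v₁ * w) * v₁⁻¹ := by rw [hvw]
        _ = w * v₁⁻¹ := by group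
    have e2 : v₁⁻¹ * (g⁻¹ * w * g) = (g⁻¹ * w * g) * v₁⁻¹ := by
      calc v₁⁻¹ * (g⁻¹ * w * g) = v₁⁻¹ * ((g⁻¹ * w * g) * v₁) * v₁⁻¹ := by group
        _ = v₁⁻¹ * (v₁ * (g⁻¹ * w * g)) * v₁⁻¹ := by rw [hv]
        _ = (g⁻¹ * w * g) * v₁⁻¹ := by group
    calc v₁ * g * v₁⁻¹ * g⁻¹ * w = v₁ * g * (v₁⁻¹ * (g⁻¹ * w * g)) * g⁻¹ := by group
      _ = v₁ * g * ((g⁻¹ * w * g) * v₁⁻¹) * g⁻¹ := by rw [e2]
      _ = (v₁ * w) * g * v₁⁻¹ * g⁻¹ := by group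
      _ = w * (v₁ * g * v₁⁻¹ * g⁻¹) := by rw [hvw]; group

/-- decomposition with respect to both quaternion groups -/
theorem decomp2 {S : Subgroup H} (hS : IsPGroup 2 S) (hQ1 : closure ({i₁, j₁} : Set H) ≤ S)
    (hQ2 : closure ({i₂, j₂} : Set H) ≤ S) (hB1 : Br S i₁ j₁ v₁) (hB2 : Br S i₂ j₂ v₂) {s : H} (hs : s ∈ S) :
    ∃ q₁ ∈ closure ({i₁, j₁} : Set H), ∃ q₂ ∈ closure ({i₂, j₂} : Set H), ∃ c ∈ S, s = q₁ * q₂ * c ∧
      (∀ q ∈ closure ({i₁, j₁} : Set H), c * q = q * c) ∧ (∀ q ∈ closure ({i₂, j₂} : Set H), c * q = q * c) := by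
  obtain ⟨q₁, hq₁, c₁, hc₁, rfl, -, hcc₁⟩ := decomp D.h1 hS hQ1 hB1 hs
  obtain ⟨q₂, hq₂, c₂, hc₂, rfl, -, hcc₂⟩ := decomp D.h2 hS hQ2 hB2 hc₁
  refine ⟨q₁, hq₁, q₂, hq₂, c₂, hc₂, by group, ?_, hcc₂⟩
  intro q hq
  have h1 := hcc₁ q hq
  have h2 := D.cm q (D.h1.Qle hq) q₂ (D.h2.Qle hq₂)
  have h3 : c₂ * q = q₂⁻¹ * (q₂ * c₂ * q) := by group
  rw [h3, h1]
  calc q₂⁻¹ * (q * (q₂ * c₂)) = q₂⁻¹ * (q * q₂) * c₂ := by group
    _ = q₂⁻¹ * (q₂ * q) * c₂ := by rw [h2]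
    _ = q * c₂ := by group

/-- inner action on a product of elements of order four -/
theorem conj_w {S : Subgroup H} (hS : IsPGroup 2 S) (hQ1 : closure ({i₁, j₁} : Set H) ≤ S)
    (hQ2 : closure ({i₂, j₂} : Set H) ≤ S) (hB1 : Br S i₁ j₁ v₁) (hB2 : Br S i₂ j₂ v₂) {s a₁ a₂ : H} (hs : s ∈ S)
    (h₁ : a₁ ∈ closure ({i₁, j₁} : Set H)) (h₂ : a₂ ∈ closure ({i₂, j₂} : Set H)) :
    s * (a₁ * a₂) * s⁻¹ = a₁ * a₂ ∨ s * (a₁ * a₂) * s⁻¹ = z * (a₁ * a₂) := by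
  have e : s * (a₁ * a₂) * s⁻¹ = (s * a₁ * s⁻¹) * (s * a₂ * s⁻¹) := by group
  have e1 : a₁ * (z * a₂) = z * (a₁ * a₂) := by
    rw [← mul_assoc, D.h1.q.comm_z h₁, mul_assoc]
  rcases inner D.h1 hS hQ1 hB1 hs h₁ with h3 | h3 <;> rcases inner D.h2 hS hQ2 hB2 hs h₂ with h4 | h4 <;>
    rw [e, h3, h4]
  · exact Or.inl rfl
  · exact Or.inr e1
  · exact Or.inr (mul_assoc _ _ _)
  · left
    rw [mul_assoc, e1, ← mul_assoc, D.h1.q.z2, one_mul]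

end Half

section Two

variable [Finite H] {P : Subgroup H} [hPn : P.Normal] (hP : IsPGroup 2 P) {z z₃ w w' : H}
  {J₁ J₂ J₃ J₄ : Subgroup H} {i₁ j₁ v₁ i₂ j₂ v₂ i₃ j₃ v₃ i₄ j₄ v₄ : H}
  (D : Half P z w J₁ J₂ i₁ j₁ v₁ i₂ j₂ v₂) (D' : Half P z₃ w' J₃ J₄ i₃ j₃ v₃ i₄ j₄ v₄)
  {a₁ a₂ a₃ a₄ : H} (ha₁ : a₁ ∈ closure ({i₁, j₁} : Set H)) (ha₂ : a₂ ∈ closure ({i₂, j₂} : Set H))
  (ha₃ : a₃ ∈ closure ({i₃, j₃} : Set H)) (ha₄ : a₄ ∈ closure ({i₄, j₄} : Set H))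
  (s₁ : a₁ * a₁ = z) (s₃ : a₃ * a₃ = z₃) (hw' : w' = a₁ * a₂) (hw : w = a₃ * a₄)

include hP D D' ha₁ ha₂ ha₃ ha₄ s₃ hw hw'

/-- `C_P(w)` is not `P`, and there is an element of `N_P(C_P(w)) ⊓ C_P(w')` moving `w` to `z₃ w` -/
theorem exists_g : ∃ g ∈ P ⊓ centralizer ({w'} : Set H),
    g ∈ normalizer ((P ⊓ centralizer ({w} : Set H) : Subgroup H) : Set H) ∧ g * w * g⁻¹ = z₃ * w := by
  have hwP : w ∈ P := by rw [hw]; exact mul_mem (D'.q1 ha₃) (D'.q2 ha₄)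
  set X := P ⊓ centralizer ({w} : Set H) with hX
  set Y := P ⊓ centralizer ({w'} : Set H) with hY
  have hY2 : IsPGroup 2 Y := hP.to_le inf_le_left
  have hne : X ≠ P := by
    intro h0
    obtain ⟨y, hy, -, hya⟩ := D'.h1.q.exists_inv ha₃ s₃
    have h1 : y ∈ X := by rw [h0]; exact D'.q1 hy
    have h2 := mem_centralizer_singleton_iff.1 h1.2
    have h3 : y * a₄ = a₄ * y := D'.cm y (D'.h1.Qle hy) a₄ (D'.h2.Qle ha₄)
    rw [hw] at h2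
    have h4 : z₃ * (a₃ * a₄ * y) = a₃ * a₄ * y := by
      calc z₃ * (a₃ * a₄ * y) = (z₃ * (a₃ * y)) * a₄ := by rw [mul_assoc, mul_assoc, ← h3]; group
        _ = y * a₃ * a₄ := by rw [← hya]
        _ = y * (a₃ * a₄) := by group
        _ = a₃ * a₄ * y := h2
    exact D'.h1.q.z1 (mul_right_cancel (b := a₃ * a₄ * y) (by rw [one_mul]; exact h4))
  obtain ⟨g, hgP, hgn, hgX⟩ := exists_normalizer hP (inf_le_left : X ≤ P) hne
  have hN2 : IsPGroup 2 (P ⊓ normalizer (X : Set H) : Subgroup H) := hP.to_le inf_le_left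
  have hXN : X ≤ P ⊓ normalizer (X : Set H) := le_inf inf_le_left le_normalizer
  obtain ⟨q₁, hq₁, q₂, hq₂, c, hc, rfl, hc1, hc2⟩ := D.decomp2 hN2 (D.q1_le.trans hXN) (D.q2_le.trans hXN)
    (D.br_norm hP hwP) (D.symm.br_norm hP hwP) (⟨hgP, hgn⟩ : g ∈ P ⊓ normalizer (X : Set H))
  have hcX : c ∉ X := fun h0 => hgX (mul_mem (mul_mem (D.q1_le hq₁) (D.q2_le hq₂)) h0)
  have hcY : c ∈ Y := by
    refine ⟨hc.1, mem_centralizer_singleton_iff.2 ?_⟩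
    rw [hw']
    calc c * (a₁ * a₂) = (c * a₁) * a₂ := by group
      _ = a₁ * (c * a₂) := by rw [hc1 a₁ ha₁]; group
      _ = a₁ * a₂ * c := by rw [hc2 a₂ ha₂]; group
  refine ⟨c, hcY, hc.2, ?_⟩
  rcases D'.conj_w hY2 D'.q1_le D'.q2_le (D'.br hP) (D'.symm.br hP) hcY ha₃ ha₄ with h1 | h1
  · exfalso
    apply hcX
    rw [← hw] at h1
    exact ⟨hc.1, mem_centralizer_singleton_iff.2 (mul_inv_eq_iff_eq_mul.1 h1)⟩
  · rw [hw]; exact h1

/-- an element moving `w` inside `{w, z₃ w}` lies in `X ⊔ Y` -/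
theorem mem_of_conj {p : H} (hp : p ∈ P) (h : p * w * p⁻¹ = w ∨ p * w * p⁻¹ = z₃ * w) :
    p ∈ (P ⊓ centralizer ({w'} : Set H)) ⊔ (P ⊓ centralizer ({w} : Set H)) ∧
      p ∈ normalizer ((P ⊓ centralizer ({w} : Set H) : Subgroup H) : Set H) := by
  rcases h with h | h
  · have h1 : p ∈ P ⊓ centralizer ({w} : Set H) :=
      ⟨hp, mem_centralizer_singleton_iff.2 (mul_inv_eq_iff_eq_mul.1 h)⟩
    exact ⟨mem_sup_right h1, le_normalizer h1⟩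
  · obtain ⟨g, hg, hgn, hgw⟩ := exists_g hP D D' ha₁ ha₂ ha₃ ha₄ s₃ hw' hw
    have h1 : g⁻¹ * p ∈ P ⊓ centralizer ({w} : Set H) := by
      refine mem_inf.2 ⟨mul_mem (inv_mem hg.1) hp, mem_centralizer_singleton_iff.2 ?_⟩
      have h2 : p * w = g * w * g⁻¹ * p := by
        rw [hgw, ← h]; group
      calc g⁻¹ * p * w = g⁻¹ * (p * w) := by group
        _ = w * (g⁻¹ * p) := by rw [h2]; group
    have e : p = g * (g⁻¹ * p) := by group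
    rw [e]
    exact ⟨mul_mem (mem_sup_left hg) (mem_sup_right h1), mul_mem hgn (le_normalizer h1)⟩

/-- `C_P(w')` normalises `C_P(w)` -/
theorem le_normalizer' : P ⊓ centralizer ({w'} : Set H) ≤
    normalizer ((P ⊓ centralizer ({w} : Set H) : Subgroup H) : Set H) := by
  intro y hy
  refine (mem_of_conj hP D D' ha₁ ha₂ ha₃ ha₄ s₃ hw' hw hy.1 ?_).2
  rw [hw]
  exact D'.conj_w (hP.to_le inf_le_left) D'.q1_le D'.q2_le (D'.br hP) (D'.symm.br hP) hy ha₃ ha₄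

/-- `T = X ⊔ Y` acts on `Q₁` as a group of inner automorphisms -/
theorem br_T : Br ((P ⊓ centralizer ({w'} : Set H)) ⊔ (P ⊓ centralizer ({w} : Set H))) i₁ j₁ v₁ := by
  have hwP : w ∈ P := by rw [hw]; exact mul_mem (D'.q1 ha₃) (D'.q2 ha₄)
  refine (D.br_norm hP hwP).mono (sup_le ?_ ?_)
  · exact le_inf inf_le_left (le_normalizer' hP D D' ha₁ ha₂ ha₃ ha₄ s₃ hw' hw)
  · exact le_inf inf_le_left le_normalizer

end Two

/-- `J ≅ SL₂(3)` is generated by its elements of order three -/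
theorem le_of_v_mem {A J : Subgroup H} {z i j v : H} (h : Sl J z i j v) (hA : A.Normal) (hv : v ∈ A) : J ≤ A := by
  have hi : i ∈ A := by
    have h4 : v * (i * v * i⁻¹ * v⁻¹) * v⁻¹ = i⁻¹ := by
      calc v * (i * v * i⁻¹ * v⁻¹) * v⁻¹ = (v * i * v⁻¹) * (v * (v * i * v⁻¹) * v⁻¹)⁻¹ := by group
        _ = i⁻¹ := by rw [h.di, h.dj]; group
    have h5 : i⁻¹ ∈ A := by
      rw [← h4]
      exact mul_mem (mul_mem hv (mul_mem (hA.conj_mem v hv i) (inv_mem hv))) (inv_mem hv)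
    exact inv_mem_iff.1 h5
  rw [h.gen, closure_le]
  rintro x (rfl | rfl)
  · exact hi
  · exact hv

/-- `J` subnormal in `C(w)`, contained in a normal subgroup of `H` centralising `w` -/
theorem isSubnormal_of_normal {A J : Subgroup H} {w : H} (hA : A.Normal) (hAw : A ≤ centralizer ({w} : Set H))
    (hJA : J ≤ A) (hs : Sn J (centralizer ({w} : Set H))) : J.IsSubnormal :=
  (hs.restrict hAw hJA).isSubnormal hA.isSubnormal

section CaseB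

variable [Finite H] {P : Subgroup H} [hPn : P.Normal] (hP : IsPGroup 2 P) {z z₃ w w' : H}
  (hz : ∀ x : H, x * z = z * x) {J₁ J₂ J₃ J₄ : Subgroup H} {i₁ j₁ v₁ i₂ j₂ v₂ i₃ j₃ v₃ i₄ j₄ v₄ : H}
  (D : Half P z w J₁ J₂ i₁ j₁ v₁ i₂ j₂ v₂) (D' : Half P z₃ w' J₃ J₄ i₃ j₃ v₃ i₄ j₄ v₄)
  {a₁ a₂ a₃ a₄ : H} (ha₁ : a₁ ∈ closure ({i₁, j₁} : Set H)) (ha₂ : a₂ ∈ closure ({i₂, j₂} : Set H))
  (ha₃ : a₃ ∈ closure ({i₃, j₃} : Set H)) (ha₄ : a₄ ∈ closure ({i₄, j₄} : Set H))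
  (s₁ : a₁ * a₁ = z) (s₃ : a₃ * a₃ = z₃) (hw' : w' = a₁ * a₂) (hw : w = a₃ * a₄) (hne : z₃ ≠ z)

omit [Finite H] in
/-- a 2-element `t` with `[S, t] ≤ ⟨z⟩` is centralised by `v`, if the involution of `J = Q⟨v⟩` is not `z` -/
theorem comm_v_of_small {S J : Subgroup H} {z z₃ i j v : H} (h : Sl J z₃ i j v) (hS : IsPGroup 2 S)
    (hQ : closure ({i, j} : Set H) ≤ S) (hB : Br S i j v) (hne : z₃ ≠ z) {t : H} (ht : t ∈ S)
    (hc : ∀ s ∈ S, s * t * s⁻¹ * t⁻¹ = 1 ∨ s * t * s⁻¹ * t⁻¹ = z) : v * t = t * v := by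
  refine comm_v_of_comm h hB ht fun q hq => ?_
  rcases inner h hS hQ hB ht hq with h1 | h1
  · exact mul_inv_eq_iff_eq_mul.1 h1
  · exfalso
    have e : q * t * q⁻¹ * t⁻¹ = z₃ := by
      have h2 : q * t * q⁻¹ * t⁻¹ = q * (t * q * t⁻¹)⁻¹ := by group
      rw [h2, h1, mul_inv_rev, ← mul_assoc, mul_inv_cancel, one_mul, h.q.z_inv]
    rcases hc q (hQ hq) with h2 | h2
    · exact h.q.z1 (e.symm.trans h2)
    · exact hne (e.symm.trans h2)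

include hP hz D D' ha₁ ha₂ ha₃ ha₄ s₁ s₃ hw' hw hne

/-- **(3d) (b).** -/
theorem caseB : J₁.IsSubnormal := by
  have hz1 := D.h1.q.z1
  have hzi := D.h1.q.z_inv
  set X := P ⊓ centralizer ({w} : Set H) with hX
  set Y := P ⊓ centralizer ({w'} : Set H) with hY
  have hTP : Y ⊔ X ≤ P := sup_le inf_le_left inf_le_left
  have hT2 : IsPGroup 2 (Y ⊔ X : Subgroup H) := hP.to_le hTP
  -- `s₄ : a₂ a₂ = z` is not needed
  have B1 : Br (Y ⊔ X) i₁ j₁ v₁ := br_T hP D D' ha₁ ha₂ ha₃ ha₄ s₃ hw' hw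
  have cm12 : a₁ * a₂ = a₂ * a₁ := D.cm a₁ (D.h1.Qle ha₁) a₂ (D.h2.Qle ha₂)
  have cm34 : a₃ * a₄ = a₄ * a₃ := D'.cm a₃ (D'.h1.Qle ha₃) a₄ (D'.h2.Qle ha₄)
  have B3 : Br (Y ⊔ X) i₃ j₃ v₃ := by
    rw [sup_comm]
    exact br_T hP D' D ha₃ ha₄ ha₁ ha₂ s₁ hw hw'
  have q1T : closure ({i₁, j₁} : Set H) ≤ Y ⊔ X := D.q1_le.trans le_sup_right
  have q2T : closure ({i₂, j₂} : Set H) ≤ Y ⊔ X := D.q2_le.trans le_sup_right
  have q3T : closure ({i₃, j₃} : Set H) ≤ Y ⊔ X := D'.q1_le.trans le_sup_left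
  have q4T : closure ({i₄, j₄} : Set H) ≤ Y ⊔ X := D'.q2_le.trans le_sup_left
  have B2 : Br (Y ⊔ X) i₂ j₂ v₂ := by
    have hwP : w ∈ P := by rw [hw]; exact mul_mem (D'.q1 ha₃) (D'.q2 ha₄)
    refine (D.symm.br_norm hP hwP).mono (sup_le ?_ ?_)
    · exact le_inf inf_le_left (le_normalizer' hP D D' ha₁ ha₂ ha₃ ha₄ s₃ hw' hw)
    · exact le_inf inf_le_left le_normalizer
  have B4 : Br (Y ⊔ X) i₄ j₄ v₄ := by
    have hwP : w' ∈ P := by rw [hw']; exact mul_mem (D.q1 ha₁) (D.q2 ha₂)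
    refine (D'.symm.br_norm hP hwP).mono (sup_le ?_ ?_)
    · exact le_inf inf_le_left le_normalizer
    · exact le_inf inf_le_left (le_normalizer' hP D' D ha₃ ha₄ ha₁ ha₂ s₁ hw hw')
  have hw'T : w' ∈ Y ⊔ X := by rw [hw']; exact mul_mem (q1T ha₁) (q2T ha₂)
  -- `T = P`
  have hT : Y ⊔ X = P := by
    by_contra hcon
    obtain ⟨p, hpP, hpn, hpT⟩ := exists_normalizer hP hTP hcon
    -- elements of `N_P(T)` act on `Q₃`, `Q₄` as inner automorphisms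
    have key : ∀ {J i j v}, Sl J z₃ i j v → closure ({i, j} : Set H) ≤ Y ⊔ X → Br (Y ⊔ X) i j v →
        J ≤ centralizer ({w'} : Set H) → Br (P ⊓ normalizer ((Y ⊔ X : Subgroup H) : Set H)) i j v := by
      intro J i j v hSl hQ hB hJw g hg
      refine comm_mem hSl hT2 hQ hB (mem_sup_left (mem_inf.2 ⟨?_, ?_⟩))
      · exact mul_mem (hPn.conj_mem g hg.1 v) (inv_mem hg.1)
      · have hgn : ∀ y, y ∈ Y ⊔ X → g * y * g⁻¹ ∈ Y ⊔ X := fun y hy => (mem_normalizer_iff.1 hg.2 y).1 hy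
        have hgn' : ∀ y, y ∈ Y ⊔ X → g⁻¹ * y * g ∈ Y ⊔ X := by
          intro y hy
          refine (mem_normalizer_iff.1 hg.2 _).2 ?_
          have e : g * (g⁻¹ * y * g) * g⁻¹ = y := by group
          rw [e]; exact hy
        have hsm : ∀ s ∈ Y ⊔ X, s * w' * s⁻¹ * w'⁻¹ = 1 ∨ s * w' * s⁻¹ * w'⁻¹ = z := by
          intro s hs
          rcases D.conj_w hT2 q1T q2T B1 B2 hs ha₁ ha₂ with h1 | h1
          · left; rw [hw', h1, mul_inv_cancel]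
          · right; rw [hw', h1, mul_assoc, mul_inv_cancel, mul_one]
        have hgz : g⁻¹ * z * g = z := by rw [mul_assoc, ← hz g]; group
        have hv : v * (g⁻¹ * w' * g) = (g⁻¹ * w' * g) * v := by
          refine comm_v_of_small hSl hT2 hQ hB hne (hgn' w' hw'T) fun s hs => ?_
          have e : s * (g⁻¹ * w' * g) * s⁻¹ * (g⁻¹ * w' * g)⁻¹ =
              g⁻¹ * ((g * s * g⁻¹) * w' * (g * s * g⁻¹)⁻¹ * w'⁻¹) * g := by group
          rw [e]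
          rcases hsm _ (hgn s hs) with h1 | h1
          · left; rw [h1]; group
          · right; rw [h1, hgz]
        have hvw : v * w' = w' * v := mem_centralizer_singleton_iff.1 (hJw hSl.hd)
        rw [mem_centralizer_singleton_iff]
        have e2 : v⁻¹ * (g⁻¹ * w' * g) = (g⁻¹ * w' * g) * v⁻¹ := by
          calc v⁻¹ * (g⁻¹ * w' * g) = v⁻¹ * ((g⁻¹ * w' * g) * v) * v⁻¹ := by group
            _ = v⁻¹ * (v * (g⁻¹ * w' * g)) * v⁻¹ := by rw [hv]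
            _ = (g⁻¹ * w' * g) * v⁻¹ := by group
        calc v * g * v⁻¹ * g⁻¹ * w' = v * g * (v⁻¹ * (g⁻¹ * w' * g)) * g⁻¹ := by group
          _ = v * g * ((g⁻¹ * w' * g) * v⁻¹) * g⁻¹ := by rw [e2]
          _ = (v * w') * g * v⁻¹ * g⁻¹ := by group
          _ = w' * (v * g * v⁻¹ * g⁻¹) := by rw [hvw]; group
    have hN2 : IsPGroup 2 (P ⊓ normalizer ((Y ⊔ X : Subgroup H) : Set H) : Subgroup H) := hP.to_le inf_le_left
    have hTN : Y ⊔ X ≤ P ⊓ normalizer ((Y ⊔ X : Subgroup H) : Set H) := le_inf hTP le_normalizer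
    apply hpT
    refine (mem_of_conj hP D D' ha₁ ha₂ ha₃ ha₄ s₃ hw' hw hpP ?_).1
    rw [hw]
    exact D'.conj_w hN2 (q3T.trans hTN) (q4T.trans hTN) (key D'.h1 q3T B3 D'.sn1.1)
      (key D'.h2 q4T B4 D'.sn2.1) ⟨hpP, hpn⟩ ha₃ ha₄
  rw [hT] at B1 B3 B4 q1T q3T q4T
  -- all conjugates of `v₁` centralise `w`
  have hwP : w ∈ P := by rw [hw]; exact mul_mem (q3T ha₃) (q4T ha₄)
  have hall : ∀ m : H, m * v₁ * m⁻¹ ∈ centralizer ({w} : Set H) := by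
    intro m
    have hm : Cit.cj m P = P := by
      rw [← mem_normalizer_iff_cj]
      rw [normalizer_eq_top]
      exact mem_top m
    have h1 := D.h1.of_cj m
    have hmz : m * z * m⁻¹ = z := by rw [hz m]; group
    rw [hmz] at h1
    have h2 := B1.cj hm
    have h3 : closure ({m * i₁ * m⁻¹, m * j₁ * m⁻¹} : Set H) ≤ P := by
      rw [closure_le]
      rintro x (rfl | rfl)
      · exact hPn.conj_mem _ (q1T (Qt.mem_i z i₁ j₁)) m
      · exact hPn.conj_mem _ (q1T (Qt.mem_j z i₁ j₁)) m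
    rw [mem_centralizer_singleton_iff]
    refine comm_v_of_small h1 hP h3 h2 hne.symm hwP fun s hs => ?_
    rcases D'.conj_w hP q3T q4T B3 B4 hs ha₃ ha₄ with h4 | h4
    · left; rw [hw, h4, mul_inv_cancel]
    · right; rw [hw, h4, mul_assoc, mul_inv_cancel, mul_one]
  have hA : normalClosure ({v₁} : Set H) ≤ centralizer ({w} : Set H) := by
    rw [normalClosure, closure_le]
    intro x hx
    obtain ⟨y, hy, hxy⟩ := Group.mem_conjugatesOfSet_iff.1 hx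
    rw [Set.mem_singleton_iff] at hy
    subst hy
    obtain ⟨m, rfl⟩ := isConj_iff.1 hxy
    exact hall m
  exact isSubnormal_of_normal normalClosure_normal hA
    (le_of_v_mem D.h1 normalClosure_normal (subset_normalClosure rfl)) D.sn1

end CaseB

end Cfsg.Agent.OddHalf.NI3.Bad
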