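import Cfsg.Agent.OddHalf.NI3.Bad.Emb

/-!
# Two commuting quaternion groups with the same involution in an orthogonal group

`Qd x p j q k` : `⟨p, j⟩`, `⟨q, k⟩` commuting quaternion groups with involution `x`; `w = p q`, `s = j k`.
* `Qd.exists_vec` : a non-singular vector `v`, `x v = -v`, `w v = -v`, `s v = v` in an invariant subspace;
* `Qd.exists_frame` : `e₀ = v`, `e₁ = p v`, `e₂ = j v`, `e₃ = p j v` is an orthogonal family, all values are equal;
* `Qd.frame` : if `dim V < 8` or `dim V = 8`, `x ≠ -1`, it spans `V_-(x)`.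
-/

set_option autoImplicit false
set_option linter.unusedSectionVars false
set_option linter.unusedVariables false

namespace Cfsg.Agent.OddHalf.NI3.Bad.QPair

open QuadraticMap Module Cfsg.Agent.LieClassical.OrthCore Cfsg.Agent.OddHalf.NI3.Bad.Emb
  Cfsg.Agent.ClassicalGeometry.OddInvolutions

variable {F V : Type*} [Field F] [AddCommGroup V] [Module F V]

/-- commuting quaternion groups `⟨p, j⟩`, `⟨q, k⟩` with involution `x` -/
structure Qd (x p j q k : V ≃ₗ[F] V) : Prop where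
  xx : ∀ v, x (x v) = v
  pp : ∀ v, p (p v) = x v
  jj : ∀ v, j (j v) = x v
  qq : ∀ v, q (q v) = x v
  kk : ∀ v, k (k v) = x v
  pj : ∀ v, p (j v) = x (j (p v))
  qk : ∀ v, q (k v) = x (k (q v))
  pq : ∀ v, p (q v) = q (p v)
  pk : ∀ v, p (k v) = k (p v)
  jq : ∀ v, j (q v) = q (j v)
  jk : ∀ v, j (k v) = k (j v)

namespace Qd

variable {x p j q k : V ≃ₗ[F] V} (h : Qd x p j q k)

include h

theorem px (v : V) : p (x v) = x (p v) := by rw [← h.pp v, h.pp (p v)]
theorem jx (v : V) : j (x v) = x (j v) := by rw [← h.jj v, h.jj (j v)]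
theorem qx (v : V) : q (x v) = x (q v) := by rw [← h.qq v, h.qq (q v)]
theorem kx (v : V) : k (x v) = x (k v) := by rw [← h.kk v, h.kk (k v)]

/-- `w = p q` is an involution -/
theorem ww (v : V) : p (q (p (q v))) = v := by rw [h.pq (p (q v)), h.pp, h.qx, h.qq, h.xx]

theorem ss (v : V) : j (k (j (k v))) = v := by rw [h.jk (j (k v)), h.jj, h.kx, h.kk, h.xx]

/-- `w s = s w` -/
theorem ws (v : V) : p (q (j (k v))) = j (k (p (q v))) := by
  rw [← h.jq, h.pj, h.qk, h.px, h.jx, h.xx, h.pk]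

/-- `p s = x s p` -/
theorem ps (v : V) : p (j (k v)) = x (j (k (p v))) := by rw [h.pj, h.pk]

theorem jw (v : V) : j (p (q v)) = x (p (q (j v))) := by rw [← h.jq, h.pj, h.xx]

theorem pw (v : V) : p (p (q v)) = p (q (p v)) := by rw [h.pq (p v)]; rw [← h.pq, ← h.pq]

theorem js (v : V) : j (j (k v)) = j (k (j v)) := by rw [h.jk]

end Qd

/-- an isometry of square one is self-adjoint -/
theorem self_adj {Q : QuadraticForm F V} {g : V ≃ₗ[F] V} (hg : g ∈ O Q) (h2 : ∀ v, g (g v) = v) (u v : V) :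
    polar Q u (g v) = polar Q (g u) v := by
  conv_lhs => rw [← h2 u]
  exact polar_map hg _ _

/-- eigenvectors for different eigenvalues are orthogonal -/
theorem eig_orth (h2 : (2 : F) ≠ 0) {Q : QuadraticForm F V} {g : V ≃ₗ[F] V} (hg : g ∈ O Q) {u v : V} (hu : g u = u)
    (hv : g v = -v) : polar Q u v = 0 := by
  have h1 := polar_map hg u v
  rw [hu, hv, polar_neg_right] at h1
  have h3 : (2 : F) * polar Q u v = 0 := by linear_combination -h1
  exact (mul_eq_zero.1 h3).resolve_left h2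

section

variable {x p j q k : V ≃ₗ[F] V} {Q : QuadraticForm F V}

/-- a non-singular common eigenvector in a nondegenerate invariant subspace -/
theorem Qd.exists_vec (h2 : (2 : F) ≠ 0) (h : Qd x p j q k) (hx : x ∈ O Q) (hp : p ∈ O Q) (hj : j ∈ O Q)
    (hq : q ∈ O Q) (hk : k ∈ O Q) (M : Submodule F V) (hM : ∀ u ∈ M, (∀ y ∈ M, polar Q u y = 0) → u = 0)
    (hpM : ∀ v ∈ M, p v ∈ M) (hjM : ∀ v ∈ M, j v ∈ M) (hqM : ∀ v ∈ M, q v ∈ M) (hkM : ∀ v ∈ M, k v ∈ M)
    (hne : ∃ v ∈ M, v ≠ 0 ∧ x v = -v) :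
    ∃ e ∈ M, x e = -e ∧ p (q e) = -e ∧ j (k e) = e ∧ Q e ≠ 0 := by
  obtain ⟨v, hv, hv0, hxv⟩ := hne
  have hxM : ∀ v ∈ M, x v ∈ M := fun v hv => by rw [← h.pp]; exact hpM _ (hpM _ hv)
  have hwM : ∀ v ∈ M, p (q v) ∈ M := fun v hv => hpM _ (hqM _ hv)
  have hsM : ∀ v ∈ M, j (k v) ∈ M := fun v hv => hjM _ (hkM _ hv)
  have hneg : ∀ {g : V ≃ₗ[F] V} {u v : V}, g u = -v → g (-u) = v := by
    intro g u v h1; rw [map_neg, h1, neg_neg]
  -- step 1: `w v = -v`
  obtain ⟨v1, h1M, h10, h1x, h1w⟩ : ∃ v1 ∈ M, v1 ≠ 0 ∧ x v1 = -v1 ∧ p (q v1) = -v1 := by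
    by_cases h3 : v - p (q v) = 0
    · -- `w v = v`, use `j v`
      refine ⟨j v, hjM _ hv, fun h4 => hv0 (by simpa using h4), ?_, ?_⟩
      · rw [← h.jx, hxv, map_neg]
      · have h4 := h.jw v
        rw [← sub_eq_zero.1 h3, ← h.px, ← h.qx, ← h.jx, hxv, map_neg, map_neg, map_neg] at h4
        exact (neg_eq_iff_eq_neg.2 h4).symm
    · refine ⟨v - p (q v), M.sub_mem hv (hwM _ hv), h3, ?_, ?_⟩
      · rw [map_sub, ← h.px, ← h.qx, hxv, map_neg, map_neg]; abel
      · rw [map_sub, map_sub, h.ww]; abel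
  -- step 2: `s v = v`
  obtain ⟨v2, h2M, h20, h2x, h2w, h2s⟩ : ∃ v2 ∈ M, v2 ≠ 0 ∧ x v2 = -v2 ∧ p (q v2) = -v2 ∧ j (k v2) = v2 := by
    by_cases h3 : v1 + j (k v1) = 0
    · refine ⟨p v1, hpM _ h1M, fun h4 => h10 (by simpa using h4), ?_, ?_, ?_⟩
      · rw [← h.px, h1x, map_neg]
      · rw [← h.pw, h1w, map_neg]
      · have h4 := h.ps v1
        have h5 : j (k v1) = - v1 := by rw [eq_neg_iff_add_eq_zero, add_comm]; exact h3
        rw [h5, map_neg, ← h.jx, ← h.kx, ← h.px, h1x] at h4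
        rw [map_neg, map_neg, map_neg] at h4
        exact (neg_injective h4).symm
    · refine ⟨v1 + j (k v1), M.add_mem h1M (hsM _ h1M), h3, ?_, ?_, ?_⟩
      · rw [map_add, ← h.jx, ← h.kx, h1x, map_neg, map_neg]; abel
      · rw [map_add, map_add, h.ws, h1w, map_neg, map_neg]; abel
      · rw [map_add, map_add, h.ss]; abel
  -- a non-singular vector
  by_contra hcon
  push Not at hcon
  have hQ0 : ∀ e ∈ M, x e = -e → p (q e) = -e → j (k e) = e → Q e = 0 := hcon
  apply h20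
  apply hM _ h2M
  intro y hy
  have hxO := hx
  have hwO : p * q ∈ O Q := (O Q).mul_mem hp hq
  have hsO : j * k ∈ O Q := (O Q).mul_mem hj hk
  -- projection
  set y1 := y - x y with hy1
  set y2 := y1 - p (q y1) with hy2
  set y3 := y2 + j (k y2) with hy3
  have y1M : y1 ∈ M := M.sub_mem hy (hxM _ hy)
  have y2M : y2 ∈ M := M.sub_mem y1M (hwM _ y1M)
  have y3M : y3 ∈ M := M.add_mem y2M (hsM _ y2M)
  have a1 : x y1 = -y1 := by rw [hy1, map_sub, h.xx]; abel
  have a2 : x y2 = -y2 := by rw [hy2, map_sub, ← h.px, ← h.qx, a1, map_neg, map_neg]; abel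
  have a3 : x y3 = -y3 := by rw [hy3, map_add, ← h.jx, ← h.kx, a2, map_neg, map_neg]; abel
  have b2 : p (q y2) = -y2 := by rw [hy2, map_sub, map_sub, h.ww]; abel
  have b3 : p (q y3) = -y3 := by rw [hy3, map_add, map_add, h.ws, b2, map_neg, map_neg]; abel
  have c3 : j (k y3) = y3 := by rw [hy3, map_add, map_add, h.ss]; abel
  have e1 : polar Q v2 y1 = 2 * polar Q v2 y := by
    rw [hy1, polar_sub_right, self_adj hxO h.xx, h2x, polar_neg_left]; ring
  have e2 : polar Q v2 y2 = 2 * polar Q v2 y1 := by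
    have e4 : polar Q v2 (p (q y1)) = polar Q (p (q v2)) y1 := self_adj (g := p * q) hwO h.ww v2 y1
    rw [hy2, polar_sub_right, e4, h2w, polar_neg_left]; ring
  have e3 : polar Q v2 y3 = 2 * polar Q v2 y2 := by
    have e4 : polar Q v2 (j (k y2)) = polar Q (j (k v2)) y2 := self_adj (g := j * k) hsO h.ss v2 y2
    rw [hy3, polar_add_right, e4, h2s]; ring
  have e4 : polar Q v2 y3 = 0 := by
    have f1 : Q (v2 + y3) = 0 := hQ0 _ (M.add_mem h2M y3M)
      (by rw [map_add, h2x, a3]; abel) (by rw [map_add, map_add, h2w, b3]; abel)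
      (by rw [map_add, map_add, h2s, c3])
    rw [Q_add, hQ0 _ h2M h2x h2w h2s, hQ0 _ y3M a3 b3 c3] at f1
    linear_combination f1
  rw [e3, e2, e1] at e4
  have e5 := (mul_eq_zero.1 e4).resolve_left h2
  have e6 := (mul_eq_zero.1 e5).resolve_left h2
  exact (mul_eq_zero.1 e6).resolve_left h2

/-- the frame defined by a vector -/
def fr (p j : V ≃ₗ[F] V) (e : V) : Fin 4 → V := ![e, p e, j e, p (j e)]

theorem Qd.fr_x (h : Qd x p j q k) {e : V} (hx : x e = -e) (i : Fin 4) : x (fr p j e i) = - fr p j e i := by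
  fin_cases i
  · exact hx
  · show x (p e) = -(p e)
    rw [← h.px, hx, map_neg]
  · show x (j e) = -(j e)
    rw [← h.jx, hx, map_neg]
  · show x (p (j e)) = -(p (j e))
    rw [← h.px, ← h.jx, hx, map_neg, map_neg]

/-- `w` on the frame -/
theorem Qd.fr_w (h : Qd x p j q k) {e : V} (hx : x e = -e) (hw : p (q e) = -e) :
    p (q (fr p j e 0)) = - fr p j e 0 ∧ p (q (fr p j e 1)) = - fr p j e 1 ∧ p (q (fr p j e 2)) = fr p j e 2 ∧
      p (q (fr p j e 3)) = fr p j e 3 := by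
  have h1 : p (q (j e)) = j e := by
    have h4 := h.jw e
    rw [hw, map_neg, ← h.px, ← h.qx, ← h.jx, hx] at h4
    rw [map_neg, map_neg, map_neg] at h4
    exact (neg_injective h4).symm
  refine ⟨hw, ?_, h1, ?_⟩
  · show p (q (p e)) = -(p e)
    rw [← h.pw, hw, map_neg]
  · show p (q (p (j e))) = p (j e)
    rw [← h.pw, h1]

theorem Qd.fr_s (h : Qd x p j q k) {e : V} (hx : x e = -e) (hs : j (k e) = e) :
    j (k (fr p j e 0)) = fr p j e 0 ∧ j (k (fr p j e 1)) = - fr p j e 1 ∧ j (k (fr p j e 2)) = fr p j e 2 ∧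
      j (k (fr p j e 3)) = - fr p j e 3 := by
  have h1 : ∀ v, x v = -v → j (k v) = v → j (k (p v)) = -(p v) := by
    intro v hxv hsv
    have h4 := h.ps v
    rw [hsv, ← h.jx, ← h.kx, ← h.px, hxv, map_neg, map_neg, map_neg] at h4
    exact (neg_eq_iff_eq_neg.2 h4).symm
  have h3 : j (k (j e)) = j e := by rw [← h.js, hs]
  refine ⟨hs, h1 e hx hs, h3, h1 (j e) ?_ h3⟩
  rw [← h.jx, hx, map_neg]

/-- the frame is an orthogonal family, all values are equal -/
theorem Qd.fr_OF (h2 : (2 : F) ≠ 0) (h : Qd x p j q k) (hp : p ∈ O Q) (hj : j ∈ O Q)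
    (hq : q ∈ O Q) (hk : k ∈ O Q) {e : V} (hx : x e = -e) (hw : p (q e) = -e) (hs : j (k e) = e) (he : Q e ≠ 0) :
    OF Q (fun _ : Fin 4 => Q e) (fr p j e) := by
  obtain ⟨w0, w1, w2, w3⟩ := h.fr_w hx hw
  obtain ⟨s0, s1, s2, s3⟩ := h.fr_s hx hs
  have hwO : p * q ∈ O Q := (O Q).mul_mem hp hq
  have hsO : j * k ∈ O Q := (O Q).mul_mem hj hk
  have W : ∀ {u v : V}, p (q u) = u → p (q v) = -v → polar Q u v = 0 := fun hu hv => eig_orth h2 hwO hu hv
  have S : ∀ {u v : V}, j (k u) = u → j (k v) = -v → polar Q u v = 0 := fun hu hv => eig_orth h2 hsO hu hv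
  refine ⟨?_, fun _ => he, ?_⟩
  · intro i
    fin_cases i
    · rfl
    · exact mem_O.1 hp e
    · exact mem_O.1 hj e
    · show Q (p (j e)) = Q e
      rw [mem_O.1 hp, mem_O.1 hj]
  · have key : ∀ a b : Fin 4, a < b → polar Q (fr p j e a) (fr p j e b) = 0 := by
      intro a b hab
      fin_cases a <;> fin_cases b <;> first | (exfalso; revert hab; decide) | skip
      · exact S s0 s1
      · rw [polar_comm]; exact W w2 w0
      · exact S s0 s3
      · rw [polar_comm]; exact W w2 w1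
      · rw [polar_comm]; exact W w3 w1
      · exact S s2 s3
    intro a b hab
    rcases lt_or_gt_of_ne hab with h1 | h1
    · exact key a b h1
    · rw [polar_comm]; exact key b a h1

/-- the complement of the frame is invariant -/
theorem Qd.perp_inv (h : Qd x p j q k) {Q : QuadraticForm F V} (hp : p ∈ O Q) (hj : j ∈ O Q) (hq : q ∈ O Q)
    (hk : k ∈ O Q) {e : V} (hx : x e = -e) (hw : p (q e) = -e) (hs : j (k e) = e)
    {v : V} (hv : ∀ i, polar Q (fr p j e i) v = 0) :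
    (∀ i, polar Q (fr p j e i) (p v) = 0) ∧ (∀ i, polar Q (fr p j e i) (j v) = 0) ∧
      (∀ i, polar Q (fr p j e i) (q v) = 0) ∧ (∀ i, polar Q (fr p j e i) (k v) = 0) := by
  obtain ⟨w0, w1, w2, w3⟩ := h.fr_w hx hw
  obtain ⟨s0, s1, s2, s3⟩ := h.fr_s hx hs
  -- `g u = ± f_i'` implies `polar f_i' (g v) = 0`
  have key : ∀ {g : V ≃ₗ[F] V} {u u' : V}, g ∈ O Q → polar Q u v = 0 → (g u = u' ∨ g u = -u') →
      polar Q u' (g v) = 0 := by
    intro g u u' hg h1 h3
    have h4 := polar_map hg u v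
    rw [h1] at h4
    rcases h3 with h3 | h3
    · rwa [h3] at h4
    · rw [h3, polar_neg_left, neg_eq_zero] at h4
      exact h4
  have f0 : fr p j e 0 = e := rfl
  have f1 : fr p j e 1 = p e := rfl
  have f2 : fr p j e 2 = j e := rfl
  have f3 : fr p j e 3 = p (j e) := rfl
  have hxj : x (j e) = -(j e) := by rw [← h.jx, hx, map_neg]
  have P : ∀ i, polar Q (fr p j e i) (p v) = 0 := by
    intro i
    fin_cases i
    · exact key hp (hv 1) (Or.inr (by rw [f1, h.pp, hx]; rfl))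
    · exact key hp (hv 0) (Or.inl rfl)
    · exact key hp (hv 3) (Or.inr (by rw [f3, h.pp, hxj]; rfl))
    · exact key hp (hv 2) (Or.inl rfl)
  have J : ∀ i, polar Q (fr p j e i) (j v) = 0 := by
    intro i
    fin_cases i
    · exact key hj (hv 2) (Or.inr (by rw [f2, h.jj, hx]; rfl))
    · refine key hj (hv 3) (Or.inl ?_)
      have h6 : j (p (j e)) = x (p (j (j e))) := by rw [h.pj (j e), h.xx]
      rw [f3, h6, h.jj, h.px, h.xx]; rfl
    · exact key hj (hv 0) (Or.inl rfl)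
    · refine key hj (hv 1) (Or.inr ?_)
      have h5 := h.pj e
      have h6 : j (p e) = x (p (j e)) := by rw [h5, h.xx]
      rw [f1, h6, ← h.px, hxj, map_neg]; rfl
  have hqv : ∀ u, q u = x (p (p (q u))) := fun u => by rw [h.pp, h.xx]
  have hkv : ∀ u, k u = x (j (j (k u))) := fun u => by rw [h.jj, h.xx]
  refine ⟨P, J, ?_, ?_⟩
  · -- `q f = ± x p f`
    intro i
    -- for each `i` find `i'` with `q f_i' = ± f_i`
    have Qe : ∀ u : V, x u = -u → (p (q u) = u ∨ p (q u) = -u) → q (p u) = u ∨ q (p u) = -u := by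
      intro u _ hu
      rw [← h.pq]; exact hu
    have T : ∀ u, x u = -u → (p (q u) = u ∨ p (q u) = -u) → polar Q (p u) v = 0 → polar Q u (q v) = 0 := by
      intro u hxu hu hv'
      exact key hq hv' (Qe u hxu hu)
    fin_cases i
    · exact T _ hx (Or.inr hw) (hv 1)
    · refine T (fr p j e 1) (by rw [f1, ← h.px, hx, map_neg]) (Or.inr w1) ?_
      rw [f1, h.pp, hx, polar_neg_left, neg_eq_zero]; exact hv 0
    · exact T _ hxj (Or.inl w2) (hv 3)
    · refine T (fr p j e 3) (by rw [f3, ← h.px, hxj, map_neg]) (Or.inl w3) ?_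
      rw [f3, h.pp, hxj, polar_neg_left, neg_eq_zero]; exact hv 2
  · intro i
    have T : ∀ u, (j (k u) = u ∨ j (k u) = -u) → polar Q (j u) v = 0 → polar Q u (k v) = 0 := by
      intro u hu hv'
      refine key hk hv' ?_
      rw [← h.jk]; exact hu
    fin_cases i
    · exact T _ (Or.inl hs) (hv 2)
    · refine T (fr p j e 1) (Or.inr s1) ?_
      have h6 : j (p e) = x (p (j e)) := by rw [h.pj e, h.xx]
      rw [f1, h6, ← h.px, hxj, map_neg, polar_neg_left, neg_eq_zero]; exact hv 3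
    · refine T (fr p j e 2) (Or.inl s2) ?_
      rw [f2, h.jj, hx, polar_neg_left, neg_eq_zero]; exact hv 0
    · refine T (fr p j e 3) (Or.inr s3) ?_
      have h6 : j (p (j e)) = x (p (j (j e))) := by rw [h.pj (j e), h.xx]
      rw [f3, h6, h.jj, h.px, h.xx]; exact hv 1

/-- the complement of an orthogonal family, as a submodule -/
def pc {ι : Type} (Q : QuadraticForm F V) (f : ι → V) : Submodule F V where
  carrier := {v | ∀ i, polar Q (f i) v = 0}
  add_mem' {u v} hu hv := fun i => by rw [polar_add_right, hu i, hv i, add_zero]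
  zero_mem' := fun i => polar_zero_right _ _
  smul_mem' c v hv := fun i => by rw [polar_smul_right, hv i, smul_zero]

theorem mem_pc {ι : Type} {Q : QuadraticForm F V} {f : ι → V} {v : V} :
    v ∈ pc Q f ↔ ∀ i, polar Q (f i) v = 0 := Iff.rfl

section

variable {ι : Type} [Fintype ι] [DecidableEq ι] {d : ι → F} {f : ι → V}

/-- projection to the complement -/
theorem OF_proj_mem (h2 : (2 : F) ≠ 0) (hf : OF Q d f) (y : V) : y - (hf.ad h2).L ((hf.ad h2).R y) ∈ pc Q f := by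
  intro i
  exact (hf.R_eq_zero_iff h2 _).1 ((hf.ad h2).R_sub y) i

theorem OF_polar_L (h2 : (2 : F) ≠ 0) (hf : OF Q d f) {u : V} (hu : u ∈ pc Q f) (a : ι → F) :
    polar Q u ((hf.ad h2).L a) = 0 := by
  rw [polar_comm, (hf.ad h2).ad, (hf.R_eq_zero_iff h2 u).2 hu, polar_zero_right]

/-- the complement is nondegenerate -/
theorem OF_pc_nondeg (h2 : (2 : F) ≠ 0) (hQ : Nondeg Q) (hf : OF Q d f) {u : V} (hu : u ∈ pc Q f)
    (h : ∀ y ∈ pc Q f, polar Q u y = 0) : u = 0 := by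
  apply hQ
  intro y
  have h1 : polar Q u y = polar Q u ((hf.ad h2).L ((hf.ad h2).R y)) +
      polar Q u (y - (hf.ad h2).L ((hf.ad h2).R y)) := by rw [← polar_add_right, add_sub_cancel]
  rw [h1, OF_polar_L h2 hf hu, h _ (OF_proj_mem h2 hf y), add_zero]

/-- orthogonal union of orthogonal families -/
theorem OF_sum {κ : Type} [Fintype κ] [DecidableEq κ] {d' : κ → F} {f' : κ → V} (hf : OF Q d f) (hf' : OF Q d' f')
    (h : ∀ i k, polar Q (f i) (f' k) = 0) : OF Q (Sum.elim d d') (Sum.elim f f') := by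
  refine ⟨?_, ?_, ?_⟩
  · rintro (i | i)
    · exact hf.nm i
    · exact hf'.nm i
  · rintro (i | i)
    · exact hf.ne i
    · exact hf'.ne i
  · rintro (i | i) (j | j) hij
    · exact hf.orth i j (fun h => hij (by rw [h]))
    · exact h i j
    · show polar Q (f' i) (f j) = 0
      rw [polar_comm]; exact h j i
    · exact hf'.orth i j (fun h => hij (by rw [h]))

end

/-- **the frame theorem** -/
theorem Qd.frame [FiniteDimensional F V] (h2 : (2 : F) ≠ 0) (h : Qd x p j q k) (hQ : Nondeg Q) (hx : x ∈ O Q)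
    (hp : p ∈ O Q) (hj : j ∈ O Q) (hq : q ∈ O Q) (hk : k ∈ O Q) (hx1 : ∃ v, x v ≠ v)
    (hd : finrank F V < 8 ∨ (finrank F V = 8 ∧ ∃ v, x v ≠ -v)) :
    ∃ e : V, x e = -e ∧ p (q e) = -e ∧ j (k e) = e ∧ Q e ≠ 0 ∧
      ∀ v, (∀ i, polar Q (fr p j e i) v = 0) → x v = v := by
  obtain ⟨u, hu⟩ := hx1
  obtain ⟨e, _, he1, he2, he3, he4⟩ := h.exists_vec h2 hx hp hj hq hk ⊤ (fun u _ h => hQ u fun y => h y trivial)
    (fun _ _ => trivial) (fun _ _ => trivial) (fun _ _ => trivial) (fun _ _ => trivial)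
    ⟨u - x u, trivial, fun h1 => hu (sub_eq_zero.1 h1).symm, by rw [map_sub, h.xx]; abel⟩
  refine ⟨e, he1, he2, he3, he4, ?_⟩
  have hf := h.fr_OF h2 hp hj hq hk he1 he2 he3 he4
  by_contra hcon
  push Not at hcon
  obtain ⟨v, hv, hvx⟩ := hcon
  have hinv : ∀ v ∈ pc Q (fr p j e), p v ∈ pc Q (fr p j e) ∧ j v ∈ pc Q (fr p j e) ∧ q v ∈ pc Q (fr p j e) ∧
      k v ∈ pc Q (fr p j e) := fun v hv => h.perp_inv hp hj hq hk he1 he2 he3 hv
  have hvM : v ∈ pc Q (fr p j e) := hv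
  have hxv : x v ∈ pc Q (fr p j e) := by
    rw [← h.pp]; exact (hinv _ (hinv v hvM).1).1
  obtain ⟨e', heM, g1, g2, g3, g4⟩ := h.exists_vec h2 hx hp hj hq hk (pc Q (fr p j e))
    (fun u hu h => OF_pc_nondeg h2 hQ hf hu h)
    (fun v hv => (hinv v hv).1) (fun v hv => (hinv v hv).2.1) (fun v hv => (hinv v hv).2.2.1)
    (fun v hv => (hinv v hv).2.2.2)
    ⟨v - x v, Submodule.sub_mem _ hvM hxv, fun h1 => hvx (sub_eq_zero.1 h1).symm, by rw [map_sub, h.xx]; abel⟩
  have hf' := h.fr_OF h2 hp hj hq hk g1 g2 g3 g4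
  have hfM : ∀ i, fr p j e' i ∈ pc Q (fr p j e) := by
    intro i
    fin_cases i
    · exact heM
    · exact (hinv _ heM).1
    · exact (hinv _ heM).2.1
    · exact (hinv _ (hinv _ heM).2.1).1
  have hF := OF_sum hf hf' (fun i k => hfM k i)
  have h8 := (hF.linearIndependent h2).fintype_card_le_finrank
  rw [Fintype.card_sum, Fintype.card_fin] at h8
  rcases hd with hd | ⟨hd, w, hw⟩
  · omega
  · apply hw
    have h9 : w + x w = 0 := by
      refine hF.eq_zero h2 (by rw [Fintype.card_sum, Fintype.card_fin, hd]) ?_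
      intro i
      rw [polar_comm]
      refine eig_orth h2 hx (by rw [map_add, h.xx, add_comm]) ?_
      rcases i with i | i
      · exact h.fr_x he1 i
      · exact h.fr_x g1 i
    rw [eq_neg_iff_add_eq_zero, add_comm]
    exact h9

end

end Cfsg.Agent.OddHalf.NI3.Bad.QPair
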