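import Cfsg.Agent.OddHalf.NI3.Bad.Models
import Cfsg.Agent.OddHalf.NI3.Bad.QPair

/-!
# Orthogonal families and isometries of order 3 over `F₃`

* `sg2 h2 hf hab` : `-1` on `⟨f a, f b⟩`;
* `eigA`, `cubeA` : an isometry `g`, `g³ = 1`, which commutes with `sg2 a b`, `sg2 a c` fixes `f a`;
* `plane` : `g³ = 1`, `g` preserves the anisotropic plane `⟨u, v⟩`, `Q u = Q v`: `g` fixes it;
* `exists_compl` : families in the orthogonal complement.
-/

set_option autoImplicit false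
set_option linter.unusedSectionVars false
set_option linter.unusedVariables false

namespace Cfsg.Agent.OddHalf.NI3.Bad.Frame

open QuadraticMap Module Cfsg.Agent.LieClassical.OrthCore Cfsg.Agent.OddHalf.NI3.Bad.Emb
  Cfsg.Agent.ClassicalGeometry.OddInvolutions Cfsg.Agent.OddHalf.NI3.Bad.QPair Cfsg.Agent.OddHalf.NI3.Bad.Sim

variable {F V : Type*} [Field F] [AddCommGroup V] [Module F V] {Q : QuadraticForm F V}

section

variable {ι : Type} [Fintype ι] [DecidableEq ι] {d : ι → F} {f : ι → V}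

theorem OF_ng_f (h2 : (2 : F) ≠ 0) (hf : OF Q d f) (i : ι) : (hf.ad h2).ng (f i) = -f i := by
  rw [← hf.L_single h2 i, Ad.ng_L]

theorem OF_ng_iff (h2 : (2 : F) ≠ 0) (hf : OF Q d f) {y : V} :
    (hf.ad h2).ng y = y ↔ ∀ i, polar Q (f i) y = 0 :=
  ((hf.ad h2).ng_eq_self_iff h2).trans (hf.R_eq_zero_iff h2 y)

theorem OF_ng_neg (h2 : (2 : F) ≠ 0) (hf : OF Q d f) {y : V} (h : (hf.ad h2).ng y = -y) :
    ∃ a : ι → F, y = ∑ i, a i • f i := by
  refine ⟨(hf.ad h2).R y, ?_⟩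
  rw [← hf.L_apply h2]
  rw [Ad.ng_apply] at h
  have h3 : (2 : F) • (y - (hf.ad h2).L ((hf.ad h2).R y)) = 0 := by
    rw [smul_sub, two_smul F y]
    rw [sub_eq_iff_eq_add] at h
    nth_rewrite 1 [h]
    abel
  rw [smul_eq_zero] at h3
  exact sub_eq_zero.1 (h3.resolve_left h2)

theorem pair_inj {a b : ι} (hab : a ≠ b) : Function.Injective ![a, b] := by
  intro i j hij
  fin_cases i <;> fin_cases j <;> simp_all

/-- `-1` on `⟨f a, f b⟩` -/
def sg2 (h2 : (2 : F) ≠ 0) (hf : OF Q d f) {a b : ι} (hab : a ≠ b) : V ≃ₗ[F] V :=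
  ((hf.comp ![a, b] (pair_inj hab)).ad h2).ng

theorem sg2_left (h2 : (2 : F) ≠ 0) (hf : OF Q d f) {a b : ι} (hab : a ≠ b) : sg2 h2 hf hab (f a) = -f a :=
  OF_ng_f h2 (hf.comp ![a, b] (pair_inj hab)) 0

theorem sg2_right (h2 : (2 : F) ≠ 0) (hf : OF Q d f) {a b : ι} (hab : a ≠ b) : sg2 h2 hf hab (f b) = -f b :=
  OF_ng_f h2 (hf.comp ![a, b] (pair_inj hab)) 1

theorem sg2_iff (h2 : (2 : F) ≠ 0) (hf : OF Q d f) {a b : ι} (hab : a ≠ b) {y : V} :
    sg2 h2 hf hab y = y ↔ polar Q (f a) y = 0 ∧ polar Q (f b) y = 0 := by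
  rw [sg2, OF_ng_iff h2 (hf.comp ![a, b] (pair_inj hab))]
  constructor
  · intro h; exact ⟨h 0, h 1⟩
  · intro h i
    fin_cases i
    · exact h.1
    · exact h.2

theorem sg2_neg (h2 : (2 : F) ≠ 0) (hf : OF Q d f) {a b : ι} (hab : a ≠ b) {y : V} (h : sg2 h2 hf hab y = -y) :
    ∃ r s : F, y = r • f a + s • f b := by
  obtain ⟨t, ht⟩ := OF_ng_neg h2 (hf.comp ![a, b] (pair_inj hab)) h
  refine ⟨t 0, t 1, ?_⟩
  rw [ht, Fin.sum_univ_two]
  rfl

theorem sg2_mem_O (h2 : (2 : F) ≠ 0) (hf : OF Q d f) {a b : ι} (hab : a ≠ b) : sg2 h2 hf hab ∈ O Q :=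
  Ad.ng_mem_O _

theorem sg2_mul_self (h2 : (2 : F) ≠ 0) (hf : OF Q d f) {a b : ι} (hab : a ≠ b) :
    sg2 h2 hf hab * sg2 h2 hf hab = 1 :=
  Ad.ng_mul_self _

theorem sg2_mem_B' (h2 : (2 : F) ≠ 0) (hf : OF Q d f) {a b : ι} (hab : a ≠ b) (hd : d a = d b) :
    sg2 h2 hf hab ∈ ((hf.comp ![a, b] (pair_inj hab)).ad h2).B := by
  refine (hf.comp ![a, b] (pair_inj hab)).ng_mem_B h2 ?_ (n := 1) (by simp)
  intro i j
  fin_cases i <;> fin_cases j
  · rfl
  · exact hd
  · exact hd.symm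
  · rfl

/-- `-1` on `⟨f a, f b⟩`, `Q (f a) = Q (f b)`, lies in the group `B` of every larger family -/
theorem sg2_mem_B (h2 : (2 : F) ≠ 0) (hQ : Nondeg Q) (hf : OF Q d f) {a b : ι} (hab : a ≠ b) (hd : d a = d b) :
    sg2 h2 hf hab ∈ (hf.ad h2).B := by
  refine Ad.B_mono _ (hf.ad h2) hQ ?_ (sg2_mem_B' h2 hf hab hd)
  intro y hy
  rw [OF.R_eq_zero_iff] at hy ⊢
  intro i
  exact hy _

theorem sg2_mem_Om (h2 : (2 : F) ≠ 0) (hf : OF Q d f) {a b : ι} (hab : a ≠ b) (hd : d a = d b) :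
    sg2 h2 hf hab ∈ Om Q :=
  Ad.B_le _ (sg2_mem_B' h2 hf hab hd)

/-- eigenvectors -/
theorem eigA (h2 : (2 : F) ≠ 0) (hf : OF Q d f) {a b c : ι} (hab : a ≠ b) (hac : a ≠ c) (hbc : b ≠ c)
    {g : V ≃ₗ[F] V} (h1 : g * sg2 h2 hf hab = sg2 h2 hf hab * g) (h3 : g * sg2 h2 hf hac = sg2 h2 hf hac * g) :
    ∃ α : F, g (f a) = α • f a := by
  have e1 : sg2 h2 hf hab (g (f a)) = -(g (f a)) := by
    have h4 : (sg2 h2 hf hab * g) (f a) = (g * sg2 h2 hf hab) (f a) := by rw [h1]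
    have h5 : sg2 h2 hf hab (g (f a)) = g (sg2 h2 hf hab (f a)) := h4
    rw [h5, sg2_left, map_neg]
  have e2 : sg2 h2 hf hac (g (f a)) = -(g (f a)) := by
    have h4 : (sg2 h2 hf hac * g) (f a) = (g * sg2 h2 hf hac) (f a) := by rw [h3]
    have h5 : sg2 h2 hf hac (g (f a)) = g (sg2 h2 hf hac (f a)) := h4
    rw [h5, sg2_left, map_neg]
  obtain ⟨r, s, hrs⟩ := sg2_neg h2 hf hab e1
  obtain ⟨r', s', hrs'⟩ := sg2_neg h2 hf hac e2
  have h6 : polar Q (f b) (g (f a)) = 2 * d b * s := by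
    rw [hrs, polar_add_right, polar_smul_right, polar_smul_right, hf.orth b a (Ne.symm hab), polar_self', hf.nm]
    simp only [smul_eq_mul]; ring
  have h7 : polar Q (f b) (g (f a)) = 0 := by
    rw [hrs', polar_add_right, polar_smul_right, polar_smul_right, hf.orth b a (Ne.symm hab), hf.orth b c hbc]
    simp
  rw [h7] at h6
  have h8 : s = 0 := (mul_eq_zero.1 h6.symm).resolve_left (mul_ne_zero h2 (hf.ne b))
  refine ⟨r, ?_⟩
  rw [hrs, h8, zero_smul, add_zero]

end

section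

variable [Fintype F]

theorem cube_scalar (hF : Fintype.card F = 3) {u : V} (hu : u ≠ 0) {g : V ≃ₗ[F] V} (hg : g * g * g = 1) {α : F}
    (h : g u = α • u) : g u = u := by
  have h1 : g (g (g u)) = u := by
    have := congrArg (fun l : V ≃ₗ[F] V => l u) hg
    exact this
  rw [h, map_smul, map_smul, h, map_smul, h, smul_smul, smul_smul] at h1
  have h3 : (α * α * α - 1) • u = 0 := by rw [sub_smul, one_smul, h1, sub_self]
  have h4 := (smul_eq_zero.1 h3).resolve_right hu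
  rcases cases hF α with h5 | h5 | h5
  · rw [h5] at h4; exfalso; simp at h4
  · rw [h, h5, one_smul]
  · exfalso
    rw [h5] at h4
    exact two_ne hF (by linear_combination -h4)

variable {ι : Type} [Fintype ι] [DecidableEq ι] {d : ι → F} {f : ι → V}

theorem OF_ne_zero (hf : OF Q d f) (i : ι) : f i ≠ 0 := by
  intro h
  have := hf.nm i
  rw [h, QuadraticMap.map_zero] at this
  exact hf.ne i this.symm

theorem cubeA (hF : Fintype.card F = 3) (hf : OF Q d f) {a b c : ι} (hab : a ≠ b) (hac : a ≠ c) (hbc : b ≠ c)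
    {g : V ≃ₗ[F] V} (hg : g * g * g = 1)
    (h1 : g * sg2 (two_ne hF) hf hab = sg2 (two_ne hF) hf hab * g)
    (h3 : g * sg2 (two_ne hF) hf hac = sg2 (two_ne hF) hf hac * g) : g (f a) = f a := by
  obtain ⟨α, hα⟩ := eigA (two_ne hF) hf hab hac hbc h1 h3
  exact cube_scalar hF (OF_ne_zero hf a) hg hα

/-- the plane `⟨f a, f b⟩` with `Q (f a) = Q (f b)` -/
theorem plane (hF : Fintype.card F = 3) (hf : OF Q d f) {a b : ι} (hab : a ≠ b) (hd : d a = d b)
    {g : V ≃ₗ[F] V} (hgO : g ∈ O Q) (hg : g * g * g = 1)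
    (h1 : g * sg2 (two_ne hF) hf hab = sg2 (two_ne hF) hf hab * g) : g (f a) = f a := by
  have h2 := two_ne hF
  have hcomm : ∀ y, sg2 (two_ne hF) hf hab (g y) = g (sg2 (two_ne hF) hf hab y) := by
    intro y
    have h4 : (sg2 (two_ne hF) hf hab * g) y = (g * sg2 (two_ne hF) hf hab) y := by rw [h1]
    exact h4
  obtain ⟨r, s, hrs⟩ := sg2_neg h2 hf hab (y := g (f a)) (by rw [hcomm, sg2_left, map_neg])
  obtain ⟨r', s', hrs'⟩ := sg2_neg h2 hf hab (y := g (f b)) (by rw [hcomm, sg2_right, map_neg])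
  have hpab : polar Q (f a) (f b) = 0 := hf.orth a b hab
  have hpba : polar Q (f b) (f a) = 0 := hf.orth b a (Ne.symm hab)
  have hna : Q (r • f a + s • f b) = d a * (r * r + s * s) := by
    rw [Q_add, QuadraticMap.map_smul, QuadraticMap.map_smul, polar_smul_left, polar_smul_right, hpab, hf.nm, hf.nm,
      ← hd]
    simp only [smul_eq_mul]; ring
  have h3 : r * r + s * s = 1 := by
    have h4 := mem_O.1 hgO (f a)
    rw [hrs, hna, hf.nm] at h4
    exact mul_left_cancel₀ (hf.ne a) (by rw [h4, mul_one])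
  have h5 : r * r' + s * s' = 0 := by
    have h6 := polar_map hgO (f a) (f b)
    rw [hrs, hrs', hpab] at h6
    simp only [polar_add_left, polar_add_right, polar_smul_left, polar_smul_right, hpab, hpba, polar_self', hf.nm,
      ← hd, smul_eq_mul] at h6
    have h7 : 2 * d a * (r * r' + s * s') = 0 := by linear_combination h6
    exact (mul_eq_zero.1 h7).resolve_left (mul_ne_zero h2 (hf.ne a))
  -- `r s = 0`
  by_cases hs : s = 0
  · rw [hs, zero_smul, add_zero] at hrs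
    exact cube_scalar hF (OF_ne_zero hf a) hg hrs
  · exfalso
    have hr : r = 0 := by
      by_contra hr
      rw [mul_self_eq hF hs, mul_self_eq hF hr] at h3
      have h9 : (1 : F) = 0 := by linear_combination h3
      exact one_ne_zero h9
    rw [hr, zero_mul, zero_add] at h5
    have hs' : s' = 0 := (mul_eq_zero.1 h5).resolve_left hs
    rw [hr, zero_smul, zero_add] at hrs
    rw [hs', zero_smul, add_zero] at hrs'
    have h10 : g (g (g (f a))) = f a := by
      have := congrArg (fun l : V ≃ₗ[F] V => l (f a)) hg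
      exact this
    rw [hrs, map_smul, hrs', map_smul, map_smul, hrs] at h10
    have h11 := congrArg (fun y => polar Q (f a) y) h10
    simp only [polar_smul_right, hpab, polar_self', hf.nm, smul_zero] at h11
    exact mul_ne_zero h2 (hf.ne a) h11.symm

/-- a vector orthogonal to all but one members of a full family -/
theorem line [FiniteDimensional F V] (h2 : (2 : F) ≠ 0) (hf : OF Q d f) (hc : Fintype.card ι = finrank F V) {i₀ : ι}
    {y : V} (hy : ∀ i, i ≠ i₀ → polar Q (f i) y = 0) : ∃ α : F, y = α • f i₀ := by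
  refine ⟨(2 * d i₀)⁻¹ * polar Q (f i₀) y, ?_⟩
  rw [← sub_eq_zero]
  apply hf.eq_zero h2 hc
  intro i
  by_cases hi : i = i₀
  · subst hi
    rw [polar_sub_right, polar_smul_right, polar_self', hf.nm, smul_eq_mul]
    have := hf.ne i
    field_simp
    ring
  · rw [polar_sub_right, polar_smul_right, hy i hi, hf.orth i i₀ hi, smul_zero, sub_zero]

/-- isometries which agree on a full family -/
theorem ext_full [FiniteDimensional F V] (h2 : (2 : F) ≠ 0) (hf : OF Q d f) (hc : Fintype.card ι = finrank F V)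
    {g : V ≃ₗ[F] V} (hg : ∀ i, g (f i) = f i) (v : V) : g v = v := by
  have h1 : v - (hf.ad h2).L ((hf.ad h2).R v) = 0 := by
    apply hf.eq_zero h2 hc
    intro i
    exact OF_proj_mem h2 hf v i
  have h3 : v = (hf.ad h2).L ((hf.ad h2).R v) := sub_eq_zero.1 h1
  rw [h3, hf.L_apply h2, map_sum]
  refine Finset.sum_congr rfl fun i _ => ?_
  rw [map_smul, hg]

end

/-! ### Complements -/

section

variable [FiniteDimensional F V] {ι : Type} [Fintype ι] [DecidableEq ι] {d : ι → F} {f : ι → V}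

theorem finrank_pc (h2 : (2 : F) ≠ 0) (hf : OF Q d f) : finrank F (pc Q f) + Fintype.card ι = finrank F V := by
  have h1 := LinearMap.finrank_range_add_finrank_ker (hf.ad h2).R
  have h3 : LinearMap.range (hf.ad h2).R = ⊤ := LinearMap.range_eq_top.2 fun a => ⟨_, (hf.ad h2).RL a⟩
  have h4 : LinearMap.ker (hf.ad h2).R = pc Q f := by
    ext v
    rw [LinearMap.mem_ker, hf.R_eq_zero_iff h2]
    exact Iff.rfl
  rw [h3, finrank_top, finrank_fintype_fun_eq_card, h4] at h1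
  omega

/-- the form on a subspace -/
abbrev res (Q : QuadraticForm F V) (W : Submodule F V) : QuadraticForm F W := Q.comp W.subtype

theorem polar_res (W : Submodule F V) (u v : W) : polar (res Q W) u v = polar Q (u : V) (v : V) := rfl

theorem nondeg_res (h2 : (2 : F) ≠ 0) (hQ : Nondeg Q) (hf : OF Q d f) : Nondeg (res Q (pc Q f)) := by
  intro u hu
  apply Subtype.ext
  exact OF_pc_nondeg h2 hQ hf u.2 fun y hy => hu ⟨y, hy⟩

variable [Fintype F]

/-- the family in the complement -/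
theorem exists_compl (hF : Fintype.card F = 3) (hQ : Nondeg Q) (hf : OF Q d f) {m : ℕ} (hm : m ≤ 1)
    (hn : finrank F V = Fintype.card ι + (3 + m)) :
    ∃ (c : F) (d' : Fin 3 ⊕ Fin m → F) (f' : Fin 3 ⊕ Fin m → V), (∀ i, d' (Sum.inl i) = c) ∧ OF Q d' f' ∧
      ∀ i k, polar Q (f i) (f' k) = 0 := by
  have h2 := two_ne hF
  have hr := finrank_pc h2 hf
  have hW := nondeg_res h2 hQ hf
  have key : ∀ {c : F} {d' : Fin 3 ⊕ Fin m → F} {f' : Fin 3 ⊕ Fin m → pc Q f}, (∀ i, d' (Sum.inl i) = c) →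
      OF (res Q (pc Q f)) d' f' → ∃ (c : F) (d' : Fin 3 ⊕ Fin m → F) (f' : Fin 3 ⊕ Fin m → V),
        (∀ i, d' (Sum.inl i) = c) ∧ OF Q d' f' ∧ ∀ i k, polar Q (f i) (f' k) = 0 := by
    intro c d' f' h1 h3
    exact ⟨c, d', fun k => (f' k : V), h1, ⟨fun i => h3.nm i, h3.ne, fun i j hij => h3.orth i j hij⟩,
      fun i k => (f' k).2 i⟩
  have hcard : Fintype.card (Fin 3 ⊕ Fin m) = finrank F (pc Q f) := by
    rw [Fintype.card_sum, Fintype.card_fin, Fintype.card_fin]; omega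
  rcases Nat.le_one_iff_eq_zero_or_eq_one.1 hm with rfl | rfl
  · obtain ⟨c, _, f', h3⟩ := exists_OF_const hF hW hcard (by
      rw [Fintype.card_sum, Fintype.card_fin, Fintype.card_fin]; decide)
    exact key (fun _ => rfl) h3
  · obtain ⟨c, _, f', h3⟩ := exists_OF_one h2 hW hcard (Sum.inr 0)
    exact key (c := 1) (fun i => by simp) h3

end

end Cfsg.Agent.OddHalf.NI3.Bad.Frame
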