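import Cfsg.Agent.OddHalf.NI3.Sn
import Cfsg.Agent.Cit.SLThreeComm

/-!
# THEOREM NIB, K-free tools: 2-groups `S` with `[S, v] ≤ Q` (helper598)

`J = Q⟨v⟩ ≅ SL₂(3)` in coordinates (`Cit.SLThree.Sl J z i j v`, `Q = ⟨i, j⟩`), `S` a 2-group containing `Q`,
`Br S i j v` : `[S, v] ≤ Q`.

* `Br.comm_iff` : `C_S(v) = C_S(Q)`; `Br.decomp` : `S = Q C_S(Q)`; `Br.inner` : `S` acts on `Q` by inner automorphisms;
* `Br.comm_mem` : `[g, v] ∈ S` implies `[g, v] ∈ Q`;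
* `br_of_sn` : `J` subnormal in `C ≥ S` implies `Br S`.
-/

set_option autoImplicit false
set_option linter.unusedSimpArgs false

namespace Cfsg.Agent.OddHalf.NI3.Bad

open Subgroup Cfsg Cfsg.Agent.Cit Cfsg.Agent.Cit.SLThree

variable {H : Type*} [Group H]

/-- `[S, v] ≤ ⟨i, j⟩` -/
def Br (S : Subgroup H) (i j v : H) : Prop := ∀ s ∈ S, v * s * v⁻¹ * s⁻¹ ∈ closure ({i, j} : Set H)

section Elem

variable {J : Subgroup H} {z i j v : H}

/-- if a power `v ^ 2 ^ n` of an element of order 3 commutes with `x`, so does `v` -/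
theorem comm_of_two_pow {v x : H} (hv : v * v * v = 1) {n : ℕ} (h : v ^ 2 ^ n * x = x * v ^ 2 ^ n) :
    v * x = x * v := by
  have h3 : v ^ 3 = 1 := by rw [pow_succ, pow_two]; exact hv
  have h4 : ∃ k : ℕ, v = (v ^ 2 ^ n) ^ k := by
    have hc : Nat.Coprime (2 ^ n) 3 := Nat.Coprime.pow_left n (by norm_num)
    obtain ⟨k, hk⟩ := Nat.exists_mul_mod_eq_one_of_coprime hc (by norm_num)
    refine ⟨k, ?_⟩
    rw [← pow_mul]
    have h5 : 2 ^ n * k = 3 * (2 ^ n * k / 3) + 1 := by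
      have := Nat.div_add_mod (2 ^ n * k) 3
      omega
    rw [h5, pow_succ, pow_mul, h3, one_pow, one_mul]
  obtain ⟨k, hk⟩ := h4
  rw [hk]
  have : Commute (v ^ 2 ^ n) x := h
  exact (this.pow_left k)

/-- an element of 2-power order which commutes with `v` and normalises `Q` centralises `Q` -/
theorem comm_i_of_comm_v (h : Sl J z i j v) {c : H} {n : ℕ} (hn : c ^ 2 ^ n = 1) (hc : v * c = c * v)
    (hcc : v * (c * i * c⁻¹) * v⁻¹ * (c * i * c⁻¹)⁻¹ ∈ closure ({i, j} : Set H)) : c * i = i * c := by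
  have hcv : v * c * v⁻¹ = c := by rw [hc]; group
  have hvc : c * v * c⁻¹ = v := by rw [← hc]; group
  have hvc' : c * v⁻¹ * c⁻¹ = v⁻¹ := by
    have : c * v⁻¹ * c⁻¹ = (c * v * c⁻¹)⁻¹ := by group
    rw [this, hvc]
  have tr : ∀ y, c * (v * y * v⁻¹) * c⁻¹ = v * (c * y * c⁻¹) * v⁻¹ := by
    intro y
    calc c * (v * y * v⁻¹) * c⁻¹ = (c * v * c⁻¹) * (c * y * c⁻¹) * (c * v⁻¹ * c⁻¹) := by group
      _ = v * (c * y * c⁻¹) * v⁻¹ := by rw [hvc, hvc']
  have e1 : v * (c * i * c⁻¹) * v⁻¹ * (c * i * c⁻¹)⁻¹ = c * (i * j) * c⁻¹ := by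
    rw [← tr, h.di]
    have h2 : j * i⁻¹ = i * j := by
      rw [h.q.i_inv]
      simp only [mul_assoc, one_mul, mul_one, h.q.z2, h.q.zz, h.q.iz, h.q.jz, h.q.izx, h.q.jzx, h.q.i2, h.q.j2, h.q.iix,
        h.q.jjx, h.q.ji, h.q.jix]
    calc c * j * c⁻¹ * (c * i * c⁻¹)⁻¹ = c * (j * i⁻¹) * c⁻¹ := by group
      _ = c * (i * j) * c⁻¹ := by rw [h2]
  rw [e1] at hcc
  have hx : c * i * c⁻¹ ∈ closure ({i, j} : Set H) := by
    have h1 := h.conj_mem hcc
    rw [← tr, h.dij] at h1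
    exact h1
  have ej : c * j * c⁻¹ = v * (c * i * c⁻¹) * v⁻¹ := by rw [← tr, h.di]
  have ek : c * (i * j) * c⁻¹ = v * (v * (c * i * c⁻¹) * v⁻¹) * v⁻¹ := by rw [← ej, ← tr, h.dj]
  have rel : (c * i * c⁻¹) * (v * (c * i * c⁻¹) * v⁻¹) = v * (v * (c * i * c⁻¹) * v⁻¹) * v⁻¹ := by
    rw [← ek, ← ej]; group
  have dz : v * z * v⁻¹ = z := by rw [h.dz]; group
  have dzx : ∀ w, v * (z * w) * v⁻¹ = z * (v * w * v⁻¹) := fun w => by
    rw [← mul_assoc, h.dz]; group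
  have h3 : v ^ 3 = 1 := by rw [pow_succ, pow_two]; exact h.d3
  -- an element `u = v ^ e c` commuting with `i` is impossible
  have kill : ∀ e : ℤ, (e = 1 ∨ e = -1) → v ^ e * c * i = i * (v ^ e * c) → c * i = i * c := by
    intro e he hu
    exfalso
    have hcm : Commute v c := hc
    have h5 : Commute (v ^ e * c) i := hu
    have h6 := h5.pow_left (2 ^ n)
    have h7 : (v ^ e * c) ^ 2 ^ n = (v ^ e) ^ 2 ^ n := by
      rw [(hcm.zpow_left e).mul_pow, hn, mul_one]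
    rw [h7] at h6
    have h8 : v ^ e * i = i * v ^ e := by
      refine comm_of_two_pow (n := n) ?_ h6
      rw [← pow_two, ← pow_succ, ← zpow_natCast, ← zpow_mul, mul_comm, zpow_mul, zpow_natCast, h3, one_zpow]
    have h9 : v * i = i * v := by
      rcases he with rfl | rfl
      · rwa [zpow_one] at h8
      · rw [zpow_neg_one] at h8
        calc v * i = v * (i * v⁻¹) * v := by group
          _ = v * (v⁻¹ * i) * v := by rw [h8]
          _ = i * v := by group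
    have h10 : j = i := by rw [← h.di, h9]; group
    exact h.q.not_comm (by rw [h10])
  have hz1 := h.q.z1
  have nz : ∀ w : H, w ≠ z * w := fun w hw => hz1 (mul_right_cancel (b := w) (by rw [one_mul]; exact hw.symm))
  rcases h.q.mem_cases hx with hx | hx | hx | hx | hx | hx | hx | hx <;> rw [hx] at rel
  · exfalso
    apply h.q.i_ne
    have : i = c⁻¹ * (c * i * c⁻¹) * c := by group
    rw [this, hx]; group
  · exfalso
    rw [dz, dz, h.q.z2] at rel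
    exact hz1 rel.symm
  · exact mul_inv_eq_iff_eq_mul.1 hx
  · exfalso
    rw [dzx, h.di, dzx, h.dj] at rel
    refine nz (i * j) ?_
    rw [← rel]
    simp only [mul_assoc, one_mul, mul_one, h.q.z2, h.q.zz, h.q.iz, h.q.jz, h.q.izx, h.q.jzx, h.q.i2, h.q.j2, h.q.iix,
        h.q.jjx, h.q.ji, h.q.jix]
  · refine kill (-1) (Or.inr rfl) ?_
    rw [zpow_neg_one]
    have h5 : c * i = j * c := mul_inv_eq_iff_eq_mul.1 hx
    calc v⁻¹ * c * i = v⁻¹ * (j * c) := by rw [mul_assoc, h5]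
      _ = v⁻¹ * (v * i * v⁻¹) * c := by rw [h.di]; group
      _ = i * (v⁻¹ * c) := by group
  · exfalso
    rw [dzx, h.dj, dzx, h.dij] at rel
    refine nz i ?_
    rw [← rel]
    simp only [mul_assoc, one_mul, mul_one, h.q.z2, h.q.zz, h.q.iz, h.q.jz, h.q.izx, h.q.jzx, h.q.i2, h.q.j2, h.q.iix,
        h.q.jjx, h.q.ji, h.q.jix]
  · refine kill 1 (Or.inl rfl) ?_
    rw [zpow_one]
    have h5 : c * i = i * j * c := mul_inv_eq_iff_eq_mul.1 hx
    calc v * c * i = v * (i * j * c) := by rw [mul_assoc, h5]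
      _ = (v * (i * j) * v⁻¹) * (v * c) := by group
      _ = i * (v * c) := by rw [h.dij]
  · exfalso
    rw [dzx, h.dij, dzx, h.di] at rel
    refine nz j ?_
    rw [← rel]
    simp only [mul_assoc, one_mul, mul_one, h.q.z2, h.q.zz, h.q.iz, h.q.jz, h.q.izx, h.q.jzx, h.q.i2, h.q.j2, h.q.iix,
        h.q.jjx, h.q.ji, h.q.jix]

/-- `x ∈ Q` with `N(x) = 1` is a commutator `(v q v⁻¹) q⁻¹` -/
theorem exists_comm (h : Sl J z i j v) {x : H} (hx : x ∈ closure ({i, j} : Set H))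
    (hN : (v * (v * x * v⁻¹) * v⁻¹) * (v * x * v⁻¹) * x = 1) :
    ∃ q ∈ closure ({i, j} : Set H), x = (v * q * v⁻¹) * q⁻¹ := by
  have dz : v * z * v⁻¹ = z := by rw [h.dz]; group
  have dzx : ∀ w, v * (z * w) * v⁻¹ = z * (v * w * v⁻¹) := fun w => by
    rw [← mul_assoc, h.dz]; group
  have hz1 := h.q.z1
  rcases h.q.mem_cases hx with rfl | rfl | rfl | rfl | rfl | rfl | rfl | rfl
  · exact ⟨1, one_mem _, by group⟩
  · exfalso
    rw [dz, dz, h.q.z2, one_mul] at hN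
    exact hz1 hN
  · refine ⟨j, Qt.mem_j z _ _, ?_⟩
    rw [h.dj]; group
  · exfalso
    rw [dzx, h.di, dzx, h.dj] at hN
    simp only [mul_assoc, one_mul, mul_one, h.q.z2, h.q.zz, h.q.iz, h.q.jz, h.q.izx, h.q.jzx, h.q.i2, h.q.j2, h.q.iix,
        h.q.jjx, h.q.ji, h.q.jix] at hN
    exact hz1 hN
  · refine ⟨i * x, mul_mem (Qt.mem_i z _ _) (Qt.mem_j z _ _), ?_⟩
    rw [h.dij]
    simp only [mul_inv_rev, h.q.i_inv, h.q.j_inv, mul_assoc, one_mul, mul_one, h.q.z2, h.q.zz, h.q.iz, h.q.jz, h.q.izx,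
      h.q.jzx, h.q.i2, h.q.j2, h.q.iix, h.q.jjx, h.q.ji, h.q.jix]
  · exfalso
    rw [dzx, h.dj, dzx, h.dij] at hN
    simp only [mul_assoc, one_mul, mul_one, h.q.z2, h.q.zz, h.q.iz, h.q.jz, h.q.izx, h.q.jzx, h.q.i2, h.q.j2, h.q.iix,
        h.q.jjx, h.q.ji, h.q.jix] at hN
    exact hz1 hN
  · refine ⟨i, Qt.mem_i z _ _, ?_⟩
    rw [h.di]
    simp only [mul_inv_rev, h.q.i_inv, h.q.j_inv, mul_assoc, one_mul, mul_one, h.q.z2, h.q.zz, h.q.iz, h.q.jz, h.q.izx,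
      h.q.jzx, h.q.i2, h.q.j2, h.q.iix, h.q.jjx, h.q.ji, h.q.jix]
  · exfalso
    rw [dzx, h.dij, dzx, h.di] at hN
    simp only [mul_assoc, one_mul, mul_one, h.q.z2, h.q.zz, h.q.iz, h.q.jz, h.q.izx, h.q.jzx, h.q.i2, h.q.j2, h.q.iix,
        h.q.jjx, h.q.ji, h.q.jix] at hN
    exact hz1 hN

/-- conjugation by elements of `Q` on `Q` -/
theorem q_conj (h : Qt z i j) {q w : H} (hq : q ∈ closure ({i, j} : Set H)) (hw : w ∈ closure ({i, j} : Set H)) :
    q * w * q⁻¹ = w ∨ q * w * q⁻¹ = z * w := by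
  rcases h.mem_cases hq with rfl | rfl | rfl | rfl | rfl | rfl | rfl | rfl <;>
  rcases h.mem_cases hw with rfl | rfl | rfl | rfl | rfl | rfl | rfl | rfl <;>
  simp only [mul_inv_rev, h.z_inv, h.i_inv, h.j_inv, inv_one,
    mul_assoc, one_mul, mul_one, h.z2, h.zz, h.iz, h.jz, h.izx, h.jzx, h.i2, h.j2,
    h.iix, h.jjx, h.ji, h.jix, true_or, or_true]

end Elem

/-! ### `[S, v] ≤ Q` -/

section Br

variable {J : Subgroup H} {z i j v : H} (h : Sl J z i j v) {S : Subgroup H}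

include h

/-- one element: `g = q c` with `c` commuting with `v` -/
theorem exists_mul_of_mem {g : H} (hg : v * g * v⁻¹ * g⁻¹ ∈ closure ({i, j} : Set H)) :
    ∃ q ∈ closure ({i, j} : Set H), ∃ c, g = q * c ∧ v * c = c * v := by
  have h3 : v * v * v = 1 := h.d3
  obtain ⟨q, hq, hx⟩ := exists_comm h hg (by
    calc (v * (v * (v * g * v⁻¹ * g⁻¹) * v⁻¹) * v⁻¹) * (v * (v * g * v⁻¹ * g⁻¹) * v⁻¹) * (v * g * v⁻¹ * g⁻¹)
        = (v * v * v) * g * (v * v * v)⁻¹ * g⁻¹ := by group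
      _ = 1 := by rw [h3]; group)
  refine ⟨q, hq, q⁻¹ * g, by group, ?_⟩
  have h4 : v * g * v⁻¹ = v * q * v⁻¹ * q⁻¹ * g := by rw [← hx]; group
  calc v * (q⁻¹ * g) = (v * q⁻¹ * v⁻¹) * (v * g * v⁻¹) * v := by group
    _ = (v * q⁻¹ * v⁻¹) * (v * q * v⁻¹ * q⁻¹ * g) * v := by rw [h4]
    _ = q⁻¹ * g * v := by group

/-- `C_S(v) = C_S(Q)` -/
theorem comm_of_comm_v (hS : IsPGroup 2 S) (hQ : closure ({i, j} : Set H) ≤ S) (hB : Br S i j v) {c : H} (hc : c ∈ S)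
    (hv : v * c = c * v) : ∀ q ∈ closure ({i, j} : Set H), c * q = q * c := by
  obtain ⟨n, hn⟩ := hS ⟨c, hc⟩
  have hn' : c ^ 2 ^ n = 1 := by simpa using congrArg Subtype.val hn
  have hi : c * i = i * c := comm_i_of_comm_v h hn' hv
    (hB _ (mul_mem (mul_mem hc (hQ (Qt.mem_i z i j))) (inv_mem hc)))
  have hj : c * j = j * c := by
    rw [← h.di]
    calc c * (v * i * v⁻¹) = (c * v) * i * v⁻¹ := by group
      _ = (v * c) * i * v⁻¹ := by rw [hv]
      _ = v * (c * i) * v⁻¹ := by group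
      _ = v * i * (c * v⁻¹) := by rw [hi]; group
      _ = v * i * (v⁻¹ * (v * c) * v⁻¹) := by group
      _ = v * i * (v⁻¹ * (c * v) * v⁻¹) := by rw [hv]
      _ = v * i * v⁻¹ * c := by group
  intro q hq
  have h1 : closure ({i, j} : Set H) ≤ centralizer {c} := by
    rw [closure_le]
    rintro x (rfl | rfl)
    · exact mem_centralizer_singleton_iff.2 hi.symm
    · exact mem_centralizer_singleton_iff.2 hj.symm
  exact (mem_centralizer_singleton_iff.1 (h1 hq)).symm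

theorem comm_v_of_comm (hB : Br S i j v) {c : H} (hc : c ∈ S)
    (hcQ : ∀ q ∈ closure ({i, j} : Set H), c * q = q * c) : v * c = c * v := by
  have hx := hB c hc
  set x := v * c * v⁻¹ * c⁻¹ with hxd
  have h1 : ∀ q ∈ closure ({i, j} : Set H), x * q = q * x := by
    intro q hq
    have hq' : v⁻¹ * q * v ∈ closure ({i, j} : Set H) := by
      have := h.conj_mem (h.conj_mem hq)
      have e : v * (v * q * v⁻¹) * v⁻¹ = v⁻¹ * q * v := by
        have h4 : v * v = v⁻¹ := h.d_inv.symm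
        have h5 : v⁻¹ * v⁻¹ = v := by rw [← mul_inv_rev, h4, inv_inv]
        calc v * (v * q * v⁻¹) * v⁻¹ = (v * v) * q * (v⁻¹ * v⁻¹) := by group
          _ = v⁻¹ * q * v := by rw [h4, h5]
      rwa [e] at this
    have e1 : (v * c * v⁻¹) * q = q * (v * c * v⁻¹) := by
      calc (v * c * v⁻¹) * q = v * (c * (v⁻¹ * q * v)) * v⁻¹ := by group
        _ = v * ((v⁻¹ * q * v) * c) * v⁻¹ := by rw [hcQ _ hq']
        _ = q * (v * c * v⁻¹) := by group
    have e2 : c⁻¹ * q = q * c⁻¹ := by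
      calc c⁻¹ * q = c⁻¹ * (q * c) * c⁻¹ := by group
        _ = c⁻¹ * (c * q) * c⁻¹ := by rw [hcQ q hq]
        _ = q * c⁻¹ := by group
    calc x * q = (v * c * v⁻¹) * (c⁻¹ * q) := by rw [hxd]; group
      _ = (v * c * v⁻¹) * q * c⁻¹ := by rw [e2]; group
      _ = q * x := by rw [e1, hxd]; group
  rcases h.q.central hx (h1 i (Qt.mem_i z i j)) (h1 j (Qt.mem_j z i j)) with h2 | h2
  · exact mul_inv_eq_iff_eq_mul.1 (mul_inv_eq_one.1 h2)
  · exfalso
    have h4 : v * c * v⁻¹ = z * c := by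
      rw [← h2, hxd]; group
    have dz : v * z * v⁻¹ = z := by rw [h.dz]; group
    have h5 : c = z * c := by
      have h3 : v * v * v = 1 := h.d3
      calc c = (v * v * v) * c * (v * v * v)⁻¹ := by rw [h3]; group
        _ = v * (v * (v * c * v⁻¹) * v⁻¹) * v⁻¹ := by group
        _ = v * (v * (z * c) * v⁻¹) * v⁻¹ := by rw [h4]
        _ = v * ((v * z * v⁻¹) * (v * c * v⁻¹)) * v⁻¹ := by group
        _ = v * (z * (z * c)) * v⁻¹ := by rw [dz, h4]
        _ = v * c * v⁻¹ := by rw [h.q.zz]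
        _ = z * c := h4
    exact h.q.z1 (mul_right_cancel (b := c) (by rw [one_mul]; exact h5.symm))

theorem comm_iff (hS : IsPGroup 2 S) (hQ : closure ({i, j} : Set H) ≤ S) (hB : Br S i j v) {c : H} (hc : c ∈ S) :
    v * c = c * v ↔ ∀ q ∈ closure ({i, j} : Set H), c * q = q * c :=
  ⟨comm_of_comm_v h hS hQ hB hc, comm_v_of_comm h hB hc⟩

/-- `S = Q C_S(Q)` -/
theorem decomp (hS : IsPGroup 2 S) (hQ : closure ({i, j} : Set H) ≤ S) (hB : Br S i j v) {s : H} (hs : s ∈ S) :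
    ∃ q ∈ closure ({i, j} : Set H), ∃ c ∈ S, s = q * c ∧ v * c = c * v ∧
      ∀ q ∈ closure ({i, j} : Set H), c * q = q * c := by
  obtain ⟨q, hq, c, hsc, hvc⟩ := exists_mul_of_mem h (hB s hs)
  have hc : c ∈ S := by
    have : c = q⁻¹ * s := by rw [hsc]; group
    rw [this]; exact mul_mem (inv_mem (hQ hq)) hs
  exact ⟨q, hq, c, hc, hsc, hvc, comm_of_comm_v h hS hQ hB hc hvc⟩

/-- `S` acts on `Q` by inner automorphisms -/
theorem inner (hS : IsPGroup 2 S) (hQ : closure ({i, j} : Set H) ≤ S) (hB : Br S i j v) {s : H} (hs : s ∈ S)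
    {q : H} (hq : q ∈ closure ({i, j} : Set H)) : s * q * s⁻¹ = q ∨ s * q * s⁻¹ = z * q := by
  obtain ⟨r, hr, c, -, rfl, -, hc⟩ := decomp h hS hQ hB hs
  have e : r * c * q * (r * c)⁻¹ = r * q * r⁻¹ := by
    calc r * c * q * (r * c)⁻¹ = r * (c * q) * c⁻¹ * r⁻¹ := by group
      _ = r * q * r⁻¹ := by rw [hc q hq]; group
  rw [e]
  exact q_conj h.q hr hq

/-- `[g, v] ∈ S` implies `[g, v] ∈ Q` -/
theorem comm_mem (hS : IsPGroup 2 S) (hQ : closure ({i, j} : Set H) ≤ S) (hB : Br S i j v) {g : H}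
    (hg : v * g * v⁻¹ * g⁻¹ ∈ S) : v * g * v⁻¹ * g⁻¹ ∈ closure ({i, j} : Set H) := by
  obtain ⟨q, hq, c, hc, hy, hvc, hcQ⟩ := decomp h hS hQ hB hg
  have h3 : v * v * v = 1 := h.d3
  have hN : (v * (v * (v * g * v⁻¹ * g⁻¹) * v⁻¹) * v⁻¹) * (v * (v * g * v⁻¹ * g⁻¹) * v⁻¹) * (v * g * v⁻¹ * g⁻¹) = 1 := by
    calc (v * (v * (v * g * v⁻¹ * g⁻¹) * v⁻¹) * v⁻¹) * (v * (v * g * v⁻¹ * g⁻¹) * v⁻¹) * (v * g * v⁻¹ * g⁻¹)
        = (v * v * v) * g * (v * v * v)⁻¹ * g⁻¹ := by group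
      _ = 1 := by rw [h3]; group
  rw [hy] at hN ⊢
  have hvc' : v * c * v⁻¹ = c := by rw [hvc]; group
  have e1 : v * (q * c) * v⁻¹ = (v * q * v⁻¹) * c := by
    calc v * (q * c) * v⁻¹ = (v * q * v⁻¹) * (v * c * v⁻¹) := by group
      _ = (v * q * v⁻¹) * c := by rw [hvc']
  have e2 : v * ((v * q * v⁻¹) * c) * v⁻¹ = (v * (v * q * v⁻¹) * v⁻¹) * c := by
    calc v * ((v * q * v⁻¹) * c) * v⁻¹ = (v * (v * q * v⁻¹) * v⁻¹) * (v * c * v⁻¹) := by group
      _ = (v * (v * q * v⁻¹) * v⁻¹) * c := by rw [hvc']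
  rw [e1, e2] at hN
  have hq1 := h.conj_mem hq
  have hq2 := h.conj_mem hq1
  have e3 : (v * (v * q * v⁻¹) * v⁻¹) * c * ((v * q * v⁻¹) * c) * (q * c) =
      (v * (v * q * v⁻¹) * v⁻¹) * (v * q * v⁻¹) * q * (c * c * c) := by
    calc (v * (v * q * v⁻¹) * v⁻¹) * c * ((v * q * v⁻¹) * c) * (q * c)
        = (v * (v * q * v⁻¹) * v⁻¹) * (c * (v * q * v⁻¹)) * (c * q) * c := by group
      _ = (v * (v * q * v⁻¹) * v⁻¹) * ((v * q * v⁻¹) * c) * (q * c) * c := by rw [hcQ _ hq1, hcQ q hq]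
      _ = (v * (v * q * v⁻¹) * v⁻¹) * (v * q * v⁻¹) * (c * q) * c * c := by group
      _ = (v * (v * q * v⁻¹) * v⁻¹) * (v * q * v⁻¹) * (q * c) * c * c := by rw [hcQ q hq]
      _ = (v * (v * q * v⁻¹) * v⁻¹) * (v * q * v⁻¹) * q * (c * c * c) := by group
  rw [e3] at hN
  have h4 : c * c * c ∈ closure ({i, j} : Set H) := by
    have : c * c * c = ((v * (v * q * v⁻¹) * v⁻¹) * (v * q * v⁻¹) * q)⁻¹ := by
      rw [eq_comm, inv_eq_iff_mul_eq_one]; exact hN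
    rw [this]
    exact inv_mem (mul_mem (mul_mem hq2 hq1) hq)
  have h5 : c ∈ closure ({i, j} : Set H) := by
    obtain ⟨n, hn⟩ := hS ⟨c, hc⟩
    have hn' : c ^ 2 ^ n = 1 := by simpa using congrArg Subtype.val hn
    have hcop : Nat.Coprime 3 (2 ^ n) := Nat.Coprime.pow_right n (by norm_num)
    rcases Nat.eq_zero_or_pos n with rfl | hn0
    · rw [pow_zero, pow_one] at hn'
      rw [hn']; exact one_mem _
    · obtain ⟨k, hk⟩ := Nat.exists_mul_mod_eq_one_of_coprime hcop (Nat.one_lt_two_pow hn0.ne')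
      have h6 : 3 * k = 2 ^ n * (3 * k / 2 ^ n) + 1 := by
        have := Nat.div_add_mod (3 * k) (2 ^ n)
        omega
      have h7 : c = (c * c * c) ^ k := by
        have : c * c * c = c ^ 3 := by rw [pow_succ, pow_two]
        rw [this, ← pow_mul, h6, pow_succ, pow_mul, hn', one_pow, one_mul]
      rw [h7]
      exact pow_mem h4 k
  exact mul_mem hq h5

omit h in
theorem Br.mono {i j v : H} {S S' : Subgroup H} (hB : Br S i j v) (h : S' ≤ S) : Br S' i j v := fun s hs => hB s (h hs)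

omit h in
theorem Br.cj {i j v : H} {S : Subgroup H} (hB : Br S i j v) {m : H} (hm : Cit.cj m S = S) :
    Br S (m * i * m⁻¹) (m * j * m⁻¹) (m * v * m⁻¹) := by
  intro s hs
  rw [← hm] at hs
  obtain ⟨t, ht, rfl⟩ := hs
  have h1 := hB t ht
  have e : m * v * m⁻¹ * (m * t * m⁻¹) * (m * v * m⁻¹)⁻¹ * (m * t * m⁻¹)⁻¹ = m * (v * t * v⁻¹ * t⁻¹) * m⁻¹ := by group
  change m * v * m⁻¹ * (m * t * m⁻¹) * (m * v * m⁻¹)⁻¹ * (m * t * m⁻¹)⁻¹ ∈ _
  rw [e]
  have h2 : closure ({i, j} : Set H) ≤ (closure ({m * i * m⁻¹, m * j * m⁻¹} : Set H)).comap (MulAut.conj m).toMonoidHom := by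
    rw [closure_le]
    rintro x (rfl | rfl)
    · exact subset_closure (by simp)
    · exact subset_closure (by simp)
  exact h2 h1

end Br

/-- `J` subnormal in `C ≥ S` : `[S, v] ≤ Q` -/
theorem br_of_sn [Finite H] {J C S : Subgroup H} {z i j v : H} (h : Sl J z i j v) (hs : Sn J C) (hSC : S ≤ C)
    (hS : IsPGroup 2 S) (hn : J ≤ normalizer (S : Set H)) (hQ : closure ({i, j} : Set H) ≤ S) : Br S i j v := by
  intro s hs'
  have h1 : Sn J (J ⊔ S) := hs.restrict (sup_le hs.1 hSC) le_sup_left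
  have h2 : s * v⁻¹ * s⁻¹ ∈ J := by
    refine mem_of_sup h1 hS hn ?_ ?_
    · exact mul_mem (mul_mem (mem_sup_right hs') (mem_sup_left (inv_mem h.hd))) (inv_mem (mem_sup_right hs'))
    · have h4 : orderOf (s * v⁻¹ * s⁻¹) = orderOf v⁻¹ := by
        have := orderOf_injective (MulAut.conj s).toMonoidHom (MulAut.conj s).injective v⁻¹
        simpa using this
      rw [h4, orderOf_inv]
      exact odd_of_cube h.d3
  have e : v * s * v⁻¹ * s⁻¹ = v * (s * v⁻¹ * s⁻¹) := by group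
  refine h.mem_Q ?_ hS hQ ?_
  · rw [e]; exact mul_mem h.hd h2
  · have h5 : v * s * v⁻¹ ∈ S := (mem_normalizer_iff.1 (hn h.hd) s).1 hs'
    exact mul_mem h5 (inv_mem hs')

end Cfsg.Agent.OddHalf.NI3.Bad
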