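import Cfsg.Agent.OddHalf.NI3.Bad.TriM24

/-!
# Intertwiners in `M24`: certificates

`mem_of_int`: an element `g` of `M24` with `g D_k = D'_k g` (and admissible values at the roots) is one of the elements
packed in `good`. `max_nrm`, `goodCls'` : as `TriM24.max_cls`, `TriM24.goodCls`, with all automorphisms of the 2-group.
-/

set_option autoImplicit false

namespace Cfsg.Agent.OddHalf.NI3.IntM24

open Subgroup Cfsg Cfsg.Agent.SporadicA.GolayBase Cfsg.Agent.SporadicA.GolayPerm
open Cfsg.Agent.SporadicStructure.M24El Cfsg.Agent.KFacts.MM Cfsg.Agent.OddHalf.D4.M22.CenCert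
open Cfsg.Agent.OddHalf.NI3.ExTri Cfsg.Agent.OddHalf.NI3.TriM24

theorem getD_int {D D' : List ℕ} {g : Equiv.Perm GolayPt}
    (h : List.Forall₂ (fun P P' => g * El.pm P = El.pm P' * g) D D') (k : ℕ) :
    g * El.pm (D.getD k idP) = El.pm (D'.getD k idP) * g :=
  forall_getD (R := fun P P' => g * El.pm P = El.pm P' * g) h (by rw [pm_idP]; group) k

theorem int_wd {D D' : List ℕ} {g : Equiv.Perm GolayPt}
    (h : List.Forall₂ (fun P P' => g * El.pm P = El.pm P' * g) D D') (w : List ℕ) :
    g * El.pr (wd D w) = El.pr (wd D' w) * g := by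
  induction w with
  | nil => simp [wd, El.pr_nil]
  | cons k w ih =>
    have h1 : wd D (k :: w) = D.getD k idP :: wd D w := rfl
    have h2 : wd D' (k :: w) = D'.getD k idP :: wd D' w := rfl
    rw [h1, h2, El.pr_cons, El.pr_cons, ← mul_assoc, getD_int h, mul_assoc, ih, mul_assoc]

theorem val_int {D D' : List ℕ} (hD : ∀ P ∈ D, isPerm P = true) (hD' : ∀ P ∈ D', isPerm P = true)
    {g : Equiv.Perm GolayPt} (h : List.Forall₂ (fun P P' => g * El.pm P = El.pm P' * g) D D') (w : List ℕ)
    {i : ℕ} (hi : i < 24) : El.val g (El.ev (wd D w) i) = El.ev (wd D' w) (El.val g i) := by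
  rw [← El.val_pr (okl_wd' hD w) hi, ← El.val_pr (okl_wd' hD' w) (El.val_lt g i), ← El.val_mul,
    ← El.val_mul, int_wd h]

/-- the candidates for the image of the root `r` -/
def cand (D D' : List ℕ) (adm : ℕ → ℕ → Bool) (W : List (List ℕ)) (r : ℕ) : List ℕ :=
  El.pts.filter fun a => adm r a && W.all fun w =>
    Nat.beq (El.ev (wd D w) r) r == Nat.beq (El.ev (wd D' w) a) a

/-- the tree -/
def chkTr (D : List ℕ) (roots : List ℕ) (T : List (ℕ × List ℕ)) : Bool :=
  Nat.beq T.length 24 && (roots.all fun r => Nat.blt r 24) && El.pts.all fun i =>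
    Nat.blt (T.getD i (0, [])).1 roots.length &&
    Nat.beq (El.ev (wd D (T.getD i (0, [])).2) (roots.getD (T.getD i (0, [])).1 0)) i

/-- all candidates are in `good` -/
def chkI (D D' : List ℕ) (adm : ℕ → ℕ → Bool) (roots : List ℕ) (T : List (ℕ × List ℕ)) (W : List (List ℕ))
    (good : List ℕ) : Bool :=
  (D.all isPerm) && (D'.all isPerm) && chkTr D roots T &&
    (combos (roots.map fun r => cand D D' adm W r)).all fun c => !(ok (mk D' T c)) || good.contains (mk D' T c)

theorem mem_of_int {D D' : List ℕ} {adm : ℕ → ℕ → Bool} {roots : List ℕ} {T : List (ℕ × List ℕ)}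
    {W : List (List ℕ)} {good : List ℕ} (h : chkI D D' adm roots T W good = true) {g : Equiv.Perm GolayPt}
    (hg : g ∈ M24) (hadm : ∀ j < 24, adm j (El.val g j) = true)
    (hc : List.Forall₂ (fun P P' => g * El.pm P = El.pm P' * g) D D') : ∃ Q ∈ good, g = El.pm Q := by
  unfold chkI chkTr at h
  rw [Bool.and_eq_true, Bool.and_eq_true, Bool.and_eq_true, Bool.and_eq_true, Bool.and_eq_true, List.all_eq_true,
    List.all_eq_true, List.all_eq_true, List.all_eq_true, Nat.beq_eq] at h
  obtain ⟨⟨⟨hD, hD'⟩, ⟨⟨hlen, hlt0⟩, h2⟩⟩, h3⟩ := h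
  rw [List.all_eq_true] at h3
  have hlt : ∀ r ∈ roots, r < 24 := by
    intro r hr
    have := hlt0 r hr
    rwa [Nat.blt_eq] at this
  -- the values at the roots
  have hroot : ∀ r ∈ roots, El.val g r ∈ cand D D' adm W r := by
    intro r hr
    have hr' := hlt r hr
    unfold cand
    rw [List.mem_filter]
    refine ⟨El.mem_pts (El.val_lt g r), ?_⟩
    rw [hadm r hr', Bool.true_and, List.all_eq_true]
    intro w _
    rw [beq_iff_eq, Bool.eq_iff_iff, Nat.beq_eq, Nat.beq_eq, ← val_int hD hD' hc w hr']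
    constructor
    · intro e; rw [e]
    · intro e
      apply El.val_inj (g := g) _ hr' e
      rw [← El.val_pr (okl_wd' hD w) hr']
      exact El.val_lt _ _
  have hcomb : (roots.map fun r => El.val g r) ∈ combos (roots.map fun r => cand D D' adm W r) := by
    apply mem_combos
    rw [List.forall₂_map_left_iff, List.forall₂_map_right_iff, List.forall₂_same]
    exact hroot
  have h4 := h3 _ hcomb
  -- the values
  have hget : ∀ {k : ℕ}, k < roots.length →
      (roots.map fun r => El.val g r).getD k 0 = El.val g (roots.getD k 0) := by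
    intro k hk
    rw [List.getD_eq_getElem?_getD, List.getD_eq_getElem?_getD, List.getElem?_map,
      List.getElem?_eq_getElem hk]
    rfl
  have hrlt : ∀ {k : ℕ}, k < roots.length → roots.getD k 0 < 24 := by
    intro k hk
    rw [List.getD_eq_getElem?_getD, List.getElem?_eq_getElem hk, Option.getD_some]
    exact hlt _ (List.getElem_mem hk)
  set c := roots.map fun r => El.val g r with hcdef
  set l := T.map fun t => El.ev (wd D' t.2) (c.getD t.1 0) with hl
  have hTi : ∀ i < 24, l.getD i 0 = El.val g i := by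
    intro i hi
    have hiT : i < T.length := by rw [hlen]; exact hi
    have h5 := h2 i (El.mem_pts hi)
    rw [Bool.and_eq_true, Nat.beq_eq] at h5
    obtain ⟨h5, h6⟩ := h5
    have h5' : (T.getD i (0, [])).1 < roots.length := by
      have : Nat.blt (T.getD i (0, [])).1 roots.length = true := h5
      rw [Nat.blt_eq] at this
      exact this
    have h7 : T.getD i (0, []) = T[i] := by
      rw [List.getD_eq_getElem?_getD, List.getElem?_eq_getElem hiT, Option.getD_some]
    have h8 : l.getD i 0 = El.ev (wd D' (T.getD i (0, [])).2) (c.getD (T.getD i (0, [])).1 0) := by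
      rw [hl, List.getD_eq_getElem?_getD, List.getElem?_map, List.getElem?_eq_getElem hiT, h7]
      rfl
    rw [h8, hget h5', ← val_int hD hD' hc _ (hrlt h5'), h6]
  have hall : ∀ a ∈ l, a < 32 := by
    intro a ha
    obtain ⟨i, hi, rfl⟩ := List.mem_iff_getElem.1 ha
    have hi' : i < 24 := by
      rw [← hlen]
      rw [hl, List.length_map] at hi
      exact hi
    have h5 := hTi i hi'
    rw [List.getD_eq_getElem?_getD, List.getElem?_eq_getElem hi, Option.getD_some] at h5
    rw [h5]
    exact lt_trans (El.val_lt g i) (by norm_num)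
  have hpapp : ∀ i < 24, papp (mk D' T c) i = El.val g i := by
    intro i hi
    have : mk D' T c = pack l := rfl
    rw [this, papp_pack hall, hTi i hi]
  have hperm : isPerm (mk D' T c) = true := by
    apply isPerm_of_injOn
    · intro i hi
      rw [hpapp i hi]
      exact El.val_lt g i
    · intro i j hi hj hij
      rw [hpapp i hi, hpapp j hj] at hij
      exact El.val_inj hi hj hij
  have hpm : g = El.pm (mk D' T c) := by
    apply El.ext_val
    intro i hi
    rw [El.val_pm hperm hi, hpapp i hi]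
  have hok : ok (mk D' T c) = true := by
    rw [ok_iff]
    refine ⟨hperm, isAut_of_mem_M24 hperm ?_⟩
    rw [← El.pm_eq hperm, ← hpm]
    exact hg
  rw [hok, Bool.not_true, Bool.false_or] at h4
  exact ⟨_, List.contains_iff_mem.1 h4, hpm⟩

/-- the Boolean check of a Sylow 2-subgroup `TL` of the centraliser of `v`; `GO c` : the elements inducing `gens ↦ c` -/
def chkN (adm : ℕ → ℕ → Bool) (v : ℕ) (gens TL : List ℕ) (tst : List (List ℕ)) (roots : List ℕ)
    (T : List (ℕ × List ℕ)) (W : List (List ℕ)) (GO : List ℕ) : Bool :=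
  chkG TL && (gens.all fun P => TL.contains P) && (TL.all fun P => El.weq [P, v] [v, P] &&
    El.weq [P, P, P, P, P, P, P, P, P, P, P, P, P, P, P, P] []) && (isPerm v) &&
  (GO.all fun Q => isPerm Q && (!(TL.any fun P => El.weq [Q, Q] [P]) || TL.any fun P => El.weq [Q] [P])) &&
  ((combos (gens.map fun _ => TL)).all fun c =>
    !(tst.all fun w => El.weq (wd c w) [] == El.weq (wd gens w) []) ||
    chkI (v :: gens) (v :: c) adm roots T W GO)

variable {D X : Subgroup (Equiv.Perm GolayPt)} {adm : ℕ → ℕ → Bool} {v : ℕ} {gens TL : List ℕ}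
  {tst : List (List ℕ)} {roots : List ℕ} {T : List (ℕ × List ℕ)} {W : List (List ℕ)} {GO : List ℕ}

/-- the group `TL` is a Sylow 2-subgroup of the centraliser of `v` in `D` -/
theorem max_nrm (hDM : ∀ g ∈ D, g ∈ M24) (hadm : ∀ g ∈ D, ∀ j < 24, adm j (El.val g j) = true)
    (h : chkN adm v gens TL tst roots T W GO = true) (hG : chkG TL = true) (hTD : ∀ P ∈ TL, El.pm P ∈ D)
    (hv : El.pm v ∈ D) :
    ∀ Q : Subgroup D, Q ≤ centralizer {(⟨El.pm v, hv⟩ : D)} → IsPGroup 2 Q →
      (grp TL hG).subgroupOf D ≤ Q → Q = (grp TL hG).subgroupOf D := by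
  haveI : Fact (Nat.Prime 2) := ⟨Nat.prime_two⟩
  unfold chkN at h
  simp only [Bool.and_eq_true, List.all_eq_true] at h
  obtain ⟨⟨⟨⟨⟨-, hgT⟩, hTv⟩, hvp⟩, hGO⟩, hcomb⟩ := h
  have hgT' : ∀ P ∈ gens, P ∈ TL := fun P hP => List.contains_iff_mem.1 (hgT P hP)
  have hTp : ∀ P ∈ TL, isPerm P = true := fun P hP => perm_of_chkG hG hP
  have hgp : ∀ P ∈ gens, isPerm P = true := fun P hP => hTp P (hgT' P hP)
  apply max_of_nrm
  · rintro ⟨x, hx⟩
    obtain ⟨P, hP, e⟩ := (mem_subgroupOf.1 hx : (x : Equiv.Perm GolayPt) ∈ grp TL hG)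
    refine ⟨4, Subtype.ext (Subtype.ext ?_)⟩
    push_cast
    rw [← e]
    have h1 := (hTv P hP).2
    have hp := hTp P hP
    have h2 := El.pr_of_weq (okl_cons hp <| okl_cons hp <| okl_cons hp <| okl_cons hp <| okl_cons hp <|
      okl_cons hp <| okl_cons hp <| okl_cons hp <| okl_cons hp <| okl_cons hp <| okl_cons hp <| okl_cons hp <|
      okl_cons hp <| okl_cons hp <| okl_cons hp <| okl_cons hp okl_nil) okl_nil h1
    simp only [El.pr_cons, El.pr_nil, mul_one] at h2
    rw [← h2]
    simp only [pow_succ, pow_zero, one_mul, mul_assoc]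
  · intro n hn hnT hn2
    rw [mem_centralizer_singleton_iff] at hn
    have hn' : (n : Equiv.Perm GolayPt) * El.pm v = El.pm v * n := congrArg Subtype.val hn
    have hnD := n.2
    -- the images of the generators
    obtain ⟨c, hc⟩ := exists_images (L := TL) (gens := gens)
      (R := fun a P => El.pm a = (n : Equiv.Perm GolayPt) * El.pm P * (n : Equiv.Perm GolayPt)⁻¹) (by
        intro P hP
        have h1 := hnT ⟨El.pm P, hTD P (hgT' P hP)⟩ (mem_subgroupOf.2 ⟨P, hgT' P hP, rfl⟩)
        obtain ⟨a, ha, e⟩ := mem_subgroupOf.1 h1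
        exact ⟨a, ha, e⟩)
    have hcT : ∀ a ∈ c, a ∈ TL := by
      intro a ha
      have := List.forall₂_iff_get.1 hc
      obtain ⟨k, hk, rfl⟩ := List.mem_iff_getElem.1 ha
      exact (this.2 k hk (by rw [← this.1]; exact hk)).1
    have hcc : c ∈ combos (gens.map fun _ => TL) := by
      apply mem_combos
      rw [List.forall₂_map_right_iff]
      exact hc.imp fun _ _ hab => hab.1
    have hR := hc.imp (fun _ _ hab => hab.2)
    have h1 := hcomb c hcc
    rw [Bool.or_eq_true, Bool.not_eq_true'] at h1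
    rcases h1 with h1 | h1
    · exfalso
      rw [← Bool.not_eq_true, List.all_eq_true] at h1
      apply h1
      intro w _
      have h2 := pr_wd_conj hR w
      have h3 := El.weq_iff (okl_wd' (fun P hP => hTp P (hcT P hP)) w) okl_nil
      have h4 := El.weq_iff (okl_wd' hgp w) okl_nil
      rw [beq_iff_eq, Bool.eq_iff_iff, h3, h4, h2, El.pr_nil]
      constructor
      · intro h5
        calc El.pr (wd gens w) = (n : Equiv.Perm GolayPt)⁻¹ *
              ((n : Equiv.Perm GolayPt) * El.pr (wd gens w) * (n : Equiv.Perm GolayPt)⁻¹) * n := by group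
          _ = 1 := by rw [h5]; group
      · intro h5
        rw [h5]; group
    · have hint : List.Forall₂ (fun P P' => (n : Equiv.Perm GolayPt) * El.pm P = El.pm P' * n) (v :: gens)
          (v :: c) := by
        refine List.Forall₂.cons hn' ?_
        refine hR.flip.imp ?_
        intro P a e
        have e' : El.pm a = (n : Equiv.Perm GolayPt) * El.pm P * (n : Equiv.Perm GolayPt)⁻¹ := e
        rw [e']; group
      obtain ⟨Q, hQ, hqQ⟩ := mem_of_int h1 (hDM n hnD) (hadm n hnD) hint
      obtain ⟨hQp, hQs⟩ := hGO Q hQ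
      have h8 : (n : Equiv.Perm GolayPt) * n ∈ grp TL hG := by
        have := mem_subgroupOf.1 hn2
        rw [pow_two] at this
        exact this
      rw [hqQ] at h8
      obtain ⟨P, hP, hPe⟩ := h8
      rw [Bool.or_eq_true, Bool.not_eq_true'] at hQs
      rcases hQs with hQs | hQs
      · exfalso
        rw [← Bool.not_eq_true, List.any_eq_true] at hQs
        apply hQs
        refine ⟨P, hP, ?_⟩
        rw [El.weq_iff (okl_cons hQp (okl_cons hQp okl_nil)) (okl_cons (hTp P hP) okl_nil), El.pr_cons,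
          El.pr_one, El.pr_one, hPe]
      · rw [List.any_eq_true] at hQs
        obtain ⟨P', hP', hw⟩ := hQs
        have h11 := weq1 hQp (hTp P' hP') hw
        rw [mem_subgroupOf, hqQ, h11]
        exact ⟨P', hP', rfl⟩

/-- the class of `v` is fine -/
theorem goodCls' (hDM : ∀ g ∈ D, g ∈ M24) (hadm : ∀ g ∈ D, ∀ j < 24, adm j (El.val g j) = true) (hXD : X ≤ D)
    {okX okD : ℕ → Bool} (hX : ∀ P, okX P = true → isPerm P = true ∧ El.pm P ∈ X)
    (hD : ∀ P, okD P = true → isPerm P = true ∧ El.pm P ∈ D) {AL : List (ℕ × ℕ × ℕ)}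
    (hv : okD v = true) (hv3 : El.weq [v, v, v] [] = true) (hTD : (TL.all okD) = true)
    (h : chkN adm v gens TL tst roots T W GO = true) (hA : chkA okX v TL AL = true) :
    GoodCls (X.subgroupOf D) (⟨El.pm v, (hD v hv).2⟩ : D) := by
  have hG : chkG TL = true := by
    unfold chkN at h
    simp only [Bool.and_eq_true] at h
    exact h.1.1.1.1.1
  rw [List.all_eq_true] at hTD
  have hv3' : El.pm v * El.pm v * El.pm v = 1 := by
    have hp := (hD v hv).1
    have := El.pr_of_weq (okl_cons hp (okl_cons hp (okl_cons hp okl_nil))) okl_nil hv3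
    simp only [El.pr_cons, El.pr_nil, mul_one] at this
    rw [← this, mul_assoc]
  have hTv : ∀ P ∈ TL, El.weq [P, v] [v, P] = true ∧
      El.weq [P, P, P, P, P, P, P, P, P, P, P, P, P, P, P, P] [] = true := by
    unfold chkN at h
    simp only [Bool.and_eq_true, List.all_eq_true] at h
    exact h.1.1.1.2
  refine ⟨Subtype.ext hv3', (grp TL hG).subgroupOf D, ?_, ?_, ?_, ?_⟩
  · intro t ht
    obtain ⟨P, hP, e⟩ := mem_subgroupOf.1 ht
    have hPp := perm_of_chkG hG hP
    have h1 := weq2 hPp (hD v hv).1 (hD v hv).1 hPp (hTv P hP).1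
    rw [e] at h1
    exact Subtype.ext h1
  · rintro ⟨x, hx⟩
    obtain ⟨P, hP, e⟩ := (mem_subgroupOf.1 hx : (x : Equiv.Perm GolayPt) ∈ grp TL hG)
    refine ⟨4, Subtype.ext (Subtype.ext ?_)⟩
    push_cast
    rw [← e]
    have hp := perm_of_chkG hG hP
    have h2 := El.pr_of_weq (okl_cons hp <| okl_cons hp <| okl_cons hp <| okl_cons hp <| okl_cons hp <|
      okl_cons hp <| okl_cons hp <| okl_cons hp <| okl_cons hp <| okl_cons hp <| okl_cons hp <| okl_cons hp <|
      okl_cons hp <| okl_cons hp <| okl_cons hp <| okl_cons hp okl_nil) okl_nil (hTv P hP).2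
    simp only [El.pr_cons, El.pr_nil, mul_one] at h2
    rw [← h2]
    simp only [pow_succ, pow_zero, one_mul, mul_assoc]
  · exact max_nrm hDM hadm h hG (fun P hP => (hD P (hTD P hP)).2) (hD v hv).2
  · exact pair_of_chk hX hXD hA hG (hD v hv).1 (hD v hv).2 hv3'

end Cfsg.Agent.OddHalf.NI3.IntM24
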