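import Mathlib
import Cfsg.Agent.Cit.SLThree
import Cfsg.Agent.Transfer.SL23Recog

/-!
# The frame of `2.U₄(3)` (THEOREM NIB, N-side), part 3: double covers (helper146)

`Cov π y` : `π : N → U` is surjective with kernel `⟨y⟩`, `y` a central involution.
* `lift_sl` : subgroups `SL₂(3)` of `U` lift;
* `mem_comm` : `y ∈ C'` for subgroups `C` of odd index, `N` perfect.
-/

set_option autoImplicit false
set_option linter.unusedSectionVars false

namespace Cfsg.Agent.OddHalf.NI3.Bad.NSideN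

open Subgroup Cfsg Cfsg.Agent.Cit.SLThree

/-- a double cover -/
structure Cov {N U : Type*} [Group N] [Group U] (π : N →* U) (y : N) : Prop where
  surj : Function.Surjective π
  y1 : y ≠ 1
  yy : y * y = 1
  cen : ∀ g, g * y = y * g
  py : π y = 1
  ker : ∀ g, π g = 1 → g = 1 ∨ g = y

namespace Cov

variable {N U : Type*} [Group N] [Group U] {π : N →* U} {y : N}

theorem eq_or (h : Cov π y) {g g' : N} (e : π g = π g') : g = g' ∨ g = y * g' := by
  rcases h.ker (g * g'⁻¹) (by rw [map_mul, map_inv, e, mul_inv_cancel]) with h1 | h1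
  · left; rwa [mul_inv_eq_one] at h1
  · right; rwa [mul_inv_eq_iff_eq_mul] at h1

/-- commuting with elements of order three lifts -/
theorem comm_three (h : Cov π y) {a b : N} (hb : b * b * b = 1) (hab : π a * π b = π b * π a) :
    a * b = b * a := by
  rcases h.eq_or (g := a * b) (g' := b * a) (by rw [map_mul, map_mul, hab]) with h1 | h1
  · exact h1
  exfalso
  apply h.y1
  have h2 : a * b * b = b * b * a := by
    calc a * b * b = y * (b * a) * b := by rw [h1]
      _ = y * (b * (a * b)) := by group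
      _ = y * (b * (y * (b * a))) := by rw [h1]
      _ = y * ((b * y) * (b * a)) := by group
      _ = (y * y) * (b * b * a) := by rw [h.cen b]; group
      _ = b * b * a := by rw [h.yy, one_mul]
  have h3 : a = y * a := by
    calc a = a * (b * b * b) := by rw [hb, mul_one]
      _ = (a * b * b) * b := by group
      _ = b * b * (a * b) := by rw [h2]; group
      _ = b * b * (y * (b * a)) := by rw [h1]
      _ = ((b * b) * y) * (b * a) := by group
      _ = y * (b * b * b) * a := by rw [h.cen (b * b)]; group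
      _ = y * a := by rw [hb, mul_one]
  exact (mul_eq_right.1 h3.symm)

/-- lifting elements of order three -/
theorem lift_three (h : Cov π y) {u : U} (hu : u * u * u = 1) : ∃ g, π g = u ∧ g * g * g = 1 := by
  obtain ⟨g, rfl⟩ := h.surj u
  rcases h.ker (g * g * g) (by rw [map_mul, map_mul, hu]) with h1 | h1
  · exact ⟨g, rfl, h1⟩
  · refine ⟨y * g, by rw [map_mul, h.py, one_mul], ?_⟩
    calc y * g * (y * g) * (y * g) = y * (g * y) * (g * y) * g := by group
      _ = y * (y * g) * (y * g) * g := by rw [h.cen g]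
      _ = (y * y) * (g * y) * g * g := by group
      _ = (y * y) * (y * g) * g * g := by rw [h.cen g]
      _ = (y * y) * y * (g * g * g) := by group
      _ = 1 := by rw [h1, h.yy, one_mul, h.yy]

/-- **lifting `SL₂(3)`** -/
theorem lift_sl (h : Cov π y) {z' i' j' x' : U} (q : Qt z' i' j') (x3 : x' * x' * x' = 1)
    (xi : x' * i' * x'⁻¹ = j') (xj : x' * j' * x'⁻¹ = i' * j') :
    ∃ z i j x : N, π z = z' ∧ π i = i' ∧ π j = j' ∧ π x = x' ∧ Sl (closure ({i, x} : Set N)) z i j x := by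
  obtain ⟨x, hx, hx3⟩ := h.lift_three x3
  -- `x i x⁻¹ = j`, `x j x⁻¹ = i j`
  obtain ⟨i, hi, hxij⟩ : ∃ i, π i = i' ∧ x * (x * i * x⁻¹) * x⁻¹ = i * (x * i * x⁻¹) := by
    obtain ⟨i, hi⟩ := h.surj i'
    have h1 : π (x * (x * i * x⁻¹) * x⁻¹) = π (i * (x * i * x⁻¹)) := by
      simp only [map_mul, map_inv, hx, hi]
      rw [xi, xj]
    rcases h.eq_or h1 with h2 | h2
    · exact ⟨i, hi, h2⟩
    · refine ⟨y * i, by rw [map_mul, h.py, one_mul, hi], ?_⟩
      have e1 : x * (x * (y * i) * x⁻¹) * x⁻¹ = (y * y) * (i * (x * i * x⁻¹)) := by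
        calc x * (x * (y * i) * x⁻¹) * x⁻¹ = ((x * x) * y) * i * (x⁻¹ * x⁻¹) := by group
          _ = (y * (x * x)) * i * (x⁻¹ * x⁻¹) := by rw [h.cen (x * x)]
          _ = y * (x * (x * i * x⁻¹) * x⁻¹) := by group
          _ = (y * y) * (i * (x * i * x⁻¹)) := by rw [h2]; group
      have e2 : y * i * (x * (y * i) * x⁻¹) = (y * y) * (i * (x * i * x⁻¹)) := by
        calc y * i * (x * (y * i) * x⁻¹) = y * ((i * x) * y) * i * x⁻¹ := by group
          _ = y * (y * (i * x)) * i * x⁻¹ := by rw [h.cen (i * x)]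
          _ = (y * y) * (i * (x * i * x⁻¹)) := by group
      rw [e1, e2]
  obtain ⟨j, hj⟩ : ∃ j, x * i * x⁻¹ = j := ⟨_, rfl⟩
  obtain ⟨z, hz⟩ : ∃ z, i * i = z := ⟨_, rfl⟩
  rw [hj] at hxij
  have hj' : π j = j' := by rw [← hj]; simp only [map_mul, map_inv, hx, hi]; exact xi
  have hz' : π z = z' := by rw [← hz, map_mul, hi, q.i2]
  have hxz : z * x = x * z := by
    refine h.comm_three hx3 ?_
    rw [hz', hx]
    have h1 : x' * z' * x'⁻¹ = z' := by
      calc x' * z' * x'⁻¹ = (x' * i' * x'⁻¹) * (x' * i' * x'⁻¹) := by rw [← q.i2]; group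
        _ = z' := by rw [xi, q.j2]
    exact (mul_inv_eq_iff_eq_mul.1 h1).symm
  have hjj : j * j = z := by
    calc j * j = x * (i * i) * x⁻¹ := by rw [← hj]; group
      _ = z := by rw [hz, ← hxz, mul_inv_cancel_right]
  have hijij : (i * j) * (i * j) = z := by
    calc (i * j) * (i * j) = x * (j * j) * x⁻¹ := by rw [← hxij]; group
      _ = z := by rw [hjj, ← hxz, mul_inv_cancel_right]
  have ciz : i * z = z * i := by rw [← hz, mul_assoc]
  have cjz : j * z = z * j := by rw [← hjj, mul_assoc]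
  have hinv : i⁻¹ = z⁻¹ * i := by
    rw [eq_inv_mul_iff_mul_eq, mul_inv_eq_iff_eq_mul, hz]
  have hjnv : j⁻¹ = z⁻¹ * j := by
    rw [eq_inv_mul_iff_mul_eq, mul_inv_eq_iff_eq_mul, hjj]
  have hji : j * i = z⁻¹ * (i * j) := by
    have h1 : j * i = i⁻¹ * ((i * j) * (i * j)) * j⁻¹ := by group
    rw [h1, hijij, hinv, hjnv]
    group
  have hzz : z * z = 1 := by
    have h1 : x * (j * i) * x⁻¹ = z⁻¹ * (x * (i * j) * x⁻¹) := by
      rw [hji]
      have : x * z⁻¹ = z⁻¹ * x := by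
        rw [eq_inv_mul_iff_mul_eq, ← mul_assoc, hxz, mul_inv_cancel_right]
      calc x * (z⁻¹ * (i * j)) * x⁻¹ = (x * z⁻¹) * (i * j) * x⁻¹ := by group
        _ = _ := by rw [this]; group
    have h2 : x * (j * i) * x⁻¹ = i * z := by
      calc x * (j * i) * x⁻¹ = (x * j * x⁻¹) * (x * i * x⁻¹) := by group
        _ = i * (j * j) := by rw [hxij, hj]; group
        _ = i * z := by rw [hjj]
    have h3 : x * (i * j) * x⁻¹ = z⁻¹ * (i * z) := by
      calc x * (i * j) * x⁻¹ = (x * i * x⁻¹) * (x * j * x⁻¹) := by group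
        _ = (j * i) * j := by rw [hxij, hj]; group
        _ = z⁻¹ * (i * (j * j)) := by rw [hji]; group
        _ = z⁻¹ * (i * z) := by rw [hjj]
    rw [h2, h3] at h1
    have h4 : z⁻¹ * z⁻¹ = 1 := by
      have h5 : 1 * (i * z) = (z⁻¹ * z⁻¹) * (i * z) := by rw [one_mul, mul_assoc]; exact h1
      exact (mul_right_cancel h5).symm
    calc z * z = (z⁻¹ * z⁻¹)⁻¹ := by rw [mul_inv_rev, inv_inv]
      _ = 1 := by rw [h4, inv_one]
  have hz1 : z ≠ 1 := by
    rintro rfl
    exact q.z1 (by rw [← hz', map_one])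
  have hzi : z⁻¹ = z := inv_eq_of_mul_eq_one_right hzz
  refine ⟨z, i, j, x, hz', hi, hj', hx, ⟨⟨hzz, hz1, hz, hjj, by rw [hji, hzi]⟩, hj, hxij, hx3, rfl⟩⟩

/-- generation -/
theorem mem_closure (h : Cov π y) {S : Set N} {g : N} (hg : π g ∈ closure (π '' S)) :
    g ∈ closure (insert y S) := by
  rw [← MonoidHom.map_closure] at hg
  obtain ⟨g', hg', e⟩ := hg
  have hy : y ∈ closure (insert y S) := subset_closure (Set.mem_insert _ _)
  have h1 : g' ∈ closure (insert y S) := closure_mono (Set.subset_insert _ _) hg'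
  rcases h.eq_or e with h2 | h2
  · rwa [← h2]
  · have h3 : g = y * g' := by rw [h2, ← mul_assoc, h.yy, one_mul]
    rw [h3]; exact mul_mem hy h1

end Cov

/-! ### Commutators -/

section Comm

variable {G : Type*} [Group G]

/-- the elements commuting with `b` modulo `M` -/
def Dm (C M : Subgroup G) (hM : ∀ g ∈ C, ∀ m ∈ M, g * m * g⁻¹ ∈ M) (b : G) : Subgroup G where
  carrier := {a | a ∈ C ∧ a * b * a⁻¹ * b⁻¹ ∈ M}
  one_mem' := ⟨one_mem _, by simp⟩
  mul_mem' := by
    rintro a a' ⟨ha, h1⟩ ⟨ha', h2⟩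
    refine ⟨mul_mem ha ha', ?_⟩
    have : a * a' * b * (a * a')⁻¹ * b⁻¹ = a * (a' * b * a'⁻¹ * b⁻¹) * a⁻¹ * (a * b * a⁻¹ * b⁻¹) := by group
    rw [this]
    exact mul_mem (hM a ha _ h2) h1
  inv_mem' := by
    rintro a ⟨ha, h1⟩
    refine ⟨inv_mem ha, ?_⟩
    have : a⁻¹ * b * a⁻¹⁻¹ * b⁻¹ = a⁻¹ * (a * b * a⁻¹ * b⁻¹)⁻¹ * a⁻¹⁻¹ := by group
    rw [this]
    exact hM _ (inv_mem ha) _ (inv_mem h1)

/-- `C' ≤ M` from commutators of generators -/
theorem commutator_le_of {C M : Subgroup G} (hM : ∀ g ∈ C, ∀ m ∈ M, g * m * g⁻¹ ∈ M) {S : Set G}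
    (hS : C = closure S) (h : ∀ a ∈ S, ∀ b ∈ S, a * b * a⁻¹ * b⁻¹ ∈ M) : ⁅C, C⁆ ≤ M := by
  have hSC : ∀ a ∈ S, a ∈ C := fun a ha => by rw [hS]; exact subset_closure ha
  have h1 : ∀ b ∈ S, C ≤ Dm C M hM b := by
    intro b hb
    conv_lhs => rw [hS]
    rw [closure_le]
    exact fun a ha => ⟨hSC a ha, h a ha b hb⟩
  have h2 : ∀ a ∈ C, C ≤ Dm C M hM a := by
    intro a ha
    conv_lhs => rw [hS]
    rw [closure_le]
    intro b hb
    refine ⟨hSC b hb, ?_⟩
    have h3 := (h1 b hb ha).2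
    have : b * a * b⁻¹ * a⁻¹ = (a * b * a⁻¹ * b⁻¹)⁻¹ := by group
    rw [this]
    exact inv_mem h3
  rw [Subgroup.commutator_le]
  intro a ha b hb
  exact (h2 b hb ha).2

/-- **transfer** -/
theorem mem_comm [Finite G] (hp : commutator G = ⊤) {C : Subgroup G} (hC : Odd C.index) {y : G} (hy : y ∈ C)
    (hc : ∀ g, g * y = y * g) (hyy : y * y = 1) : y ∈ ⁅C, C⁆ := by
  have hpow : ∀ k : ℕ, y ^ (2 * k + 1) = y := by
    intro k
    rw [pow_add, pow_mul, pow_two, hyy, one_pow, one_mul, pow_one]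
  have h1 := MonoidHom.transfer_eq_pow (Abelianization.of (G := C)) y (by
    intro k g₀ _
    have h2 : Commute g₀ (y ^ k) := (show Commute g₀ y from hc g₀).pow_right k
    rw [mul_assoc, ← h2.eq, ← mul_assoc, inv_mul_cancel, one_mul])
  have h2 : MonoidHom.transfer (Abelianization.of (G := C)) y = 1 := by
    have h3 := Abelianization.commutator_subset_ker (MonoidHom.transfer (Abelianization.of (G := C)))
    rw [hp] at h3
    exact h3 (mem_top y)
  rw [h2] at h1
  obtain ⟨k, hk⟩ := hC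
  have h3 : (⟨y, hy⟩ : C) ∈ commutator C := by
    have h4 : Abelianization.of (⟨y, hy⟩ : C) = 1 := by
      rw [h1]
      congr 1
      apply Subtype.ext
      show y = y ^ C.index
      rw [hk, hpow]
    exact (QuotientGroup.eq_one_iff _).1 h4
  have h5 : y ∈ (commutator C).map C.subtype := ⟨_, h3, rfl⟩
  rwa [map_subtype_commutator] at h5

end Comm

/-! ### `SL₂(3)` -/

theorem sl_iso {G : Type*} [Group G] [Finite G] {M : Subgroup G} {z i j d : G} (h : Sl M z i j d) :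
    Nonempty (↥M ≃* Matrix.SpecialLinearGroup (Fin 2) (ZMod 3)) := by
  have hi := h.hi
  have hj := h.hj
  have hd := h.hd
  refine Transfer.SL23Recog.sl23_of_relations (i := (⟨i, hi⟩ : M)) (j := ⟨j, hj⟩) (t := ⟨d, hd⟩)
    ⟨⟨?_, ?_, ?_⟩, ?_, ?_⟩ ?_ ?_ h.card
  · apply Subtype.ext
    show i ^ 4 = 1
    rw [show (4 : ℕ) = 2 * 2 by norm_num, pow_mul, pow_two i, h.q.i2, pow_two, h.q.z2]
  · apply Subtype.ext
    show j ^ 2 = i ^ 2
    rw [pow_two, pow_two, h.q.i2, h.q.j2]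
  · apply Subtype.ext
    show j * i * j⁻¹ = i⁻¹
    rw [h.q.ji, h.q.i_inv]; group
  · exact Subtype.ext h.di
  · exact Subtype.ext h.dj
  · apply Subtype.ext
    show d ^ 3 = 1
    rw [pow_succ, pow_two, h.d3]
  · rw [eq_top_iff]
    have h1 : M ≤ (closure ({(⟨i, hi⟩ : M), ⟨j, hj⟩, ⟨d, hd⟩} : Set M)).map M.subtype := by
      conv_lhs => rw [h.gen]
      rw [closure_le]
      rintro x (rfl | rfl)
      · exact ⟨⟨x, hi⟩, subset_closure (by simp), rfl⟩
      · exact ⟨⟨x, hd⟩, subset_closure (by simp), rfl⟩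
    rintro ⟨x, hx⟩ -
    obtain ⟨y, hy, e⟩ := h1 hx
    have : y = ⟨x, hx⟩ := Subtype.ext e
    rwa [← this]

end Cfsg.Agent.OddHalf.NI3.Bad.NSideN
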