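import Cfsg.Agent.OddHalf.NI3.Bad.NSideU

/-!
# The frame of `2.U₄(3)` (THEOREM NIB, N-side), part 2: `exists_ud` (helper146)
-/

set_option autoImplicit false
set_option linter.unusedSectionVars false
set_option linter.unusedTactic false
set_option linter.unreachableTactic false
set_option linter.style.haveILetI false

namespace Cfsg.Agent.OddHalf.NI3.Bad.NSideU

open Subgroup Cfsg Cfsg.Agent.Cit.SLThree
open Matrix Cfsg.Agent.OddHalf.Small.U43Mat Cfsg.Agent.OddHalf.Small.U43Good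
open Cfsg.Agent.LieClassical.HermSiegel Cfsg.Agent.LieClassical.SUBasic
open Cfsg.Agent.ClassicalGeometry.UnitAutBasic (pr pr_surjective)
open Cfsg.Agent.OddHalf.D6.QThree.U43Elt Cfsg.Agent.OddHalf.D6.QThree.U43Plus

variable {F : Type*} [Field F] [CharP F 3] [Fintype F]

theorem pr_mem {x y g : SU 4 F 3} (h : g ∈ closure ({x, y} : Set (SU 4 F 3))) :
    pr 4 F 3 g ∈ closure ({pr 4 F 3 x, pr 4 F 3 y} : Set (PSU 4 F 3)) := by
  have h1 : pr 4 F 3 g ∈ (closure ({x, y} : Set (SU 4 F 3))).map (pr 4 F 3) := mem_map_of_mem _ h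
  rwa [MonoidHom.map_closure, Set.image_pair] at h1

theorem t4_blk {a : F} (ha : a ^ 2 = -1) : b12 (mat (t4 a ha)) = 0 ∧ b21 (mat (t4 a ha)) = 0 ∧
    (b11 (mat (t4 a ha))).det = a := by
  refine ⟨?_, ?_, ?_⟩
  · ext i j; fin_cases i <;> fin_cases j <;> rfl
  · ext i j; fin_cases i <;> fin_cases j <;> rfl
  · have : b11 (mat (t4 a ha)) = !![a, 0; 0, 1] := by
      ext i j; fin_cases i <;> fin_cases j <;> rfl
    rw [this, det_fin_two]; simp

theorem blk_mul {g h : SU 4 F 3} (g12 : b12 (mat g) = 0) (g21 : b21 (mat g) = 0) (h12 : b12 (mat h) = 0)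
    (h21 : b21 (mat h) = 0) : b12 (mat (g * h)) = 0 ∧ b21 (mat (g * h)) = 0 ∧
      b11 (mat (g * h)) = b11 (mat g) * b11 (mat h) := by
  rw [mat_mul]
  refine ⟨?_, ?_, ?_⟩
  · rw [b12_mul, g12, h12]; simp
  · rw [b21_mul, g21, h21]; simp
  · rw [b11_mul, g12]; simp

/-- block diagonal elements -/
theorem mem_diag (hF : Fintype.card F = 9) {a : F} (ha : a ^ 2 = -1) {K : Subgroup (SU 4 F 3)}
    (hK : closure ({i1 a ha, xx1 a ha, i2 a ha, xx2 a ha} : Set (SU 4 F 3)) ≤ K) (ht : t4 a ha ∈ K)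
    {g : SU 4 F 3} (h12 : b12 (mat g) = 0) (h21 : b21 (mat g) = 0) : g ∈ K := by
  have h9 := h9 hF
  have hu := u11 (st_mat g) h21
  have hδ : (b11 (mat g)).det ^ 4 = 1 := by
    have := congrArg Matrix.det hu
    rw [det_mul, det_st, det_one] at this
    linear_combination this
  obtain ⟨t12, t21, td⟩ := t4_blk ha
  have step : ∀ {h : SU 4 F 3}, b12 (mat h) = 0 → b21 (mat h) = 0 → (b11 (mat h)).det = 1 → h ∈ K :=
    fun h1 h2 h3 => hK (mem_w ha h9 h1 h2 h3)
  rcases mu4 ha hδ with h | h | h | h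
  · exact step h12 h21 h
  · obtain ⟨e1, e2, e3⟩ := blk_mul t12 t21 h12 h21
    obtain ⟨f1, f2, f3⟩ := blk_mul t12 t21 e1 e2
    have h1 : t4 a ha * (t4 a ha * g) ∈ K := by
      refine step f1 f2 ?_
      rw [f3, e3, det_mul, det_mul, td, h]
      linear_combination -ha
    have h2 := mul_mem (inv_mem ht) (mul_mem (inv_mem ht) h1)
    have : (t4 a ha)⁻¹ * ((t4 a ha)⁻¹ * (t4 a ha * (t4 a ha * g))) = g := by group
    rwa [this] at h2
  · obtain ⟨e1, e2, e3⟩ := blk_mul t12 t21 h12 h21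
    obtain ⟨f1, f2, f3⟩ := blk_mul t12 t21 e1 e2
    obtain ⟨k1, k2, k3⟩ := blk_mul t12 t21 f1 f2
    have h1 : t4 a ha * (t4 a ha * (t4 a ha * g)) ∈ K := by
      refine step k1 k2 ?_
      rw [k3, f3, e3, det_mul, det_mul, det_mul, td, h]
      linear_combination (a ^ 2 - 1) * ha
    have h2 := mul_mem (inv_mem ht) (mul_mem (inv_mem ht) (mul_mem (inv_mem ht) h1))
    have : (t4 a ha)⁻¹ * ((t4 a ha)⁻¹ * ((t4 a ha)⁻¹ * (t4 a ha * (t4 a ha * (t4 a ha * g))))) = g := by group
    rwa [this] at h2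
  · obtain ⟨e1, e2, e3⟩ := blk_mul t12 t21 h12 h21
    have h1 : t4 a ha * g ∈ K := by
      refine step e1 e2 ?_
      rw [e3, det_mul, td, h]
      linear_combination -ha
    have h2 := mul_mem (inv_mem ht) h1
    rwa [inv_mul_cancel_left] at h2

/-- elements commuting with `d` up to a scalar -/
theorem mem_all (hF : Fintype.card F = 9) {a : F} (ha : a ^ 2 = -1) {K : Subgroup (SU 4 F 3)}
    (hK : closure ({i1 a ha, xx1 a ha, i2 a ha, xx2 a ha} : Set (SU 4 F 3)) ≤ K) (ht : t4 a ha ∈ K)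
    (hs : s4 ∈ K) {g : SU 4 F 3} {c : F} (hc : mat g * D4 F = c • (D4 F * mat g)) : g ∈ K := by
  rcases blk_or hc with ⟨h1, h2⟩ | ⟨h1, h2⟩
  · exact mem_diag hF ha hK ht h1 h2
  · have hs1 : b11 (mat (s4 : SU 4 F 3)) = 0 := by ext i j; fin_cases i <;> fin_cases j <;> rfl
    have hs2 : b22 (mat (s4 : SU 4 F 3)) = 0 := by ext i j; fin_cases i <;> fin_cases j <;> rfl
    have h3 : s4 * g ∈ K := by
      refine mem_diag hF ha hK ht ?_ ?_ <;> rw [mat_mul]
      · rw [b12_mul, hs1, h2]; simp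
      · rw [b21_mul, hs2, h1]; simp
    have h4 := mul_mem (inv_mem hs) h3
    rwa [inv_mul_cancel_left] at h4

/-- **the data exist in `U₄(3)`** -/
theorem ud (hF : Fintype.card F = 9) {a : F} (ha : a ^ 2 = -1) :
    UD (pr 4 F 3 d) (pr 4 F 3 (i1 a ha)) (pr 4 F 3 j1) (pr 4 F 3 (xx1 a ha)) (pr 4 F 3 (i2 a ha)) (pr 4 F 3 j2)
      (pr 4 F 3 (xx2 a ha)) (pr 4 F 3 cc) := by
  have h9 := h9 hF
  have P := plus hF ha
  have z2 : pr 4 F 3 d * pr 4 F 3 d = 1 := by rw [← map_mul, e_dd, map_one]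
  have z1 : pr 4 F 3 (d : SU 4 F 3) ≠ 1 := P.large.z_ne
  have es : pr 4 F 3 cc * (pr 4 F 3 j1 * pr 4 F 3 j2) * (pr 4 F 3 cc)⁻¹ = pr 4 F 3 (s4 : SU 4 F 3) := by
    rw [← map_mul, ← map_mul, cc_s, map_mul, mul_inv_cancel_right]
  have et : pr 4 F 3 cc * pr 4 F 3 (i1 a ha) * (pr 4 F 3 cc)⁻¹ = pr 4 F 3 (t4 a ha) := by
    rw [← map_mul, cc_t, map_mul, mul_inv_cancel_right]
  obtain ⟨t12, t21, -⟩ := t4_blk ha
  obtain ⟨i11, i12, i21, i22⟩ := bl1_i a ha
  obtain ⟨x11, x12, x21, x22⟩ := bl1_x ha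
  obtain ⟨k11, k12, k21, k22⟩ := bl2_i a ha
  obtain ⟨v11, v12, v21, v22⟩ := bl2_x ha
  refine
    { q1 := ⟨z2, z1, P.ii, P.jj, ?_⟩
      q2 := ⟨z2, z1, P.kk, P.ll, ?_⟩
      x3 := by rw [← map_mul, ← map_mul, x1_cube, map_one]
      v3 := by rw [← map_mul, ← map_mul, x2_cube, map_one]
      xi := (act1 ha).i
      xj := (act1 ha).j
      vk := (act2 ha).k
      vl := (act2 ha).l
      ik := P.ki.symm
      iv := by rw [← map_mul, ← map_mul, e_x2i]
      xk := by rw [← map_mul, ← map_mul, e_x1k]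
      xv := by rw [← map_mul, ← map_mul, e_x1x2]
      cz := ?_
      ca := ?_
      si := ?_
      sx := ?_
      sk := ?_
      sv := ?_
      ti := ?_
      tx := ?_
      tk := ?_
      tv := ?_
      gen := ?_
      one := ?_
      cen := ?_ }
  · rw [P.ji, P.large.comm_z _ (by rw [P.gen]; exact mul_mem (subset_closure (by simp)) (subset_closure (by simp)))]
  · rw [P.lk, P.large.comm_z _ (by rw [P.gen]; exact mul_mem (subset_closure (by simp)) (subset_closure (by simp)))]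
  · rw [mul_inv_eq_iff_eq_mul, ← map_mul, ← map_mul, ← map_mul]
    exact pr_eq_of_mat (cc_z ha)
  · rw [mul_inv_eq_iff_eq_mul, ← map_mul, ← map_mul, ← map_mul, ← map_mul, cc_a ha]
  · rw [es, ← map_inv, ← map_mul, ← map_mul]
    obtain ⟨e1, e2, e3⟩ := swap_one ha i12 i21 i22
    exact pr_mem (mem_w2 ha h9 e1 e2 e3)
  · rw [es, ← map_inv, ← map_mul, ← map_mul]
    obtain ⟨e1, e2, e3⟩ := swap_one ha x12 x21 x22
    exact pr_mem (mem_w2 ha h9 e1 e2 e3)
  · rw [es, ← map_inv, ← map_mul, ← map_mul]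
    obtain ⟨e1, e2, e3⟩ := swap_two ha k12 k21 k11
    exact pr_mem (mem_w1 ha h9 e1 e2 e3)
  · rw [es, ← map_inv, ← map_mul, ← map_mul]
    obtain ⟨e1, e2, e3⟩ := swap_two ha v12 v21 v11
    exact pr_mem (mem_w1 ha h9 e1 e2 e3)
  · rw [et, ← map_inv, ← map_mul, ← map_mul]
    obtain ⟨e1, e2, e3⟩ := diag_one ha t12 t21 i12 i21 i22
    exact pr_mem (mem_w1 ha h9 e1 e2 e3)
  · rw [et, ← map_inv, ← map_mul, ← map_mul]
    obtain ⟨e1, e2, e3⟩ := diag_one ha t12 t21 x12 x21 x22
    exact pr_mem (mem_w1 ha h9 e1 e2 e3)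
  · rw [et, ← map_inv, ← map_mul, ← map_mul]
    obtain ⟨e1, e2, e3⟩ := diag_two ha t12 t21 k12 k21 k11
    exact pr_mem (mem_w2 ha h9 e1 e2 e3)
  · rw [et, ← map_inv, ← map_mul, ← map_mul]
    obtain ⟨e1, e2, e3⟩ := diag_two ha t12 t21 v12 v21 v11
    exact pr_mem (mem_w2 ha h9 e1 e2 e3)
  · intro g hg
    rw [es, et]
    obtain ⟨x, rfl⟩ := pr_surjective g
    rw [← map_mul, ← map_mul] at hg
    obtain ⟨c, -, hc⟩ := mat_of_pr_eq hF hg.symm
    rw [mat_mul, mat_mul, mat_d] at hc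
    set L := closure ({pr 4 F 3 (i1 a ha), pr 4 F 3 (xx1 a ha), pr 4 F 3 (i2 a ha), pr 4 F 3 (xx2 a ha), pr 4 F 3 s4,
      pr 4 F 3 (t4 a ha)} : Set (PSU 4 F 3)) with hL
    refine (mem_all hF ha (K := L.comap (pr 4 F 3)) ?_ ?_ ?_ hc : x ∈ L.comap (pr 4 F 3))
    · rw [closure_le]
      intro y hy
      simp only [Set.mem_insert_iff, Set.mem_singleton_iff] at hy
      show pr 4 F 3 y ∈ L
      rcases hy with rfl | rfl | rfl | rfl <;> exact subset_closure (by simp)
    · show pr 4 F 3 (t4 a ha) ∈ L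
      exact subset_closure (by simp)
    · show pr 4 F 3 s4 ∈ L
      exact subset_closure (by simp)
  · intro u hu hu1
    have h1 := Cfsg.Agent.OddHalf.Small.U43.orderOf_d (F := F) hF
    exact PSUFour.isConj (by rw [hF]; norm_num) h1 (orderOf_eq_prime (by rw [pow_two, hu]) hu1)
  · intro g g1 g2 g3 g4
    have hj : g * pr 4 F 3 j1 = pr 4 F 3 j1 * g := by
      have h1 : pr 4 F 3 (xx1 a ha) * pr 4 F 3 (i1 a ha) * (pr 4 F 3 (xx1 a ha))⁻¹ = pr 4 F 3 j1 := (act1 ha).i
      rw [← h1]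
      exact (((show Commute g _ from g2).mul_right (show Commute g _ from g1)).mul_right
        (show Commute g _ from g2).inv_right).eq
    have hl : g * pr 4 F 3 j2 = pr 4 F 3 j2 * g := by
      have h1 : pr 4 F 3 (xx2 a ha) * pr 4 F 3 (i2 a ha) * (pr 4 F 3 (xx2 a ha))⁻¹ = pr 4 F 3 j2 := (act2 ha).k
      rw [← h1]
      exact (((show Commute g _ from g4).mul_right (show Commute g _ from g3)).mul_right
        (show Commute g _ from g4).inv_right).eq
    have hQ : ∀ y ∈ QQ hF, g * y = y * g := by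
      intro y hy
      rw [gen hF ha] at hy
      have h1 : closure ({pr 4 F 3 (i1 a ha), pr 4 F 3 j1, pr 4 F 3 (i2 a ha), pr 4 F 3 j2} : Set (PSU 4 F 3)) ≤
          centralizer ({g} : Set (PSU 4 F 3)) := by
        rw [closure_le]
        intro y hy
        simp only [Set.mem_insert_iff, Set.mem_singleton_iff] at hy
        rw [SetLike.mem_coe, mem_centralizer_singleton_iff]
        rcases hy with rfl | rfl | rfl | rfl
        · exact g1.symm
        · exact hj.symm
        · exact g3.symm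
        · exact hl.symm
      exact (mem_centralizer_singleton_iff.1 (h1 hy)).symm
    have hz : g * pr 4 F 3 d = pr 4 F 3 d * g := by
      refine hQ _ ?_
      exact P.large.z_mem
    exact P.large.cent g (self hF ha g hz hQ) hQ

omit [CharP F 3] in
/-- **`U₄(3)` has the data.** -/
theorem exists_ud (hF : Fintype.card F = 9) : ∃ z i j x k l v c : PSU 4 F 3, UD z i j x k l v c := by
  haveI : Fact (Nat.Prime 3) := ⟨Nat.prime_three⟩
  haveI : CharP F 3 := charP_of_card_eq_prime_pow (p := 3) (f := 2) (by rw [hF]; norm_num)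
  obtain ⟨a, ha⟩ : ∃ a : F, a ^ 2 = -1 := by
    have h1 : IsSquare (-1 : F) := by
      rw [FiniteField.isSquare_neg_one_iff, hF]; norm_num
    obtain ⟨a, ha⟩ := h1
    exact ⟨a, by rw [pow_two, ← ha]⟩
  exact ⟨_, _, _, _, _, _, _, _, ud hF ha⟩

theorem UD.map {U V : Type*} [Group U] [Group V] {z i j x k l v c : U} (h : UD z i j x k l v c) (e : U ≃* V) :
    UD (e z) (e i) (e j) (e x) (e k) (e l) (e v) (e c) := by
  have hz1 : e z ≠ 1 := by
    intro h1
    exact h.q1.z1 (e.injective (by rw [h1, map_one]))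
  have hcl : ∀ {a b g : U}, g ∈ closure ({a, b} : Set U) → e g ∈ closure ({e a, e b} : Set V) := by
    intro a b g hg
    have h1 : e g ∈ (closure ({a, b} : Set U)).map e.toMonoidHom := ⟨g, hg, rfl⟩
    rw [MonoidHom.map_closure, Set.image_pair] at h1
    exact h1
  exact
    { q1 := ⟨by rw [← map_mul, h.q1.z2, map_one], hz1, by rw [← map_mul, h.q1.i2], by rw [← map_mul, h.q1.j2],
        by rw [← map_mul, h.q1.ji, map_mul, map_mul]⟩
      q2 := ⟨by rw [← map_mul, h.q2.z2, map_one], hz1, by rw [← map_mul, h.q2.i2], by rw [← map_mul, h.q2.j2],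
        by rw [← map_mul, h.q2.ji, map_mul, map_mul]⟩
      x3 := by rw [← map_mul, ← map_mul, h.x3, map_one]
      v3 := by rw [← map_mul, ← map_mul, h.v3, map_one]
      xi := by rw [← map_mul, ← map_inv, ← map_mul, h.xi]
      xj := by rw [← map_mul, ← map_inv, ← map_mul, h.xj, map_mul]
      vk := by rw [← map_mul, ← map_inv, ← map_mul, h.vk]
      vl := by rw [← map_mul, ← map_inv, ← map_mul, h.vl, map_mul]
      ik := by rw [← map_mul, h.ik, map_mul]
      iv := by rw [← map_mul, h.iv, map_mul]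
      xk := by rw [← map_mul, h.xk, map_mul]
      xv := by rw [← map_mul, h.xv, map_mul]
      cz := by rw [← map_mul, ← map_inv, ← map_mul, h.cz, map_mul]
      ca := by rw [← map_mul, ← map_mul, ← map_inv, ← map_mul, h.ca, map_mul]
      si := by simp only [← map_mul, ← map_inv]; exact hcl h.si
      sx := by simp only [← map_mul, ← map_inv]; exact hcl h.sx
      sk := by simp only [← map_mul, ← map_inv]; exact hcl h.sk
      sv := by simp only [← map_mul, ← map_inv]; exact hcl h.sv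
      ti := by simp only [← map_mul, ← map_inv]; exact hcl h.ti
      tx := by simp only [← map_mul, ← map_inv]; exact hcl h.tx
      tk := by simp only [← map_mul, ← map_inv]; exact hcl h.tk
      tv := by simp only [← map_mul, ← map_inv]; exact hcl h.tv
      gen := by
        intro g hg
        obtain ⟨g, rfl⟩ := e.surjective g
        rw [← map_mul, ← map_mul] at hg
        have h1 : e g ∈ (closure ({i, x, k, v, c * (j * l) * c⁻¹, c * i * c⁻¹} : Set U)).map e.toMonoidHom :=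
          ⟨g, h.gen g (e.injective hg), rfl⟩
        rw [MonoidHom.map_closure] at h1
        refine closure_mono ?_ h1
        rintro _ ⟨y, hy, rfl⟩
        simp only [Set.mem_insert_iff, Set.mem_singleton_iff] at hy ⊢
        rcases hy with rfl | rfl | rfl | rfl | rfl | rfl
        · exact Or.inl rfl
        · exact Or.inr (Or.inl rfl)
        · exact Or.inr (Or.inr (Or.inl rfl))
        · exact Or.inr (Or.inr (Or.inr (Or.inl rfl)))
        · refine Or.inr (Or.inr (Or.inr (Or.inr (Or.inl ?_))))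
          show e _ = _
          simp only [map_mul, map_inv]
        · refine Or.inr (Or.inr (Or.inr (Or.inr (Or.inr ?_))))
          show e _ = _
          simp only [map_mul, map_inv]
      one := by
        intro u hu hu1
        obtain ⟨u, rfl⟩ := e.surjective u
        obtain ⟨g, hg⟩ := h.one u (e.injective (by rw [map_mul, hu, map_one]))
          (fun h2 => hu1 (by rw [h2, map_one]))
        exact ⟨e g, by rw [← map_mul, ← map_inv, ← map_mul, hg]⟩
      cen := by
        intro g h1 h2 h3 h4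
        obtain ⟨g, rfl⟩ := e.surjective g
        rw [← map_mul, ← map_mul] at h1 h2 h3 h4
        rcases h.cen g (e.injective h1) (e.injective h2) (e.injective h3) (e.injective h4) with h5 | h5
        · left; rw [h5, map_one]
        · right; rw [h5] }

end Cfsg.Agent.OddHalf.NI3.Bad.NSideU
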