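import Cfsg.Agent.OddHalf.NI3.Bad.Defs
import Cfsg.Agent.OddHalf.NI3.Bad.NSideUD
import Cfsg.Agent.OddHalf.NI3.Bad.NSideLift

/-!
# The frame of `2.U₄(3)` (THEOREM NIB, N-side), part 4: `ExSheet` (helper146)

`N` a double cover of `U = U₄(3)`, perfect. The two `SL₂(3)` of `C_U(z)` lift to commuting subgroups `A`, `B` with the
same involution `z`. All elements over `C_U(z)` commute with `z`. By transfer the central involution `y` lies in
`C_N(z)'`, so `c z c⁻¹ = y i k`.
-/

set_option autoImplicit false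
set_option linter.unusedSectionVars false
set_option linter.style.haveILetI false

namespace Cfsg.Agent.OddHalf.NI3.Bad.NSideN

open Subgroup Cfsg Cfsg.Agent.Cit.SLThree
open Cfsg.Agent.OddHalf.NI3.Bad.NSideU (UD)
open Cfsg.Agent.Cit (cj)

universe u

/-! ### Generalities -/

section Gen

variable {G : Type*} [Group G]

/-- If all involutions are conjugate to `z`, then `z` is 2-central. -/
theorem odd_index [Finite G] {z : G} (h2 : 2 ∣ Nat.card G)
    (hc : ∀ t : G, t * t = 1 → t ≠ 1 → ∃ g, g * z * g⁻¹ = t) : Odd (centralizer ({z} : Set G)).index := by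
  have hf : Fact (Nat.Prime 2) := ⟨Nat.prime_two⟩
  obtain ⟨S⟩ : Nonempty (Sylow 2 G) := inferInstance
  have hS : (S : Subgroup G) ≠ ⊥ := S.ne_bot_of_dvd_card h2
  have hn : Nontrivial (S : Subgroup G) := (nontrivial_iff_ne_bot _).2 hS
  have hc2 := S.isPGroup'.center_nontrivial
  have hp : IsPGroup 2 (center (S : Subgroup G)) := S.isPGroup'.to_subgroup _
  have hd : 2 ∣ Nat.card (center (S : Subgroup G)) := by
    obtain ⟨n, hn⟩ := IsPGroup.iff_card.1 hp
    rw [hn]
    refine dvd_pow_self 2 ?_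
    rintro rfl
    rw [pow_zero] at hn
    have h1 := card_eq_one.1 hn
    exact (nontrivial_iff_ne_bot _).1 hc2 h1
  obtain ⟨x, hx⟩ := exists_prime_orderOf_dvd_card' 2 hd
  obtain ⟨t, ht⟩ : ∃ t : G, t = ((x : (S : Subgroup G)) : G) := ⟨_, rfl⟩
  have hto : orderOf t = 2 := by rw [ht, orderOf_coe, orderOf_coe, hx]
  have htt : t * t = 1 := by rw [← pow_two, ← hto]; exact pow_orderOf_eq_one t
  have ht1 : t ≠ 1 := by
    rintro h
    rw [h, orderOf_one] at hto
    exact absurd hto (by norm_num)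
  have hSt : (S : Subgroup G) ≤ centralizer ({t} : Set G) := by
    intro y hy
    rw [mem_centralizer_singleton_iff]
    have h1 := mem_center_iff.1 x.2 ⟨y, hy⟩
    have h2 := congrArg Subtype.val h1
    rw [ht]
    exact h2
  obtain ⟨g, hg⟩ := hc t htt ht1
  have hodd : Odd (centralizer ({t} : Set G)).index := by
    rw [← Nat.not_even_iff_odd, even_iff_two_dvd]
    intro h
    exact S.not_dvd_index (h.trans (index_dvd_of_le hSt))
  rw [← hg, ← Cit.cj_centralizer] at hodd
  rw [Cit.cj_def, index_map_of_injective _ (MulAut.conj g).injective] at hodd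
  have : (MulAut.conj g).toMonoidHom.range = ⊤ := MonoidHom.range_eq_top.2 (MulAut.conj g).surjective
  rw [this, index_top, mul_one] at hodd
  exact hodd

theorem inv_eq_of {J : Subgroup G} {z : G} (h : IsPr J z) {y : G} (hy : y ∈ J) (h2 : y * y = 1) :
    y = 1 ∨ y = z := by
  rcases h.t3.cases y hy with h5 | h5 | h5 | h5 | h5
  · exact absurd (h5.symm.trans h2) h.t3.z_ne
  · exact Or.inl h5
  · exact Or.inr h5
  · left; rwa [h2, one_mul] at h5
  · right; rwa [h2, one_mul] at h5

/-- products of commuting solvable subgroups -/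
theorem solvable_sup {A B : Subgroup G} (h : ∀ a ∈ A, ∀ b ∈ B, a * b = b * a) (hA : Group.IsSolvable A)
    (hB : Group.IsSolvable B) : Group.IsSolvable ↥(A ⊔ B) := by
  let f : A × B →* G := MonoidHom.noncommCoprod A.subtype B.subtype (fun a b => h a a.2 b b.2)
  have h1 : f.range = A ⊔ B := by
    apply le_antisymm
    · rintro _ ⟨⟨a, b⟩, rfl⟩
      exact mul_mem (mem_sup_left a.2) (mem_sup_right b.2)
    · refine sup_le (fun a ha => ⟨(⟨a, ha⟩, 1), ?_⟩) (fun b hb => ⟨(1, ⟨b, hb⟩), ?_⟩)
      · show a * 1 = a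
        rw [mul_one]
      · show 1 * b = b
        rw [one_mul]
  rw [← h1]
  exact Group.isSolvable_of_surjective f.rangeRestrict_surjective

theorem exists_mul {A B : Subgroup G} (h : ∀ a ∈ A, ∀ b ∈ B, a * b = b * a) {x : G} (hx : x ∈ A ⊔ B) :
    ∃ a ∈ A, ∃ b ∈ B, x = a * b := by
  let K : Subgroup G :=
    { carrier := {x | ∃ a ∈ A, ∃ b ∈ B, x = a * b}
      one_mem' := ⟨1, one_mem _, 1, one_mem _, (mul_one 1).symm⟩
      mul_mem' := by
        rintro _ _ ⟨a, ha, b, hb, rfl⟩ ⟨a', ha', b', hb', rfl⟩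
        refine ⟨a * a', mul_mem ha ha', b * b', mul_mem hb hb', ?_⟩
        calc a * b * (a' * b') = a * (b * a') * b' := by group
          _ = a * (a' * b) * b' := by rw [h a' ha' b hb]
          _ = _ := by group
      inv_mem' := by
        rintro _ ⟨a, ha, b, hb, rfl⟩
        exact ⟨a⁻¹, inv_mem ha, b⁻¹, inv_mem hb, by rw [h a ha b hb]; group⟩ }
  have h1 : A ⊔ B ≤ K := sup_le (fun a ha => ⟨a, ha, 1, one_mem _, (mul_one a).symm⟩)
    (fun b hb => ⟨1, one_mem _, b, hb, (one_mul b).symm⟩)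
  exact h1 hx

end Gen

/-! ### The lifted elements -/

variable {N U : Type*} [Group N] [Group U] {π : N →* U} {y z i j x k l v c : N}

/-- the lifted elements -/
structure Lf (π : N →* U) (y z i j x k l v c : N) : Prop where
  cov : Cov π y
  ud : UD (π z) (π i) (π j) (π x) (π k) (π l) (π v) (π c)
  sA : Sl (closure ({i, x} : Set N)) z i j x
  sB : Sl (closure ({k, v} : Set N)) z k l v

theorem cube_conj {g x : N} (h : x * x * x = 1) : (g * x * g⁻¹) * (g * x * g⁻¹) * (g * x * g⁻¹) = 1 := by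
  calc (g * x * g⁻¹) * (g * x * g⁻¹) * (g * x * g⁻¹) = g * (x * x * x) * g⁻¹ := by group
    _ = 1 := by rw [h, mul_one, mul_inv_cancel]

theorem exists_lf {z' i' j' x' k' l' v' c' : U} (h : Cov π y) (u : UD z' i' j' x' k' l' v' c') :
    ∃ z i j x k l v c : N, Lf π y z i j x k l v c := by
  obtain ⟨z, i, j, x, hz, hi, hj, hx, sA⟩ := h.lift_sl u.q1 u.x3 u.xi u.xj
  obtain ⟨z2, k, l, v, hz2, hk, hl, hv, sB⟩ := h.lift_sl u.q2 u.v3 u.vk u.vl
  obtain ⟨c, hc⟩ := h.surj c'
  have cxk : Commute k x := h.comm_three sA.d3 (by rw [hk, hx, u.xk])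
  have cik' : Commute (π k) (π i) := by rw [hk, hi]; exact u.ik.symm
  have cxk' : Commute (π k) (π x) := by rw [hk, hx]; exact u.xk.symm
  -- `k` commutes with `i x i⁻¹`
  have c1 : Commute k (i * x * i⁻¹) := by
    refine h.comm_three (cube_conj sA.d3) ?_
    rw [map_mul, map_mul, map_inv]
    exact ((cik'.mul_right cxk').mul_right cik'.inv_right).eq
  -- `x⁻¹ i x = i j`
  have e1 : x⁻¹ * (i * x * i⁻¹) = i * j * i⁻¹ := by
    have h1 : x⁻¹ * i * x = i * j := by
      calc x⁻¹ * i * x = x⁻¹ * (x * (i * j) * x⁻¹) * x := by rw [sA.dij]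
        _ = i * j := by group
    calc x⁻¹ * (i * x * i⁻¹) = (x⁻¹ * i * x) * i⁻¹ := by group
      _ = i * j * i⁻¹ := by rw [h1]
  have c2 : Commute k (i * j * i⁻¹) := by rw [← e1]; exact cxk.inv_right.mul_right c1
  have c3 : Commute k z := by
    have h1 : (i * j * i⁻¹) * (i * j * i⁻¹) = z := by
      calc (i * j * i⁻¹) * (i * j * i⁻¹) = i * (j * j) * i⁻¹ := by group
        _ = z := by rw [sA.q.j2, sA.q.iz, mul_inv_cancel_right]
    rw [← h1]; exact c2.mul_right c2
  have c4 : Commute k j := by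
    have h1 : z * (i * j * i⁻¹) = j := by
      calc z * (i * j * i⁻¹) = (z * (i * j)) * i⁻¹ := by group
        _ = j := by rw [← sA.q.ji, mul_inv_cancel_right]
    rw [← h1]; exact c3.mul_right c2
  have c5 : Commute k i := by
    have h1 : x⁻¹ * j * x = i := by rw [← sA.di]; group
    rw [← h1]; exact (cxk.inv_right.mul_right c4).mul_right cxk
  -- `(i k)² = 1`
  have h1 : (i * k) * (i * k) = 1 := by
    have h2 : π (i * k) * π (i * k) = 1 := by
      rw [map_mul, hi, hk]
      calc i' * k' * (i' * k') = i' * (k' * i') * k' := by group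
        _ = i' * (i' * k') * k' := by rw [u.ik]
        _ = (i' * i') * (k' * k') := by group
        _ = 1 := by rw [u.q1.i2, u.q2.i2, u.q1.z2]
    have h3 : π (i * k) ≠ 1 := by
      rw [map_mul, hi, hk]
      intro h4
      have h5 : k' = i'⁻¹ := (inv_eq_of_mul_eq_one_right h4).symm
      have h6 : Commute x' i' := by
        have : Commute x' k' := u.xk
        rw [h5] at this
        exact (Commute.inv_right_iff).1 this
      have h7 : j' = i' := by rw [← u.xi, h6.eq, mul_inv_cancel_right]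
      apply u.q1.z1
      have h8 := u.q1.ji
      rw [h7] at h8
      exact (mul_eq_right.1 h8.symm)
    obtain ⟨g', hg'⟩ := u.one _ h2 h3
    obtain ⟨g, hg⟩ := h.surj g'
    have h4 : π (g * z * g⁻¹) = π (i * k) := by rw [← hg', map_mul, map_mul, map_inv, hg, hz]
    have h5 : (g * z * g⁻¹) * (g * z * g⁻¹) = 1 := by
      calc (g * z * g⁻¹) * (g * z * g⁻¹) = g * (z * z) * g⁻¹ := by group
        _ = 1 := by rw [sA.q.z2, mul_one, mul_inv_cancel]
    rcases h.eq_or h4 with h6 | h6
    · rw [← h6, h5]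
    · rw [h6] at h5
      calc (i * k) * (i * k) = (y * y) * ((i * k) * (i * k)) := by rw [h.yy, one_mul]
        _ = y * (y * (i * k)) * (i * k) := by group
        _ = y * ((i * k) * y) * (i * k) := by rw [h.cen (i * k)]
        _ = y * (i * k) * (y * (i * k)) := by group
        _ = 1 := h5
  have hz2z : z2 = z := by
    have h2 : z * z2 = 1 := by
      calc z * z2 = (i * i) * (k * k) := by rw [sA.q.i2, sB.q.i2]
        _ = i * (i * k) * k := by group
        _ = i * (k * i) * k := by rw [c5.eq]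
        _ = (i * k) * (i * k) := by group
        _ = 1 := h1
    have h3 : z * z2 = z * z := by rw [h2, sA.q.z2]
    exact mul_left_cancel h3
  rw [hz2z] at sB
  refine ⟨z, i, j, x, k, l, v, c, h, ?_, sA, sB⟩
  rw [hz, hi, hj, hx, hk, hl, hv, hc]
  exact u

namespace Lf

variable [Finite N] (h : Lf π y z i j x k l v c)

include h

theorem z_ord : orderOf z = 2 := orderOf_eq_prime (by rw [pow_two]; exact h.sA.q.z2) h.sA.q.z1

theorem prA : IsPr (closure ({i, x} : Set N)) z := ⟨sl_iso h.sA, h.z_ord, h.sA.hz⟩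

theorem prB : IsPr (closure ({k, v} : Set N)) z := ⟨sl_iso h.sB, h.z_ord, h.sB.hz⟩

theorem pz : π z ≠ 1 := h.ud.q1.z1

theorem yA : y ∉ closure ({i, x} : Set N) := fun hy => h.cov.y1 (h.prA.inj π h.pz hy h.cov.py)

theorem yB : y ∉ closure ({k, v} : Set N) := fun hy => h.cov.y1 (h.prB.inj π h.pz hy h.cov.py)

/-- `A` and `B` commute -/
theorem comm : ∀ a ∈ closure ({i, x} : Set N), ∀ b ∈ closure ({k, v} : Set N), a * b = b * a := by
  -- the elements of order 3 of `B` commute with all elements of `A`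
  have hp : ∀ a ∈ closure ({i, x} : Set N), ∀ b ∈ closure ({k, v} : Set N), π a * π b = π b * π a := by
    have h1 : closure ({i, x} : Set N) ≤ (centralizer ({π k, π v} : Set U)).comap π := by
      rw [closure_le]
      rintro a (rfl | rfl)
      · show π a ∈ centralizer _
        rw [mem_centralizer_iff]
        rintro b (rfl | rfl)
        · exact h.ud.ik.symm
        · exact h.ud.iv.symm
      · show π a ∈ centralizer _
        rw [mem_centralizer_iff]
        rintro b (rfl | rfl)
        · exact h.ud.xk.symm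
        · exact h.ud.xv.symm
    intro a ha b hb
    have h2 : closure ({k, v} : Set N) ≤ (centralizer ({π a} : Set U)).comap π := by
      rw [closure_le]
      have h3 := mem_centralizer_iff.1 (h1 ha)
      rintro b (rfl | rfl)
      · show π b ∈ centralizer _
        rw [mem_centralizer_singleton_iff]
        exact h3 _ (by simp)
      · show π b ∈ centralizer _
        rw [mem_centralizer_singleton_iff]
        exact h3 _ (by simp)
    exact (mem_centralizer_singleton_iff.1 (h2 hb)).symm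
  intro a ha b hb
  have h1 : closure ({k, v} : Set N) ≤ centralizer ({a} : Set N) := by
    refine h.prB.le_of_cube fun b hb hb3 => ?_
    rw [mem_centralizer_singleton_iff]
    exact (h.cov.comm_three hb3 (hp a ha b hb)).symm
  exact (mem_centralizer_singleton_iff.1 (h1 hb)).symm

omit h in
/-- conjugates of lifts -/
theorem cj_le_of (cov : Cov π y) {J J' : Subgroup N} {z z' : N} (h1 : IsPr J z) (h2 : IsPr J' z')
    (hz : π z' ≠ 1) (g : N) (H : ∀ a ∈ J, π (g * a * g⁻¹) ∈ J'.map π) : cj g J ≤ J' := by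
  have h3 : J ≤ J'.comap (MulAut.conj g).toMonoidHom := by
    refine h1.le_of_cube fun a ha h3 => ?_
    show g * a * g⁻¹ ∈ J'
    obtain ⟨b, hb, e⟩ := H a ha
    rcases cov.eq_or e with h4 | h4
    · rwa [← h4]
    · exfalso
      have h5 := cube_conj (g := g) h3
      obtain ⟨w, hw⟩ : ∃ w, g * a * g⁻¹ = w := ⟨_, rfl⟩
      rw [hw] at h5 h4
      have h6 : b * b * b = y := by
        rw [h4]
        calc y * w * (y * w) * (y * w) = y * (w * y) * (w * y) * w := by group
          _ = y * (y * w) * (y * w) * w := by rw [cov.cen w]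
          _ = (y * y) * (w * y) * w * w := by group
          _ = (y * y) * (y * w) * w * w := by rw [cov.cen w]
          _ = (y * y) * y * (w * w * w) := by group
          _ = y := by rw [h5, cov.yy, one_mul, mul_one]
      have h7 : y ∈ J' := by rw [← h6]; exact mul_mem (mul_mem hb hb) hb
      exact cov.y1 (h2.inj π hz h7 cov.py)
  rintro _ ⟨a, ha, rfl⟩
  exact h3 ha

omit h [Finite N] in
/-- conjugation of generators -/
theorem gens {p q p' q' : N} (g : N) (h1 : π g * π p * (π g)⁻¹ ∈ closure ({π p', π q'} : Set U))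
    (h2 : π g * π q * (π g)⁻¹ ∈ closure ({π p', π q'} : Set U)) :
    ∀ a ∈ closure ({p, q} : Set N), π (g * a * g⁻¹) ∈ (closure ({p', q'} : Set N)).map π := by
  rw [MonoidHom.map_closure, Set.image_pair]
  have h3 : closure ({p, q} : Set N) ≤ (closure ({π p', π q'} : Set U)).comap
      (π.comp (MulAut.conj g).toMonoidHom) := by
    rw [closure_le]
    rintro a (rfl | rfl)
    · show π (g * a * g⁻¹) ∈ closure ({π p', π q'} : Set U)
      rw [map_mul, map_mul, map_inv]; exact h1
    · show π (g * a * g⁻¹) ∈ closure ({π p', π q'} : Set U)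
      rw [map_mul, map_mul, map_inv]; exact h2
  exact fun a ha => h3 ha

theorem cjs_A : cj (c * (j * l) * c⁻¹) (closure ({i, x} : Set N)) ≤ closure ({k, v} : Set N) := by
  refine cj_le_of h.cov h.prA h.prB h.pz _ (gens _ ?_ ?_)
  · simp only [map_mul, map_inv]; exact h.ud.si
  · simp only [map_mul, map_inv]; exact h.ud.sx

theorem cjs_B : cj (c * (j * l) * c⁻¹) (closure ({k, v} : Set N)) ≤ closure ({i, x} : Set N) := by
  refine cj_le_of h.cov h.prB h.prA h.pz _ (gens _ ?_ ?_)
  · simp only [map_mul, map_inv]; exact h.ud.sk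
  · simp only [map_mul, map_inv]; exact h.ud.sv

theorem cjt_A : cj (c * i * c⁻¹) (closure ({i, x} : Set N)) ≤ closure ({i, x} : Set N) := by
  refine cj_le_of h.cov h.prA h.prA h.pz _ (gens _ ?_ ?_)
  · simp only [map_mul, map_inv]; exact h.ud.ti
  · simp only [map_mul, map_inv]; exact h.ud.tx

theorem cjt_B : cj (c * i * c⁻¹) (closure ({k, v} : Set N)) ≤ closure ({k, v} : Set N) := by
  refine cj_le_of h.cov h.prB h.prB h.pz _ (gens _ ?_ ?_)
  · simp only [map_mul, map_inv]; exact h.ud.tk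
  · simp only [map_mul, map_inv]; exact h.ud.tv

theorem jl : (j * l) * (j * l) = 1 := by
  have h1 := h.comm j h.sA.hj l h.sB.hj
  calc (j * l) * (j * l) = j * (l * j) * l := by group
    _ = j * (j * l) * l := by rw [h1]
    _ = (j * j) * (l * l) := by group
    _ = 1 := by rw [h.sA.q.j2, h.sB.q.j2, h.sA.q.z2]

theorem ss : (c * (j * l) * c⁻¹) * (c * (j * l) * c⁻¹) = 1 := by
  calc (c * (j * l) * c⁻¹) * (c * (j * l) * c⁻¹) = c * ((j * l) * (j * l)) * c⁻¹ := by group
    _ = 1 := by rw [h.jl, mul_one, mul_inv_cancel]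

theorem sA_eq : cj (c * (j * l) * c⁻¹) (closure ({i, x} : Set N)) = closure ({k, v} : Set N) := by
  refine le_antisymm h.cjs_A ?_
  have h1 := Cit.cj_mono (c * (j * l) * c⁻¹) h.cjs_B
  rwa [← Cit.cj_mul, h.ss, Cit.cj_one] at h1

theorem sB_eq : cj (c * (j * l) * c⁻¹) (closure ({k, v} : Set N)) = closure ({i, x} : Set N) := by
  refine le_antisymm h.cjs_B ?_
  have h1 := Cit.cj_mono (c * (j * l) * c⁻¹) h.cjs_A
  rwa [← Cit.cj_mul, h.ss, Cit.cj_one] at h1

theorem tA_eq : cj (c * i * c⁻¹) (closure ({i, x} : Set N)) = closure ({i, x} : Set N) :=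
  eq_of_le_of_card_ge h.cjt_A (Cit.card_cj _ _).ge

theorem tB_eq : cj (c * i * c⁻¹) (closure ({k, v} : Set N)) = closure ({k, v} : Set N) :=
  eq_of_le_of_card_ge h.cjt_B (Cit.card_cj _ _).ge

/-- a subgroup `SL₂(3)` determines its involution -/
theorem z_of_cj {g : N} {J J' : Subgroup N} (h1 : IsPr J z) (h2 : IsPr J' z) (e : cj g J = J') : g * z = z * g := by
  have h3 : g * z * g⁻¹ ∈ J' := by rw [← e]; exact Cit.conj_mem_cj h1.mem
  have h4 : (g * z * g⁻¹) * (g * z * g⁻¹) = 1 := by
    calc (g * z * g⁻¹) * (g * z * g⁻¹) = g * (z * z) * g⁻¹ := by group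
      _ = 1 := by rw [h.sA.q.z2, mul_one, mul_inv_cancel]
  rcases inv_eq_of h2 h3 h4 with h5 | h5
  · exfalso
    apply h.sA.q.z1
    have h6 : g * z = g := by rwa [mul_inv_eq_one] at h5
    exact mul_eq_left.1 h6
  · rwa [mul_inv_eq_iff_eq_mul] at h5

theorem sz : c * (j * l) * c⁻¹ * z = z * (c * (j * l) * c⁻¹) := h.z_of_cj h.prA h.prB h.sA_eq

theorem tz : c * i * c⁻¹ * z = z * (c * i * c⁻¹) := h.z_of_cj h.prA h.prA h.tA_eq

/-- generators of the elements over `C_U(z)` -/
theorem mem_W {g : N} (hg : π g * π z = π z * π g) :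
    g ∈ closure (insert y ({i, x, k, v, c * (j * l) * c⁻¹, c * i * c⁻¹} : Set N)) := by
  refine h.cov.mem_closure ?_
  have h1 := h.ud.gen (π g) hg
  simp only [Set.image_insert_eq, Set.image_singleton, map_mul, map_inv]
  exact h1

/-- the elements over `C_U(z)` commute with `z` -/
theorem comm_z {g : N} (hg : π g * π z = π z * π g) : g * z = z * g := by
  have h1 : closure (insert y ({i, x, k, v, c * (j * l) * c⁻¹, c * i * c⁻¹} : Set N)) ≤
      centralizer ({z} : Set N) := by
    rw [closure_le]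
    intro a ha
    rw [SetLike.mem_coe, mem_centralizer_singleton_iff]
    simp only [Set.mem_insert_iff, Set.mem_singleton_iff] at ha
    rcases ha with rfl | rfl | rfl | rfl | rfl | rfl | rfl
    · exact (h.cov.cen z).symm
    · exact h.sA.q.iz
    · exact h.sA.dz
    · exact h.sB.q.iz
    · exact h.sB.dz
    · exact h.sz
    · exact h.tz
  exact mem_centralizer_singleton_iff.1 (h1 (h.mem_W hg))

theorem comm_iff {g : N} : g * z = z * g ↔ π g * π z = π z * π g :=
  ⟨fun h1 => by rw [← map_mul, h1, map_mul], h.comm_z⟩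

theorem cent_eq : centralizer ({z} : Set N) = (centralizer ({π z} : Set U)).comap π := by
  ext g
  rw [mem_comap, mem_centralizer_singleton_iff, mem_centralizer_singleton_iff]
  exact h.comm_iff

theorem cent_eq' : centralizer ({z} : Set N) =
    closure (insert y ({i, x, k, v, c * (j * l) * c⁻¹, c * i * c⁻¹} : Set N)) := by
  apply le_antisymm
  · intro g hg
    exact h.mem_W (h.comm_iff.1 (mem_centralizer_singleton_iff.1 hg))
  · rw [closure_le]
    intro a ha
    rw [SetLike.mem_coe, mem_centralizer_singleton_iff]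
    simp only [Set.mem_insert_iff, Set.mem_singleton_iff] at ha
    rcases ha with rfl | rfl | rfl | rfl | rfl | rfl | rfl
    · exact (h.cov.cen z).symm
    · exact h.sA.q.iz
    · exact h.sA.dz
    · exact h.sB.q.iz
    · exact h.sB.dz
    · exact h.sz
    · exact h.tz

/-- `A B` is normal in `C(z)` -/
theorem norm {g : N} (hg : g * z = z * g) :
    cj g (closure ({i, x} : Set N) ⊔ closure ({k, v} : Set N)) =
      closure ({i, x} : Set N) ⊔ closure ({k, v} : Set N) := by
  rw [← Cit.mem_normalizer_iff_cj]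
  have h1 : closure (insert y ({i, x, k, v, c * (j * l) * c⁻¹, c * i * c⁻¹} : Set N)) ≤
      normalizer ((closure ({i, x} : Set N) ⊔ closure ({k, v} : Set N) : Subgroup N) : Set N) := by
    have h2 : closure ({i, x} : Set N) ⊔ closure ({k, v} : Set N) ≤
      normalizer ((closure ({i, x} : Set N) ⊔ closure ({k, v} : Set N) : Subgroup N) : Set N) := le_normalizer
    rw [closure_le]
    intro a ha
    simp only [Set.mem_insert_iff, Set.mem_singleton_iff] at ha
    rcases ha with rfl | rfl | rfl | rfl | rfl | rfl | rfl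
    · rw [SetLike.mem_coe, mem_normalizer_iff]
      intro g
      rw [← h.cov.cen g, mul_inv_cancel_right]
    · exact h2 (mem_sup_left h.sA.hi)
    · exact h2 (mem_sup_left h.sA.hd)
    · exact h2 (mem_sup_right h.sB.hi)
    · exact h2 (mem_sup_right h.sB.hd)
    · rw [SetLike.mem_coe, Cit.mem_normalizer_iff_cj, Cit.cj_sup, h.sA_eq, h.sB_eq, sup_comm]
    · rw [SetLike.mem_coe, Cit.mem_normalizer_iff_cj, Cit.cj_sup, h.tA_eq, h.tB_eq]
  exact h1 (h.mem_W (h.comm_iff.1 hg))

theorem le_cent : closure ({i, x} : Set N) ⊔ closure ({k, v} : Set N) ≤ centralizer ({z} : Set N) := by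
  refine sup_le ?_ ?_
  · intro a ha
    rw [mem_centralizer_singleton_iff]
    exact h.prA.comm_z ha
  · intro a ha
    rw [mem_centralizer_singleton_iff]
    exact h.prB.comm_z ha

/-- `C_N(A B)` -/
theorem cent_AB {g : N} (hA : ∀ a ∈ closure ({i, x} : Set N), π g * π a = π a * π g)
    (hB : ∀ b ∈ closure ({k, v} : Set N), π g * π b = π b * π g) : g = 1 ∨ g = y ∨ g = z ∨ g = y * z := by
  rcases h.ud.cen (π g) (hA _ h.sA.hi) (hA _ h.sA.hd) (hB _ h.sB.hi) (hB _ h.sB.hd) with h1 | h1
  · rcases h.cov.ker g h1 with h2 | h2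
    · exact Or.inl h2
    · exact Or.inr (Or.inl h2)
  · rcases h.cov.eq_or h1 with h2 | h2
    · exact Or.inr (Or.inr (Or.inl h2))
    · exact Or.inr (Or.inr (Or.inr h2))

theorem y_notMem : y ∉ closure ({i, x} : Set N) ⊔ closure ({k, v} : Set N) := by
  intro hy
  obtain ⟨a, ha, b, hb, e⟩ := exists_mul h.comm hy
  have h1 : π a = (π b)⁻¹ := by
    have := congrArg π e
    rw [h.cov.py, map_mul] at this
    exact eq_inv_of_mul_eq_one_left this.symm
  have h2 := h.cent_AB (g := a) (fun a' ha' => by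
      rw [h1, ← map_inv, ← map_mul, ← map_mul, h.comm a' ha' b⁻¹ (inv_mem hb)]) (fun b' hb' => by
      rw [← map_mul, ← map_mul, h.comm a ha b' hb'])
  have hzA : z ∈ closure ({i, x} : Set N) := h.sA.hz
  have hzB : z ∈ closure ({k, v} : Set N) := h.sB.hz
  rcases h2 with h3 | h3 | h3 | h3
  · rw [h3, one_mul] at e
    exact h.yB (by rw [e]; exact hb)
  · exact h.yA (by rw [← h3]; exact ha)
  · rw [h3] at e
    exact h.yB (by rw [e]; exact mul_mem hzB hb)
  · apply h.yA
    have : y = a * z := by rw [h3, mul_assoc, h.sA.q.z2, mul_one]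
    rw [this]; exact mul_mem ha hzA

/-- the commutator of `s` and `t` -/
theorem st_comm : (c * (j * l) * c⁻¹) * (c * i * c⁻¹) * (c * (j * l) * c⁻¹)⁻¹ * (c * i * c⁻¹)⁻¹ = c * z * c⁻¹ := by
  have h1 : i * l = l * i := h.comm i h.sA.hi l h.sB.hj
  have h2 : j * i * j⁻¹ = z * i := by rw [h.sA.q.ji]; group
  calc (c * (j * l) * c⁻¹) * (c * i * c⁻¹) * (c * (j * l) * c⁻¹)⁻¹ * (c * i * c⁻¹)⁻¹
      = c * (j * (l * i) * l⁻¹ * j⁻¹ * i⁻¹) * c⁻¹ := by group
    _ = c * (j * (i * l) * l⁻¹ * j⁻¹ * i⁻¹) * c⁻¹ := by rw [h1]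
    _ = c * ((j * i * j⁻¹) * i⁻¹) * c⁻¹ := by group
    _ = c * z * c⁻¹ := by rw [h2, mul_inv_cancel_right]

theorem odd_cent : Odd (centralizer ({z} : Set N)).index := by
  haveI : Finite U := Finite.of_surjective π h.cov.surj
  have h1 : Odd (centralizer ({π z} : Set U)).index := by
    refine odd_index ?_ h.ud.one
    have h2 : orderOf (π z) = 2 := orderOf_eq_prime (by rw [pow_two]; exact h.ud.q1.z2) h.ud.q1.z1
    rw [← h2]
    exact _root_.orderOf_dvd_natCard _
  rw [h.cent_eq, index_comap_of_surjective _ h.cov.surj]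
  exact h1

/-- **the rotation: `c z c⁻¹ = y i k`** -/
theorem czc (hp : commutator N = ⊤) : c * z * c⁻¹ = y * (i * k) := by
  rcases h.cov.eq_or (g := c * z * c⁻¹) (g' := i * k) (by
      simp only [map_mul, map_inv]; exact h.ud.cz) with h1 | h1
  · exfalso
    set M := closure ({i, x} : Set N) ⊔ closure ({k, v} : Set N) with hM
    have hn : ∀ g ∈ centralizer ({z} : Set N), ∀ m ∈ M, g * m * g⁻¹ ∈ M := by
      intro g hg m hm
      have h2 := h.norm (mem_centralizer_singleton_iff.1 hg)
      rw [← hM] at h2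
      rw [← h2]
      exact Cit.conj_mem_cj hm
    have hyC : y ∈ centralizer ({z} : Set N) := mem_centralizer_singleton_iff.2 (h.cov.cen z).symm
    have h2 := mem_comm hp h.odd_cent hyC h.cov.cen h.cov.yy
    refine h.y_notMem (commutator_le_of hn h.cent_eq' ?_ h2)
    have hSC : ∀ a ∈ insert y ({i, x, k, v, c * (j * l) * c⁻¹, c * i * c⁻¹} : Set N),
        a ∈ centralizer ({z} : Set N) := fun a ha => by rw [h.cent_eq']; exact subset_closure ha
    have key : ∀ a ∈ insert y ({i, x, k, v, c * (j * l) * c⁻¹, c * i * c⁻¹} : Set N),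
        a = y ∨ a ∈ M ∨ a = c * (j * l) * c⁻¹ ∨ a = c * i * c⁻¹ := by
      intro a ha
      simp only [Set.mem_insert_iff, Set.mem_singleton_iff] at ha
      rcases ha with rfl | rfl | rfl | rfl | rfl | rfl | rfl
      · exact Or.inl rfl
      · exact Or.inr (Or.inl (mem_sup_left h.sA.hi))
      · exact Or.inr (Or.inl (mem_sup_left h.sA.hd))
      · exact Or.inr (Or.inl (mem_sup_right h.sB.hi))
      · exact Or.inr (Or.inl (mem_sup_right h.sB.hd))
      · exact Or.inr (Or.inr (Or.inl rfl))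
      · exact Or.inr (Or.inr (Or.inr rfl))
    have hst : (c * (j * l) * c⁻¹) * (c * i * c⁻¹) * (c * (j * l) * c⁻¹)⁻¹ * (c * i * c⁻¹)⁻¹ ∈ M := by
      rw [h.st_comm, h1]
      exact mul_mem (mem_sup_left h.sA.hi) (mem_sup_right h.sB.hi)
    intro a ha b hb
    have hyl : ∀ g : N, y * g * y⁻¹ * g⁻¹ = 1 := by
      intro g; rw [← h.cov.cen g]; group
    have hyr : ∀ g : N, g * y * g⁻¹ * y⁻¹ = 1 := by
      intro g; rw [h.cov.cen g]; group
    rcases key a ha with h3 | h3 | h3 | h3
    · rw [h3, hyl]; exact one_mem _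
    · have h4 := hn b (hSC b hb) _ (inv_mem h3)
      have : a * b * a⁻¹ * b⁻¹ = a * (b * a⁻¹ * b⁻¹) := by group
      rw [this]; exact mul_mem h3 h4
    all_goals
      rcases key b hb with h5 | h5 | h5 | h5
      · rw [h5, hyr]; exact one_mem _
      · exact mul_mem (hn a (hSC a ha) _ h5) (inv_mem h5)
    · rw [h3, h5]; group; exact one_mem _
    · rw [h3, h5]; exact hst
    · rw [h3, h5]
      have h6 := inv_mem hst
      have : ((c * (j * l) * c⁻¹) * (c * i * c⁻¹) * (c * (j * l) * c⁻¹)⁻¹ * (c * i * c⁻¹)⁻¹)⁻¹ =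
        (c * i * c⁻¹) * (c * (j * l) * c⁻¹) * (c * i * c⁻¹)⁻¹ * (c * (j * l) * c⁻¹)⁻¹ := by group
      rwa [this] at h6
    · rw [h3, h5]; group; exact one_mem _
  · exact h1

theorem ik : i * k = k * i := h.comm i h.sA.hi k h.sB.hi

theorem aa : (i * k) * (i * k) = 1 := by
  calc (i * k) * (i * k) = i * (k * i) * k := by group
    _ = i * (i * k) * k := by rw [h.ik]
    _ = (i * i) * (k * k) := by group
    _ = 1 := by rw [h.sA.q.i2, h.sB.q.i2, h.sA.q.z2]

theorem az : (i * k) * z = z * (i * k) := by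
  calc (i * k) * z = i * (k * z) := by group
    _ = (i * z) * k := by rw [h.sB.q.iz]; group
    _ = z * (i * k) := by rw [h.sA.q.iz]; group

/-- `a b = z` -/
theorem ab : (i * k) * (z * (i * k)) = z := by
  rw [← mul_assoc, h.az, mul_assoc, h.aa, mul_one]

/-- `a b e = y` -/
theorem abe : (i * k) * (z * (i * k)) * (z * y) = y := by
  rw [h.ab, ← mul_assoc, h.sA.q.z2, one_mul]

/-- `j a j⁻¹ = b` -/
theorem jaj : j * (i * k) * j⁻¹ = z * (i * k) := by
  have h1 : j * k = k * j := h.comm j h.sA.hj k h.sB.hi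
  calc j * (i * k) * j⁻¹ = (j * i) * (k * j⁻¹) := by group
    _ = (z * (i * j)) * (k * j⁻¹) := by rw [h.sA.q.ji]
    _ = z * i * (j * k) * j⁻¹ := by group
    _ = z * i * (k * j) * j⁻¹ := by rw [h1]
    _ = z * (i * k) := by group

theorem rot1 (hp : commutator N = ⊤) : c * (z * y) * c⁻¹ = i * k := by
  calc c * (z * y) * c⁻¹ = (c * z * c⁻¹) * (c * y * c⁻¹) := by group
    _ = y * (i * k) * y := by rw [h.czc hp, h.cov.cen c, mul_inv_cancel_right]
    _ = (y * y) * (i * k) := by rw [mul_assoc, h.cov.cen (i * k)]; group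
    _ = i * k := by rw [h.cov.yy, one_mul]

theorem rot2 (hp : commutator N = ⊤) : c * (i * k) * c⁻¹ = z * (i * k) := by
  rcases h.cov.eq_or (g := c * (i * k) * c⁻¹) (g' := z * (i * k)) (by
      simp only [map_mul, map_inv]; exact h.ud.ca) with h1 | h1
  · exact h1
  exfalso
  -- `g z g⁻¹ = y z` for `g = c⁻² j c`
  have h2 : j * c * z * (j * c)⁻¹ = y * (z * (i * k)) := by
    calc j * c * z * (j * c)⁻¹ = j * (c * z * c⁻¹) * j⁻¹ := by group
      _ = (j * y) * (i * k) * j⁻¹ := by rw [h.czc hp]; group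
      _ = y * (j * (i * k) * j⁻¹) := by rw [h.cov.cen j]; group
      _ = y * (z * (i * k)) := by rw [h.jaj]
  rw [← h1] at h2
  have h3 : c⁻¹ * (j * c) * z * (c⁻¹ * (j * c))⁻¹ = i * k := by
    calc c⁻¹ * (j * c) * z * (c⁻¹ * (j * c))⁻¹ = c⁻¹ * (j * c * z * (j * c)⁻¹) * c := by group
      _ = i * k := by rw [h2]; group
  rw [← h.rot1 hp] at h3
  have h4 : (c⁻¹ * (c⁻¹ * (j * c))) * z * (c⁻¹ * (c⁻¹ * (j * c)))⁻¹ = z * y := by
    calc (c⁻¹ * (c⁻¹ * (j * c))) * z * (c⁻¹ * (c⁻¹ * (j * c)))⁻¹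
        = c⁻¹ * (c⁻¹ * (j * c) * z * (c⁻¹ * (j * c))⁻¹) * c := by
          rw [mul_inv_rev c⁻¹ (c⁻¹ * (j * c)), inv_inv]; simp only [mul_assoc]
      _ = z * y := by rw [h3]; group
  obtain ⟨g, hg⟩ : ∃ g, c⁻¹ * (c⁻¹ * (j * c)) = g := ⟨_, rfl⟩
  rw [hg] at h4
  have h5 : π g * π z = π z * π g := by
    have h6 := congrArg π h4
    simp only [map_mul, map_inv, h.cov.py, mul_one] at h6
    exact mul_inv_eq_iff_eq_mul.1 h6
  have h6 := h.comm_z h5
  rw [h6, mul_inv_cancel_right] at h4
  exact h.cov.y1 (mul_eq_left.1 h4.symm)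

theorem rot3 (hp : commutator N = ⊤) : c * (z * (i * k)) * c⁻¹ = z * y := by
  calc c * (z * (i * k)) * c⁻¹ = (c * z * c⁻¹) * (c * (i * k) * c⁻¹) := by group
    _ = y * (i * k) * (z * (i * k)) := by rw [h.czc hp, h.rot2 hp]
    _ = y * ((i * k) * (z * (i * k))) := by group
    _ = z * y := by rw [h.ab, h.cov.cen z]

/-- `C(z)` is solvable -/
theorem solv (hp : commutator N = ⊤) : Group.IsSolvable ↥(centralizer ({z} : Set N)) := by
  set M := closure ({i, x} : Set N) ⊔ closure ({k, v} : Set N) with hM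
  have hMs : Group.IsSolvable ↥M := solvable_sup h.comm h.prA.solvable h.prB.solvable
  have hM2 : Group.IsSolvable ↥(M ⊔ zpowers y) := by
    refine solvable_sup ?_ hMs inferInstance
    intro a _ b hb
    obtain ⟨n, rfl⟩ := mem_zpowers_iff.1 hb
    exact (show Commute a y from h.cov.cen a).zpow_right n
  have hn : ∀ g ∈ centralizer ({z} : Set N), ∀ m ∈ M ⊔ zpowers y, g * m * g⁻¹ ∈ M ⊔ zpowers y := by
    intro g hg m hm
    have h1 : cj g (M ⊔ zpowers y) = M ⊔ zpowers y := by
      rw [Cit.cj_sup, h.norm (mem_centralizer_singleton_iff.1 hg)]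
      congr 1
      rw [Cit.cj_def, MonoidHom.map_zpowers]
      congr 1
      show g * y * g⁻¹ = y
      rw [h.cov.cen g, mul_inv_cancel_right]
    rw [← h1]
    exact Cit.conj_mem_cj hm
  have hy : y ∈ M ⊔ zpowers y := mem_sup_right (mem_zpowers y)
  have hle : ⁅centralizer ({z} : Set N), centralizer ({z} : Set N)⁆ ≤ M ⊔ zpowers y := by
    refine commutator_le_of hn h.cent_eq' ?_
    have hSC : ∀ a ∈ insert y ({i, x, k, v, c * (j * l) * c⁻¹, c * i * c⁻¹} : Set N),
        a ∈ centralizer ({z} : Set N) := fun a ha => by rw [h.cent_eq']; exact subset_closure ha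
    have key : ∀ a ∈ insert y ({i, x, k, v, c * (j * l) * c⁻¹, c * i * c⁻¹} : Set N),
        a ∈ M ⊔ zpowers y ∨ a = c * (j * l) * c⁻¹ ∨ a = c * i * c⁻¹ := by
      intro a ha
      simp only [Set.mem_insert_iff, Set.mem_singleton_iff] at ha
      rcases ha with rfl | rfl | rfl | rfl | rfl | rfl | rfl
      · exact Or.inl hy
      · exact Or.inl (mem_sup_left (mem_sup_left h.sA.hi))
      · exact Or.inl (mem_sup_left (mem_sup_left h.sA.hd))
      · exact Or.inl (mem_sup_left (mem_sup_right h.sB.hi))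
      · exact Or.inl (mem_sup_left (mem_sup_right h.sB.hd))
      · exact Or.inr (Or.inl rfl)
      · exact Or.inr (Or.inr rfl)
    have hst : (c * (j * l) * c⁻¹) * (c * i * c⁻¹) * (c * (j * l) * c⁻¹)⁻¹ * (c * i * c⁻¹)⁻¹ ∈ M ⊔ zpowers y := by
      rw [h.st_comm, h.czc hp]
      exact mul_mem hy (mul_mem (mem_sup_left (mem_sup_left h.sA.hi)) (mem_sup_left (mem_sup_right h.sB.hi)))
    intro a ha b hb
    rcases key a ha with h3 | h3 | h3
    · have h4 := hn b (hSC b hb) _ (inv_mem h3)
      have : a * b * a⁻¹ * b⁻¹ = a * (b * a⁻¹ * b⁻¹) := by group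
      rw [this]; exact mul_mem h3 h4
    all_goals
      rcases key b hb with h5 | h5 | h5
      · exact mul_mem (hn a (hSC a ha) _ h5) (inv_mem h5)
    · rw [h3, h5]; group; exact one_mem _
    · rw [h3, h5]; exact hst
    · rw [h3, h5]
      have h6 := inv_mem hst
      have : ((c * (j * l) * c⁻¹) * (c * i * c⁻¹) * (c * (j * l) * c⁻¹)⁻¹ * (c * i * c⁻¹)⁻¹)⁻¹ =
        (c * i * c⁻¹) * (c * (j * l) * c⁻¹) * (c * i * c⁻¹)⁻¹ * (c * (j * l) * c⁻¹)⁻¹ := by group
      rwa [this] at h6
    · rw [h3, h5]; group; exact one_mem _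
  have hcs : Group.IsSolvable ↥(commutator ↥(centralizer ({z} : Set N))) := by
    have h1 : (commutator ↥(centralizer ({z} : Set N))).map (centralizer ({z} : Set N)).subtype ≤ M ⊔ zpowers y := by
      rw [map_subtype_commutator]; exact hle
    let f : ↥(commutator ↥(centralizer ({z} : Set N))) →* ↥(M ⊔ zpowers y) :=
      { toFun := fun g => ⟨((g : ↥(centralizer ({z} : Set N))) : N), h1 ⟨_, g.2, rfl⟩⟩
        map_one' := rfl
        map_mul' := fun _ _ => rfl }
    exact Group.isSolvable_of_isSolvable_injective (f := f) (fun a b hab => by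
      have h2 := congrArg Subtype.val hab
      exact Subtype.ext (Subtype.ext h2))
  refine (Group.isSolvable_iff_subgroup_quotient (commutator ↥(centralizer ({z} : Set N)))).2 ⟨hcs, ?_⟩
  exact (inferInstance : Group.IsSolvable (Abelianization ↥(centralizer ({z} : Set N))))

/-- **the frame** -/
theorem sheet (hq : IsQuasisimple N) (hc : ∀ g, (∀ g', g' * g = g * g') → g = 1 ∨ g = y) :
    Sheet (⊤ : Subgroup N) (i * k) (z * (i * k)) (z * y) (closure ({i, x} : Set N)) (closure ({k, v} : Set N)) := by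
  have hp : commutator N = ⊤ := hq.1.commutator_eq_top
  have hb : (z * (i * k)) * (z * (i * k)) = 1 := by
    calc (z * (i * k)) * (z * (i * k)) = z * ((i * k) * (z * (i * k))) := by group
      _ = 1 := by rw [h.ab, h.sA.q.z2]
  have hez : z * y = y * z := h.cov.cen z
  have hnA : ∀ g, g * z = z * g → cj g (closure ({i, x} : Set N) ⊔ closure ({k, v} : Set N)) =
      closure ({i, x} : Set N) ⊔ closure ({k, v} : Set N) := fun g hg => h.norm hg
  have hsn : Sn (closure ({i, x} : Set N) ⊔ closure ({k, v} : Set N)) (centralizer ({z} : Set N)) := by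
    refine Sn.of_normal h.le_cent ?_
    intro g hg
    rw [Cit.mem_normalizer_iff_cj]
    exact h.norm (mem_centralizer_singleton_iff.1 hg)
  have hsA : Sn (closure ({i, x} : Set N)) (centralizer ({z} : Set N)) := by
    refine Sn.trans (Sn.of_normal le_sup_left ?_) hsn
    refine sup_le le_normalizer ?_
    intro b hb
    rw [mem_normalizer_iff]
    intro g
    constructor
    · intro hg
      rw [← h.comm g hg b hb, mul_inv_cancel_right]; exact hg
    · intro hg
      have h1 := h.comm _ hg b⁻¹ (inv_mem hb)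
      have h2 : g = b * g * b⁻¹ := by
        calc g = b⁻¹ * (b * g * b⁻¹) * b := by group
          _ = (b * g * b⁻¹ * b⁻¹) * b := by rw [h1]
          _ = b * g * b⁻¹ := by group
      rw [h2]; exact hg
  have hsB : Sn (closure ({k, v} : Set N)) (centralizer ({z} : Set N)) := by
    refine Sn.trans (Sn.of_normal le_sup_right ?_) hsn
    refine sup_le ?_ le_normalizer
    intro b hb
    rw [mem_normalizer_iff]
    intro g
    constructor
    · intro hg
      rw [h.comm b hb g hg, mul_inv_cancel_right]; exact hg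
    · intro hg
      have h1 := h.comm b⁻¹ (inv_mem hb) _ hg
      have h2 : g = b * g * b⁻¹ := by
        calc g = b⁻¹ * (b * g * b⁻¹) * b := by group
          _ = (b * g * b⁻¹ * b⁻¹) * b := by rw [h1]
          _ = b * g * b⁻¹ := by group
      rw [h2]; exact hg
  refine
    { qs := SignalizersComponents.LayerBasic.quasisimple_congr topEquiv.symm hq
      aN := mem_top _
      bN := mem_top _
      eN := mem_top _
      aa := h.aa
      bb := hb
      ee := by
        calc (z * y) * (z * y) = (z * y) * (y * z) := by rw [hez]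
          _ = z * (y * y) * z := by group
          _ = 1 := by rw [h.cov.yy, mul_one, h.sA.q.z2]
      ab := by
        calc (i * k) * (z * (i * k)) = ((i * k) * z) * (i * k) := by group
          _ = z * (i * k) * (i * k) := by rw [h.az]
      ae := by
        calc (i * k) * (z * y) = ((i * k) * z) * y := by group
          _ = z * ((i * k) * y) := by rw [h.az]; group
          _ = z * y * (i * k) := by rw [h.cov.cen (i * k)]; group
      be := by
        calc z * (i * k) * (z * y) = z * (((i * k) * z) * y) := by group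
          _ = z * (z * ((i * k) * y)) := by rw [h.az]; group
          _ = z * (z * (y * (i * k))) := by rw [h.cov.cen (i * k)]
          _ = z * ((z * y) * (i * k)) := by group
          _ = z * ((y * z) * (i * k)) := by rw [hez]
          _ = z * y * (z * (i * k)) := by group
      y_ne := by rw [h.abe]; exact h.cov.y1
      y_comm := by rw [h.abe]; exact fun g _ => h.cov.cen g
      cen := by rw [h.abe]; exact fun g _ h1 => hc g (fun g' => h1 g' (mem_top _))
      AN := le_top
      BN := le_top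
      prA := by rw [h.ab]; exact h.prA
      prB := by rw [h.ab]; exact h.prB
      AB := h.comm
      snA := by rw [h.ab, top_inf_eq]; exact hsA
      snB := by rw [h.ab, top_inf_eq]; exact hsB
      nor := by rw [h.ab]; exact fun g _ hg => h.norm hg
      cAB := ?_
      sol := by rw [h.ab, top_inf_eq]; exact h.solv hp
      a_eq := ⟨i, h.sA.hi, k, h.sB.hi, by rw [h.ab]; exact h.sA.q.i2, by rw [h.ab]; exact h.sB.q.i2, rfl⟩
      rot := ⟨c, mem_top _, h.rot2 hp, h.rot3 hp, h.rot1 hp⟩
      swap := ⟨c * (j * l) * c⁻¹, mem_top _, h.ss, ?_, by rw [h.ab]; exact h.sz, h.sA_eq, h.sB_eq⟩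
      root := ⟨j * (c * i * c⁻¹) * j⁻¹, mem_top _, ?_, ?_, ?_, ?_⟩ }
  · intro g _ h1 h2
    rw [h.abe, h.ab]
    rcases h.cent_AB (g := g) (fun a ha => by rw [← map_mul, h1 a ha, map_mul])
      (fun b hb => by rw [← map_mul, h2 b hb, map_mul]) with h3 | h3 | h3 | h3
    · exact Or.inl h3
    · exact Or.inr (Or.inr (Or.inr h3))
    · exact Or.inr (Or.inl h3)
    · exact Or.inr (Or.inr (Or.inl (by rw [h3, hez])))
  · calc c * (j * l) * c⁻¹ * (z * y) = (c * (j * l) * c⁻¹ * z) * y := by group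
      _ = z * ((c * (j * l) * c⁻¹) * y) := by rw [h.sz]; group
      _ = z * (y * (c * (j * l) * c⁻¹)) := by rw [h.cov.cen (c * (j * l) * c⁻¹)]
      _ = z * y * (c * (j * l) * c⁻¹) := by group
  · -- `root`
    calc j * (c * i * c⁻¹) * j⁻¹ * (j * (c * i * c⁻¹) * j⁻¹) = j * (c * (i * i) * c⁻¹) * j⁻¹ := by group
      _ = (j * y) * (i * k) * j⁻¹ := by rw [h.sA.q.i2, h.czc hp]; group
      _ = y * (j * (i * k) * j⁻¹) := by rw [h.cov.cen j]; group
      _ = y * ((i * k) * z) := by rw [h.jaj, h.az]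
      _ = ((i * k) * z) * y := (h.cov.cen _).symm
      _ = i * k * (z * y) := by group
  · rw [h.ab]
    have h1 : j * z = z * j := h.sA.q.jz
    have h2 : j⁻¹ * z = z * j⁻¹ := (show Commute j z from h1).inv_left.eq
    calc j * (c * i * c⁻¹) * j⁻¹ * z = j * (c * i * c⁻¹) * (j⁻¹ * z) := by group
      _ = j * (c * i * c⁻¹ * z) * j⁻¹ := by rw [h2]; group
      _ = (j * z) * (c * i * c⁻¹) * j⁻¹ := by rw [h.tz]; group
      _ = z * (j * (c * i * c⁻¹) * j⁻¹) := by rw [h1]; group
  · have h1 : cj j (closure ({i, x} : Set N)) = closure ({i, x} : Set N) :=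
      Cit.mem_normalizer_iff_cj.1 (le_normalizer h.sA.hj)
    have h2 : cj j⁻¹ (closure ({i, x} : Set N)) = closure ({i, x} : Set N) :=
      Cit.mem_normalizer_iff_cj.1 (le_normalizer (inv_mem h.sA.hj))
    rw [Cit.cj_mul, Cit.cj_mul, h2, h.tA_eq, h1]
  · have h1 : ∀ a ∈ closure ({i, x} : Set N), cj a (closure ({k, v} : Set N)) = closure ({k, v} : Set N) := by
      intro a ha
      ext g
      rw [Cit.mem_cj]
      constructor
      · intro hg
        have h2 := h.comm a ha _ hg
        have h3 : g = a⁻¹ * g * a := by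
          calc g = (a * (a⁻¹ * g * a)) * a⁻¹ := by group
            _ = a⁻¹ * g * a := by rw [h2]; group
        rw [h3]; exact hg
      · intro hg
        rw [mul_assoc, ← h.comm a ha g hg, inv_mul_cancel_left]; exact hg
    rw [Cit.cj_mul, Cit.cj_mul, h1 _ (inv_mem h.sA.hj), h.tB_eq, h1 _ h.sA.hj]

end Lf

/-- **K-fact (N-side)**: `2.U₄(3)` has a frame. -/
theorem exSheet : ExSheet.{u} := by
  intro N _ _ hN
  obtain ⟨hq, h2, F, _, _, hF, ⟨e⟩⟩ := hN
  -- the central involution
  obtain ⟨⟨y, hy⟩, hy1, hall⟩ : ∃ w : ↥(center N), w ≠ 1 ∧ ∀ w' : ↥(center N), w' = 1 ∨ w' = w := by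
    haveI : Finite ↥(center N) := inferInstance
    obtain ⟨w, hw⟩ := (Nat.card_eq_two_iff' (1 : ↥(center N))).1 h2
    refine ⟨w, hw.1, fun w' => ?_⟩
    by_cases h : w' = 1
    · exact Or.inl h
    · exact Or.inr (hw.2 w' h)
  have hy1' : y ≠ 1 := fun h => hy1 (Subtype.ext h)
  have hall' : ∀ g : N, g ∈ center N → g = 1 ∨ g = y := by
    intro g hg
    rcases hall ⟨g, hg⟩ with h | h
    · exact Or.inl (congrArg Subtype.val h)
    · exact Or.inr (congrArg Subtype.val h)
  have hcen : ∀ g, g * y = y * g := fun g => mem_center_iff.1 hy g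
  have hyy : y * y = 1 := by
    rcases hall' (y * y) (mul_mem hy hy) with h | h
    · exact h
    · exact absurd (mul_eq_left.1 h) hy1'
  have cov : Cov (QuotientGroup.mk' (center N)) y :=
    { surj := QuotientGroup.mk'_surjective _
      y1 := hy1'
      yy := hyy
      cen := hcen
      py := (QuotientGroup.eq_one_iff y).2 hy
      ker := fun g hg => hall' g ((QuotientGroup.eq_one_iff g).1 hg) }
  obtain ⟨z', i', j', x', k', l', v', c', u⟩ := NSideU.exists_ud hF
  obtain ⟨z, i, j, x, k, l, v, c, h⟩ := exists_lf cov (u.map e.symm)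
  exact ⟨_, _, _, _, _, h.sheet hq (fun g hg => hall' g (mem_center_iff.2 hg))⟩

end Cfsg.Agent.OddHalf.NI3.Bad.NSideN
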