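import Cfsg.Agent.OddHalf.NI3.Bad.O8pModel
import Cfsg.Agent.OddHalf.NI3.Bad.EightUnit

/-!
# (KD), row `PΩ₈⁺(3)` (node NI over `F₃`, THEOREM NIB; helper100, helper921, helper598)

`o8p : XO8p X → RowA' X`.
-/

set_option autoImplicit false

namespace Cfsg.Agent.OddHalf.NI3.Bad.RowO8p

open Cfsg.Agent.OddHalf.NI3.Bad.OrthEight

theorem case2 : Case2 := fun w hw => EightUnit.unit card_F nondeg_Q finrank_V w hw

/-- **row `PΩ₈⁺(3)`** -/
theorem o8p (X : Type*) [Group X] [Finite X] (h : XO8p X) : RowA' X := row_of case2 X h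

end Cfsg.Agent.OddHalf.NI3.Bad.RowO8p
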