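import Cfsg.Agent.OddHalf.NI3.Bad.KDOf
import Cfsg.Agent.OddHalf.NI3.Bad.RowO8p
import Cfsg.Agent.OddHalf.NI3.Bad.NSideN

/-!
# NI over `F₃`, THEOREM NIB: the table (KD)
-/

set_option autoImplicit false

namespace Cfsg.Agent.OddHalf.NI3.Bad

universe u

/-- **(KD)** -/
theorem kdFinal : KD.{u} := kd NSideN.exSheet ⟨fun X _ _ h => RowO8p.o8p X h⟩

end Cfsg.Agent.OddHalf.NI3.Bad
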