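import Cfsg.Agent.OddHalf.NI3.Bad.Types
import Cfsg.Agent.KFacts.MulOdd.UThree
import Cfsg.Agent.UGT.End.MEleven

/-!
# NI over `F₃`, THEOREM NIB: `M₁₁`, `L₃(3)`, `U₃(3)` have no two commuting `SL₂(3)` with the same involution
-/

set_option autoImplicit false
set_option linter.style.haveILetI false

namespace Cfsg.Agent.OddHalf.NI3.Bad

open Subgroup Cfsg Cfsg.Agent.Cit

universe u

section

variable {Y : Type*} [Group Y] [Finite Y] {A B : Subgroup Y} {x : Y}

/-- two commuting `SL₂(3)` with the same involution generate a group of order 288 -/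
theorem dvd_card (hA : IsPr A x) (hB : IsPr B x) (hc : B ≤ centralizer (A : Set Y)) : 288 ∣ Nat.card Y := by
  obtain ⟨i, j, d, hl⟩ := hA.sl
  obtain ⟨i', j', d', hl'⟩ := hB.sl
  let f : ↥A × ↥B →* Y := A.subtype.noncommCoprod B.subtype (fun a b =>
    (mem_centralizer_iff.1 (hc b.2) a a.2 : (a : Y) * b = b * a))
  have hf : ∀ p : ↥A × ↥B, f p = (p.1 : Y) * p.2 := fun p => rfl
  have hxx : x * x = 1 := hA.t3.z_sq
  have hk : ∀ p : ↥A × ↥B, f p = 1 → p = 1 ∨ p = (⟨x, hA.mem⟩, ⟨x, hB.mem⟩) := by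
    rintro ⟨⟨p, hp⟩, ⟨q, hq⟩⟩ h1
    rw [hf] at h1
    change p * q = 1 at h1
    have hpq : p = q⁻¹ := eq_inv_of_mul_eq_one_left h1
    have h2 : ∀ y ∈ A, y * y = x → p * y = y * p := by
      intro y hy _
      have h3 : p ∈ B := by rw [hpq]; exact inv_mem hq
      exact (mem_centralizer_iff.1 (hc h3) y hy).symm
    rcases hA.t3.cen p hp h2 with h3 | h3
    · left
      have h4 : q = 1 := by rw [h3, one_mul] at h1; exact h1
      simp only [h3, h4]
      rfl
    · right
      have h4 : q = x := by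
        rw [h3] at h1
        have h5 : x * q = x * x := by rw [h1, hxx]
        exact mul_left_cancel h5
      simp only [h3, h4]
  have hkc : Nat.card f.ker = 2 := by
    have h1 : f.ker = zpowers (⟨x, hA.mem⟩, ⟨x, hB.mem⟩) := by
      refine le_antisymm ?_ ?_
      · intro p hp
        rcases hk p hp with h2 | h2
        · rw [h2]; exact one_mem _
        · rw [h2]; exact mem_zpowers _
      · rw [zpowers_le, MonoidHom.mem_ker, hf]
        exact hxx
    rw [h1, Nat.card_zpowers]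
    refine orderOf_eq_prime ?_ ?_
    · rw [pow_two]
      exact Prod.ext (Subtype.ext hxx) (Subtype.ext hxx)
    · intro h2
      exact hA.t3.z_ne (congrArg (fun p : ↥A × ↥B => ((p.1 : ↥A) : Y)) h2)
  have h1 := f.ker.card_mul_index
  rw [Subgroup.index_ker, hkc, Nat.card_prod, hl.card, hl'.card] at h1
  have h2 : Nat.card f.range = 288 := by omega
  rw [← h2]
  exact Subgroup.card_subgroup_dvd_card _

/-- a Sylow 2-subgroup with an abelian subgroup of index two does not contain `Q₈ * Q₈` -/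
theorem false_of_index_two (hA : IsPr A x) (hB : IsPr B x) (hc : B ≤ centralizer (A : Set Y)) {P T : Subgroup Y}
    (hP : IsPGroup 2 ↥P) (hodd : ¬ 2 ∣ P.index) (hTP : T ≤ P) (hT : T.relIndex P = 2)
    (hab : ∀ s ∈ T, ∀ t ∈ T, s * t = t * s) : False := by
  haveI : Fact (Nat.Prime 2) := ⟨Nat.prime_two⟩
  obtain ⟨i, j, d, hl⟩ := hA.sl
  obtain ⟨i', j', d', hl'⟩ := hB.sl
  have hcomm : ∀ a ∈ A, ∀ b ∈ B, a * b = b * a := fun a ha b hb => mem_centralizer_iff.1 (hc hb) a ha
  -- the 2-group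
  have hS : IsPGroup 2 ↥(closure ({i, j} : Set Y) ⊔ closure ({i', j'} : Set Y)) := by
    refine IsPGroup.to_sup_of_normal_right' hl.q.isPGroup hl'.q.isPGroup ?_
    refine le_trans ?_ (centralizer_le_normalizer _)
    intro a ha
    rw [mem_centralizer_iff]
    intro b hb
    exact (hcomm a (hl.Qle ha) b (hl'.Qle hb)).symm
  obtain ⟨S, hSle⟩ := hS.exists_le_sylow
  let PS : Sylow 2 Y := hP.toSylow hodd
  obtain ⟨g, hg⟩ := MulAction.exists_smul_eq Y S PS
  have hgP : ∀ s ∈ closure ({i, j} : Set Y) ⊔ closure ({i', j'} : Set Y), g * s * g⁻¹ ∈ P := by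
    intro s hs
    have h1 : g * s * g⁻¹ ∈ ((g • S : Sylow 2 Y) : Subgroup Y) := by
      rw [Sylow.coe_subgroup_smul, mem_pointwise_smul_iff_inv_smul_mem]
      have h2 : (MulAut.conj g)⁻¹ • (g * s * g⁻¹) = s := by
        simp [MulAut.smul_def, mul_assoc]
      rw [h2]
      exact hSle hs
    rw [hg] at h1
    exact h1
  -- membership in `T`
  have hidx : ∀ p ∈ P, ∀ q ∈ P, p ∉ T → q ∉ T → p * q ∈ T := by
    intro p hp q hq hp' hq'
    have h1 := Subgroup.mul_mem_iff_of_index_two (G := ↥P) (H := T.subgroupOf P) hT (a := ⟨p, hp⟩) (b := ⟨q, hq⟩)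
    have h2 : (⟨p, hp⟩ * ⟨q, hq⟩ : ↥P) ∈ T.subgroupOf P := h1.2 (by
      rw [mem_subgroupOf, mem_subgroupOf]
      exact ⟨fun h => absurd h hp', fun h => absurd h hq'⟩)
    exact h2
  set c : Y → Y := fun s => g * s * g⁻¹ with hcdef
  have cm : ∀ s t : Y, c (s * t) = c s * c t := fun s t => by simp only [hcdef]; group
  have ci : Function.Injective c := fun s t h => by
    simpa [hcdef] using h
  have hiS : i ∈ closure ({i, j} : Set Y) ⊔ closure ({i', j'} : Set Y) := mem_sup_left (subset_closure (by simp))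
  have hjS : j ∈ closure ({i, j} : Set Y) ⊔ closure ({i', j'} : Set Y) := mem_sup_left (subset_closure (by simp))
  have hiS' : i' ∈ closure ({i, j} : Set Y) ⊔ closure ({i', j'} : Set Y) := mem_sup_right (subset_closure (by simp))
  have hjS' : j' ∈ closure ({i, j} : Set Y) ⊔ closure ({i', j'} : Set Y) := mem_sup_right (subset_closure (by simp))
  have hnc := hl.q.not_comm
  have hnc' := hl'.q.not_comm
  -- an element of `Q'` outside `T`
  obtain ⟨k', hk'B, hk'P, hk'T⟩ : ∃ k' ∈ B, c k' ∈ P ∧ c k' ∉ T := by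
    by_contra hno
    push Not at hno
    have h1 := hno i' hl'.hi (hgP _ hiS')
    have h2 := hno j' hl'.hj (hgP _ hjS')
    have h3 := hab _ h1 _ h2
    rw [← cm, ← cm] at h3
    exact hnc' (ci h3)
  -- two noncommuting elements `s`, `k` of `Q`, `s` in `T`, `k` not
  obtain ⟨s, k, hsA, hkA, hkP, hsT, hkT, hsk⟩ : ∃ s k : Y, s ∈ A ∧ k ∈ A ∧ c k ∈ P ∧ c s ∈ T ∧ c k ∉ T ∧
      s * k ≠ k * s := by
    by_cases h1 : c i ∈ T
    · by_cases h2 : c j ∈ T
      · exfalso
        have h3 := hab _ h1 _ h2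
        rw [← cm, ← cm] at h3
        exact hnc (ci h3)
      · exact ⟨i, j, hl.hi, hl.hj, hgP _ hjS, h1, h2, hnc⟩
    · by_cases h2 : c j ∈ T
      · exact ⟨j, i, hl.hj, hl.hi, hgP _ hiS, h2, h1, fun h => hnc h.symm⟩
      · refine ⟨i * j, i, mul_mem hl.hi hl.hj, hl.hi, hgP _ hiS, ?_, h1, ?_⟩
        · rw [cm]; exact hidx _ (hgP _ hiS) _ (hgP _ hjS) h1 h2
        · intro h
          apply hnc
          rw [mul_assoc] at h
          exact (mul_left_cancel h).symm
  have h1 : c (k * k') ∈ T := by rw [cm]; exact hidx _ hkP _ hk'P hkT hk'T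
  have h2 := hab _ hsT _ h1
  rw [← cm, ← cm] at h2
  have h3 := ci h2
  apply hsk
  have h4 : s * k * k' = k * s * k' := by
    calc s * k * k' = s * (k * k') := by group
      _ = k * k' * s := h3
      _ = k * (k' * s) := by group
      _ = k * (s * k') := by rw [hcomm s hsA k' hk'B]
      _ = k * s * k' := by group
  exact mul_right_cancel h4

end

/-- from `Y` to a position -/
theorem Pos.pair {D : Type*} [Group D] {x w : D} {A B : Subgroup D} (h : Pos x A B w) :
    IsPr A x ∧ IsPr B x ∧ B ≤ centralizer (A : Set D) := ⟨h.a.pr, h.b.pr, h.comm⟩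

theorem Pos.pair_map {D : Type*} [Group D] {x w : D} {A B : Subgroup D} (h : Pos x A B w) {Y : Type*} [Group Y]
    (f : D →* Y) (hf : f x ≠ 1) :
    IsPr (A.map f) (f x) ∧ IsPr (B.map f) (f x) ∧ B.map f ≤ centralizer ((A.map f : Subgroup Y) : Set Y) := by
  refine ⟨h.a.pr.map f hf, h.b.pr.map f hf, ?_⟩
  rintro _ ⟨b, hb, rfl⟩
  rw [mem_centralizer_iff]
  rintro _ ⟨a, ha, rfl⟩
  rw [← map_mul, ← map_mul, mem_centralizer_iff.1 (h.comm hb) a ha]

/-- **Row `M₁₁`**, with the centre. -/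
theorem rowO_m11' (X : Type u) [Group X] [Finite X] (hq : IsQuasisimple X) (h : Spor.IsoM11 (X ⧸ center X)) :
    RowO X := by
  intro x A B w hp
  have hx : QuotientGroup.mk' (center X) x ≠ 1 := fun h1 => hp.not_center hq ((QuotientGroup.eq_one_iff x).1 h1)
  obtain ⟨h1, h2, h3⟩ := hp.pair_map (QuotientGroup.mk' (center X)) hx
  have h4 := dvd_card h1 h2 h3
  have h11 := UGT.End.MEleven.isM11 h
  rw [h11.2] at h4
  omega

theorem rowO_m11 (X : Type u) [Group X] [Finite X] (h : Spor.IsoM11 X) : RowO X := by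
  intro x A B w hp
  obtain ⟨h1, h2, h3⟩ := hp.pair
  have h4 := dvd_card h1 h2 h3
  have h11 := UGT.End.MEleven.isM11 h
  rw [h11.2] at h4
  omega

theorem rowO_l3 (X : Type u) [Group X] [Finite X] (h : XL3 X) : RowO X := by
  intro x A B w hp
  obtain ⟨F, _, _, hF, ⟨e⟩⟩ := h
  obtain ⟨h1, h2, h3⟩ := hp.pair
  have h4 := dvd_card h1 h2 h3
  rw [Nat.card_congr e.toEquiv] at h4
  have h5 := Cfsg.Agent.S0243.result hF 3 (by omega)
  have h6 : Nat.card (Matrix.ProjectiveSpecialLinearGroup (Fin 3) F) = 5616 := by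
    rw [Fin.prod_univ_three] at h5
    norm_num at h5
    omega
  rw [h6] at h4
  omega

theorem rowO_u3 (X : Type u) [Group X] [Finite X] (h : XU3 X) : RowO X := by
  intro x A B w hp
  obtain ⟨F, _, _, hF, ⟨e⟩⟩ := h
  have hF' : Fintype.card F = 3 ^ 2 := hF
  have hc := Cfsg.Agent.S0279.result (F := F) hF' 3 le_rfl
  have hcb : center (SU 3 F 3) = ⊥ := Subgroup.card_eq_one.1 (hc.trans (by decide))
  let e2 : SU 3 F 3 ≃* PSU 3 F 3 :=
    MulEquiv.ofBijective (QuotientGroup.mk' (center (SU 3 F 3))) ⟨by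
      rw [← MonoidHom.ker_eq_bot_iff, QuotientGroup.ker_mk', hcb], QuotientGroup.mk'_surjective _⟩
  let f : X →* SU 3 F 3 := e2.symm.toMonoidHom.comp e.toMonoidHom
  have hfi : Function.Injective f := e2.symm.injective.comp e.injective
  have hx : f x ≠ 1 := fun h1 => hp.a.pr.t3.z_ne (hfi (by rw [h1, map_one]))
  obtain ⟨h1, h2, h3⟩ := hp.pair_map f hx
  have hcard : Nat.card (KFacts.MulOdd.UThree.PP F 3) = 2 ^ 5 := KFacts.MulOdd.UThree.relindex hF'
  have hle : KFacts.MulOdd.UThree.AA F 3 ≤ KFacts.MulOdd.UThree.PP F 3 := fun g hg => Or.inl hg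
  refine false_of_index_two h1 h2 h3 (P := KFacts.MulOdd.UThree.PP F 3) (T := KFacts.MulOdd.UThree.AA F 3)
    (IsPGroup.of_card hcard) (KFacts.MulOdd.UThree.index_odd hF' (by norm_num)) hle ?_ ?_
  · have h4 := Subgroup.card_mul_index ((KFacts.MulOdd.UThree.AA F 3).subgroupOf (KFacts.MulOdd.UThree.PP F 3))
    rw [Nat.card_congr (Subgroup.subgroupOfEquivOfLe hle).toEquiv, KFacts.MulOdd.UThree.card_AA hF', hcard] at h4
    rw [Subgroup.relIndex]
    omega
  · intro s hs t ht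
    refine KFacts.MulOdd.UThree.ext_diag (mul_mem hs ht) (mul_mem ht hs) ?_ ?_
    · rw [KFacts.MulOdd.UThree.diag_mul_apply hs, KFacts.MulOdd.UThree.diag_mul_apply ht, mul_comm]
    · rw [KFacts.MulOdd.UThree.diag_mul_apply hs, KFacts.MulOdd.UThree.diag_mul_apply ht, mul_comm]

end Cfsg.Agent.OddHalf.NI3.Bad
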