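import Cfsg.Agent.OddHalf.NI3.Bad.StepTwoCfg
import Cfsg.Agent.OddHalf.NI3.Bad.StepThree
import Cfsg.Agent.OddHalf.NI3.Bad.CovOf
import Cfsg.Agent.OddHalf.NI3.Bad.RowZero
import Cfsg.Agent.OddHalf.NI.Niv

/-!
# NI over `F₃`: THEOREM NIB

`nib`: no involution `y` lies in a component `2.U₄(3)` of `C(y)`, from

* `TStmt`, `TypeHyps`, `KD`, `ExSheet`;
* `StepOne`: `R = O₂(A) O₂(B) ≤ O₂(C(z))`;
* `StepD`: the case `D = 2.U₄(3)`.
-/

set_option autoImplicit false
set_option linter.style.haveILetI false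

namespace Cfsg.Agent.OddHalf.NI3.Bad

open Subgroup Cfsg Cfsg.Agent.OddHalf.Iface Cfsg.Agent.OddHalf.LieOddFam
open Cfsg.Agent.OddHalf.D3 (Comp FT BL)
open Cfsg.Agent.OddHalf.NI (CompIn)
open Cfsg.Agent.Cit (cj TStmt)
open Cfsg.Agent.OddHalf.NI3.Bad.StepThree (RP In)

universe u

/-- **Step (1)**: `O₂(A) O₂(B) ≤ O₂(C(z))`. -/
def StepOne : Prop :=
  ∀ (G : Type u) [Group G], Ctx G → ∀ (N : Subgroup G) (a b e : G) (A B : Subgroup G), Cfg N a b e A B → RP a b A B

/-- **Step (3d)**: the case `D = 2.U₄(3)`. -/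
def StepD : Prop :=
  ∀ (G : Type u) [Group G], Ctx G → ∀ (N : Subgroup G) (a b e : G) (A B : Subgroup G), Cfg N a b e A B → RP a b A B →
    ∀ (c : G) (D : Subgroup G), c ∈ N → In a b e A B c D → ∀ e' : G, Sheet D b e e' (cj c A) (cj c B) → False

/-- The input of THEOREM NIB. -/
structure Inputs : Prop where
  ft : ∀ (G : Type u) [Group G], Finite G → FT G
  t : TStmt.{u}
  types : TypeHyps.{u}
  kd : KD.{u}
  ex : ExSheet.{u}
  one : StepOne.{u}
  d : StepD.{u}

/-- The rows of the simple groups in `Small3`. -/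
theorem rows_of_small (K : KD.{u}) {D : Type u} [Group D] [Finite D] (h : Small3 D) :
    RowO D ∨ RowA D ∨ RowA' D ∨ RowB D ∨ RowC D := by
  rcases small3_iff.1 h with h | h | h | h | h | h | h | h | h
  · exact Or.inl (K.l3 D h)
  · exact Or.inl (K.u3 D h)
  · exact Or.inr (Or.inr (Or.inr (Or.inl (K.l4 D h))))
  · exact Or.inr (Or.inl (K.u4 D h))
  · exact Or.inr (Or.inr (Or.inr (Or.inr (K.sp4 D h))))
  · exact Or.inr (Or.inl (K.g2 D h))
  · exact Or.inr (Or.inr (Or.inr (Or.inl (K.o7 D h))))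
  · exact Or.inr (Or.inr (Or.inl (K.o8p D h)))
  · exact Or.inr (Or.inr (Or.inr (Or.inl (K.o8m D h))))

section

variable {G : Type u} [Group G] {N : Subgroup G} {a b e : G} {A B : Subgroup G}

/-- the exchange of `A` and `B` -/
theorem Sheet.symm (h : Sheet N a b e A B) : Sheet N a b e B A := by
  refine { h with AN := h.BN, BN := h.AN, prA := h.prB, prB := h.prA, snA := h.snB, snB := h.snA, AB := ?_, nor := ?_,
                  cAB := ?_, a_eq := ?_, swap := ?_, root := ?_ }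
  · intro x hx y hy
    exact (h.AB y hy x hx).symm
  · intro g hg h1
    rw [sup_comm]; exact h.nor g hg h1
  · exact fun g hg h1 h2 => h.cAB g hg h2 h1
  · obtain ⟨p, hp, q, hq, h1, h2, h3⟩ := h.a_eq
    exact ⟨q, hq, p, hp, h2, h1, by rw [h3, h.AB p hp q hq]⟩
  · obtain ⟨s, hs, h0, h1, h2, h3, h4⟩ := h.swap
    exact ⟨s, hs, h0, h1, h2, h4, h3⟩
  · obtain ⟨g, hg, h1, h2, h3, h4⟩ := h.root
    exact ⟨g, hg, h1, h2, h4, h3⟩

theorem Cfg.symm (h : Cfg N a b e A B) : Cfg N a b e B A where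
  toSheet := h.toSheet.symm
  comp := h.comp

theorem Cfg.ee' (h : Cfg N a b e A B) : orderOf e = 2 :=
  orderOf_eq_prime (by rw [pow_two, h.ee]) h.e_ne

/-- **Step (2)** -/
theorem Cfg.not_snA (C : Ctx G) (hFT : FT G) (hT : TStmt.{u}) (h : Cfg N a b e A B) (hR : RP a b A B) :
    ¬ Sn A (centralizer ({e} : Set G)) := by
  intro hs
  have := C.fin
  exact h.false_of_sn C hT hFT (NI.bl_core hFT C.bal) hs hR.1 hR.2

end

/-- **THEOREM NIB** -/
theorem nib (I : Inputs.{u}) : NIB.{u} := by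
  intro G _ C y N hy hN hyN hIs
  have := C.fin
  obtain ⟨a', b', e', A', B', hS⟩ := I.ex ↥N hIs
  have hS' := hS.map N.subtype N.subtype_injective
  rw [← MonoidHom.range_eq_map, Subgroup.range_subtype] at hS'
  set a : G := N.subtype a'
  set b : G := N.subtype b'
  set e : G := N.subtype e'
  set A : Subgroup G := A'.map N.subtype
  set B : Subgroup G := B'.map N.subtype
  have hye : y = a * b * e := by
    refine (hS'.cen y hyN (fun g hg => ?_)).resolve_left ?_
    · exact mem_centralizer_singleton_iff.1 (hN.le hg)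
    · rintro rfl
      rw [orderOf_one] at hy; omega
  have h : Cfg N a b e A B := { hS' with comp := by rw [← hye]; exact hN }
  obtain ⟨c, hc, h1, h2, h3⟩ := h.rot
  have h' := h.rotate hc h1 h2 h3
  have hR := I.one G C N a b e A B h
  have hR' := I.one G C N b e a _ _ h'
  have hR'' := I.one G C N b e a _ _ h'.symm
  obtain ⟨D, hD, hAD, hBD⟩ := h.exists_D C I.t hc h1 h2 h3 (h'.not_snA C (I.ft G this) I.t hR')
    (h'.symm.not_snA C (I.ft G this) I.t hR'')
  have i : In a b e A B c D := ⟨h1, h2, h3, hD, hAD, hBD⟩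
  have ha : orderOf a = 2 := h'.ee'
  have hpos := StepThree.posD h hc i
  rcases types I.types (fun X _ _ hq _ hX => rowO_m11' X hq hX) C ha hD hpos with ⟨-, hs⟩ | hI
  · exact StepThree.false_of_rows C I.t h hR hc i (rows_of_small I.kd hs)
  · obtain ⟨e1, hS1⟩ := I.kd.twou4 ↥D hI _ _ _ _ hpos
    have hS2 := hS1.map D.subtype D.subtype_injective
    rw [← MonoidHom.range_eq_map, Subgroup.range_subtype] at hS2
    refine I.d G C N a b e A B h hR c D hc i (D.subtype e1) ?_
    have e2 : D.subtype (⟨b, StepThree.b_mem h i⟩ * ⟨b * e, StepThree.be_mem h i⟩) = e := by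
      show b * (b * e) = e
      rw [← mul_assoc, h.bb, one_mul]
    rw [e2, map_subgroupOf_eq_of_le hAD, map_subgroupOf_eq_of_le hBD] at hS2
    exact hS2

/-- **THEOREM NIB**, second form -/
theorem nib' (I : Inputs.{u}) {G : Type u} [Group G] (C : Ctx G) {y : G} {N : Subgroup G} (hy : orderOf y = 2)
    (hN : Comp y N) (hyN : y ∈ N) (h2 : Nat.card ↥(center ↥N) = 2) (hX : XU43 (↥N ⧸ center ↥N)) : False :=
  nib I G C y N hy hN hyN ⟨hN.quasi, h2, hX⟩

end Cfsg.Agent.OddHalf.NI3.Bad
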