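import Cfsg.Agent.OddHalf.NI3.Bad.Lin
import Cfsg.Agent.ClassicalGeometry.HermOrtho
import Cfsg.Agent.ClassicalGeometry.GUBasic
import Cfsg.Agent.LieClassical.HermSiegel
import Cfsg.Agent.LieClassical.SUBasic

/-!
# One class of involutions in `U₄(3)` (row `U₄(3)` of (KD), node NI over `F₃`; helper100)

* `isConj_SU` : involutions of `SU₄(3)`, not scalar, are conjugate;
* `no_sq` : no element of `SU₄(3)` has square a scalar of order 4;
* `isConj` : the involutions of `PSU₄(3)` are conjugate.
-/

set_option autoImplicit false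
set_option linter.unusedSectionVars false
set_option linter.unusedVariables false

namespace Cfsg.Agent.OddHalf.NI3.Bad.PSUFour

open Module Matrix Cfsg Cfsg.Agent.LieClassical.HermBasic Cfsg.Agent.LieClassical.HermSiegel
  Cfsg.Agent.ClassicalGeometry.HermOrtho Cfsg.Agent.OddHalf.NI3.Bad.Lin

variable {F : Type*} [Field F] [Fintype F]

theorem three (hF : Fintype.card F = 3 ^ 2) : (3 : F) = 0 := by
  have h := FiniteField.cast_card_eq_zero F
  rw [hF] at h
  have h1 : (3 : F) ^ 2 = 0 := by exact_mod_cast h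
  exact (pow_eq_zero_iff two_ne_zero).1 h1

theorem two_ne (hF : Fintype.card F = 3 ^ 2) : (2 : F) ≠ 0 := by
  intro h
  have h3 := three hF
  have : (1 : F) = 3 - 2 := by norm_num
  rw [h3, h, sub_zero] at this
  exact one_ne_zero this

/-- the linear map of an element of `SU₄` -/
noncomputable def fl (g : SU 4 F 3) : (Fin 4 → F) →ₗ[F] (Fin 4 → F) := Matrix.toLin' (mat g)

theorem fl_apply (g : SU 4 F 3) (v : Fin 4 → F) : fl g v = act g v := by
  rw [fl, Matrix.toLin'_apply, act_def]

theorem det_fl (g : SU 4 F 3) : LinearMap.det (fl g) = 1 := by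
  rw [fl, LinearMap.det_toLin', det_mat]

theorem mem_eig' {g : SU 4 F 3} {a : F} {v : Fin 4 → F} : v ∈ eig (fl g) a ↔ act g v = a • v := by
  rw [mem_eig, fl_apply]

section

variable (hF : Fintype.card F = 3 ^ 2) {g : SU 4 F 3}

include hF

/-- the eigenspaces are orthogonal -/
theorem orth (hg : g * g = 1) {u v : Fin 4 → F} (hu : act g u = (-1 : F) • u) (hv : act g v = v) :
    hermForm 4 F 3 u v = 0 := by
  have h1 := herm_act g u v
  rw [hu, hv, herm_smul_left] at h1
  have h2 : (2 : F) * hermForm 4 F 3 u v = 0 := by linear_combination -h1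
  exact (mul_eq_zero.1 h2).resolve_left (two_ne hF)

theorem act_act (hg : g * g = 1) (v : Fin 4 → F) : act g (act g v) = v := by
  rw [← act_mul, hg, act_one]

theorem compl (hg : g * g = 1) : IsCompl (eig (fl g) (-1)) (eig (fl g) 1) := by
  have h := isCompl_eigen (two_ne hF) (fl g) (a := (-1 : F)) (neg_ne_zero.2 one_ne_zero) (fun v => by
    rw [fl_apply, fl_apply, act_act hF hg]; simp)
  rwa [neg_neg] at h

theorem nondeg (hg : g * g = 1) : ∀ u ∈ eig (fl g) (-1), (∀ v ∈ eig (fl g) (-1), hermForm 4 F 3 u v = 0) → u = 0 := by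
  intro u hu h
  refine herm_nondeg hF fun x => ?_
  have hx : x ∈ eig (fl g) (-1) ⊔ eig (fl g) 1 := by rw [(compl hF hg).sup_eq_top]; trivial
  obtain ⟨y, hy, z, hz, rfl⟩ := Submodule.mem_sup.1 hx
  rw [herm_add_right hF, h y hy, zero_add]
  rw [mem_eig'] at hu hz
  rw [one_smul] at hz
  exact orth hF hg hu hz

/-- the standard signs -/
def sgn (F : Type*) [Field F] (i : Fin 4) : F := if (i : ℕ) < 2 then -1 else 1

/-- a noncentral involution of `SU₄` in an orthonormal basis -/
theorem exists_std (hg : g * g = 1) (h1 : g ≠ 1) (hm : mat g ≠ -1) :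
    ∃ P : GU 4 F 3, mat g * ((P : GL (Fin 4) F) : Matrix (Fin 4) (Fin 4) F) =
      ((P : GL (Fin 4) F) : Matrix (Fin 4) (Fin 4) F) * Matrix.diagonal (sgn F) := by
  classical
  have hc := compl hF hg
  have hnd := nondeg hF hg
  set W := eig (fl g) (-1) with hW
  set W' := eig (fl g) 1 with hW'
  have hadd : finrank F W + finrank F W' = 4 := by
    rw [Submodule.finrank_add_eq_of_isCompl hc, finrank_fin_fun]
  have hdet := det_of_isCompl (fl g) hc (a := -1) (b := 1) (fun v hv => mem_eig.1 hv) (fun v hv => mem_eig.1 hv)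
  rw [det_fl, one_pow, mul_one] at hdet
  have heven : Even (finrank F W) := by
    by_contra hodd
    rw [Nat.not_even_iff_odd] at hodd
    rw [hodd.neg_one_pow] at hdet
    have h2 : (2 : F) = 0 := by linear_combination hdet
    exact two_ne hF h2
  have hne0 : finrank F W ≠ 0 := by
    intro h0
    apply h1
    refine ext_act fun v => ?_
    have h2 : W' = ⊤ := by
      rw [← hc.sup_eq_top, Submodule.finrank_eq_zero.1 h0, bot_sup_eq]
    have h3 : v ∈ W' := by rw [h2]; trivial
    rw [mem_eig', one_smul] at h3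
    rw [h3, act_one]
  have hne4 : finrank F W ≠ 4 := by
    intro h4
    apply hm
    have h2 : W = ⊤ := by
      apply Submodule.eq_top_of_finrank_eq
      rw [h4, finrank_fin_fun]
    apply Matrix.toLin'.injective
    apply LinearMap.ext
    intro v
    have h3 : v ∈ W := by rw [h2]; trivial
    rw [mem_eig] at h3
    show fl g v = _
    rw [h3]
    simp
  have hW2 : finrank F W = 2 := by
    obtain ⟨r, hr⟩ := heven
    omega
  have hWp : finrank F (hermPerp 3 (W : Set (Fin 4 → F)) : Submodule F (Fin 4 → F)) = 2 := by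
    have := finrank_hermPerp_of_nondeg hF W hnd
    omega
  obtain ⟨b, hbW, hb⟩ := exists_orthonormal hF W hnd hW2
  obtain ⟨b', hbW', hb'⟩ := exists_orthonormal hF (hermPerp 3 (W : Set (Fin 4 → F)))
    (hermPerp_nondeg hF W hnd) hWp
  have hfix : ∀ y ∈ hermPerp 3 (W : Set (Fin 4 → F)), act g y = y := by
    intro y hy
    have h2 : y - act g y ∈ W := by
      rw [mem_eig', act_sub, act_act hF hg, smul_sub, neg_one_smul, neg_one_smul]
      abel
    have h3 : y - act g y = 0 := by
      refine hnd _ h2 fun v hv => ?_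
      have h4 : hermForm 4 F 3 (act g y) v = 0 := by
        have h5 := hy v hv
        have h6 := herm_act g y v
        rw [mem_eig', neg_one_smul] at hv
        rw [hv, herm_neg_right hF, h5] at h6
        exact neg_eq_zero.1 h6
      rw [herm_sub_left, h4, hy v hv, sub_zero]
    exact (sub_eq_zero.1 h3).symm
  let e : Fin 2 ⊕ Fin 2 ≃ Fin 4 := finSumFinEquiv
  let c : Fin 4 → (Fin 4 → F) := fun i => Sum.elim b b' (e.symm i)
  have hcc : ∀ i j, hermForm 4 F 3 (c i) (c j) = if i = j then 1 else 0 := by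
    intro i j
    obtain ⟨i, rfl⟩ := e.surjective i
    obtain ⟨j, rfl⟩ := e.surjective j
    simp only [c, e.symm_apply_apply]
    rcases i with i | i <;> rcases j with j | j
    · simp [hb]
    · simpa using herm_eq_zero_swap hF (hbW' j (b i) (hbW i))
    · simpa using hbW' i (b j) (hbW j)
    · simp [hb']
  have hgc : ∀ i, act g (c i) = sgn F i • c i := by
    intro i
    obtain ⟨i, rfl⟩ := e.surjective i
    simp only [c, e.symm_apply_apply]
    rcases i with i | i
    · have h2 : sgn F (e (Sum.inl i)) = -1 := by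
        rw [sgn, if_pos]
        exact i.2
      rw [h2]
      exact mem_eig'.1 (hbW i)
    · have h2 : sgn F (e (Sum.inr i)) = 1 := by
        rw [sgn, if_neg]
        show ¬ (2 + (i : ℕ) < 2)
        omega
      rw [h2, one_smul]
      exact hfix _ (hbW' i)
  obtain ⟨P, hP, hPx⟩ := exists_GU_of_orthonormal hF hcc
  refine ⟨⟨P, hP⟩, ?_⟩
  apply Matrix.toLin'.injective
  apply LinearMap.ext
  intro x
  rw [Matrix.toLin'_apply, Matrix.toLin'_apply, ← Matrix.mulVec_mulVec, ← Matrix.mulVec_mulVec]
  show mat g *ᵥ ((P : Matrix (Fin 4) (Fin 4) F) *ᵥ x) = (P : Matrix (Fin 4) (Fin 4) F) *ᵥ _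
  rw [hPx, hPx, ← act_def, act_sum]
  refine Finset.sum_congr rfl fun i _ => ?_
  rw [act_smul, hgc, Matrix.mulVec_diagonal, smul_smul, mul_comm]

/-- two noncentral involutions of `SU₄(3)` are conjugate -/
theorem isConj_SU {g' : SU 4 F 3} (hg : g * g = 1) (h1 : g ≠ 1) (hm : mat g ≠ -1) (hg' : g' * g' = 1) (h1' : g' ≠ 1)
    (hm' : mat g' ≠ -1) : ∃ r : SU 4 F 3, r * g * r⁻¹ = g' := by
  classical
  obtain ⟨P, hP⟩ := exists_std hF hg h1 hm
  obtain ⟨P', hP'⟩ := exists_std hF hg' h1' hm'
  set A : Matrix (Fin 4) (Fin 4) F := ((P : GL (Fin 4) F) : Matrix (Fin 4) (Fin 4) F) with hA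
  set A' : Matrix (Fin 4) (Fin 4) F := ((P' : GL (Fin 4) F) : Matrix (Fin 4) (Fin 4) F) with hA'
  have hd : A.det ^ (3 + 1) = 1 := ClassicalGeometry.GUBasic.det_pow hF P.2
  have hd' : A'.det ^ (3 + 1) = 1 := ClassicalGeometry.GUBasic.det_pow hF P'.2
  have hd0' : A'.det ≠ 0 := by
    intro h0; rw [h0] at hd'; norm_num at hd'
  let c : F := A.det / A'.det
  have hc : c ^ (3 + 1) = 1 := by rw [div_pow, hd, hd', div_one]
  let a : Fin 4 → F := ![c, 1, 1, 1]
  have ha : ∀ i, a i ^ (3 + 1) = 1 := by
    intro i; fin_cases i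
    · exact hc
    all_goals simp [a]
  let C : GU 4 F 3 := ClassicalGeometry.GUBasic.guDiag 3 a ha
  let R : GU 4 F 3 := P' * C * P⁻¹
  have hRmat : ((R : GL (Fin 4) F) : Matrix (Fin 4) (Fin 4) F) * A = A' * Matrix.diagonal a := by
    have h2 : R * P = P' * C := by simp only [R]; group
    have h3 := congrArg (fun x : GU 4 F 3 => ((x : GL (Fin 4) F) : Matrix (Fin 4) (Fin 4) F)) h2
    exact h3
  have hRdet : ((R : GL (Fin 4) F) : Matrix (Fin 4) (Fin 4) F).det = 1 := by
    have h2 := congrArg Matrix.det hRmat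
    rw [Matrix.det_mul, Matrix.det_mul, Matrix.det_diagonal] at h2
    have h3 : ∏ i, a i = c := by
      rw [Fin.prod_univ_four]; simp [a]
    have h4 : A'.det * c = A.det := by
      simp only [c]; field_simp
    have hA0 : A.det ≠ 0 := by
      intro h0; rw [h0] at hd; norm_num at hd
    rw [h3, h4] at h2
    exact mul_right_cancel₀ hA0 (h2.trans (one_mul _).symm)
  let r : SU 4 F 3 := mkSU ((R : GL (Fin 4) F) : Matrix (Fin 4) (Fin 4) F) hRdet R.2
  have hr : mat r * A = A' * Matrix.diagonal a := hRmat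
  refine ⟨r, ?_⟩
  rw [mul_inv_eq_iff_eq_mul]
  apply mat_injective
  rw [mat_mul, mat_mul]
  have hAu : IsUnit A := (P : GL (Fin 4) F).isUnit
  apply hAu.mul_left_injective
  show mat r * mat g * A = mat g' * mat r * A
  rw [mul_assoc, hP, mul_assoc, hr, ← mul_assoc, hr, ← mul_assoc (mat g'), hP', mul_assoc, mul_assoc,
    Matrix.diagonal_mul_diagonal, Matrix.diagonal_mul_diagonal]
  congr 2
  ext i
  exact mul_comm _ _

/-! ### No element has square a scalar of order 4 -/

/-- a totally isotropic pair of complementary subspaces: one is not bigger than the other -/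
theorem finrank_le {W W' : Submodule F (Fin 4 → F)} (hc : IsCompl W W')
    (hW : ∀ u ∈ W, ∀ v ∈ W, hermForm 4 F 3 u v = 0) : finrank F W ≤ finrank F W' := by
  by_contra hlt
  push Not at hlt
  let b := Module.finBasis F W'
  let φ : W →ₗ[F] (Fin (finrank F W') → F) := LinearMap.pi fun i => (hermLeft 3 ((b i : W') : Fin 4 → F)).comp W.subtype
  have h1 : LinearMap.ker φ ≠ ⊥ := by
    apply LinearMap.ker_ne_bot_of_finrank_lt
    rw [Module.finrank_fin_fun]
    exact hlt
  obtain ⟨u, hu, hu0⟩ := (Submodule.ne_bot_iff _).1 h1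
  apply hu0
  have h2 : ∀ i, hermForm 4 F 3 (u : Fin 4 → F) ((b i : W') : Fin 4 → F) = 0 := fun i =>
    congrFun (LinearMap.mem_ker.1 hu) i
  have h3 : ∀ v ∈ W', hermForm 4 F 3 (u : Fin 4 → F) v = 0 := by
    intro v hv
    have h4 := b.sum_repr ⟨v, hv⟩
    have h5 : v = ∑ i, b.repr ⟨v, hv⟩ i • ((b i : W') : Fin 4 → F) := by
      have := congrArg (W'.subtype) h4
      rw [map_sum] at this
      exact this.symm
    rw [h5, herm_sum_right hF]
    refine Finset.sum_eq_zero fun i _ => ?_
    rw [herm_smul_right, h2, mul_zero]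
  apply Subtype.ext
  refine herm_nondeg hF fun x => ?_
  have hx : x ∈ W ⊔ W' := by rw [hc.sup_eq_top]; trivial
  obtain ⟨y, hy, z, hz, rfl⟩ := Submodule.mem_sup.1 hx
  rw [herm_add_right hF, hW _ u.2 y hy, h3 z hz, add_zero]

theorem no_sq {c : F} (hc : c * c = -1) (h : ∀ v, act g (act g v) = c • v) : False := by
  have h2 := two_ne hF
  -- a square root of `c`
  obtain ⟨x, hx⟩ : ∃ x : F, x * x = c := by
    have h8 : c ^ (Fintype.card F / 2) = 1 := by
      rw [hF]
      have : (3 ^ 2 / 2 : ℕ) = 4 := by norm_num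
      rw [this]
      linear_combination (c * c - 1) * hc
    have hc0 : c ≠ 0 := by
      rintro rfl
      rw [mul_zero] at hc
      exact neg_ne_zero.2 one_ne_zero hc.symm
    have hch : ringChar F ≠ 2 := by
      intro h9
      apply h2
      have := ringChar.Nat.cast_ringChar (R := F)
      rw [h9] at this
      exact_mod_cast this
    obtain ⟨y, hy⟩ := (FiniteField.isSquare_iff hch hc0).2 h8
    exact ⟨y, hy.symm⟩
  have hx4 : x * x ^ 3 = -1 := by rw [← hc, ← hx]; ring
  have hx0 : x ≠ 0 := by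
    rintro rfl
    rw [zero_mul] at hx4
    exact neg_ne_zero.2 one_ne_zero hx4.symm
  have hcm := isCompl_eigen h2 (fl g) hx0 (fun v => by rw [fl_apply, fl_apply, h, hx])
  have hiso : ∀ y : F, y * y ^ 3 = -1 → ∀ u ∈ eig (fl g) y, ∀ v ∈ eig (fl g) y, hermForm 4 F 3 u v = 0 := by
    intro y hy u hu v hv
    rw [mem_eig'] at hu hv
    have h3 := herm_act g u v
    rw [hu, hv, herm_smul_left, herm_smul_right, ← mul_assoc, hy] at h3
    have h4 : (2 : F) * hermForm 4 F 3 u v = 0 := by linear_combination -h3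
    exact (mul_eq_zero.1 h4).resolve_left h2
  have hm4 : (-x) * (-x) ^ 3 = -1 := by rw [← hx4]; ring
  have h5 := finrank_le hF hcm (hiso x hx4)
  have h6 := finrank_le hF hcm.symm (hiso (-x) hm4)
  have h7 : finrank F (eig (fl g) x) + finrank F (eig (fl g) (-x)) = 4 := by
    rw [Submodule.finrank_add_eq_of_isCompl hcm, finrank_fin_fun]
  have h8 := det_of_isCompl (fl g) hcm (a := x) (b := -x) (fun v hv => mem_eig.1 hv) (fun v hv => mem_eig.1 hv)
  have h9 : finrank F (eig (fl g) x) = 2 := by omega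
  have h10 : finrank F (eig (fl g) (-x)) = 2 := by omega
  rw [det_fl, h9, h10] at h8
  apply h2
  linear_combination h8 + hx4

end

/-- **the involutions of `U₄(3)` are conjugate** -/
theorem isConj (hF : Fintype.card F = 3 ^ 2) {x y : PSU 4 F 3} (hx : orderOf x = 2) (hy : orderOf y = 2) :
    ∃ r, r * x * r⁻¹ = y := by
  classical
  have hh2 := two_ne hF
  have h3 := three hF
  -- lift to a noncentral involution
  have key : ∀ x : PSU 4 F 3, orderOf x = 2 → ∃ g : SU 4 F 3, (g : PSU 4 F 3) = x ∧ g * g = 1 ∧ g ≠ 1 ∧ mat g ≠ -1 := by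
    intro x hx
    obtain ⟨g, rfl⟩ := QuotientGroup.mk_surjective x
    have hx1 : (g : PSU 4 F 3) ≠ 1 := by
      intro h; rw [h, orderOf_one] at hx; omega
    have hcen : ∀ k : SU 4 F 3, (∃ a : F, ∀ v, act k v = a • v) → (k : PSU 4 F 3) = 1 := by
      rintro k ⟨a, ha⟩
      rw [QuotientGroup.eq_one_iff, Subgroup.mem_center_iff]
      intro m
      refine ext_act fun v => ?_
      rw [act_mul, act_mul, ha, ha, act_smul]
    have hsq : g * g ∈ Subgroup.center (SU 4 F 3) := by
      rw [← QuotientGroup.eq_one_iff, QuotientGroup.mk_mul, ← pow_two, ← hx, pow_orderOf_eq_one]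
    obtain ⟨c, hc4, hc4', hgc⟩ := (LieClassical.SUBasic.mem_center_SU_iff hF (by norm_num) _).1 hsq
    have hact : ∀ v, act g (act g v) = c • v := by
      intro v
      rw [← act_mul, hgc]
      show Matrix.diagonal (fun _ => c) *ᵥ v = c • v
      ext i
      rw [Matrix.mulVec_diagonal]; rfl
    have hcases : (c * c = 1 ∨ c * c = -1) := by
      have : (c * c - 1) * (c * c + 1) = 0 := by linear_combination hc4
      rcases mul_eq_zero.1 this with h | h
      · left; linear_combination h
      · right; linear_combination h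
    rcases hcases with hcc | hcc
    swap
    · exact absurd (no_sq hF hcc hact) id
    have hcases2 : (c = 1 ∨ c = -1) := mul_self_eq_one_iff.1 hcc
    rcases hcases2 with rfl | rfl
    · refine ⟨g, rfl, ?_, ?_, ?_⟩
      · refine ext_act fun v => ?_
        rw [act_mul, hact, one_smul, act_one]
      · rintro rfl; exact hx1 rfl
      · intro hm
        apply hx1
        refine hcen g ⟨-1, fun v => ?_⟩
        rw [act_def, hm, Matrix.neg_mulVec, Matrix.one_mulVec, neg_one_smul]
    · -- multiply by a scalar of order 4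
      obtain ⟨m, hm⟩ : ∃ m : F, m * m = -1 := by
        have hch : ringChar F ≠ 2 := by
          intro h9
          apply hh2
          have := ringChar.Nat.cast_ringChar (R := F)
          rw [h9] at this
          exact_mod_cast this
        have h8 : (-1 : F) ^ (Fintype.card F / 2) = 1 := by
          rw [hF]
          have : (3 ^ 2 / 2 : ℕ) = 4 := by norm_num
          rw [this]; norm_num
        obtain ⟨y, hy⟩ := (FiniteField.isSquare_iff hch (neg_ne_zero.2 one_ne_zero)).2 h8
        exact ⟨y, hy.symm⟩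
      have hm4 : m ^ 4 = 1 := by linear_combination (m * m - 1) * hm
      let s : SU 4 F 3 := LieClassical.SUBasic.suScalar 3 m hm4 hm4
      have hs : ∀ v, act s v = m • v := by
        intro v
        show Matrix.diagonal (fun _ => m) *ᵥ v = m • v
        ext i
        rw [Matrix.mulVec_diagonal]; rfl
      have hs1 : (s : PSU 4 F 3) = 1 := hcen s ⟨m, hs⟩
      have hgs : ((g * s : SU 4 F 3) : PSU 4 F 3) = (g : PSU 4 F 3) := by
        rw [QuotientGroup.mk_mul, hs1, mul_one]
      refine ⟨g * s, hgs, ?_, ?_, ?_⟩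
      · refine ext_act fun v => ?_
        have h5 : act (g * s) v = m • act g v := by rw [act_mul, hs, act_smul]
        have h6 : act (g * s) (act g v) = m • act g (act g v) := by rw [act_mul, hs, act_smul]
        rw [act_mul, h5, act_smul, h6, hact, smul_smul, smul_smul, act_one, hm, neg_mul_neg, one_mul, one_smul]
      · intro h
        apply hx1
        rw [← hgs, h]; rfl
      · intro h
        apply hx1
        rw [← hgs]
        refine hcen _ ⟨-1, fun v => ?_⟩
        rw [act_def, h, Matrix.neg_mulVec, Matrix.one_mulVec, neg_one_smul]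
  obtain ⟨g, rfl, h1, h2, h4⟩ := key x hx
  obtain ⟨g', rfl, h1', h2', h4'⟩ := key y hy
  obtain ⟨r, hr⟩ := isConj_SU hF h1 h2 h4 h1' h2' h4'
  exact ⟨(r : PSU 4 F 3), by rw [← hr]; rfl⟩

end Cfsg.Agent.OddHalf.NI3.Bad.PSUFour
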