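import Cfsg.Agent.OddHalf.NI3.Bad.Trans
import Cfsg.Agent.OddHalf.NI3.Bad.PSUFour
import Cfsg.Agent.OddHalf.NI3.SubSL
import Cfsg.Agent.TwoFusion.ClosedFunctor

/-!
# THEOREM NIB, table (KD), `D = 2.U₄(3)` (helper931)

`rowD : ExSheet → RowD`: in `2.U₄(3)` every pair of commuting classical `SL₂(3)` with the same involution is the pair
`A`, `B` of a frame, and `w = p q` (`p ∈ A`, `q ∈ B` of order 4) is `-1₁₂` of that frame.
-/

set_option autoImplicit false
set_option linter.style.haveILetI false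

namespace Cfsg.Agent.OddHalf.NI3.Bad

open Subgroup Cfsg Cfsg.Agent.Cit Cfsg.Agent.Cit.SolvTwo Cfsg.Agent.OddHalf.Iface Cfsg.Agent.OddHalf.LieOddFam
open Cfsg.Agent.SignalizersComponents

universe u

/-! ### The odd core of `C(z)` -/

section

variable {D : Type*} [Group D] {a b e : D} {A B : Subgroup D}

namespace Sheet

variable (h : Sheet (⊤ : Subgroup D) a b e A B)

include h

theorem sA : Sn A (centralizer ({a * b} : Set D)) := by have := h.snA; rwa [top_inf_eq] at this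

theorem sB : Sn B (centralizer ({a * b} : Set D)) := by have := h.snB; rwa [top_inf_eq] at this

theorem A_comm {g : D} (hg : g ∈ A) : g * (a * b) = a * b * g := mem_centralizer_singleton_iff.1 (h.sA.1 hg)

theorem B_comm {g : D} (hg : g ∈ B) : g * (a * b) = a * b * g := mem_centralizer_singleton_iff.1 (h.sB.1 hg)

theorem e_eq : a * b * (a * b * e) = e := by rw [← mul_assoc, h.zz, one_mul]

/-- `e` and `z` have the same centraliser -/
theorem comm_e_iff {g : D} : g * e = e * g ↔ g * (a * b) = a * b * g := by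
  have hy : g * (a * b * e) = a * b * e * g := h.y_comm g (mem_top g)
  constructor
  · intro h1
    have h2 : g * (a * b) * e = a * b * g * e := by
      calc g * (a * b) * e = g * (a * b * e) := by group
        _ = a * b * (e * g) := by rw [hy]; group
        _ = a * b * g * e := by rw [← h1]; group
    exact mul_right_cancel h2
  · intro h1
    have h2 : a * b * (g * e) = a * b * (e * g) := by
      calc a * b * (g * e) = (a * b * g) * e := by group
        _ = g * (a * b * e) := by rw [← h1]; group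
        _ = a * b * (e * g) := by rw [hy]; group
    exact mul_left_cancel h2

theorem cent_e : centralizer ({e} : Set D) = centralizer ({a * b} : Set D) := by
  ext g
  rw [mem_centralizer_singleton_iff, mem_centralizer_singleton_iff]
  exact h.comm_e_iff

/-- subgroups commuting with `A` and `B` are elementary abelian -/
theorem sq_of_comm {g : D} (h1 : ∀ x ∈ A, g * x = x * g) (h2 : ∀ x ∈ B, g * x = x * g) : g * g = 1 := by
  rcases h.cAB g (mem_top g) h1 h2 with h3 | h3 | h3 | h3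
  · rw [h3, one_mul]
  · rw [h3, h.zz]
  · rw [h3, h.ee]
  · rw [h3, h.yy]

/-- the elements of order 4 of an `SL₂(3)` do not commute with `A` and `B` -/
theorem not_both {x : D} {J : Subgroup D} (hJ : IsPr J x) (h1 : ∀ g ∈ J, ∀ c ∈ A, g * c = c * g)
    (h2 : ∀ g ∈ J, ∀ c ∈ B, g * c = c * g) : False := by
  obtain ⟨p, hp, -, -, hpp, -⟩ := hJ.t3.ex4
  have h3 := h.sq_of_comm (h1 p hp) (h2 p hp)
  rw [hpp] at h3
  exact hJ.t3.z_ne h3

variable [Finite D]

/-- `O(C(z)) = 1` -/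
theorem core_eq_bot : pPrimeCore 2 ↥(centralizer ({a * b} : Set D)) = ⊥ := by
  haveI : Fact (Nat.Prime 2) := ⟨Nat.prime_two⟩
  set C := centralizer ({a * b} : Set D) with hC
  have hn : (pPrimeCore 2 C).Normal := Lib.Cores.pPrimeCore_normal 2
  have hodd : ¬ 2 ∣ Nat.card (pPrimeCore 2 C) := not_two_dvd_oddCore C
  have hO2 : ∀ o ∈ pPrimeCore 2 C, ∀ p ∈ pCore 2 C, o * p = p * o := by
    intro o ho p hp
    have hn2 : (pCore 2 C).Normal := Lib.Cores.pCore_normal 2
    have h1 : o * p * o⁻¹ * p⁻¹ ∈ pCore 2 C ⊓ pPrimeCore 2 C := by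
      refine Subgroup.mem_inf.2 ⟨mul_mem (hn2.conj_mem p hp o) (inv_mem hp), ?_⟩
      have h2 := mul_mem ho (hn.conj_mem _ (inv_mem ho) p)
      have h3 : o * p * o⁻¹ * p⁻¹ = o * (p * o⁻¹ * p⁻¹) := by group
      rwa [h3]
    rw [Lib.Cores.pCore_inf_pPrimeCore 2, mem_bot, mul_inv_eq_one, mul_inv_eq_iff_eq_mul] at h1
    exact h1
  have hsq : ∀ o ∈ pPrimeCore 2 C, o * o = 1 → o = 1 := by
    intro o ho h2
    by_contra hne
    apply hodd
    have h3 : orderOf o = 2 := orderOf_eq_prime (by rw [pow_two, h2]) hne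
    have h4 := _root_.orderOf_dvd_natCard (⟨o, ho⟩ : pPrimeCore 2 C)
    rwa [Subgroup.orderOf_mk, h3] at h4
  -- elements of `O(C) ∩ A B` are trivial
  have key : ∀ o ∈ pPrimeCore 2 C, ∀ x ∈ A, ∀ y ∈ B, (o : D) = x * y → o = 1 := by
    intro o ho x hx y hy hoxy
    have hx1 : x = 1 ∨ x = a * b := by
      refine h.prA.t3.cen x hx fun q hq hqq => ?_
      have hqP := (h.prA.subgroupOf h.sA.1).mem_pCore h.sA.2 (y := ⟨q, h.sA.1 hq⟩) hq (Subtype.ext hqq)
      have h3 : (o : D) * q = q * o := congrArg Subtype.val (hO2 o ho _ hqP)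
      rw [hoxy] at h3
      have h4 : y * q = q * y := (h.AB q hq y hy).symm
      have h5 : x * q * y = q * x * y := by
        calc x * q * y = x * (y * q) := by rw [h4]; group
          _ = q * (x * y) := by rw [← h3]; group
          _ = q * x * y := by group
      exact mul_right_cancel h5
    have hy1 : y = 1 ∨ y = a * b := by
      refine h.prB.t3.cen y hy fun q hq hqq => ?_
      have hqP := (h.prB.subgroupOf h.sB.1).mem_pCore h.sB.2 (y := ⟨q, h.sB.1 hq⟩) hq (Subtype.ext hqq)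
      have h3 : (o : D) * q = q * o := congrArg Subtype.val (hO2 o ho _ hqP)
      rw [hoxy] at h3
      have h4 : x * q = q * x := h.AB x hx q hq
      have h5 : x * (y * q) = x * (q * y) := by
        calc x * (y * q) = x * y * q := by group
          _ = q * (x * y) := h3
          _ = (q * x) * y := by group
          _ = x * (q * y) := by rw [← h4]; group
      exact mul_left_cancel h5
    refine hsq o ho (Subtype.ext ?_)
    show (o : D) * o = 1
    have hz := h.zz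
    rw [hoxy]
    rcases hx1 with rfl | rfl <;> rcases hy1 with rfl | rfl
    · simp
    · rw [one_mul, hz]
    · rw [mul_one, hz]
    · rw [hz, one_mul]
  -- `A B` as a set
  have hAB : ∀ g ∈ A ⊔ B, ∃ x ∈ A, ∃ y ∈ B, g = x * y := fun g hg =>
    (Cfsg.Agent.TwoFusion.ClosedFunctor.mem_sup_of_comm h.AB).1 hg
  have hcen : ∀ o ∈ pPrimeCore 2 C, ∀ g ∈ A ⊔ B, (o : D) * g = g * o := by
    intro o ho g hg
    have hgC : g ∈ C := (sup_le h.sA.1 h.sB.1) hg
    have h1 : (o : D) * g * (o : D)⁻¹ ∈ A ⊔ B := by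
      have h2 := h.nor (o : D) (mem_top _) (mem_centralizer_singleton_iff.1 o.2)
      rw [← h2]
      exact conj_mem_cj hg
    have h3 : (o : D) * g * (o : D)⁻¹ * g⁻¹ ∈ A ⊔ B := mul_mem h1 (inv_mem hg)
    have h4 : o * ⟨g, hgC⟩ * o⁻¹ * (⟨g, hgC⟩ : C)⁻¹ ∈ pPrimeCore 2 C := by
      have h5 := mul_mem ho (hn.conj_mem _ (inv_mem ho) (⟨g, hgC⟩ : C))
      have h6 : o * ⟨g, hgC⟩ * o⁻¹ * (⟨g, hgC⟩ : C)⁻¹ = o * (⟨g, hgC⟩ * o⁻¹ * (⟨g, hgC⟩ : C)⁻¹) := by group
      rwa [h6]
    obtain ⟨x, hx, y, hy, hxy⟩ := hAB _ h3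
    have h7 := key _ h4 x hx y hy hxy
    have h8 : (o : D) * g * (o : D)⁻¹ * g⁻¹ = 1 := congrArg Subtype.val h7
    rw [mul_inv_eq_one, mul_inv_eq_iff_eq_mul] at h8
    exact h8
  rw [eq_bot_iff]
  intro o ho
  rw [mem_bot]
  refine hsq o ho (Subtype.ext ?_)
  exact h.sq_of_comm (fun x hx => hcen o ho x (mem_sup_left hx)) (fun x hx => hcen o ho x (mem_sup_right hx))

/-- a classical pair at `z` is `A` or `B` -/
theorem eq_of_cl {J : Subgroup D} (hJ : Cl (a * b) J) : J = A ∨ J = B := by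
  set C := centralizer ({a * b} : Set D) with hC
  have hO : oddCore ↥C = ⊥ := h.core_eq_bot
  have hz : ∀ x : C, x * ⟨a * b, h.sA.1 h.prA.mem⟩ = ⟨a * b, h.sA.1 h.prA.mem⟩ * x := fun x =>
    Subtype.ext (mem_centralizer_singleton_iff.1 x.2)
  have kJ := hJ.pr.subgroupOf hJ.sn.1
  have kA := h.prA.subgroupOf h.sA.1
  have kB := h.prB.subgroupOf h.sB.1
  rcases SLThree.eq_or_cm hO hz kJ.isSl kA.isSl hJ.sn.2 h.sA.2 with h1 | h1
  · left
    have := congrArg (fun K : Subgroup C => K.map C.subtype) h1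
    rwa [map_subgroupOf_eq_of_le hJ.sn.1, map_subgroupOf_eq_of_le h.sA.1] at this
  rcases SLThree.eq_or_cm hO hz kJ.isSl kB.isSl hJ.sn.2 h.sB.2 with h2 | h2
  · right
    have := congrArg (fun K : Subgroup C => K.map C.subtype) h2
    rwa [map_subgroupOf_eq_of_le hJ.sn.1, map_subgroupOf_eq_of_le h.sB.1] at this
  exfalso
  refine h.not_both hJ.pr ?_ ?_
  · intro g hg c hc
    exact congrArg Subtype.val (h1 ⟨g, hJ.sn.1 hg⟩ hg ⟨c, h.sA.1 hc⟩ hc)
  · intro g hg c hc
    exact congrArg Subtype.val (h2 ⟨g, hJ.sn.1 hg⟩ hg ⟨c, h.sB.1 hc⟩ hc)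

/-- there is no classical pair at `e` -/
theorem not_cl_e {J : Subgroup D} (hJ : Cl e J) (hz1 : e ≠ a * b) : False := by
  set C := centralizer ({a * b} : Set D) with hC
  have hJC : Sn J C := by rw [hC, ← h.cent_e]; exact hJ.sn
  have hz : ∀ x : C, x * ⟨a * b, h.sA.1 h.prA.mem⟩ = ⟨a * b, h.sA.1 h.prA.mem⟩ * x := fun x =>
    Subtype.ext (mem_centralizer_singleton_iff.1 x.2)
  have he : ∀ x : C, x * ⟨e, hJC.1 hJ.pr.mem⟩ = ⟨e, hJC.1 hJ.pr.mem⟩ * x := fun x =>
    Subtype.ext (h.comm_e_iff.2 (mem_centralizer_singleton_iff.1 x.2))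
  have kJ := hJ.pr.subgroupOf hJC.1
  have kA := h.prA.subgroupOf h.sA.1
  have kB := h.prB.subgroupOf h.sB.1
  have hne : (⟨e, hJC.1 hJ.pr.mem⟩ : C) ≠ ⟨a * b, h.sA.1 h.prA.mem⟩ := fun h1 => hz1 (congrArg Subtype.val h1)
  have h1 := cm_of_ne h.core_eq_bot he hz hne kJ kA hJC.2 h.sA.2
  have h2 := cm_of_ne h.core_eq_bot he hz hne kJ kB hJC.2 h.sB.2
  refine h.not_both hJ.pr ?_ ?_
  · intro g hg c hc
    exact congrArg Subtype.val (h1 ⟨g, hJC.1 hg⟩ hg ⟨c, h.sA.1 hc⟩ hc)
  · intro g hg c hc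
    exact congrArg Subtype.val (h2 ⟨g, hJC.1 hg⟩ hg ⟨c, h.sB.1 hc⟩ hc)

omit [Finite D] in
/-- the frame with `A`, `B` exchanged -/
theorem exists_swap : ∃ a' b' : D, a' * b' = a * b ∧ Sheet (⊤ : Subgroup D) a' b' e B A := by
  obtain ⟨s, -, -, hse, hsz, hsA, hsB⟩ := h.swap
  have h1 := h.conj s
  have e1 : cj s (⊤ : Subgroup D) = ⊤ := by
    rw [eq_top_iff]
    intro x _
    rw [mem_cj]; exact mem_top _
  have e2 : s * e * s⁻¹ = e := by rw [hse, mul_inv_cancel_right]
  rw [e1, e2, hsA, hsB] at h1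
  refine ⟨_, _, ?_, h1⟩
  calc s * a * s⁻¹ * (s * b * s⁻¹) = s * (a * b) * s⁻¹ := by group
    _ = a * b := by rw [hsz, mul_inv_cancel_right]

omit [Finite D] in
/-- the frame with `a` replaced by another product of elements of order 4 -/
theorem exists_move {p q : D} (hp : p ∈ A) (hq : q ∈ B) (hpp : p * p = a * b) (hqq : q * q = a * b) :
    Sheet (⊤ : Subgroup D) (p * q) (p * q * (a * b)) e A B := by
  obtain ⟨p0, hp0, q0, hq0, hpp0, hqq0, ha⟩ := h.a_eq
  obtain ⟨g, hg, hgp⟩ := h.prA.t3.conj p0 hp0 p hp hpp0 hpp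
  obtain ⟨k, hk, hkq⟩ := h.prB.t3.conj q0 hq0 q hq hqq0 hqq
  have h1 := h.conj (g * k)
  have e1 : cj (g * k) (⊤ : Subgroup D) = ⊤ := by
    rw [eq_top_iff]
    intro x _
    rw [mem_cj]; exact mem_top _
  have hgz : g * (a * b) = a * b * g := h.A_comm hg
  have hkz : k * (a * b) = a * b * k := h.B_comm hk
  have hgk : g * k * (a * b) = a * b * (g * k) := by rw [mul_assoc, hkz, ← mul_assoc, hgz, mul_assoc]
  have e2 : g * k * e * (g * k)⁻¹ = e := by rw [h.comm_e_iff.2 hgk, mul_inv_cancel_right]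
  have c1 : k * p0 = p0 * k := (h.AB p0 hp0 k hk).symm
  have c2 : g * q0 = q0 * g := h.AB g hg q0 hq0
  have c3 : g * q = q * g := h.AB g hg q hq
  have e3 : g * k * a * (g * k)⁻¹ = p * q := by
    rw [ha]
    calc g * k * (p0 * q0) * (g * k)⁻¹ = g * (k * p0) * q0 * k⁻¹ * g⁻¹ := by group
      _ = (g * p0) * (k * q0 * k⁻¹) * g⁻¹ := by rw [c1]; group
      _ = g * p0 * (q * g⁻¹) := by rw [hkq, mul_assoc]
      _ = (g * p0 * g⁻¹) * q := by
        have : q * g⁻¹ = g⁻¹ * q := ((show Commute g q from c3).inv_left.eq).symm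
        rw [this]; group
      _ = p * q := by rw [hgp]
  have hb : b = a * (a * b) := by rw [← mul_assoc, h.aa, one_mul]
  have e4 : g * k * b * (g * k)⁻¹ = p * q * (a * b) := by
    calc g * k * b * (g * k)⁻¹ = g * k * (a * (a * b)) * (g * k)⁻¹ := by rw [← hb]
      _ = (g * k * a * (g * k)⁻¹) * (g * k * (a * b) * (g * k)⁻¹) := by group
      _ = p * q * (a * b) := by rw [e3, hgk, mul_inv_cancel_right]
  have e5 : cj (g * k) A = A := by
    ext x
    rw [mem_cj]
    have hn : ∀ y ∈ A, k * y * k⁻¹ = y := fun y hy => by rw [← h.AB y hy k hk, mul_inv_cancel_right]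
    constructor
    · intro hx
      have h2 := mul_mem (mul_mem hg hx) (inv_mem hg)
      have h3 := hn _ hx
      have h4 : x = g * (k * ((g * k)⁻¹ * x * (g * k)) * k⁻¹) * g⁻¹ := by group
      rw [h4, h3]; exact h2
    · intro hx
      have h2 := mul_mem (mul_mem (inv_mem hg) hx) hg
      have h3 : k⁻¹ * (g⁻¹ * x * g) * k = g⁻¹ * x * g := by
        rw [mul_assoc, h.AB _ h2 k hk]; group
      have h4 : (g * k)⁻¹ * x * (g * k) = k⁻¹ * (g⁻¹ * x * g) * k := by group
      rw [h4, h3]; exact h2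
  have e6 : cj (g * k) B = B := by
    ext x
    rw [mem_cj]
    have hn : ∀ y ∈ B, g⁻¹ * y * g = y := fun y hy => by
      rw [mul_assoc, ← h.AB g hg y hy]; group
    constructor
    · intro hx
      have h2 := mul_mem (mul_mem hk hx) (inv_mem hk)
      have h3 := hn _ h2
      have h4 : g⁻¹ * (k * ((g * k)⁻¹ * x * (g * k)) * k⁻¹) * g = g⁻¹ * (g⁻¹ * x * g) * g := by group
      have h5 : x = g * (k * ((g * k)⁻¹ * x * (g * k)) * k⁻¹) * g⁻¹ := by group
      have h6 : g * (k * ((g * k)⁻¹ * x * (g * k)) * k⁻¹) * g⁻¹ = k * ((g * k)⁻¹ * x * (g * k)) * k⁻¹ := by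
        rw [h.AB g hg _ h2, mul_inv_cancel_right]
      rw [h5, h6]; exact h2
    · intro hx
      have h3 := hn x hx
      have h4 : (g * k)⁻¹ * x * (g * k) = k⁻¹ * (g⁻¹ * x * g) * k := by group
      rw [h4, h3]
      exact mul_mem (mul_mem (inv_mem hk) hx) hk
  rw [e1, e2, e3, e4, e5, e6] at h1
  exact h1

/-- the position at `z` -/
theorem of_pos {A' B' : Subgroup D} {w : D} (hp : Pos (a * b) A' B' w) :
    ∃ e' : D, Sheet (⊤ : Subgroup D) w (w * (a * b)) e' A' B' := by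
  have hne : A' ≠ B' := by
    intro h1
    obtain ⟨p, hpA, q, hqA, -, -, hpq⟩ := hp.a.pr.t3.ex4
    exact hpq (mem_centralizer_iff.1 (hp.comm (h1 ▸ hqA)) p hpA)
  obtain ⟨p, hpA, q, hqB, hpp, hqq, rfl⟩ := hp.dec
  rcases h.eq_of_cl hp.a with h1 | h1 <;> rcases h.eq_of_cl hp.b with h2 | h2
  · exact absurd (h1.trans h2.symm) hne
  · subst h1 h2
    exact ⟨e, h.exists_move hpA hqB hpp hqq⟩
  · subst h1 h2
    obtain ⟨a', b', hab, h3⟩ := h.exists_swap
    rw [← hab] at hpp hqq ⊢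
    exact ⟨e, h3.exists_move hpA hqB hpp hqq⟩
  · exact absurd (h1.trans h2.symm) hne

end Sheet

end

/-- **(KD), `2.U₄(3)`** -/
theorem rowD (hS : ExSheet.{u}) : RowD.{u} := by
  intro D _ _ hD x A B w hp
  obtain ⟨a, b, e, A₀, B₀, h⟩ := hS D hD
  obtain ⟨hq, hc2, F, _, _, hF, ⟨f⟩⟩ := hD
  have hF' : Fintype.card F = 3 ^ 2 := by rw [hF]; norm_num
  -- no classical pair at a central involution
  have hcentral : ∀ (x : D) (J : Subgroup D), Cl x J → x ∉ center D := by
    intro x J hJ hx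
    have h1 : centralizer ({x} : Set D) = ⊤ := by
      rw [eq_top_iff]
      intro g _
      exact mem_centralizer_singleton_iff.2 (mem_center_iff.1 hx g)
    have hsub : J.IsSubnormal := by
      have h2 := hJ.sn
      rw [h1] at h2
      exact h2.isSubnormal IsSubnormal.top
    have h2 := comm_component hJ.pr hsub (L := (⊤ : Subgroup D)) ⟨IsSubnormal.top, h.qs⟩
    obtain ⟨p, hp, q, hq, -, -, hpq⟩ := hJ.pr.t3.ex4
    exact hpq (h2 p hp q (mem_top q))
  have hzc : a * b ∉ center D := hcentral _ _ ⟨h.prA, h.sA⟩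
  have hne : e ≠ a * b := by
    intro h1
    exact h.y_ne (by rw [h1, h.zz])
  -- one class of involutions in the quotient
  let π : D →* PSU 4 F 3 := f.toMonoidHom.comp (QuotientGroup.mk' (center D))
  have hπ : ∀ g : D, π g = 1 ↔ g ∈ center D := by
    intro g
    show f (QuotientGroup.mk' (center D) g) = 1 ↔ _
    rw [← map_one f, f.injective.eq_iff]
    exact QuotientGroup.eq_one_iff g
  have hord : ∀ g : D, g * g = 1 → g ∉ center D → orderOf (π g) = 2 := by
    intro g hg hgc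
    refine orderOf_eq_prime ?_ (fun h1 => hgc ((hπ g).1 h1))
    rw [pow_two, ← map_mul, hg, map_one]
  obtain ⟨r, hr⟩ := PSUFour.isConj hF' (hord x hp.a.pr.t3.z_sq (hcentral _ _ hp.a)) (hord (a * b) h.zz hzc)
  obtain ⟨c, rfl⟩ : ∃ c : D, π c = r := by
    obtain ⟨g, hg⟩ := QuotientGroup.mk'_surjective (center D) (f.symm r)
    exact ⟨g, by show f (QuotientGroup.mk' (center D) g) = r; rw [hg, f.apply_symm_apply]⟩
  have h1 : π ((c * x * c⁻¹) * (a * b)⁻¹) = 1 := by
    rw [map_mul, map_mul, map_mul, map_inv, map_inv, hr, mul_inv_cancel]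
  have h2 := h.cen _ (mem_top _) (fun g _ => mem_center_iff.1 ((hπ _).1 h1) g)
  have hp' := hp.mapE (MulAut.conj c)
  have hcx : c * x * c⁻¹ = a * b := by
    rcases h2 with h3 | h3
    · exact mul_inv_eq_one.1 h3
    · exfalso
      have h4 : c * x * c⁻¹ = e := by
        rw [mul_inv_eq_iff_eq_mul] at h3
        rw [h3, ← h.y_comm _ (mem_top _)]
        exact h.e_eq
      have h5 : Cl (c * x * c⁻¹) (A.map (MulAut.conj c).toMonoidHom) := hp'.a
      rw [h4] at h5
      exact h.not_cl_e h5 hne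
  have hp2 : Pos (a * b) (A.map (MulAut.conj c).toMonoidHom) (B.map (MulAut.conj c).toMonoidHom) (c * w * c⁻¹) := by
    rw [← hcx]; exact hp'
  obtain ⟨e', h3⟩ := h.of_pos hp2
  have h4 := h3.conj c⁻¹
  have k1 : ∀ g : D, c⁻¹ * (c * g * c⁻¹) * c⁻¹⁻¹ = g := fun g => by group
  have k2 : ∀ K : Subgroup D, cj c⁻¹ (K.map (MulAut.conj c).toMonoidHom) = K := by
    intro K
    show cj c⁻¹ (cj c K) = K
    rw [cj_inv_cj]
  have e1 : cj c⁻¹ (⊤ : Subgroup D) = ⊤ := by
    rw [eq_top_iff]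
    intro x _
    rw [mem_cj]; exact mem_top _
  have k3 : c * w * c⁻¹ * (a * b) = c * (w * x) * c⁻¹ := by rw [← hcx]; group
  rw [k3, k1, k1, k2, k2, e1] at h4
  exact ⟨_, h4⟩

end Cfsg.Agent.OddHalf.NI3.Bad
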