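import Cfsg.Agent.OddHalf.NI3.Bad.RowU4
import Cfsg.Agent.Cit.HexG2
import Cfsg.Agent.Cit.HexInv

/-!
# (KD), row `G₂(3)`: `RowA` (one class of involutions)
-/

set_option autoImplicit false

namespace Cfsg.Agent.OddHalf.NI3.Bad

open Subgroup Cfsg Cfsg.Agent.OddHalf.LieOddFam Cfsg.Agent.Cit

/-- One class of involutions in `G₂(F)`, `F` finite of odd order. -/
theorem isConj_G2 {F : Type*} [Field F] [Finite F] (h2 : (2 : F) ≠ 0) {x y : ↥(Lie.chevG2.group F)}
    (hx : orderOf x = 2) (hy : orderOf y = 2) : ∃ r, r * x * r⁻¹ = y := by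
  have key : ∀ t : ↥(Lie.chevG2.group F), orderOf t = 2 → IsConj t (HexG2.g2 F h2).z := by
    intro t ht
    refine (HexG2.g2 F h2).isConj_z h2 ?_ ?_
    · rw [← pow_two, ← ht, pow_orderOf_eq_one]
    · rintro rfl
      rw [orderOf_one] at ht; omega
  exact isConj_iff.1 ((key x hx).trans (key y hy).symm)

/-- **(KD), row `G₂(3)`** -/
theorem g2 (X : Type*) [Group X] (h : FG2 X 3) : RowA X := by
  obtain ⟨F, _, _, hF, ⟨e⟩⟩ := h
  have h2 : (2 : F) ≠ 0 := by
    intro h2
    have h3 : ((3 : ℕ) : F) = 0 := by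
      rw [← hF]
      exact Nat.cast_card_eq_zero F
    have h4 : (1 : F) = 0 := by
      have : (1 : F) = ((3 : ℕ) : F) - 2 := by push_cast; norm_num
      rw [this, h3, h2, sub_zero]
    exact one_ne_zero h4
  refine rowA_of_conj fun x y hx hy => ?_
  have hx' : orderOf (e x) = 2 := by rw [MulEquiv.orderOf_eq]; exact hx
  have hy' : orderOf (e y) = 2 := by rw [MulEquiv.orderOf_eq]; exact hy
  obtain ⟨r, hr⟩ := isConj_G2 h2 hx' hy'
  refine ⟨e.symm r, ?_⟩
  apply e.injective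
  rw [map_mul, map_mul, map_inv, e.apply_symm_apply, hr]

end Cfsg.Agent.OddHalf.NI3.Bad
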