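import Cfsg.Agent.OddHalf.NI3.Bad.RowOrth

/-!
# (KD), row `L₄(3)`: `RowB` (node NI over `F₃`, THEOREM NIB; helper921)

`L₄(3) = Ω₆⁺(3)`: `rowB6` : `RowB (Om Q)`, `dim V = 6`, `-1 ∉ Ω(V)`; `l4` : the row of `KD`.
-/

set_option autoImplicit false
set_option linter.unusedSectionVars false
set_option linter.unusedVariables false
set_option linter.style.haveILetI false

namespace Cfsg.Agent.OddHalf.NI3.Bad.RowL4

open scoped commutatorElement
open QuadraticMap Module Cfsg.Agent.LieClassical.OrthCore Cfsg.Agent.OddHalf.NI3.Bad.Emb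
  Cfsg.Agent.ClassicalGeometry.OddInvolutions Cfsg.Agent.OddHalf.NI3.Bad.QPair Cfsg.Agent.OddHalf.NI3.Bad.Sim
  Cfsg.Agent.OddHalf.NI3.Bad.Frame Cfsg.Agent.OddHalf.NI3.Bad.Models Cfsg.Agent.OddHalf.NI3.Bad.Triv
  Cfsg.Agent.OddHalf.NI3.Bad.Cube Cfsg.Agent.Cit Cfsg.Agent.Cit.SolvTwo
open Cfsg.Agent.OddHalf.NI (CompIn)

theorem inn3_psl2 {K : Type*} [Field K] [Fintype K] (hK : Fintype.card K = 9)
    (hZ : Subgroup.center (Matrix.ProjectiveSpecialLinearGroup (Fin 2) K) = ⊥) :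
    Inn3 (Matrix.ProjectiveSpecialLinearGroup (Fin 2) K) := by
  haveI hp3 : Fact (Nat.Prime 3) := ⟨Nat.prime_three⟩
  haveI : Finite (Matrix.ProjectiveSpecialLinearGroup (Fin 2) K) := inferInstanceAs (Finite (_ ⧸ _))
  refine inn3_of_card hZ (m := 4) (by norm_num) ?_
  have h1 := S0243.result hK 2 (by omega)
  have h2 : Nat.gcd 2 (9 - 1) = 2 := by decide
  have h4 : ∏ i : Fin 2, (9 ^ 2 - 9 ^ (i : ℕ)) = 5760 := by decide +kernel
  have h5 : Nat.card (Matrix.ProjectiveSpecialLinearGroup (Fin 2) K) = 360 := by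
    rw [h2, h4] at h1
    omega
  rw [S0813.result 3 2 (by norm_num) (by rw [hK]; norm_num) 2 (by norm_num) (by norm_num)]
  have h6 : Nat.card (Matrix.ProjGenLinGroup (Fin 2) K) = 720 := by
    rw [S0265.result 2]
    have h8 := S0242.result hK 2 (by norm_num)
    rw [h4] at h8
    omega
  rw [h6, h5]
  norm_num

section

variable {F V : Type*} [Field F] [Fintype F] [AddCommGroup V] [Module F V] [FiniteDimensional F V]
  {Q : QuadraticForm F V}

/-- isometries of order 3 fix the invariant planes -/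
theorem planeG {ι : Type} [Fintype ι] [DecidableEq ι] {d : ι → F} {f : ι → V} (hF : Fintype.card F = 3)
    (hf : OF Q d f) {a b : ι} (hab : a ≠ b) {g : V ≃ₗ[F] V} (hgO : g ∈ O Q) (hg : g * g * g = 1)
    (h1 : ∃ r s : F, g (f a) = r • f a + s • f b) (h1' : ∃ r s : F, g (f b) = r • f a + s • f b) :
    g (f a) = f a := by
  have h2 := two_ne hF
  obtain ⟨r, s, hrs⟩ := h1
  obtain ⟨r', s', hrs'⟩ := h1'
  have hpab : polar Q (f a) (f b) = 0 := hf.orth a b hab
  have hpba : polar Q (f b) (f a) = 0 := hf.orth b a (Ne.symm hab)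
  have hna : Q (r • f a + s • f b) = d a * (r * r) + d b * (s * s) := by
    rw [Q_add, QuadraticMap.map_smul, QuadraticMap.map_smul, polar_smul_left, polar_smul_right, hpab, hf.nm, hf.nm]
    simp only [smul_eq_mul]; ring
  have h3 : d a * (r * r) + d b * (s * s) = d a := by
    have h4 := mem_O.1 hgO (f a)
    rwa [hrs, hna, hf.nm] at h4
  have h5 : d a * (r * r') + d b * (s * s') = 0 := by
    have h6 := polar_map hgO (f a) (f b)
    rw [hrs, hrs', hpab] at h6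
    simp only [polar_add_left, polar_add_right, polar_smul_left, polar_smul_right, hpab, hpba, polar_self', hf.nm,
      smul_eq_mul] at h6
    have h7 : 2 * (d a * (r * r') + d b * (s * s')) = 0 := by linear_combination h6
    exact (mul_eq_zero.1 h7).resolve_left h2
  by_cases hs : s = 0
  · rw [hs, zero_smul, add_zero] at hrs
    exact cube_scalar hF (OF_ne_zero hf a) hg hrs
  · exfalso
    have hr : r = 0 := by
      by_contra hr
      rw [mul_self_eq hF hs, mul_self_eq hF hr] at h3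
      exact hf.ne b (by linear_combination h3)
    rw [hr, zero_mul, mul_zero, zero_add] at h5
    have hs' : s' = 0 := (mul_eq_zero.1 ((mul_eq_zero.1 h5).resolve_left (hf.ne b))).resolve_left hs
    rw [hr, zero_smul, zero_add] at hrs
    rw [hs', zero_smul, add_zero] at hrs'
    have h10 : g (g (g (f a))) = f a := by
      have := congrArg (fun l : V ≃ₗ[F] V => l (f a)) hg
      exact this
    rw [hrs, map_smul, hrs', map_smul, map_smul, hrs] at h10
    have h11 := congrArg (fun y => polar Q (f a) y) h10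
    simp only [polar_smul_right, hpab, polar_self', hf.nm, smul_zero] at h11
    exact mul_ne_zero h2 (hf.ne a) h11.symm

/-- the setting -/
structure Ctx2 (Q : QuadraticForm F V) (x : V ≃ₗ[F] V) (ce : F) (d : Fin 2 → F)
    (e : Fin 4 → V) (f : Fin 2 → V) : Prop where
  hF : Fintype.card F = 3
  nd : Nondeg Q
  hn : finrank F V = 6
  neg : ¬ Neg Q
  he : OF Q (fun _ => ce) e
  hf : OF Q d f
  ef : ∀ i k, polar Q (e i) (f k) = 0
  xO : x ∈ O Q
  xe : ∀ i, x (e i) = -e i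
  xf : ∀ k, x (f k) = f k

variable {x : V ≃ₗ[F] V} {ce : F} {d : Fin 2 → F} {e : Fin 4 → V} {f : Fin 2 → V}

namespace Ctx2

variable (h : Ctx2 Q x ce d e f)

include h

theorem h2 : (2 : F) ≠ 0 := two_ne h.hF

theorem full : OF Q (Sum.elim (fun _ => ce) d) (Sum.elim e f) := OF_sum h.he h.hf h.ef

theorem full_card : Fintype.card (Fin 4 ⊕ Fin 2) = finrank F V := by
  rw [Fintype.card_sum, Fintype.card_fin, Fintype.card_fin, h.hn]

theorem ext {g k : V ≃ₗ[F] V} (h1 : ∀ i, g (e i) = k (e i)) (h3 : ∀ i, g (f i) = k (f i)) : g = k := by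
  have h4 : ∀ v, (k⁻¹ * g) v = v := by
    apply ext_full h.h2 h.full h.full_card
    have h5 : ∀ v, g v = k v → (k⁻¹ * g) v = v := by
      intro v hv
      show k.symm (g v) = v
      rw [hv, k.symm_apply_apply]
    rintro (i | i)
    · exact h5 _ (h1 i)
    · exact h5 _ (h3 i)
  ext v
  have h5 : k.symm (g v) = v := h4 v
  rw [← k.apply_symm_apply (g v), h5]

theorem mem_plus {v : V} (hv : x v = v) (i : Fin 4) : polar Q (e i) v = 0 := by
  rw [polar_comm]
  exact eig_orth h.h2 h.xO hv (h.xe i)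

/-- `V_+ = ⟨f 0, f 1⟩` -/
theorem plus_span {v : V} (hv : x v = v) : ∃ r s : F, v = r • f 0 + s • f 1 := by
  have h1 : v - (h.hf.ad h.h2).L ((h.hf.ad h.h2).R v) = 0 := by
    apply h.full.eq_zero h.h2 h.full_card
    rintro (i | i)
    · show polar Q (e i) _ = 0
      rw [polar_sub_right, h.mem_plus hv, h.hf.L_apply h.h2]
      have h3 : polar Q (e i) (∑ k, (h.hf.ad h.h2).R v k • f k) = 0 := by
        rw [polar_comm, polar_sum_left]
        refine Finset.sum_eq_zero fun k _ => ?_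
        rw [polar_comm, h.ef, mul_zero]
      rw [h3, sub_zero]
    · exact OF_proj_mem h.h2 h.hf v i
  refine ⟨(h.hf.ad h.h2).R v 0, (h.hf.ad h.h2).R v 1, ?_⟩
  rw [← Fin.sum_univ_two (fun i => (h.hf.ad h.h2).R v i • f i), ← h.hf.L_apply h.h2]
  exact sub_eq_zero.1 h1

theorem swap_span {v : V} (hv : ∃ r s : F, v = r • f 0 + s • f 1) : ∃ r s : F, v = r • f 1 + s • f 0 := by
  obtain ⟨r, s, hrs⟩ := hv
  exact ⟨s, r, by rw [hrs, add_comm]⟩

/-- the elements of order 3 of `C(x)` are trivial on `V_+` -/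
theorem cube_fix {v : V ≃ₗ[F] V} (hvO : v ∈ O Q) (hvx : v * x = x * v) (hv3 : v * v * v = 1) :
    ∀ i, v (f i) = f i := by
  have hcx : ∀ i, x (v (f i)) = v (f i) := by
    intro i
    have h3 : (x * v) (f i) = (v * x) (f i) := by rw [hvx]
    have h4 : x (v (f i)) = v (x (f i)) := h3
    rw [h4, h.xf]
  intro i
  fin_cases i
  · exact planeG h.hF h.hf (a := 0) (b := 1) (by decide) hvO hv3 (h.plus_span (hcx 0)) (h.plus_span (hcx 1))
  · exact planeG h.hF h.hf (a := 1) (b := 0) (by decide) hvO hv3 (h.swap_span (h.plus_span (hcx 1)))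
      (h.swap_span (h.plus_span (hcx 0)))

theorem triv {J : Subgroup (V ≃ₗ[F] V)} (hJ : IsPr J x) (hs : J ≤ Om Q ⊓ Subgroup.centralizer {x})
    {g : V ≃ₗ[F] V} (hg : g ∈ J) : ∀ i, g (f i) = f i := by
  let S : Subgroup (V ≃ₗ[F] V) :=
    { carrier := {g | ∀ i, g (f i) = f i}
      mul_mem' := fun {a b} ha hb i => by
        show a (b (f i)) = f i
        rw [hb i, ha i]
      one_mem' := fun _ => rfl
      inv_mem' := fun {a} ha i => by
        show a.symm (f i) = f i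
        rw [LinearEquiv.symm_apply_eq, ha i] }
  have h1 : J ≤ S := by
    apply hJ.le_of_cube
    intro w hw hw3
    have h4 := hs hw
    rw [Subgroup.mem_inf, Subgroup.mem_centralizer_singleton_iff] at h4
    exact h.cube_fix (Subgroup.commutator_le_self _ h4.1) h4.2 hw3
  exact h1 hg

end Ctx2

/-! ### The family `e₂, e₃, f` -/

/-- values -/
def dm4 (ce : F) (d : Fin 2 → F) : Fin 2 ⊕ Fin 2 → F := Sum.elim (fun _ => ce) d

/-- the family -/
def fm4 (e : Fin 4 → V) (f : Fin 2 → V) : Fin 2 ⊕ Fin 2 → V := Sum.elim (e ∘ ![2, 3]) f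

theorem hfm4 (h : Ctx2 Q x ce d e f) : OF Q (dm4 ce d) (fm4 e f) :=
  OF_sum (h.he.comp ![2, 3] RowOrth.inj23) h.hf fun i k => h.ef _ k

theorem fm4_e0 (h : Ctx2 Q x ce d e f) {l : Fin 4} (hl : l = 0 ∨ l = 1) (i : Fin 2 ⊕ Fin 2) :
    polar Q (fm4 e f i) (e l) = 0 := by
  rcases i with i | i
  · refine h.he.orth _ _ ?_
    fin_cases i <;> rcases hl with rfl | rfl <;> decide
  · show polar Q (f i) (e l) = 0
    rw [polar_comm]; exact h.ef l i

/-- `w` : `-1` on `e₀, e₁` -/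
structure WW (e : Fin 4 → V) (f : Fin 2 → V) (w : V ≃ₗ[F] V) : Prop where
  w0 : w (e 0) = -e 0
  w1 : w (e 1) = -e 1
  w2 : w (e 2) = e 2
  w3 : w (e 3) = e 3
  wf : ∀ i, w (f i) = f i

/-- `-1` on the family -/
theorem ng4 (h : Ctx2 Q x ce d e f) {w : V ≃ₗ[F] V} (hw : WW e f w) :
    ((hfm4 h).ad h.h2).ng = LinearEquiv.neg F * w := by
  have h0 : ∀ l : Fin 4, (l = 0 ∨ l = 1) → ((hfm4 h).ad h.h2).ng (e l) = e l := by
    intro l hl
    rw [OF_ng_iff]
    exact fun i => fm4_e0 h hl i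
  have h1 : ∀ i, ((hfm4 h).ad h.h2).ng (fm4 e f i) = -fm4 e f i := fun i => OF_ng_f h.h2 (hfm4 h) i
  apply h.ext
  · intro i
    show ((hfm4 h).ad h.h2).ng (e i) = -(w (e i))
    fin_cases i
    · show ((hfm4 h).ad h.h2).ng (e 0) = -(w (e 0))
      rw [h0 0 (Or.inl rfl), hw.w0, neg_neg]
    · show ((hfm4 h).ad h.h2).ng (e 1) = -(w (e 1))
      rw [h0 1 (Or.inr rfl), hw.w1, neg_neg]
    · show ((hfm4 h).ad h.h2).ng (e 2) = -(w (e 2))
      rw [hw.w2]; exact h1 (Sum.inl 0)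
    · show ((hfm4 h).ad h.h2).ng (e 3) = -(w (e 3))
      rw [hw.w3]; exact h1 (Sum.inl 1)
  · intro i
    show ((hfm4 h).ad h.h2).ng (f i) = -(w (f i))
    rw [hw.wf]; exact h1 (Sum.inr i)

theorem comm_ng4 (h : Ctx2 Q x ce d e f) {w : V ≃ₗ[F] V} (hw : WW e f w) {g : V ≃ₗ[F] V} (hg : g * w = w * g) :
    g * ((hfm4 h).ad h.h2).ng = ((hfm4 h).ad h.h2).ng * g := by
  rw [ng4 h hw, ← mul_assoc, Ctx3.neg_comm, mul_assoc, hg, mul_assoc]

theorem B_comm (h : Ctx2 Q x ce d e f) {w : V ≃ₗ[F] V} (hw : WW e f w) {g : V ≃ₗ[F] V}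
    (hg : g ∈ ((hfm4 h).ad h.h2).B) : g * w = w * g := by
  have h1 : g * ((hfm4 h).ad h.h2).ng = ((hfm4 h).ad h.h2).ng * g := by
    obtain ⟨k, _, rfl⟩ := hg
    rw [Ad.ng, ← map_mul, ← map_mul, Ctx3.neg_comm]
  have h3 : w = LinearEquiv.neg F * ((hfm4 h).ad h.h2).ng := by
    rw [ng4 h hw, ← mul_assoc]
    have : (LinearEquiv.neg F : V ≃ₗ[F] V) * LinearEquiv.neg F = 1 := by
      ext v
      show - -v = v
      rw [neg_neg]
    rw [this, one_mul]
  rw [h3, ← mul_assoc, Ctx3.neg_comm, mul_assoc, h1, mul_assoc]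

theorem ne01 : (Sum.inl 0 : Fin 2 ⊕ Fin 2) ≠ Sum.inl 1 := by decide

/-- `w x` is `-1` on `e₂, e₃` -/
theorem wx (h : Ctx2 Q x ce d e f) {w : V ≃ₗ[F] V} (hw : WW e f w) :
    w * x = sg2 h.h2 (hfm4 h) (a := Sum.inl 0) (b := Sum.inl 1) ne01 := by
  have h0 : ∀ l : Fin 4, (l = 0 ∨ l = 1) →
      sg2 h.h2 (hfm4 h) (a := Sum.inl 0) (b := Sum.inl 1) ne01 (e l) = e l := by
    intro l hl
    rw [sg2_iff]
    exact ⟨fm4_e0 h hl _, fm4_e0 h hl _⟩
  apply h.ext
  · intro i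
    show w (x (e i)) = _
    rw [h.xe, map_neg]
    fin_cases i
    · show -(w (e 0)) = sg2 _ _ _ (e 0)
      rw [h0 0 (Or.inl rfl), hw.w0, neg_neg]
    · show -(w (e 1)) = sg2 _ _ _ (e 1)
      rw [h0 1 (Or.inr rfl), hw.w1, neg_neg]
    · show -(w (e 2)) = sg2 _ _ _ (e 2)
      rw [hw.w2]; exact (sg2_left h.h2 (hfm4 h) ne01).symm
    · show -(w (e 3)) = sg2 _ _ _ (e 3)
      rw [hw.w3]; exact (sg2_right h.h2 (hfm4 h) ne01).symm
  · intro i
    show w (x (f i)) = _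
    rw [h.xf, hw.wf]
    symm
    rw [sg2_iff]
    exact ⟨h.ef _ _, h.ef _ _⟩

theorem finrank4 : finrank F (Fin 2 ⊕ Fin 2 → F) = 4 := by
  rw [finrank_fintype_fun_eq_card, Fintype.card_sum, Fintype.card_fin]

theorem neg4 (h : Ctx2 Q x ce d e f) {w : V ≃ₗ[F] V} (hw : WW e f w) : ¬ Neg (DQ (dm4 ce d)) := by
  intro h1
  apply h.neg
  have h3 : ((hfm4 h).ad h.h2).ng ∈ Om Q := Ad.B_le _ ⟨_, h1, rfl⟩
  have hw' : w = sg2 h.h2 h.he (a := 0) (b := 1) (by decide) := by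
    apply h.ext
    · intro i
      fin_cases i
      · show w (e 0) = sg2 _ _ _ (e 0)
        rw [hw.w0]; exact (sg2_left h.h2 h.he _).symm
      · show w (e 1) = sg2 _ _ _ (e 1)
        rw [hw.w1]; exact (sg2_right h.h2 h.he _).symm
      · show w (e 2) = sg2 _ _ _ (e 2)
        rw [hw.w2]; symm; rw [sg2_iff]
        exact ⟨h.he.orth 0 2 (by decide), h.he.orth 1 2 (by decide)⟩
      · show w (e 3) = sg2 _ _ _ (e 3)
        rw [hw.w3]; symm; rw [sg2_iff]
        exact ⟨h.he.orth 0 3 (by decide), h.he.orth 1 3 (by decide)⟩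
    · intro i
      rw [hw.wf]; symm; rw [sg2_iff]
      exact ⟨h.ef _ _, h.ef _ _⟩
  have h4 : w ∈ Om Q := by rw [hw']; exact sg2_mem_Om h.h2 h.he _ rfl
  have h5 : ((hfm4 h).ad h.h2).ng * w = LinearEquiv.neg F := by
    have h6 : w * w = 1 := by rw [hw']; exact sg2_mul_self _ _ _
    rw [ng4 h hw, mul_assoc, h6, mul_one]
  unfold Sim.Neg
  rw [← h5]
  exact (Om Q).mul_mem h3 h4

theorem center4 (h : Ctx2 Q x ce d e f) {w : V ≃ₗ[F] V} (hw : WW e f w) :
    Subgroup.center (Om (DQ (dm4 ce d))) = ⊥ :=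
  center_eq_bot ((hfm4 h).nondeg h.h2) (by rw [finrank4]; norm_num) (neg4 h hw)

theorem qs4 (h : Ctx2 Q x ce d e f) {w : V ≃ₗ[F] V} (hw : WW e f w) :
    Cfsg.IsQuasisimple ↥((hfm4 h).ad h.h2).B ∧ Inn3 (Om (DQ (dm4 ce d))) := by
  have hnd : Nondeg (DQ (dm4 ce d)) := (hfm4 h).nondeg h.h2
  haveI : Fact (Nat.Prime 3) := ⟨Nat.prime_three⟩
  haveI : Fintype (GaloisField 3 2) := Fintype.ofFinite _
  have hK : Fintype.card (GaloisField 3 2) = 9 := by
    rw [← Nat.card_eq_fintype_card, GaloisField.card 3 2 (by norm_num)]; norm_num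
  obtain ⟨E⟩ := om4 h.hF hnd finrank4 (neg4 h hw) (K := GaloisField 3 2) hK
  have hs : IsSimpleGroup (Matrix.ProjectiveSpecialLinearGroup (Fin 2) (GaloisField 3 2)) :=
    Matrix.ProjectiveSpecialLinearGroup.rank_two_simple (by rw [Nat.card_eq_fintype_card, hK]; norm_num)
  have hs' : IsSimpleGroup (Om (DQ (dm4 ce d))) := E.isSimpleGroup
  have hc := center4 h hw
  exact ⟨SignalizersComponents.Components.isQuasisimple_of_mulEquiv ((hfm4 h).ad h.h2).BEquiv (Ctx3.qs_of hs' hc),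
    (inn3_psl2 hK (RowOrth.center_of_equiv E hc)).congr E⟩

/-- an element of order 3 of `B` commuting with `w x` is trivial -/
theorem eq_one (h : Ctx2 Q x ce d e f) {w : V ≃ₗ[F] V} (hw : WW e f w) {g : V ≃ₗ[F] V}
    (hg : g ∈ ((hfm4 h).ad h.h2).B) (h3 : g * g * g = 1) (hc : g * (w * x) = w * x * g) : g = 1 := by
  have hgF := Ad.B_le_Fx _ h.nd hg
  have hgO : g ∈ O Q := hgF.1
  rw [wx h hw] at hc
  have g0 : ∀ l : Fin 4, (l = 0 ∨ l = 1) → g (e l) = e l := by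
    intro l hl
    apply hgF.2
    rw [OF.R_eq_zero_iff]
    exact fun i => fm4_e0 h hl i
  have hsy : ∀ y, sg2 h.h2 (hfm4 h) (a := Sum.inl 0) (b := Sum.inl 1) ne01 (g y) =
      g (sg2 h.h2 (hfm4 h) (a := Sum.inl 0) (b := Sum.inl 1) ne01 y) := by
    intro y
    have h4 := congrArg (fun l : V ≃ₗ[F] V => l y) hc
    exact h4.symm
  have sp2 := sg2_neg h.h2 (hfm4 h) ne01 (y := g (e 2))
    (by rw [hsy]; exact (congrArg g (sg2_left h.h2 (hfm4 h) ne01)).trans (map_neg g _))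
  have sp3 := sg2_neg h.h2 (hfm4 h) ne01 (y := g (e 3))
    (by rw [hsy]; exact (congrArg g (sg2_right h.h2 (hfm4 h) ne01)).trans (map_neg g _))
  have g2 : g (e 2) = e 2 :=
    planeG h.hF (hfm4 h) (a := Sum.inl 0) (b := Sum.inl 1) ne01 hgO h3 sp2 sp3
  have g3 : g (e 3) = e 3 := by
    refine planeG h.hF (hfm4 h) (a := Sum.inl 1) (b := Sum.inl 0) ne01.symm hgO h3 ?_ ?_
    · obtain ⟨r, s, hrs⟩ := sp3
      exact ⟨s, r, by rw [add_comm]; exact hrs⟩
    · obtain ⟨r, s, hrs⟩ := sp2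
      exact ⟨s, r, by rw [add_comm]; exact hrs⟩
  have ge : ∀ i, g (e i) = e i := by
    intro i
    fin_cases i
    · exact g0 0 (Or.inl rfl)
    · exact g0 1 (Or.inr rfl)
    · exact g2
    · exact g3
  have hgx : g * x = x * g := by
    apply h.ext
    · intro i
      show g (x (e i)) = x (g (e i))
      rw [h.xe, map_neg, ge, h.xe]
    · intro i
      show g (x (f i)) = x (g (f i))
      rw [h.xf]
      -- `g (f i) ⊥ e`, so it is in `V_+`
      have h5 : ((h.he.ad h.h2).ng) (g (f i)) = g (f i) := by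
        rw [OF_ng_iff]
        intro k
        rw [← ge k, polar_map hgO]
        exact h.ef k i
      have h6 : (h.he.ad h.h2).ng = x := by
        apply h.ext
        · intro i
          rw [h.xe, OF_ng_f]
        · intro i
          rw [h.xf, OF_ng_iff]
          exact fun k => h.ef k i
      rw [h6] at h5
      exact h5.symm
  exact h.ext ge (h.cube_fix hgO hgx h3)

/-- **the row for `Ω₆⁺(3)`** -/
theorem rowB6 (hF : Fintype.card F = 3) (hQ : Nondeg Q) (hn : finrank F V = 6)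
    (hneg : ¬ Neg Q) : RowB ↥(Om Q) := by
  intro x A B w hpos
  have h2 := two_ne hF
  obtain ⟨p, hp, q, hq, hpp, hqq, hw⟩ := hpos.dec
  obtain ⟨j, hj, hjj, hpj⟩ := RowOrth.anti hpos.a.pr hp hpp
  obtain ⟨k, hk, hkk, hqk⟩ := RowOrth.anti hpos.b.pr hq hqq
  have hc : ∀ a ∈ A, ∀ b ∈ B, a * b = b * a := fun a ha b hb => Subgroup.mem_centralizer_iff.1 (hpos.comm hb) a ha
  have hOm : Om Q ≤ O Q := Subgroup.commutator_le_self _
  have ap : ∀ {a b : ↥(Om Q)}, a = b → ∀ v : V, (a : V ≃ₗ[F] V) v = (b : V ≃ₗ[F] V) v := by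
    intro a b hab v; rw [hab]
  have hxx : x * x = 1 := hpos.a.pr.t3.z_sq
  have hx1 : x ≠ 1 := hpos.a.pr.t3.z_ne
  have hx1' : (x : V ≃ₗ[F] V) ≠ 1 := fun h => hx1 (Subtype.ext h)
  have hQd : Qd (x : V ≃ₗ[F] V) p j q k :=
    { xx := ap hxx
      pp := ap hpp
      jj := ap hjj
      qq := ap hqq
      kk := ap hkk
      pj := ap hpj
      qk := ap hqk
      pq := ap (hc p hp q hq)
      pk := ap (hc p hp k hk)
      jq := ap (hc j hj q hq)
      jk := ap (hc j hj k hk) }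
  obtain ⟨e0, he1, he2, he3, he4, hfix⟩ := hQd.frame h2 hQ (hOm x.2) (hOm p.2) (hOm j.2) (hOm q.2) (hOm k.2)
    (by
      by_contra hcon
      push Not at hcon
      exact hx1' (LinearEquiv.ext hcon))
    (Or.inl (by rw [hn]; norm_num))
  have he := hQd.fr_OF h2 (hOm p.2) (hOm j.2) (hOm q.2) (hOm k.2) he1 he2 he3 he4
  set e := fr (p : V ≃ₗ[F] V) j e0 with hedef
  obtain ⟨d, f, hf, hef⟩ : ∃ (d : Fin 2 → F) (f : Fin 2 → V), OF Q d f ∧ ∀ i k, polar Q (e i) (f k) = 0 := by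
    have hr := finrank_pc h2 he
    rw [Fintype.card_fin, hn] at hr
    obtain ⟨c, _, f', h3⟩ := exists_OF_one h2 (nondeg_res h2 hQ he) (ι := Fin 2) (by rw [Fintype.card_fin]; omega) 0
    exact ⟨_, fun k => (f' k : V), ⟨fun i => h3.nm i, h3.ne, fun i j hij => h3.orth i j hij⟩,
      fun i k => (f' k).2 i⟩
  have h : Ctx2 Q (x : V ≃ₗ[F] V) (Q e0) d e f :=
    { hF := hF
      nd := hQ
      hn := hn
      neg := hneg
      he := he
      hf := hf
      ef := hef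
      xO := hOm x.2
      xe := hQd.fr_x he1
      xf := fun i => hfix _ fun l => hef l i }
  have hA : IsPr (A.map (Om Q).subtype) (x : V ≃ₗ[F] V) := hpos.a.pr.map (Om Q).subtype hx1'
  have hB : IsPr (B.map (Om Q).subtype) (x : V ≃ₗ[F] V) := hpos.b.pr.map (Om Q).subtype hx1'
  have hsA : Sn (A.map (Om Q).subtype) (Om Q ⊓ Subgroup.centralizer ({(x : V ≃ₗ[F] V)} : Set (V ≃ₗ[F] V))) := by
    rw [← RowOrth.cent_map]; exact hpos.a.sn.map _
  have hsB : Sn (B.map (Om Q).subtype) (Om Q ⊓ Subgroup.centralizer ({(x : V ≃ₗ[F] V)} : Set (V ≃ₗ[F] V))) := by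
    rw [← RowOrth.cent_map]; exact hpos.b.sn.map _
  have hW : WW e f (w : V ≃ₗ[F] V) := by
    obtain ⟨w0, w1, w2, w3⟩ := hQd.fr_w he1 he2
    have hwv : ∀ v, (w : V ≃ₗ[F] V) v = (p : V ≃ₗ[F] V) ((q : V ≃ₗ[F] V) v) := ap hw
    refine ⟨by rw [hwv]; exact w0, by rw [hwv]; exact w1, by rw [hwv]; exact w2, by rw [hwv]; exact w3, ?_⟩
    intro i
    have t1 : (q : V ≃ₗ[F] V) (f i) = f i := h.triv hB hsB.1 ⟨q, hq, rfl⟩ i
    have t2 : (p : V ≃ₗ[F] V) (f i) = f i := h.triv hA hsA.1 ⟨p, hp, rfl⟩ i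
    rw [hwv, t1, t2]
  set L := ((hfm4 h).ad h.h2).B with hL
  have hLle : L ≤ Om Q := Ad.B_le _
  obtain ⟨hqs, hinn⟩ := qs4 h hW
  have hwxL : (w : V ≃ₗ[F] V) * x ∈ L := by
    rw [wx h hW]
    exact sg2_mem_B h.h2 h.nd (hfm4 h) _ rfl
  have hle : L.subgroupOf (Om Q) ≤ Subgroup.centralizer ({w} : Set ↥(Om Q)) := by
    intro g hg
    rw [Subgroup.mem_centralizer_singleton_iff]
    exact Subtype.ext (B_comm h hW hg)
  refine ⟨L.subgroupOf (Om Q), ⟨hle, ?_, ?_⟩, hwxL, ?_⟩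
  · have hn : ((L.subgroupOf (Om Q)).subgroupOf (Subgroup.centralizer ({w} : Set ↥(Om Q)))).Normal := by
      rw [Subgroup.normal_subgroupOf_iff_le_normalizer hle]
      intro g hg
      rw [Subgroup.mem_centralizer_singleton_iff] at hg
      have h5 : (g : V ≃ₗ[F] V) ∈ Subgroup.normalizer (L : Set (V ≃ₗ[F] V)) :=
        Ad.normalizer_B_of_comm _ h.h2 h.nd (hOm g.2) (comm_ng4 h hW (congrArg Subtype.val hg))
      rw [Subgroup.mem_normalizer_iff] at h5 ⊢
      intro y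
      exact h5 y
    exact hn.isSubnormal
  · exact SignalizersComponents.Components.isQuasisimple_of_mulEquiv (Subgroup.subgroupOfEquivOfLe hle).symm
      (SignalizersComponents.Components.isQuasisimple_of_mulEquiv (Subgroup.subgroupOfEquivOfLe hLle).symm hqs)
  · intro α hα3 hα
    let E : ↥(L.subgroupOf (Om Q)) ≃* Om (DQ (dm4 (Q e0) d)) :=
      (Subgroup.subgroupOfEquivOfLe hLle).trans ((hfm4 h).ad h.h2).BEquiv.symm
    have hcen : Subgroup.center ↥(L.subgroupOf (Om Q)) = ⊥ := RowOrth.center_of_equiv E.symm (center4 h hW)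
    obtain ⟨g, hg⟩ := hinn.congr E α hα3
    have hg3 : g * g * g = 1 := by
      have h5 : g * g * g ∈ Subgroup.center ↥(L.subgroupOf (Om Q)) := by
        rw [Subgroup.mem_center_iff]
        intro y
        have h6 : α (α (α y)) = y := by
          have := DFunLike.congr_fun hα3 y
          exact this
        rw [hg, hg, hg] at h6
        have h7 : g * (g * (g * y * g⁻¹) * g⁻¹) * g⁻¹ = (g * g * g) * y * (g * g * g)⁻¹ := by group
        rw [h7, mul_inv_eq_iff_eq_mul] at h6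
        exact h6.symm
      rwa [hcen, Subgroup.mem_bot] at h5
    have hg1 : ((g : ↥(Om Q)) : V ≃ₗ[F] V) = 1 := by
      refine eq_one h hW (g := ((g : ↥(Om Q)) : V ≃ₗ[F] V)) g.2 ?_ ?_
      · exact congrArg (fun y : ↥(L.subgroupOf (Om Q)) => ((y : ↥(Om Q)) : V ≃ₗ[F] V)) hg3
      · have h5 := hα ⟨w * x, hwxL⟩ rfl
        rw [hg, mul_inv_eq_iff_eq_mul] at h5
        exact congrArg (fun y : ↥(L.subgroupOf (Om Q)) => ((y : ↥(Om Q)) : V ≃ₗ[F] V)) h5
    have hg1' : g = 1 := Subtype.ext (Subtype.ext hg1)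
    apply MulEquiv.ext
    intro y
    rw [hg, hg1']
    simp

end

/-- **row `L₄(3)`** -/
theorem l4 (X : Type*) [Group X] [Finite X] (h : XL4 X) : RowB X := by
  obtain ⟨F, i, i', hF, ⟨e⟩⟩ := h
  have hQ := LieClassical.OrthForms.nondeg_plusForm 3 F
  have hr : finrank F (Fin 3 ⊕ Fin 3 → F) = 6 := finrank_plus 3
  have hN : ¬ Neg (LieClassical.OrthForms.plusForm 3 F) := by
    rw [neg_plus hF (by norm_num)]; norm_num
  obtain ⟨e'⟩ := om6 hF hQ hr hN
  exact (rowB6 hF hQ hr hN).congr (e.trans e'.symm)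

end Cfsg.Agent.OddHalf.NI3.Bad.RowL4
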