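import Cfsg.Agent.OddHalf.NI3.Bad.Triv
import Cfsg.Agent.OddHalf.NI3.Bad.Trans

/-!
# (KD), rows `Ω₇(3)` and `PΩ₈⁻(3)`: `RowB` (node NI over `F₃`, THEOREM NIB; helper921)

* `rowB_Om` : `RowB (Om Q)`, `dim V = 7 + m`, `m ≤ 1`, `-1 ∉ Ω(V)`;
* `o7`, `o8m` : the rows of `KD`.
-/

set_option autoImplicit false
set_option linter.unusedSectionVars false
set_option linter.unusedVariables false
set_option linter.style.haveILetI false

namespace Cfsg.Agent.OddHalf.NI3.Bad.RowOrth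

open scoped commutatorElement
open QuadraticMap Module Cfsg.Agent.LieClassical.OrthCore Cfsg.Agent.OddHalf.NI3.Bad.Emb
  Cfsg.Agent.ClassicalGeometry.OddInvolutions Cfsg.Agent.OddHalf.NI3.Bad.QPair Cfsg.Agent.OddHalf.NI3.Bad.Sim
  Cfsg.Agent.OddHalf.NI3.Bad.Frame Cfsg.Agent.OddHalf.NI3.Bad.Models Cfsg.Agent.OddHalf.NI3.Bad.Triv
  Cfsg.Agent.OddHalf.NI3.Bad.Cube Cfsg.Agent.Cit Cfsg.Agent.Cit.SolvTwo
open Cfsg.Agent.OddHalf.NI (CompIn)

/-! ### Groups -/

set_option maxRecDepth 100000 in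
theorem X_anti : ∀ a : SolvTwo.X, a * a = -1 → ∃ j : SolvTwo.X, j * j = -1 ∧ a * j = -1 * (j * a) := by
  decide +kernel

/-- an element of order 4 of `SL₂(3)` is inverted by another one -/
theorem anti {G : Type*} [Group G] {J : Subgroup G} {z : G} (h : IsPr J z) {a : G} (ha : a ∈ J) (h2 : a * a = z) :
    ∃ j ∈ J, j * j = z ∧ a * j = z * (j * a) := by
  obtain ⟨e⟩ := h.iso
  have hz : e ⟨z, h.mem⟩ = -1 := by
    have h2 : z * z = 1 := by rw [← pow_two, ← h.ord, pow_orderOf_eq_one]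
    have h3 : z ≠ 1 := by rintro rfl; have := h.ord; rw [orderOf_one] at this; omega
    have h4 : (e ⟨z, h.mem⟩) * (e ⟨z, h.mem⟩) = 1 := by
      rw [← map_mul, ← map_one e]; congr 1; exact Subtype.ext h2
    rcases SLThreeMain.sq_sl23 _ h4 with h5 | h5
    · exfalso; apply h3
      have h6 : (⟨z, h.mem⟩ : J) = 1 := e.injective (by rw [h5, map_one])
      exact congrArg Subtype.val h6
    · exact h5
  obtain ⟨j, hj, haj⟩ := X_anti (e ⟨a, ha⟩) (by
    rw [← map_mul, ← hz]; congr 1; exact Subtype.ext h2)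
  refine ⟨(e.symm j : J), (e.symm j).2, ?_, ?_⟩
  · have h5 : e.symm j * e.symm j = ⟨z, h.mem⟩ := by
      apply e.injective
      rw [map_mul, e.apply_symm_apply, hj, hz]
    exact congrArg Subtype.val h5
  · have h5 : (⟨a, ha⟩ : J) * e.symm j = ⟨z, h.mem⟩ * (e.symm j * ⟨a, ha⟩) := by
      apply e.injective
      rw [map_mul, map_mul, map_mul, e.apply_symm_apply, haj, hz]
    exact congrArg Subtype.val h5

section

variable {F V : Type*} [Field F] [Fintype F] [AddCommGroup V] [Module F V] [FiniteDimensional F V]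
  {Q : QuadraticForm F V}

/-! ### Diagonal maps -/

/-- `g` is diagonal -/
def Dg {m : ℕ} (e : Fin 4 → V) (f : Fin 3 ⊕ Fin m → V) (g : V ≃ₗ[F] V) : Prop :=
  (∀ i, g (e i) = e i ∨ g (e i) = -e i) ∧ ∀ i, g (f i) = f i ∨ g (f i) = -f i

variable {x : V ≃ₗ[F] V} {m : ℕ} {ce c : F} {d : Fin 3 ⊕ Fin m → F} {e : Fin 4 → V} {f : Fin 3 ⊕ Fin m → V}

theorem Dg.comm (h : Ctx3 Q x m ce c d e f) {g k : V ≃ₗ[F] V} (hg : Dg e f g) (hk : Dg e f k) : g * k = k * g := by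
  have key : ∀ v : V, (g v = v ∨ g v = -v) → (k v = v ∨ k v = -v) → g (k v) = k (g v) := by
    intro v h1 h2
    rcases h1 with h1 | h1 <;> rcases h2 with h2 | h2 <;> simp only [h1, h2, map_neg]
  apply h.ext
  · intro i; exact key _ (hg.1 i) (hk.1 i)
  · intro i; exact key _ (hg.2 i) (hk.2 i)

theorem Dg.mul {g k : V ≃ₗ[F] V} (hg : Dg e f g) (hk : Dg e f k) : Dg e f (g * k) := by
  have key : ∀ v : V, (g v = v ∨ g v = -v) → (k v = v ∨ k v = -v) → (g (k v) = v ∨ g (k v) = -v) := by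
    intro v h1 h2
    rcases h1 with h1 | h1 <;> rcases h2 with h2 | h2 <;> rw [h2]
    · left; exact h1
    · right; rw [map_neg, h1]
    · right; exact h1
    · left; rw [map_neg, h1, neg_neg]
  exact ⟨fun i => key _ (hg.1 i) (hk.1 i), fun i => key _ (hg.2 i) (hk.2 i)⟩

/-! ### The family `e₂, e₃, f` -/

theorem inj23 : Function.Injective (![2, 3] : Fin 2 → Fin 4) := by decide

/-- values -/
def d5 (ce : F) (d : Fin 3 ⊕ Fin m → F) : Fin 2 ⊕ (Fin 3 ⊕ Fin m) → F := Sum.elim (fun _ => ce) d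

/-- the family -/
def f5 (e : Fin 4 → V) (f : Fin 3 ⊕ Fin m → V) : Fin 2 ⊕ (Fin 3 ⊕ Fin m) → V := Sum.elim (e ∘ ![2, 3]) f

theorem hf5 (h : Ctx3 Q x m ce c d e f) : OF Q (d5 ce d) (f5 e f) :=
  OF_sum (h.he.comp ![2, 3] inj23) h.hf fun i k => h.ef _ k

theorem f5_e0 (h : Ctx3 Q x m ce c d e f) {l : Fin 4} (hl : l = 0 ∨ l = 1) (i : Fin 2 ⊕ (Fin 3 ⊕ Fin m)) :
    polar Q (f5 e f i) (e l) = 0 := by
  rcases i with i | i
  · refine h.he.orth _ _ ?_
    fin_cases i <;> rcases hl with rfl | rfl <;> decide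
  · show polar Q (f i) (e l) = 0
    rw [polar_comm]; exact h.ef l i

theorem Dg_sg2 (h : Ctx3 Q x m ce c d e f) {a b : Fin 2 ⊕ (Fin 3 ⊕ Fin m)} (hab : a ≠ b) :
    Dg e f (sg2 h.h2 (hf5 h) hab) := by
  have key : ∀ i, sg2 h.h2 (hf5 h) hab (f5 e f i) = f5 e f i ∨ sg2 h.h2 (hf5 h) hab (f5 e f i) = -f5 e f i := by
    intro i
    by_cases ha : i = a
    · right; rw [ha]; exact sg2_left _ _ _
    · by_cases hb : i = b
      · right; rw [hb]; exact sg2_right _ _ _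
      · left
        rw [sg2_iff]
        exact ⟨(hf5 h).orth a i (Ne.symm ha), (hf5 h).orth b i (Ne.symm hb)⟩
  refine ⟨fun i => ?_, fun i => key (Sum.inr i)⟩
  have h0 : ∀ l : Fin 4, (l = 0 ∨ l = 1) → sg2 h.h2 (hf5 h) hab (e l) = e l := by
    intro l hl
    rw [sg2_iff]
    exact ⟨f5_e0 h hl a, f5_e0 h hl b⟩
  fin_cases i
  · left; exact h0 0 (Or.inl rfl)
  · left; exact h0 1 (Or.inr rfl)
  · exact key (Sum.inl 0)
  · exact key (Sum.inl 1)

/-! ### The component -/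

/-- `w` : `-1` on `e₀, e₁` -/
structure WW (e : Fin 4 → V) (f : Fin 3 ⊕ Fin m → V) (w : V ≃ₗ[F] V) : Prop where
  w0 : w (e 0) = -e 0
  w1 : w (e 1) = -e 1
  w2 : w (e 2) = e 2
  w3 : w (e 3) = e 3
  wf : ∀ i, w (f i) = f i

theorem WW.dg {w : V ≃ₗ[F] V} (hw : WW e f w) : Dg e f w := by
  refine ⟨fun i => ?_, fun i => Or.inl (hw.wf i)⟩
  fin_cases i
  · exact Or.inr hw.w0
  · exact Or.inr hw.w1
  · exact Or.inl hw.w2
  · exact Or.inl hw.w3

theorem Dg_x (h : Ctx3 Q x m ce c d e f) : Dg e f x := ⟨fun i => Or.inr (h.xe i), fun i => Or.inl (h.xf i)⟩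

theorem Dg_neg : Dg e f (LinearEquiv.neg F) := ⟨fun i => Or.inr rfl, fun i => Or.inr rfl⟩

/-- `-1` on the family -/
theorem ng5 (h : Ctx3 Q x m ce c d e f) {w : V ≃ₗ[F] V} (hw : WW e f w) :
    ((hf5 h).ad h.h2).ng = LinearEquiv.neg F * w := by
  have h0 : ∀ l : Fin 4, (l = 0 ∨ l = 1) → ((hf5 h).ad h.h2).ng (e l) = e l := by
    intro l hl
    rw [OF_ng_iff]
    exact fun i => f5_e0 h hl i
  have h1 : ∀ i, ((hf5 h).ad h.h2).ng (f5 e f i) = -f5 e f i := fun i => OF_ng_f h.h2 (hf5 h) i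
  apply h.ext
  · intro i
    show ((hf5 h).ad h.h2).ng (e i) = -(w (e i))
    fin_cases i
    · show ((hf5 h).ad h.h2).ng (e 0) = -(w (e 0))
      rw [h0 0 (Or.inl rfl), hw.w0, neg_neg]
    · show ((hf5 h).ad h.h2).ng (e 1) = -(w (e 1))
      rw [h0 1 (Or.inr rfl), hw.w1, neg_neg]
    · show ((hf5 h).ad h.h2).ng (e 2) = -(w (e 2))
      rw [hw.w2]; exact h1 (Sum.inl 0)
    · show ((hf5 h).ad h.h2).ng (e 3) = -(w (e 3))
      rw [hw.w3]; exact h1 (Sum.inl 1)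
  · intro i
    show ((hf5 h).ad h.h2).ng (f i) = -(w (f i))
    rw [hw.wf]; exact h1 (Sum.inr i)

theorem comm_ng5 (h : Ctx3 Q x m ce c d e f) {w : V ≃ₗ[F] V} (hw : WW e f w) {g : V ≃ₗ[F] V} (hg : g * w = w * g) :
    g * ((hf5 h).ad h.h2).ng = ((hf5 h).ad h.h2).ng * g := by
  rw [ng5 h hw, ← mul_assoc, Ctx3.neg_comm, mul_assoc, hg, mul_assoc]

theorem B_comm (h : Ctx3 Q x m ce c d e f) {w : V ≃ₗ[F] V} (hw : WW e f w) {g : V ≃ₗ[F] V}
    (hg : g ∈ ((hf5 h).ad h.h2).B) : g * w = w * g := by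
  have h1 : g * ((hf5 h).ad h.h2).ng = ((hf5 h).ad h.h2).ng * g := by
    obtain ⟨k, _, rfl⟩ := hg
    rw [Ad.ng, ← map_mul, ← map_mul, Ctx3.neg_comm]
  have h3 : w = LinearEquiv.neg F * ((hf5 h).ad h.h2).ng := by
    rw [ng5 h hw, ← mul_assoc]
    have : (LinearEquiv.neg F : V ≃ₗ[F] V) * LinearEquiv.neg F = 1 := by
      ext v
      show - -v = v
      rw [neg_neg]
    rw [this, one_mul]
  rw [h3, ← mul_assoc, Ctx3.neg_comm, mul_assoc, h1, mul_assoc]

theorem ne01 : (Sum.inl 0 : Fin 2 ⊕ (Fin 3 ⊕ Fin m)) ≠ Sum.inl 1 :=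
  fun h => absurd (Sum.inl_injective h) (by decide)

/-- `w x` is `-1` on `e₂, e₃` -/
theorem wx (h : Ctx3 Q x m ce c d e f) {w : V ≃ₗ[F] V} (hw : WW e f w) :
    w * x = sg2 h.h2 (hf5 h) (a := Sum.inl 0) (b := Sum.inl 1) ne01 := by
  have h0 : ∀ l : Fin 4, (l = 0 ∨ l = 1) →
      sg2 h.h2 (hf5 h) (a := Sum.inl 0) (b := Sum.inl 1) ne01 (e l) = e l := by
    intro l hl
    rw [sg2_iff]
    exact ⟨f5_e0 h hl _, f5_e0 h hl _⟩
  apply h.ext
  · intro i
    show w (x (e i)) = _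
    rw [h.xe, map_neg]
    fin_cases i
    · show -(w (e 0)) = sg2 _ _ _ (e 0)
      rw [h0 0 (Or.inl rfl), hw.w0, neg_neg]
    · show -(w (e 1)) = sg2 _ _ _ (e 1)
      rw [h0 1 (Or.inr rfl), hw.w1, neg_neg]
    · show -(w (e 2)) = sg2 _ _ _ (e 2)
      rw [hw.w2]; exact (sg2_left h.h2 (hf5 h) (ne01 (m := m))).symm
    · show -(w (e 3)) = sg2 _ _ _ (e 3)
      rw [hw.w3]; exact (sg2_right h.h2 (hf5 h) (ne01 (m := m))).symm
  · intro i
    show w (x (f i)) = _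
    rw [h.xf, hw.wf]
    symm
    rw [sg2_iff]
    exact ⟨h.ef _ _, h.ef _ _⟩

theorem finrank5 (h : Ctx3 Q x m ce c d e f) : finrank F (Fin 2 ⊕ (Fin 3 ⊕ Fin m) → F) = 5 + m := by
  rw [finrank_fintype_fun_eq_card, Fintype.card_sum, Fintype.card_sum, Fintype.card_fin, Fintype.card_fin,
    Fintype.card_fin]
  ring

theorem neg5 (h : Ctx3 Q x m ce c d e f) {w : V ≃ₗ[F] V} (hw : WW e f w) : ¬ Neg (DQ (d5 ce d)) := by
  intro h1
  apply h.neg
  have h3 : ((hf5 h).ad h.h2).ng ∈ Om Q := Ad.B_le _ ⟨_, h1, rfl⟩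
  -- `w` on `e₀, e₁`
  have hw' : w = sg2 h.h2 h.he (a := 0) (b := 1) (by decide) := by
    apply h.ext
    · intro i
      fin_cases i
      · show w (e 0) = sg2 _ _ _ (e 0)
        rw [hw.w0]; exact (sg2_left h.h2 h.he _).symm
      · show w (e 1) = sg2 _ _ _ (e 1)
        rw [hw.w1]; exact (sg2_right h.h2 h.he _).symm
      · show w (e 2) = sg2 _ _ _ (e 2)
        rw [hw.w2]; symm; rw [sg2_iff]
        exact ⟨h.he.orth 0 2 (by decide), h.he.orth 1 2 (by decide)⟩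
      · show w (e 3) = sg2 _ _ _ (e 3)
        rw [hw.w3]; symm; rw [sg2_iff]
        exact ⟨h.he.orth 0 3 (by decide), h.he.orth 1 3 (by decide)⟩
    · intro i
      rw [hw.wf]; symm; rw [sg2_iff]
      exact ⟨h.ef _ _, h.ef _ _⟩
  have h4 : w ∈ Om Q := by rw [hw']; exact sg2_mem_Om h.h2 h.he _ rfl
  have h5 : ((hf5 h).ad h.h2).ng * w = LinearEquiv.neg F := by
    have h6 : w * w = 1 := by rw [hw']; exact sg2_mul_self _ _ _
    rw [ng5 h hw, mul_assoc, h6, mul_one]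
  unfold Sim.Neg
  rw [← h5]
  exact (Om Q).mul_mem h3 h4

/-- `Ω` of the family is quasisimple, its automorphisms of order 3 are inner -/
theorem qs5 (h : Ctx3 Q x m ce c d e f) : Cfsg.IsQuasisimple ↥((hf5 h).ad h.h2).B := by
  have hnd : Nondeg (DQ (d5 ce d)) := (hf5 h).nondeg h.h2
  have hG := LieClassical.OrthFinite.good_of_finite hnd (by rw [finrank5 h]; omega)
  have h1 : Cfsg.IsQuasisimple ↥(E (DQ (d5 ce d))) := by
    refine ⟨?_, LieClassical.OrthSimple.good_isSimpleGroup hG⟩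
    rw [Group.isPerfect_def, _root_.commutator_def]
    have h3 := hG.E_perfect
    have h4 : (⁅(⊤ : Subgroup ↥(E (DQ (d5 ce d)))), ⊤⁆ : Subgroup ↥(E (DQ (d5 ce d)))).map
        (E (DQ (d5 ce d))).subtype =
        (⊤ : Subgroup ↥(E (DQ (d5 ce d)))).map (E (DQ (d5 ce d))).subtype := by
      rw [Subgroup.map_commutator, ← MonoidHom.range_eq_map, Subgroup.range_subtype, h3]
    exact Subgroup.map_injective (E (DQ (d5 ce d))).subtype_injective h4
  rw [← hG.commutator_eq_E] at h1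
  exact SignalizersComponents.Components.isQuasisimple_of_mulEquiv ((hf5 h).ad h.h2).BEquiv h1

theorem center5 (h : Ctx3 Q x m ce c d e f) {w : V ≃ₗ[F] V} (hw : WW e f w) :
    Subgroup.center (Om (DQ (d5 ce d))) = ⊥ :=
  center_eq_bot ((hf5 h).nondeg h.h2) (by rw [finrank5 h]; omega) (neg5 h hw)

theorem center_of_equiv {G H : Type*} [Group G] [Group H] (E : G ≃* H) (h : Subgroup.center G = ⊥) :
    Subgroup.center H = ⊥ := by
  rw [← LieClassical.OrthFinite.map_center_mulEquiv E, h, Subgroup.map_bot]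

theorem inn5 (h : Ctx3 Q x m ce c d e f) {w : V ≃ₗ[F] V} (hw : WW e f w) : Inn3 (Om (DQ (d5 ce d))) := by
  have hnd : Nondeg (DQ (d5 ce d)) := (hf5 h).nondeg h.h2
  have hc := center5 h hw
  have hr := finrank5 h
  have hm := h.hm
  rcases Nat.le_one_iff_eq_zero_or_eq_one.1 hm with hm0 | hm1
  · obtain ⟨E⟩ := om5 h.hF hnd (by rw [hr, hm0])
    exact (inn3_psp4 h.hF (center_of_equiv E hc)).congr E
  · obtain ⟨E⟩ := om6 h.hF hnd (by rw [hr, hm1]) (neg5 h hw)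
    exact (inn3_psl4 h.hF (center_of_equiv E hc)).congr E

/-- an element of order 3 of `B` commuting with `w x` and the diagonal elements of `B` is trivial -/
theorem eq_one (h : Ctx3 Q x m ce c d e f) {w : V ≃ₗ[F] V} (hw : WW e f w) {g : V ≃ₗ[F] V}
    (hg : g ∈ ((hf5 h).ad h.h2).B) (h3 : g * g * g = 1)
    (hc : ∀ k ∈ ((hf5 h).ad h.h2).B, k * (w * x) = w * x * k → g * k = k * g) : g = 1 := by
  have hgF := Ad.B_le_Fx _ h.nd hg
  have hgO : g ∈ O Q := hgF.1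
  have hwx := hw.dg.mul (Dg_x h)
  have hc2 : ∀ {a b : Fin 2 ⊕ (Fin 3 ⊕ Fin m)} (hab : a ≠ b), d5 ce d a = d5 ce d b →
      g * sg2 h.h2 (hf5 h) hab = sg2 h.h2 (hf5 h) hab * g := by
    intro a b hab hd
    exact hc _ (sg2_mem_B h.h2 h.nd (hf5 h) hab hd) ((Dg_sg2 h hab).comm h hwx)
  -- `e₀, e₁`
  have g0 : ∀ l : Fin 4, (l = 0 ∨ l = 1) → g (e l) = e l := by
    intro l hl
    apply hgF.2
    rw [OF.R_eq_zero_iff]
    exact fun i => f5_e0 h hl i
  have g2 : g (e 2) = e 2 :=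
    plane h.hF (hf5 h) (a := Sum.inl 0) (b := Sum.inl 1) ne01 rfl hgO h3 (hc2 _ rfl)
  have g3 : g (e 3) = e 3 :=
    plane h.hF (hf5 h) (a := Sum.inl 1) (b := Sum.inl 0) ne01.symm rfl hgO h3 (hc2 _ rfl)
  have hgx : g * x = x * g := by
    have e1 : g * (w * x) = w * x * g := by
      rw [wx h hw]; exact hc2 _ rfl
    have e2 := B_comm h hw hg
    have e3 : w * (g * x) = w * (x * g) := by
      rw [← mul_assoc, ← e2, mul_assoc, e1, mul_assoc]
    exact mul_left_cancel e3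
  have gf := h.cube_fix hgO hgx h3 (by
    rintro _ _ hab ⟨i, rfl⟩ ⟨k, rfl⟩
    -- the two versions of `sg2`
    have hab' : (Sum.inr (Sum.inl i) : Fin 2 ⊕ (Fin 3 ⊕ Fin m)) ≠ Sum.inr (Sum.inl k) :=
      fun h => hab (Sum.inr_injective h)
    have e1 : sg2 h.h2 h.hf hab = sg2 h.h2 (hf5 h) hab' := by
      apply h.ext
      · intro l
        have f1 : sg2 h.h2 h.hf hab (e l) = e l := by
          rw [sg2_iff]
          exact ⟨by rw [polar_comm]; exact h.ef _ _, by rw [polar_comm]; exact h.ef _ _⟩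
        have f2 : sg2 h.h2 (hf5 h) hab' (e l) = e l := by
          rw [sg2_iff]
          exact ⟨by rw [polar_comm]; exact h.ef _ _, by rw [polar_comm]; exact h.ef _ _⟩
        rw [f1, f2]
      · intro l
        by_cases hi : l = Sum.inl i
        · rw [hi, sg2_left]; exact (sg2_left h.h2 (hf5 h) hab').symm
        · by_cases hk : l = Sum.inl k
          · rw [hk, sg2_right]; exact (sg2_right h.h2 (hf5 h) hab').symm
          · have f1 : sg2 h.h2 h.hf hab (f l) = f l := by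
              rw [sg2_iff]
              exact ⟨h.hf.orth _ _ (Ne.symm hi), h.hf.orth _ _ (Ne.symm hk)⟩
            have f2 : sg2 h.h2 (hf5 h) hab' (f l) = f l := by
              rw [sg2_iff]
              exact ⟨h.hf.orth _ _ (Ne.symm hi), h.hf.orth _ _ (Ne.symm hk)⟩
            rw [f1, f2]
    rw [e1]
    exact hc2 hab' (by show d (Sum.inl i) = d (Sum.inl k); rw [h.hd, h.hd]))
  apply h.ext
  · intro i
    fin_cases i
    · exact g0 0 (Or.inl rfl)
    · exact g0 1 (Or.inr rfl)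
    · exact g2
    · exact g3
  · exact gf

/-! ### The row -/

theorem cent_map (x : ↥(Om Q)) :
    (Subgroup.centralizer ({x} : Set ↥(Om Q))).map (Om Q).subtype =
      Om Q ⊓ Subgroup.centralizer ({(x : V ≃ₗ[F] V)} : Set (V ≃ₗ[F] V)) := by
  ext y
  rw [Subgroup.mem_map, Subgroup.mem_inf, Subgroup.mem_centralizer_singleton_iff]
  constructor
  · rintro ⟨g, hg, rfl⟩
    rw [Subgroup.mem_centralizer_singleton_iff] at hg
    exact ⟨g.2, congrArg Subtype.val hg⟩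
  · rintro ⟨h1, h3⟩
    refine ⟨⟨y, h1⟩, ?_, rfl⟩
    rw [Subgroup.mem_centralizer_singleton_iff]
    exact Subtype.ext h3

/-- **the row for `Ω(V)`** -/
theorem rowB_Om (hF : Fintype.card F = 3) (hQ : Nondeg Q) {m : ℕ} (hm : m ≤ 1) (hn : finrank F V = 4 + (3 + m))
    (hneg : ¬ Neg Q) : RowB ↥(Om Q) := by
  intro x A B w hpos
  have h2 := two_ne hF
  obtain ⟨p, hp, q, hq, hpp, hqq, hw⟩ := hpos.dec
  obtain ⟨j, hj, hjj, hpj⟩ := anti hpos.a.pr hp hpp
  obtain ⟨k, hk, hkk, hqk⟩ := anti hpos.b.pr hq hqq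
  have hc : ∀ a ∈ A, ∀ b ∈ B, a * b = b * a := fun a ha b hb => Subgroup.mem_centralizer_iff.1 (hpos.comm hb) a ha
  have hOm : Om Q ≤ O Q := Subgroup.commutator_le_self _
  have ap : ∀ {a b : ↥(Om Q)}, a = b → ∀ v : V, (a : V ≃ₗ[F] V) v = (b : V ≃ₗ[F] V) v := by
    intro a b hab v; rw [hab]
  have hxx : x * x = 1 := hpos.a.pr.t3.z_sq
  have hx1 : x ≠ 1 := hpos.a.pr.t3.z_ne
  have hx1' : (x : V ≃ₗ[F] V) ≠ 1 := fun h => hx1 (Subtype.ext h)
  have hQd : Qd (x : V ≃ₗ[F] V) p j q k :=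
    { xx := ap hxx
      pp := ap hpp
      jj := ap hjj
      qq := ap hqq
      kk := ap hkk
      pj := ap hpj
      qk := ap hqk
      pq := ap (hc p hp q hq)
      pk := ap (hc p hp k hk)
      jq := ap (hc j hj q hq)
      jk := ap (hc j hj k hk) }
  obtain ⟨e0, he1, he2, he3, he4, hfix⟩ := hQd.frame h2 hQ (hOm x.2) (hOm p.2) (hOm j.2) (hOm q.2) (hOm k.2)
    (by
      by_contra hcon
      push Not at hcon
      exact hx1' (LinearEquiv.ext hcon))
    (by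
      rcases Nat.le_one_iff_eq_zero_or_eq_one.1 hm with hm0 | hm1
      · left; rw [hn, hm0]; norm_num
      · right
        refine ⟨by rw [hn, hm1], ?_⟩
        by_contra hcon
        push Not at hcon
        apply hneg
        have : (x : V ≃ₗ[F] V) = LinearEquiv.neg F := LinearEquiv.ext hcon
        unfold Sim.Neg
        rw [← this]
        exact x.2)
  have he := hQd.fr_OF h2 (hOm p.2) (hOm j.2) (hOm q.2) (hOm k.2) he1 he2 he3 he4
  obtain ⟨c, d, f, hd, hf, hef⟩ := exists_compl hF hQ he hm (by rw [Fintype.card_fin, hn])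
  set e := fr (p : V ≃ₗ[F] V) j e0 with hedef
  have h : Ctx3 Q (x : V ≃ₗ[F] V) m (Q e0) c d e f :=
    { hF := hF
      nd := hQ
      hm := hm
      hn := hn
      neg := hneg
      he := he
      hf := hf
      hd := hd
      ef := hef
      xO := hOm x.2
      xe := hQd.fr_x he1
      xf := fun i => hfix _ fun l => hef l i }
  -- triviality on `V_+`
  have hA : IsPr (A.map (Om Q).subtype) (x : V ≃ₗ[F] V) := hpos.a.pr.map (Om Q).subtype hx1'
  have hB : IsPr (B.map (Om Q).subtype) (x : V ≃ₗ[F] V) := hpos.b.pr.map (Om Q).subtype hx1'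
  have hsA : Sn (A.map (Om Q).subtype) (Om Q ⊓ Subgroup.centralizer ({(x : V ≃ₗ[F] V)} : Set (V ≃ₗ[F] V))) := by
    rw [← cent_map]; exact hpos.a.sn.map _
  have hsB : Sn (B.map (Om Q).subtype) (Om Q ⊓ Subgroup.centralizer ({(x : V ≃ₗ[F] V)} : Set (V ≃ₗ[F] V))) := by
    rw [← cent_map]; exact hpos.b.sn.map _
  have hW : WW e f (w : V ≃ₗ[F] V) := by
    obtain ⟨w0, w1, w2, w3⟩ := hQd.fr_w he1 he2
    have hwv : ∀ v, (w : V ≃ₗ[F] V) v = (p : V ≃ₗ[F] V) ((q : V ≃ₗ[F] V) v) := ap hw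
    refine ⟨by rw [hwv]; exact w0, by rw [hwv]; exact w1, by rw [hwv]; exact w2, by rw [hwv]; exact w3, ?_⟩
    intro i
    have t1 : (q : V ≃ₗ[F] V) (f i) = f i := h.triv hB hsB ⟨q, hq, rfl⟩ (h.xf i)
    have t2 : (p : V ≃ₗ[F] V) (f i) = f i := h.triv hA hsA ⟨p, hp, rfl⟩ (h.xf i)
    rw [hwv, t1, t2]
  -- the component
  set L := ((hf5 h).ad h.h2).B with hL
  have hLle : L ≤ Om Q := Ad.B_le _
  have hwxL : (w : V ≃ₗ[F] V) * x ∈ L := by
    rw [wx h hW]
    exact sg2_mem_B h.h2 h.nd (hf5 h) _ rfl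
  have hle : L.subgroupOf (Om Q) ≤ Subgroup.centralizer ({w} : Set ↥(Om Q)) := by
    intro g hg
    rw [Subgroup.mem_centralizer_singleton_iff]
    exact Subtype.ext (B_comm h hW hg)
  refine ⟨L.subgroupOf (Om Q), ⟨hle, ?_, ?_⟩, hwxL, ?_⟩
  · have hn : ((L.subgroupOf (Om Q)).subgroupOf (Subgroup.centralizer ({w} : Set ↥(Om Q)))).Normal := by
      rw [Subgroup.normal_subgroupOf_iff_le_normalizer hle]
      intro g hg
      rw [Subgroup.mem_centralizer_singleton_iff] at hg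
      have h5 : (g : V ≃ₗ[F] V) ∈ Subgroup.normalizer (L : Set (V ≃ₗ[F] V)) :=
        Ad.normalizer_B_of_comm _ h.h2 h.nd (hOm g.2) (comm_ng5 h hW (congrArg Subtype.val hg))
      rw [Subgroup.mem_normalizer_iff] at h5 ⊢
      intro y
      exact h5 y
    exact hn.isSubnormal
  · exact SignalizersComponents.Components.isQuasisimple_of_mulEquiv (Subgroup.subgroupOfEquivOfLe hle).symm
      (SignalizersComponents.Components.isQuasisimple_of_mulEquiv (Subgroup.subgroupOfEquivOfLe hLle).symm (qs5 h))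
  · intro α hα3 hα
    let E : ↥(L.subgroupOf (Om Q)) ≃* Om (DQ (d5 (Q e0) d)) :=
      (Subgroup.subgroupOfEquivOfLe hLle).trans ((hf5 h).ad h.h2).BEquiv.symm
    have hcen : Subgroup.center ↥(L.subgroupOf (Om Q)) = ⊥ := center_of_equiv E.symm (center5 h hW)
    obtain ⟨g, hg⟩ := (inn5 h hW).congr E α hα3
    have hg3 : g * g * g = 1 := by
      have h5 : g * g * g ∈ Subgroup.center ↥(L.subgroupOf (Om Q)) := by
        rw [Subgroup.mem_center_iff]
        intro y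
        have h6 : α (α (α y)) = y := by
          have := DFunLike.congr_fun hα3 y
          exact this
        rw [hg, hg, hg] at h6
        have h7 : g * (g * (g * y * g⁻¹) * g⁻¹) * g⁻¹ = (g * g * g) * y * (g * g * g)⁻¹ := by group
        rw [h7, mul_inv_eq_iff_eq_mul] at h6
        exact h6.symm
      rwa [hcen, Subgroup.mem_bot] at h5
    have hg1 : ((g : ↥(Om Q)) : V ≃ₗ[F] V) = 1 := by
      refine eq_one h hW (g := ((g : ↥(Om Q)) : V ≃ₗ[F] V)) g.2 ?_ ?_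
      · exact congrArg (fun y : ↥(L.subgroupOf (Om Q)) => ((y : ↥(Om Q)) : V ≃ₗ[F] V)) hg3
      · intro y hy hyw
        have h5 := hα ⟨⟨y, hLle hy⟩, hy⟩ (Subtype.ext hyw)
        rw [hg, mul_inv_eq_iff_eq_mul] at h5
        exact congrArg (fun y : ↥(L.subgroupOf (Om Q)) => ((y : ↥(Om Q)) : V ≃ₗ[F] V)) h5
    have hg1' : g = 1 := Subtype.ext (Subtype.ext hg1)
    apply MulEquiv.ext
    intro y
    rw [hg, hg1']
    simp

end

/-- **row `Ω₇(3)`** -/
theorem o7 (X : Type*) [Group X] [Finite X] (h : XO7 X) : RowB X := by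
  obtain ⟨F, i, i', hF, ⟨e⟩⟩ := h
  have h2 := two_ne hF
  have hQ := LieClassical.OrthForms.nondeg_oddForm 3 F h2
  have hr : finrank F (Unit ⊕ (Fin 3 ⊕ Fin 3) → F) = 7 := finrank_odd 3
  obtain ⟨e'⟩ := om7 hF hQ hr
  exact (rowB_Om hF hQ (m := 0) (by norm_num) (by rw [hr]) (neg_odd h2 3)).congr (e.trans e'.symm)

/-- **row `PΩ₈⁻(3)`** -/
theorem o8m (X : Type*) [Group X] [Finite X] (h : XO8m X) : RowB X := by
  obtain ⟨F, i, i', a, b, hF, hab, ⟨e⟩⟩ := h
  have hQ := LieClassical.OrthForms.nondeg_minusForm 3 F a b hab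
  have hr : finrank F ((Fin 3 ⊕ Fin 3) ⊕ Fin 2 → F) = 8 := finrank_minus (m := 4) (by norm_num)
  have hN : ¬ Neg (LieClassical.OrthForms.minusForm 3 F a b) := by
    have := neg_minus hF (m := 4) (by norm_num) hab
    rw [this]; norm_num
  obtain ⟨e'⟩ := om8m hF hQ hr hN hab
  exact (rowB_Om hF hQ (m := 1) (by norm_num) (by rw [hr]) hN).congr (e.trans e'.symm)

end Cfsg.Agent.OddHalf.NI3.Bad.RowOrth
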