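import Cfsg.Agent.OddHalf.NI3.Bad.Defs
import Cfsg.Agent.OddHalf.NI3.Bad.PSUFour

/-!
# (KD), row `U₄(3)`: `RowA` (node NI over `F₃`, THEOREM NIB; helper100)

* `Pos.w_sq`, `Pos.w_ne`, `Pos.w_ord` : `w` is an involution;
* `Cl.map_equiv`, `Pos.map_equiv` : transport along isomorphisms;
* `rowA_of_conj` : one class of involutions implies `RowA`;
* `u4` : the row.
-/

set_option autoImplicit false

namespace Cfsg.Agent.OddHalf.NI3

open Subgroup Cfsg

universe u

section

variable {D D' : Type*} [Group D] [Group D']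

/-- transport of classical pairs along isomorphisms -/
theorem Cl.map_equiv {x : D} {J : Subgroup D} (h : Cl x J) (e : D ≃* D') : Cl (e x) (J.map e.toMonoidHom) := by
  have hx : e x ≠ 1 := by
    intro h1
    have h2 : x = 1 := e.injective (by rw [h1, map_one])
    have := h.pr.ord
    rw [h2, orderOf_one] at this; omega
  refine ⟨h.pr.map e.toMonoidHom hx, ?_⟩
  have h1 := h.sn.map e.toMonoidHom
  have h2 : (centralizer ({x} : Set D)).map e.toMonoidHom = centralizer ({e x} : Set D') := by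
    ext y
    rw [mem_map, mem_centralizer_singleton_iff]
    constructor
    · rintro ⟨g, hg, rfl⟩
      rw [mem_centralizer_singleton_iff] at hg
      show e g * e x = e x * e g
      rw [← map_mul, hg, map_mul]
    · intro hy
      refine ⟨e.symm y, ?_, e.apply_symm_apply y⟩
      rw [mem_centralizer_singleton_iff]
      apply e.injective
      rw [map_mul, map_mul, e.apply_symm_apply, hy]
  rwa [h2] at h1

theorem Cl.conj {x : D} {J : Subgroup D} (h : Cl x J) (g : D) : Cl (g * x * g⁻¹) (Cit.cj g J) :=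
  h.map_equiv (MulAut.conj g)

end

namespace Bad

variable {D D' : Type*} [Group D] [Group D']

theorem Pos.w_sq {x : D} {A B : Subgroup D} {w : D} (h : Pos x A B w) : w * w = 1 := by
  obtain ⟨p, hp, q, hq, h1, h2, rfl⟩ := h.dec
  have h3 : p * q = q * p := mem_centralizer_iff.1 (h.comm hq) p hp
  have h4 : x * x = 1 := by rw [← pow_two, ← h.a.pr.ord, pow_orderOf_eq_one]
  calc p * q * (p * q) = p * (q * p) * q := by group
    _ = p * (p * q) * q := by rw [h3]
    _ = (p * p) * (q * q) := by group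
    _ = 1 := by rw [h1, h2, h4]

theorem Pos.w_ne {x : D} {A B : Subgroup D} {w : D} (h : Pos x A B w) : w ≠ 1 := by
  obtain ⟨p, hp, q, hq, h1, h2, rfl⟩ := h.dec
  intro h3
  have hqA : q ∈ A := by
    have : q = p⁻¹ := by rw [eq_inv_iff_mul_eq_one, ← h3]; exact (mem_centralizer_iff.1 (h.comm hq) p hp).symm
    rw [this]; exact inv_mem hp
  obtain ⟨i, j, d, hl⟩ := h.a.pr.sl
  have hqi : q * i = i * q := (mem_centralizer_iff.1 (h.comm hq) i hl.hi).symm
  have hqd : q * d = d * q := (mem_centralizer_iff.1 (h.comm hq) d hl.hd).symm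
  -- `q` is central in `A`
  have hcen : ∀ a ∈ A, q * a = a * q := fun a ha => (mem_centralizer_iff.1 (h.comm hq) a ha).symm
  obtain ⟨e⟩ := h.a.pr.iso
  have h5 : e ⟨q, hqA⟩ ∈ center SL23 := by
    rw [mem_center_iff]
    intro g
    obtain ⟨⟨a, ha⟩, rfl⟩ := e.surjective g
    rw [← map_mul, ← map_mul]
    congr 1
    exact Subtype.ext (hcen a ha).symm
  have h6 : ∀ g : SL23, (∀ a : SL23, a * g = g * a) → g * g = 1 := by decide +kernel
  have h7 := h6 _ (mem_center_iff.1 h5)
  rw [← map_mul, ← map_one e] at h7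
  have h8 : q * q = 1 := congrArg Subtype.val (e.injective h7)
  rw [h8] at h2
  have := h.a.pr.ord
  rw [← h2, orderOf_one] at this; omega

theorem Pos.w_ord {x : D} {A B : Subgroup D} {w : D} (h : Pos x A B w) : orderOf w = 2 :=
  orderOf_eq_prime (by rw [pow_two, h.w_sq]) h.w_ne

theorem Pos.map_equiv {x : D} {A B : Subgroup D} {w : D} (h : Pos x A B w) (e : D ≃* D') :
    Pos (e x) (A.map e.toMonoidHom) (B.map e.toMonoidHom) (e w) := by
  refine ⟨h.a.map_equiv e, h.b.map_equiv e, ?_, ?_⟩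
  · rintro _ ⟨b, hb, rfl⟩
    rw [mem_centralizer_iff]
    rintro _ ⟨a, ha, rfl⟩
    show e a * e b = e b * e a
    rw [← map_mul, mem_centralizer_iff.1 (h.comm hb) a ha, map_mul]
  · obtain ⟨p, hp, q, hq, h1, h2, h3⟩ := h.dec
    exact ⟨e p, ⟨p, hp, rfl⟩, e q, ⟨q, hq, rfl⟩, by rw [← map_mul, h1], by rw [← map_mul, h2], by rw [h3, map_mul]⟩

/-- one class of involutions implies `RowA` -/
theorem rowA_of_conj (h : ∀ x y : D, orderOf x = 2 → orderOf y = 2 → ∃ r, r * x * r⁻¹ = y) : RowA D := by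
  intro x A B w hp
  obtain ⟨r, hr⟩ := h x w hp.a.pr.ord hp.w_ord
  refine ⟨Cit.cj r A, ?_⟩
  rw [← hr]
  exact hp.a.conj r

/-- **(KD), row `U₄(3)`** -/
theorem u4 (X : Type*) [Group X] (h : XU43 X) : RowA X := by
  obtain ⟨F, _, _, hF, ⟨e⟩⟩ := h
  have hF' : Fintype.card F = 3 ^ 2 := by rw [hF]; norm_num
  refine rowA_of_conj fun x y hx hy => ?_
  have hx' : orderOf (e x) = 2 := by rw [MulEquiv.orderOf_eq]; exact hx
  have hy' : orderOf (e y) = 2 := by rw [MulEquiv.orderOf_eq]; exact hy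
  obtain ⟨r, hr⟩ := PSUFour.isConj hF' hx' hy'
  refine ⟨e.symm r, ?_⟩
  apply e.injective
  rw [map_mul, map_mul, map_inv, e.apply_symm_apply, hr]

end Bad

end Cfsg.Agent.OddHalf.NI3
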