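import Cfsg.Agent.OddHalf.NI3.Bad.RowC
import Cfsg.Agent.OddHalf.NI3.Bad.RowD
import Cfsg.Agent.OddHalf.NI3.Bad.RowU4
import Cfsg.Agent.OddHalf.NI3.Bad.RowG2
import Cfsg.Agent.OddHalf.NI3.Bad.RowOrth
import Cfsg.Agent.OddHalf.NI3.Bad.RowL4
import Cfsg.Agent.OddHalf.NI3.Bad.Main

/-!
# NI over `F₃`: THEOREM NIB, the table (KD)

`kd`: the table from `ExSheet` and the open rows `Rows`.
-/

set_option autoImplicit false
set_option linter.style.haveILetI false

namespace Cfsg.Agent.OddHalf.NI3.Bad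

open Subgroup Cfsg Cfsg.Agent.OddHalf.Iface Cfsg.Agent.OddHalf.LieOddFam

universe u

/-- the open rows of the table -/
structure Rows : Prop where
  o8p : ∀ (X : Type u) [Group X] [Finite X], XO8p X → RowA' X

/-- **(KD)** -/
theorem kd (hS : ExSheet.{u}) (R : Rows.{u}) : KD.{u} where
  m11 := fun X _ _ h => rowO_m11 X h
  l3 := fun X _ _ h => rowO_l3 X h
  u3 := fun X _ _ h => rowO_u3 X h
  u4 := fun X _ _ h => u4 X h
  g2 := fun X _ _ h => g2 X h
  o8p := R.o8p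
  l4 := fun X _ _ h => RowL4.l4 X h
  o7 := fun X _ _ h => RowOrth.o7 X h
  o8m := fun X _ _ h => RowOrth.o8m X h
  sp4 := fun X _ _ h => Cfsg.Agent.KFacts.PSpFourThree.sp4 X h
  twou4 := rowD hS

end Cfsg.Agent.OddHalf.NI3.Bad
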