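import Mathlib

/-!
# Linear algebra for the rows of (KD) (node NI over `F₃`; helper100)

* `det_of_isCompl` : the determinant of a linear map which is scalar on two complementary subspaces;
* `isCompl_eigen` : a linear map with square `a ^ 2`, `a ≠ 0`, `2 ≠ 0`, has complementary eigenspaces for `a`, `-a`.
-/

set_option autoImplicit false

namespace Cfsg.Agent.OddHalf.NI3.Bad.Lin

open Module

variable {F V : Type*} [Field F] [AddCommGroup V] [Module F V]

theorem det_smul_id [FiniteDimensional F V] (a : F) :
    LinearMap.det (a • (LinearMap.id : V →ₗ[F] V)) = a ^ finrank F V := by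
  rw [LinearMap.det_smul, LinearMap.det_id, mul_one]

/-- the determinant of a linear map which is scalar on two complementary subspaces -/
theorem det_of_isCompl [FiniteDimensional F V] (f : V →ₗ[F] V) {W W' : Submodule F V} (h : IsCompl W W') {a b : F}
    (ha : ∀ v ∈ W, f v = a • v) (hb : ∀ v ∈ W', f v = b • v) :
    LinearMap.det f = a ^ finrank F W * b ^ finrank F W' := by
  let e : (W × W') ≃ₗ[F] V := Submodule.prodEquivOfIsCompl W W' h
  have h1 : f = (e : (W × W') →ₗ[F] V) ∘ₗ
      (LinearMap.prodMap (a • (LinearMap.id : W →ₗ[F] W)) (b • (LinearMap.id : W' →ₗ[F] W'))) ∘ₗ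
        (e.symm : V →ₗ[F] (W × W')) := by
    apply LinearMap.ext
    intro v
    obtain ⟨⟨w, w'⟩, rfl⟩ := e.surjective v
    have h2 : e (w, w') = (w : V) + (w' : V) := Submodule.coe_prodEquivOfIsCompl' W W' h (w, w')
    simp only [LinearMap.comp_apply, LinearEquiv.coe_coe, e.symm_apply_apply]
    have h3 : (LinearMap.prodMap (a • (LinearMap.id : W →ₗ[F] W)) (b • (LinearMap.id : W' →ₗ[F] W'))) (w, w') =
        (a • w, b • w') := rfl
    rw [h3, h2, map_add, ha _ w.2, hb _ w'.2]
    exact (Submodule.coe_prodEquivOfIsCompl' W W' h (a • w, b • w')).symm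
  rw [h1, LinearMap.det_conj, LinearMap.det_prodMap, det_smul_id, det_smul_id]

/-- the eigenspace -/
def eig (f : V →ₗ[F] V) (a : F) : Submodule F V where
  carrier := {v | f v = a • v}
  add_mem' {u v} hu hv := by
    show f (u + v) = a • (u + v)
    rw [map_add, show f u = a • u from hu, show f v = a • v from hv, smul_add]
  zero_mem' := by show f 0 = a • 0; rw [map_zero, smul_zero]
  smul_mem' c v hv := by
    show f (c • v) = a • (c • v)
    rw [map_smul, show f v = a • v from hv, smul_comm]

theorem mem_eig {f : V →ₗ[F] V} {a : F} {v : V} : v ∈ eig f a ↔ f v = a • v := Iff.rfl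

theorem isCompl_eigen (h2 : (2 : F) ≠ 0) (f : V →ₗ[F] V) {a : F} (ha : a ≠ 0) (hf : ∀ v, f (f v) = (a * a) • v) :
    IsCompl (eig f a) (eig f (-a)) := by
  constructor
  · rw [Submodule.disjoint_def]
    intro v h h'
    rw [mem_eig] at h h'
    rw [h] at h'
    have h3 : (a + a) • v = 0 := by
      rw [add_smul]
      nth_rewrite 1 [h']
      rw [← add_smul, neg_add_cancel, zero_smul]
    have h4 : a + a ≠ 0 := by rw [← two_mul]; exact mul_ne_zero h2 ha
    exact (smul_eq_zero.1 h3).resolve_left h4
  · rw [codisjoint_iff, Submodule.eq_top_iff']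
    intro v
    have h3 : v = (2 * a)⁻¹ • (a • v + f v) + (2 * a)⁻¹ • (a • v - f v) := by
      rw [← smul_add]
      have h4 : a • v + f v + (a • v - f v) = (2 * a) • v := by
        rw [two_mul, add_smul]; abel
      rw [h4, inv_smul_smul₀ (mul_ne_zero h2 ha)]
    rw [h3]
    refine Submodule.add_mem_sup (Submodule.smul_mem _ _ ?_) (Submodule.smul_mem _ _ ?_)
    · rw [mem_eig, map_add, map_smul, hf, smul_add, smul_smul, add_comm]
    · rw [mem_eig, map_sub, map_smul, hf, smul_sub, smul_smul, neg_smul, neg_mul, neg_smul]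
      abel

end Cfsg.Agent.OddHalf.NI3.Bad.Lin
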