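import Cfsg.Agent.OddHalf.NI3.Bad.Sim

/-!
# The groups `Ω(V)` over the field with three elements, `4 ≤ dim V ≤ 8`

`(V, Q)` nondegenerate over `F`, `|F| = 3`; `Om Q = ⁅O Q, O Q⁆`, `Neg Q` : `-1 ∈ Om Q`.
* `om4` : dim 4, `¬ Neg Q`: `L₂(9)`; `om5` : dim 5: `PSp₄(3)`; `om6` : dim 6, `¬ Neg Q`: `L₄(3)`;
* `om6c` : dim 6, `Neg Q`: `Om Q` modulo its centre is `U₄(3)` (the centre has order 2: `card_center`);
* `om7` : dim 7; `om8m` : dim 8, `¬ Neg Q`; `om8p` : dim 8, `Neg Q` (modulo the centre).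
* `neg_odd`, `neg_plus`, `neg_minus` : `Neg` for the standard forms.
-/

set_option autoImplicit false
set_option linter.unusedSectionVars false
set_option linter.unusedVariables false

namespace Cfsg.Agent.OddHalf.NI3.Bad.Models

open QuadraticMap Module Cfsg.Agent.LieClassical.OrthCore Cfsg.Agent.OddHalf.NI3.Bad.Emb
  Cfsg.Agent.ClassicalGeometry.OddInvolutions Cfsg.Agent.OddHalf.NI3.Bad.Sim
  Cfsg.Agent.LieClassical.OrthForms

theorem equiv_quot {G : Type*} [Group G] (h : Subgroup.center G = ⊥) : Nonempty (G ≃* G ⧸ Subgroup.center G) :=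
  ⟨(QuotientGroup.quotientBot.symm).trans (QuotientGroup.quotientMulEquivOfEq h.symm)⟩

variable {F : Type*} [Field F] [Fintype F]

/-! ### `-1` for the standard forms -/

theorem neg_odd (h2 : (2 : F) ≠ 0) (m : ℕ) : ¬ Neg (oddForm m F) := by
  apply not_neg_of_odd h2
  rw [finrank_fintype_fun_eq_card, Fintype.card_sum, Fintype.card_sum, Fintype.card_fin, Fintype.card_unit]
  exact ⟨m, by ring⟩

theorem neg_plus (hF : Fintype.card F = 3) {m : ℕ} (hm : 1 ≤ m) : Neg (plusForm m F) ↔ 3 ^ m % 4 = 1 := by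
  rw [neg_iff, coe_plusForm]
  exact Cfsg.Agent.S0790.result hF (by decide) m hm

theorem neg_minus (hF : Fintype.card F = 3) {m : ℕ} (hm : 1 ≤ m) {a b : F}
    (hab : ∀ z₁ z₂ : F, z₁ ^ 2 + a * z₁ * z₂ + b * z₂ ^ 2 = 0 → z₁ = 0 ∧ z₂ = 0) :
    Neg (minusForm (m - 1) F a b) ↔ 3 ^ m % 4 = 3 := by
  rw [neg_iff, coe_minusForm]
  exact Cfsg.Agent.S0791.result hF (by decide) m hm a b hab

theorem finrank_odd (m : ℕ) : finrank F (Unit ⊕ (Fin m ⊕ Fin m) → F) = 2 * m + 1 := by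
  rw [finrank_fintype_fun_eq_card, Fintype.card_sum, Fintype.card_sum, Fintype.card_fin, Fintype.card_unit]
  ring

theorem finrank_plus (m : ℕ) : finrank F (Fin m ⊕ Fin m → F) = 2 * m := by
  rw [finrank_fintype_fun_eq_card, Fintype.card_sum, Fintype.card_fin]
  ring

theorem finrank_minus {m : ℕ} (hm : 1 ≤ m) : finrank F ((Fin (m - 1) ⊕ Fin (m - 1)) ⊕ Fin 2 → F) = 2 * m := by
  rw [finrank_fintype_fun_eq_card, Fintype.card_sum, Fintype.card_sum, Fintype.card_fin, Fintype.card_fin]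
  omega

variable {V : Type*} [AddCommGroup V] [Module F V] [FiniteDimensional F V] {Q : QuadraticForm F V}

/-- odd dimension -/
theorem om_odd (hF : Fintype.card F = 3) (hQ : Nondeg Q) {m : ℕ} (hm : 1 ≤ m) (hn : finrank F V = 2 * m + 1) :
    Nonempty (Om Q ≃* Cfsg.POmega F (Cfsg.quadFormOdd m F)) := by
  have h2 := two_ne hF
  have hc : Subgroup.center (Om Q) = ⊥ :=
    center_eq_bot hQ (by omega) (not_neg_of_odd h2 (by rw [hn]; exact ⟨m, rfl⟩))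
  obtain ⟨e⟩ := equiv_quot hc
  have hs : Sml Q (oddForm m F) :=
    sml_of_odd hF hQ (nondeg_oddForm m F h2) hn (finrank_odd m) ⟨m, rfl⟩
  obtain ⟨e'⟩ := hs.pomega
  rw [coe_oddForm] at e'
  exact ⟨e.trans e'⟩

theorem om_plus (hF : Fintype.card F = 3) (hQ : Nondeg Q) {m : ℕ} (hm : 1 ≤ m) (hn : finrank F V = 2 * m)
    (h : Neg Q ↔ 3 ^ m % 4 = 1) :
    Nonempty (Om Q ⧸ Subgroup.center (Om Q) ≃* Cfsg.POmega F (Cfsg.quadFormPlus m F)) := by
  have hs : Sml Q (plusForm m F) :=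
    sml_even hF hQ (nondeg_plusForm m F) hm hn (finrank_plus m) (by rw [h, neg_plus hF hm])
  obtain ⟨e'⟩ := hs.pomega
  rw [coe_plusForm] at e'
  exact ⟨e'⟩

theorem om_minus (hF : Fintype.card F = 3) (hQ : Nondeg Q) {m : ℕ} (hm : 1 ≤ m) (hn : finrank F V = 2 * m)
    {a b : F} (hab : ∀ z₁ z₂ : F, z₁ ^ 2 + a * z₁ * z₂ + b * z₂ ^ 2 = 0 → z₁ = 0 ∧ z₂ = 0)
    (h : Neg Q ↔ 3 ^ m % 4 = 3) :
    Nonempty (Om Q ⧸ Subgroup.center (Om Q) ≃* Cfsg.POmega F (Cfsg.quadFormMinus (m - 1) F a b)) := by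
  have hs : Sml Q (minusForm (m - 1) F a b) :=
    sml_even hF hQ (nondeg_minusForm (m - 1) F a b hab) hm hn (finrank_minus hm) (by rw [h, neg_minus hF hm hab])
  obtain ⟨e'⟩ := hs.pomega
  rw [coe_minusForm] at e'
  exact ⟨e'⟩

/-- dimension 4, `-1 ∉ Ω`: `L₂(9)` -/
theorem om4 (hF : Fintype.card F = 3) (hQ : Nondeg Q) (hn : finrank F V = 4) (h : ¬ Neg Q)
    {K : Type*} [Field K] [Fintype K] (hK : Fintype.card K = 9) :
    Nonempty (Om Q ≃* Matrix.ProjectiveSpecialLinearGroup (Fin 2) K) := by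
  obtain ⟨e⟩ := equiv_quot (center_eq_bot hQ (by omega) h)
  obtain ⟨e1⟩ := om_minus hF hQ (m := 2) (by norm_num) hn (anis hF) (by simp [h])
  obtain ⟨e2⟩ := Cfsg.Agent.S0300.result (F := F) (K := K) hF (by rw [hK]; norm_num) 0 1 (anis hF)
  exact ⟨(e.trans e1).trans e2⟩

/-- dimension 5: `PSp₄(3)` -/
theorem om5 (hF : Fintype.card F = 3) (hQ : Nondeg Q) (hn : finrank F V = 5) :
    Nonempty (Om Q ≃* Cfsg.PSp 2 F) := by
  obtain ⟨e1⟩ := om_odd hF hQ (m := 2) (by norm_num) hn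
  obtain ⟨e2⟩ := Cfsg.Agent.S0301.result (F := F) (by rw [hF]; decide)
  exact ⟨e1.trans e2⟩

/-- dimension 6, `-1 ∉ Ω`: `L₄(3)` -/
theorem om6 (hF : Fintype.card F = 3) (hQ : Nondeg Q) (hn : finrank F V = 6) (h : ¬ Neg Q) :
    Nonempty (Om Q ≃* Matrix.ProjectiveSpecialLinearGroup (Fin 4) F) := by
  obtain ⟨e⟩ := equiv_quot (center_eq_bot hQ (by omega) h)
  obtain ⟨e1⟩ := om_plus hF hQ (m := 3) (by norm_num) hn (by simp [h])
  obtain ⟨e2⟩ := Cfsg.Agent.S0302.result (F := F)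
  exact ⟨(e.trans e1).trans e2⟩

/-- dimension 6, `-1 ∈ Ω`: `2.U₄(3)` -/
theorem om6c (hF : Fintype.card F = 3) (hQ : Nondeg Q) (hn : finrank F V = 6) (h : Neg Q)
    {K : Type*} [Field K] [Fintype K] (hK : Fintype.card K = 9) :
    Nonempty (Om Q ⧸ Subgroup.center (Om Q) ≃* Cfsg.PSU 4 K 3) := by
  obtain ⟨e1⟩ := om_minus hF hQ (m := 3) (by norm_num) hn (anis hF) (by simp [h])
  obtain ⟨e2⟩ := Cfsg.Agent.S0303.result (F := F) (K := K) hF (by rw [hK]; norm_num) 0 1 (anis hF)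
  exact ⟨e1.trans e2⟩

/-- dimension 7 -/
theorem om7 (hF : Fintype.card F = 3) (hQ : Nondeg Q) (hn : finrank F V = 7) :
    Nonempty (Om Q ≃* Cfsg.POmega F (Cfsg.quadFormOdd 3 F)) :=
  om_odd hF hQ (m := 3) (by norm_num) hn

/-- dimension 8, `-1 ∉ Ω` -/
theorem om8m (hF : Fintype.card F = 3) (hQ : Nondeg Q) (hn : finrank F V = 8) (h : ¬ Neg Q)
    {a b : F} (hab : ∀ z₁ z₂ : F, z₁ ^ 2 + a * z₁ * z₂ + b * z₂ ^ 2 = 0 → z₁ = 0 ∧ z₂ = 0) :
    Nonempty (Om Q ≃* Cfsg.POmega F (Cfsg.quadFormMinus 3 F a b)) := by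
  obtain ⟨e⟩ := equiv_quot (center_eq_bot hQ (by omega) h)
  obtain ⟨e1⟩ := om_minus hF hQ (m := 4) (by norm_num) hn hab (by simp [h])
  exact ⟨e.trans e1⟩

/-- dimension 8, `-1 ∈ Ω` -/
theorem om8p (hF : Fintype.card F = 3) (hQ : Nondeg Q) (hn : finrank F V = 8) (h : Neg Q) :
    Nonempty (Om Q ⧸ Subgroup.center (Om Q) ≃* Cfsg.POmega F (Cfsg.quadFormPlus 4 F)) :=
  om_plus hF hQ (m := 4) (by norm_num) hn (by simp [h])

end Cfsg.Agent.OddHalf.NI3.Bad.Models
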