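import Cfsg.Agent.OddHalf.D6.QThree.U43Plus
import Cfsg.Agent.OddHalf.NI3.Bad.PSUFour
import Cfsg.Agent.Cit.SLThree

/-!
# The frame of `2.U₄(3)` (THEOREM NIB, N-side), part 1: facts on `U₄(3)` (helper146)

`UD z i j x k l v c` : `⟨i, j, x⟩` and `⟨k, l, v⟩` are the two factors `SL₂(3)` of `C(z)`, `c` rotates `i k → z i k → z`;
`s = c (j l) c⁻¹` is a swap, `t = c i c⁻¹`; `C(z) = ⟨i, x, k, v, s, t⟩`.
`exists_ud` : these exist in `PSU₄(3)`.
-/

set_option autoImplicit false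
set_option linter.unusedSectionVars false
set_option linter.unusedTactic false
set_option linter.unreachableTactic false
set_option linter.style.haveILetI false

namespace Cfsg.Agent.OddHalf.NI3.Bad.NSideU

open Subgroup Cfsg Cfsg.Agent.Cit.SLThree

/-- The facts on `U₄(3)`. -/
structure UD {U : Type*} [Group U] (z i j x k l v c : U) : Prop where
  q1 : Qt z i j
  q2 : Qt z k l
  x3 : x * x * x = 1
  v3 : v * v * v = 1
  xi : x * i * x⁻¹ = j
  xj : x * j * x⁻¹ = i * j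
  vk : v * k * v⁻¹ = l
  vl : v * l * v⁻¹ = k * l
  ik : i * k = k * i
  iv : i * v = v * i
  xk : x * k = k * x
  xv : x * v = v * x
  cz : c * z * c⁻¹ = i * k
  ca : c * (i * k) * c⁻¹ = z * (i * k)
  si : (c * (j * l) * c⁻¹) * i * (c * (j * l) * c⁻¹)⁻¹ ∈ closure ({k, v} : Set U)
  sx : (c * (j * l) * c⁻¹) * x * (c * (j * l) * c⁻¹)⁻¹ ∈ closure ({k, v} : Set U)
  sk : (c * (j * l) * c⁻¹) * k * (c * (j * l) * c⁻¹)⁻¹ ∈ closure ({i, x} : Set U)
  sv : (c * (j * l) * c⁻¹) * v * (c * (j * l) * c⁻¹)⁻¹ ∈ closure ({i, x} : Set U)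
  ti : (c * i * c⁻¹) * i * (c * i * c⁻¹)⁻¹ ∈ closure ({i, x} : Set U)
  tx : (c * i * c⁻¹) * x * (c * i * c⁻¹)⁻¹ ∈ closure ({i, x} : Set U)
  tk : (c * i * c⁻¹) * k * (c * i * c⁻¹)⁻¹ ∈ closure ({k, v} : Set U)
  tv : (c * i * c⁻¹) * v * (c * i * c⁻¹)⁻¹ ∈ closure ({k, v} : Set U)
  gen : ∀ g : U, g * z = z * g → g ∈ closure ({i, x, k, v, c * (j * l) * c⁻¹, c * i * c⁻¹} : Set U)
  one : ∀ u : U, u * u = 1 → u ≠ 1 → ∃ g, g * z * g⁻¹ = u
  cen : ∀ g : U, g * i = i * g → g * x = x * g → g * k = k * g → g * v = v * g → g = 1 ∨ g = z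

/-! ### Matrices -/

section Mat

open Matrix Cfsg.Agent.OddHalf.Small.U43Mat Cfsg.Agent.OddHalf.Small.U43Good
open Cfsg.Agent.LieClassical.HermSiegel Cfsg.Agent.LieClassical.SUBasic
open Cfsg.Agent.ClassicalGeometry.UnitAutBasic (pr pr_surjective)
open Cfsg.Agent.OddHalf.D6.QThree.U43Elt Cfsg.Agent.OddHalf.D6.QThree.U43Plus

variable {F : Type*} [Field F] [CharP F 3]

/-- `X` -/
def X2 (a : F) : M2 F := !![1 + a, 1 + a; a - 1, 1 - a]

section a

variable {a : F} (ha : a ^ 2 = -1)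

include ha

theorem bl1_x : Bl1 (X2 a) (xx1 a ha) := by
  refine ⟨?_, ?_, ?_, ?_⟩ <;> ext i j <;> fin_cases i <;> fin_cases j <;> rfl

theorem bl2_x : Bl2 (X2 a) (xx2 a ha) := by
  refine ⟨?_, ?_, ?_, ?_⟩ <;> ext i j <;> fin_cases i <;> fin_cases j <;> rfl

theorem a3 : a ^ 3 = -a := by linear_combination a * ha

theorem st_X2 : st (X2 a) * X2 a = 1 := by
  have h3 : (3 : F) = 0 := three
  have e1 : (1 + a) ^ 3 = 1 - a := by rw [add_pow_char, one_pow, a3 ha]; ring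
  have e2 : (a - 1) ^ 3 = -a - 1 := by rw [sub_pow_char, one_pow, a3 ha]
  have e3 : (1 - a) ^ 3 = 1 + a := by rw [sub_pow_char, one_pow, a3 ha]; ring
  ext i j
  rw [mul_apply, Fin.sum_univ_two, st_apply, st_apply]
  fin_cases i <;> fin_cases j <;> simp [X2, e1, e2, e3] <;>
    first | (linear_combination (-2 : F) * ha + h3) | ring

theorem det_X2 : (X2 a).det = 1 := by
  have h3 : (3 : F) = 0 := three
  rw [det_fin_two]
  simp [X2]
  linear_combination (-2 : F) * ha + h3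

/-- the elements of `SU₂(3)` are words in `I` and `X` -/
theorem cases_X {M : M2 F} (h9 : ∀ x : F, x ^ 9 = x) (hM : st M * M = 1) (hd : M.det = 1) :
    IsQ M ∨ IsQ (M * st (X2 a)) ∨ IsQ (M * X2 a) := by
  obtain ⟨h1, h2, h3⟩ := entries hM hd
  have e1 : (1 + a) ^ 3 = 1 - a := by rw [add_pow_char, one_pow, a3 ha]; ring
  have e2 : (a - 1) ^ 3 = -a - 1 := by rw [sub_pow_char, one_pow, a3 ha]
  have e3 : (1 - a) ^ 3 = 1 + a := by rw [sub_pow_char, one_pow, a3 ha]; ring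
  have h30 : (3 : F) = 0 := three
  set p := M 0 0 with hp
  set q := M 1 0 with hq
  by_cases hp0 : p = 0
  · exact Or.inl ⟨hM, hd, Or.inl hp0⟩
  by_cases hq0 : q = 0
  · exact Or.inl ⟨hM, hd, Or.inr hq0⟩
  have hX := st_X2 ha
  have hX' := mul_st hX
  have hdX := det_X2 ha
  have hdX' : (st (X2 a)).det = 1 := by rw [det_st, hdX, one_pow]
  have key8 : ∀ y : F, y ≠ 0 → y ^ 4 = 1 ∨ y ^ 4 = -1 := by
    intro y hy
    have h8 : y ^ 8 = 1 := by
      have : y * (y ^ 8 - 1) = 0 := by linear_combination h9 y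
      linear_combination (mul_eq_zero.1 this).resolve_left hy
    have : (y ^ 4 - 1) * (y ^ 4 + 1) = 0 := by linear_combination h8
    rcases mul_eq_zero.1 this with h | h
    · left; linear_combination h
    · right; linear_combination h
  have hp4 : p ^ 4 = -1 ∧ q ^ 4 = -1 := by
    rcases key8 p hp0 with h4 | h4
    · exfalso
      apply hq0
      have : q ^ 4 = 0 := by linear_combination h3 - h4
      exact (pow_eq_zero_iff (by norm_num)).1 this
    · refine ⟨h4, ?_⟩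
      linear_combination h3 - h4 + h30
  obtain ⟨p4, q4⟩ := hp4
  have hpq : (p * q) ^ 4 = 1 := by rw [mul_pow, p4, q4]; ring
  have U1 : st (M * st (X2 a)) * (M * st (X2 a)) = 1 := by
    rw [st_mul, st_st h9]
    calc X2 a * st M * (M * st (X2 a)) = X2 a * (st M * M) * st (X2 a) := by simp only [mul_assoc]
      _ = 1 := by rw [hM, mul_one, hX']
  have U2 : st (M * X2 a) * (M * X2 a) = 1 := by
    rw [st_mul]
    calc st (X2 a) * st M * (M * X2 a) = st (X2 a) * (st M * M) * X2 a := by simp only [mul_assoc]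
      _ = 1 := by rw [hM, mul_one, hX]
  have D1 : (M * st (X2 a)).det = 1 := by rw [det_mul, hd, hdX', one_mul]
  have D2 : (M * X2 a).det = 1 := by rw [det_mul, hd, hdX, one_mul]
  have A1 : (M * st (X2 a)) 0 0 = (1 - a) * (p - q ^ 3) := by
    rw [mul_apply, Fin.sum_univ_two, st_apply, st_apply, h2, ← hp]
    simp [X2, e1]
    ring
  have A2 : (M * st (X2 a)) 1 0 = (1 - a) * (q + p ^ 3) := by
    rw [mul_apply, Fin.sum_univ_two, st_apply, st_apply, h1, ← hq]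
    simp [X2, e1]
    ring
  have A3 : (M * X2 a) 0 0 = (1 + a) * (p - a * q ^ 3) := by
    rw [mul_apply, Fin.sum_univ_two, h2, ← hp]
    simp [X2]
    linear_combination q ^ 3 * ha
  have A4 : (M * X2 a) 1 0 = (1 + a) * (q + a * p ^ 3) := by
    rw [mul_apply, Fin.sum_univ_two, h1, ← hq]
    simp [X2]
    linear_combination -p ^ 3 * ha
  rcases mu4 ha hpq with h | h | h | h
  · right; left
    refine ⟨U1, D1, Or.inr ?_⟩
    rw [A2]
    have : p * (q + p ^ 3) = 0 := by linear_combination h + p4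
    rw [(mul_eq_zero.1 this).resolve_left hp0, mul_zero]
  · right; left
    refine ⟨U1, D1, Or.inl ?_⟩
    rw [A1]
    have : q * (p - q ^ 3) = 0 := by linear_combination h - q4
    rw [(mul_eq_zero.1 this).resolve_left hq0, mul_zero]
  · right; right
    refine ⟨U2, D2, Or.inr ?_⟩
    rw [A4]
    have : p * (q + a * p ^ 3) = 0 := by linear_combination h + a * p4
    rw [(mul_eq_zero.1 this).resolve_left hp0, mul_zero]
  · right; right
    refine ⟨U2, D2, Or.inl ?_⟩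
    rw [A3]
    have : q * (p - a * q ^ 3) = 0 := by linear_combination h - a * q4
    rw [(mul_eq_zero.1 this).resolve_left hq0, mul_zero]

theorem X_cube : X2 a * (X2 a * X2 a) = 1 := by
  have h30 : (3 : F) = 0 := three
  have hX2 : X2 a * X2 a = st (X2 a) := by
    have e1 : (1 + a) ^ 3 = 1 - a := by rw [add_pow_char, one_pow, a3 ha]; ring
    have e2 : (a - 1) ^ 3 = -a - 1 := by rw [sub_pow_char, one_pow, a3 ha]
    have e3 : (1 - a) ^ 3 = 1 + a := by rw [sub_pow_char, one_pow, a3 ha]; ring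
    ext i j
    rw [mul_apply, Fin.sum_univ_two, st_apply]
    fin_cases i <;> fin_cases j <;> simp [X2, e1, e2, e3] <;>
      first | (linear_combination (2 : F) * ha + (a - 1) * h30) | (linear_combination (a + 1) * h30) |
        (linear_combination (a - 1) * h30) | (linear_combination (2 : F) * ha - (a + 1) * h30) |
        (linear_combination (a) * h30) | (linear_combination (-a) * h30)
  rw [hX2, mul_st (st_X2 ha)]

/-- words in `I`, `X` -/
theorem exists_w1 (h9 : ∀ x : F, x ^ 9 = x) {M : M2 F} (hM : st M * M = 1) (hd : M.det = 1) :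
    ∃ g ∈ closure ({i1 a ha, xx1 a ha} : Set (SU 4 F 3)), Bl1 M g := by
  have mi : i1 a ha ∈ closure ({i1 a ha, xx1 a ha} : Set (SU 4 F 3)) := subset_closure (by simp)
  have mx : xx1 a ha ∈ closure ({i1 a ha, xx1 a ha} : Set (SU 4 F 3)) := subset_closure (by simp)
  have mj : j1 ∈ closure ({i1 a ha, xx1 a ha} : Set (SU 4 F 3)) := by
    have h := e_x1i (F := F) (a := a) ha
    have h' : j1 = xx1 a ha * i1 a ha * (xx1 a ha)⁻¹ := by rw [h]; group
    rw [h']
    exact mul_mem (mul_mem mx mi) (inv_mem mx)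
  have bi := bl1_i a ha
  have bj : Bl1 (J2 F) j1 := bl1_j
  have bx := bl1_x ha
  have keyQ : ∀ {A : M2 F}, IsQ A → ∃ g ∈ closure ({i1 a ha, xx1 a ha} : Set (SU 4 F 3)), Bl1 A g := by
    intro A hA
    rcases isQ_words ha hA with h | h | h | h | h | h | h | h <;> rw [h]
    · exact ⟨1, one_mem _, bl1_one⟩
    · exact ⟨_, mul_mem mi mi, bi.mul bi⟩
    · exact ⟨_, mi, bi⟩
    · exact ⟨_, mul_mem mi (mul_mem mi mi), bi.mul (bi.mul bi)⟩
    · exact ⟨_, mj, bj⟩
    · exact ⟨_, mul_mem mj (mul_mem mj mj), bj.mul (bj.mul bj)⟩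
    · exact ⟨_, mul_mem mi mj, bi.mul bj⟩
    · exact ⟨_, mul_mem mj mi, bj.mul bi⟩
  have hX := st_X2 ha
  have hX' := mul_st hX
  rcases cases_X ha h9 hM hd with h | h | h
  · exact keyQ h
  · obtain ⟨g, hg, hb⟩ := keyQ h
    refine ⟨g * xx1 a ha, mul_mem hg mx, ?_⟩
    have := hb.mul bx
    rwa [mul_assoc, hX, mul_one] at this
  · obtain ⟨g, hg, hb⟩ := keyQ h
    have bxi : Bl1 (X2 a * X2 a) (xx1 a ha * xx1 a ha) := bx.mul bx
    refine ⟨g * (xx1 a ha * xx1 a ha), mul_mem hg (mul_mem mx mx), ?_⟩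
    have := hb.mul bxi
    rwa [mul_assoc, X_cube ha, mul_one] at this

/-- words in `K`, `X` (second block) -/
theorem exists_w2 (h9 : ∀ x : F, x ^ 9 = x) {M : M2 F} (hM : st M * M = 1) (hd : M.det = 1) :
    ∃ g ∈ closure ({i2 a ha, xx2 a ha} : Set (SU 4 F 3)), Bl2 M g := by
  have mi : i2 a ha ∈ closure ({i2 a ha, xx2 a ha} : Set (SU 4 F 3)) := subset_closure (by simp)
  have mx : xx2 a ha ∈ closure ({i2 a ha, xx2 a ha} : Set (SU 4 F 3)) := subset_closure (by simp)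
  have mj : j2 ∈ closure ({i2 a ha, xx2 a ha} : Set (SU 4 F 3)) := by
    have h := e_x2k (F := F) (a := a) ha
    have h' : j2 = xx2 a ha * i2 a ha * (xx2 a ha)⁻¹ := by rw [h]; group
    rw [h']
    exact mul_mem (mul_mem mx mi) (inv_mem mx)
  have bi := bl2_i a ha
  have bj : Bl2 (J2 F) j2 := bl2_j
  have bx := bl2_x ha
  have keyQ : ∀ {A : M2 F}, IsQ A → ∃ g ∈ closure ({i2 a ha, xx2 a ha} : Set (SU 4 F 3)), Bl2 A g := by
    intro A hA
    rcases isQ_words ha hA with h | h | h | h | h | h | h | h <;> rw [h]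
    · exact ⟨1, one_mem _, bl2_one⟩
    · exact ⟨_, mul_mem mi mi, bi.mul bi⟩
    · exact ⟨_, mi, bi⟩
    · exact ⟨_, mul_mem mi (mul_mem mi mi), bi.mul (bi.mul bi)⟩
    · exact ⟨_, mj, bj⟩
    · exact ⟨_, mul_mem mj (mul_mem mj mj), bj.mul (bj.mul bj)⟩
    · exact ⟨_, mul_mem mi mj, bi.mul bj⟩
    · exact ⟨_, mul_mem mj mi, bj.mul bi⟩
  have hX := st_X2 ha
  rcases cases_X ha h9 hM hd with h | h | h
  · exact keyQ h
  · obtain ⟨g, hg, hb⟩ := keyQ h
    refine ⟨g * xx2 a ha, mul_mem hg mx, ?_⟩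
    have := hb.mul bx
    rwa [mul_assoc, hX, mul_one] at this
  · obtain ⟨g, hg, hb⟩ := keyQ h
    have bxi : Bl2 (X2 a * X2 a) (xx2 a ha * xx2 a ha) := bx.mul bx
    refine ⟨g * (xx2 a ha * xx2 a ha), mul_mem hg (mul_mem mx mx), ?_⟩
    have := hb.mul bxi
    rwa [mul_assoc, X_cube ha, mul_one] at this

/-- the first block -/
theorem mem_w1 (h9 : ∀ x : F, x ^ 9 = x) {g : SU 4 F 3} (h12 : b12 (mat g) = 0) (h21 : b21 (mat g) = 0)
    (h22 : b22 (mat g) = 1) : g ∈ closure ({i1 a ha, xx1 a ha} : Set (SU 4 F 3)) := by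
  have hd := det_mat g
  rw [Cfsg.Agent.OddHalf.Small.U43.det_blk h21, h22, det_one, mul_one] at hd
  obtain ⟨g', hg', e1, e2, e3, e4⟩ := exists_w1 ha h9 (u11 (st_mat g) h21) hd
  have : g = g' := mat_injective (ext4 e1.symm (h12.trans e2.symm) (h21.trans e3.symm) (h22.trans e4.symm))
  rwa [this]

/-- the second block -/
theorem mem_w2 (h9 : ∀ x : F, x ^ 9 = x) {g : SU 4 F 3} (h12 : b12 (mat g) = 0) (h21 : b21 (mat g) = 0)
    (h11 : b11 (mat g) = 1) : g ∈ closure ({i2 a ha, xx2 a ha} : Set (SU 4 F 3)) := by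
  have hd := det_mat g
  rw [Cfsg.Agent.OddHalf.Small.U43.det_blk h21, h11, det_one, one_mul] at hd
  obtain ⟨g', hg', e1, e2, e3, e4⟩ := exists_w2 ha h9 (u22 (st_mat g) h12) hd
  have : g = g' := mat_injective (ext4 (h11.trans e1.symm) (h12.trans e2.symm) (h21.trans e3.symm) e4.symm)
  rwa [this]

/-- block diagonal elements with blocks of determinant one -/
theorem mem_w (h9 : ∀ x : F, x ^ 9 = x) {g : SU 4 F 3} (h12 : b12 (mat g) = 0) (h21 : b21 (mat g) = 0)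
    (h11 : (b11 (mat g)).det = 1) :
    g ∈ closure ({i1 a ha, xx1 a ha, i2 a ha, xx2 a ha} : Set (SU 4 F 3)) := by
  have hd := det_mat g
  rw [Cfsg.Agent.OddHalf.Small.U43.det_blk h21, h11, one_mul] at hd
  obtain ⟨g1, hg1, e1, e2, e3, e4⟩ := exists_w1 ha h9 (u11 (st_mat g) h21) h11
  obtain ⟨g2, hg2, f1, f2, f3, f4⟩ := exists_w2 ha h9 (u22 (st_mat g) h12) hd
  have : g = g1 * g2 := by
    apply mat_injective
    rw [mat_mul]
    refine ext4 ?_ ?_ ?_ ?_
    · rw [b11_mul, e1, e2, f1, zero_mul, add_zero, mul_one]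
    · rw [b12_mul, e2, f2, mul_zero, zero_mul, add_zero, h12]
    · rw [b21_mul, e3, f3, mul_zero, zero_mul, add_zero, h21]
    · rw [b22_mul, e3, e4, f4, zero_mul, zero_add, one_mul]
  rw [this]
  exact mul_mem (closure_mono (by intro y hy; simp only [Set.mem_insert_iff, Set.mem_singleton_iff] at hy ⊢; tauto) hg1)
    (closure_mono (by intro y hy; simp only [Set.mem_insert_iff, Set.mem_singleton_iff] at hy ⊢; tauto) hg2)

end a

/-- the rotation -/
def cc : SU 4 F 3 := mkSU !![1, 0, 0, 0; 0, 0, 0, 1; 0, 1, 0, 0; 0, 0, 1, 0]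
  (by simp [det_succ_row_zero, Fin.sum_univ_succ, Fin.succAbove]) (by
    intro u v
    simp only [hermForm_apply, Fin.sum_univ_four]
    simp [mulVec, dotProduct, Fin.sum_univ_four]
    ring)

theorem m_cc : mat (cc : SU 4 F 3) = !![1, 0, 0, 0; 0, 0, 0, 1; 0, 1, 0, 0; 0, 0, 1, 0] := rfl

/-- the swap -/
def s4 : SU 4 F 3 := mkSU !![0, 0, 1, 0; 0, 0, 0, -1; -1, 0, 0, 0; 0, 1, 0, 0]
  (by simp [det_succ_row_zero, Fin.sum_univ_succ, Fin.succAbove]) (by
    intro u v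
    simp only [hermForm_apply, Fin.sum_univ_four]
    simp [mulVec, dotProduct, Fin.sum_univ_four]
    ring)

theorem m_s4 : mat (s4 : SU 4 F 3) = !![0, 0, 1, 0; 0, 0, 0, -1; -1, 0, 0, 0; 0, 1, 0, 0] := rfl

/-- `diag(a, 1, -a, 1)` -/
def t4 (a : F) (ha : a ^ 2 = -1) : SU 4 F 3 := suDiag 3 ![a, 1, -a, 1]
  (by simp [Fin.prod_univ_four]; linear_combination -ha) (by
  have h4 : a ^ 4 = 1 := by linear_combination (a ^ 2 - 1) * ha
  intro i; fin_cases i <;> simp [h4, Even.neg_pow (show Even 4 by decide)])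

section a

variable {a : F} (ha : a ^ 2 = -1)

include ha

theorem m_t4 : mat (t4 a ha) = !![a, 0, 0, 0; 0, 1, 0, 0; 0, 0, -a, 0; 0, 0, 0, 1] := by
  ext i j; fin_cases i <;> fin_cases j <;> rfl

theorem cc_t : cc * i1 a ha = t4 a ha * cc := by
  apply mat_injective
  rw [mat_mul, mat_mul, m_cc, m_i1, m_t4]
  ext i j
  rw [mul_apply, mul_apply, Fin.sum_univ_four, Fin.sum_univ_four]
  fin_cases i <;> fin_cases j <;> simp

omit ha in
theorem cc_s : (cc : SU 4 F 3) * (j1 * j2) = s4 * cc := by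
  apply mat_injective
  rw [mat_mul, mat_mul, mat_mul, m_cc, m_j1, m_j2, m_s4]
  ext i j
  rw [mul_apply, mul_apply, Fin.sum_univ_four, Fin.sum_univ_four]
  fin_cases i <;> fin_cases j <;> simp [mul_apply, Fin.sum_univ_four]

theorem cc_z : mat (i1 a ha * i2 a ha * cc) = a • mat (cc * d : SU 4 F 3) := by
  simp only [mat_mul, m_cc, m_d, m_i1, m_i2]
  ext i j
  rw [Matrix.smul_apply, mul_apply, mul_apply, Fin.sum_univ_four, Fin.sum_univ_four]
  fin_cases i <;> fin_cases j <;> simp [mul_apply, Fin.sum_univ_four]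

theorem cc_a : cc * (i1 a ha * i2 a ha) = d * (i1 a ha * i2 a ha) * cc := by
  apply mat_injective
  simp only [mat_mul, m_cc, m_d, m_i1, m_i2]
  ext i j
  rw [mul_apply, mul_apply, Fin.sum_univ_four, Fin.sum_univ_four]
  fin_cases i <;> fin_cases j <;> simp [mul_apply, Fin.sum_univ_four]

theorem x1_cube : xx1 a ha * xx1 a ha * xx1 a ha = 1 := by
  have h1 := (bl1_x ha).mul ((bl1_x ha).mul (bl1_x ha))
  rw [X_cube ha] at h1
  rw [mul_assoc]
  have h2 : Bl1 (1 : M2 F) (1 : SU 4 F 3) := bl1_one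
  exact mat_injective (ext4 (h1.1.trans h2.1.symm) (h1.2.1.trans h2.2.1.symm) (h1.2.2.1.trans h2.2.2.1.symm)
    (h1.2.2.2.trans h2.2.2.2.symm))

theorem x2_cube : xx2 a ha * xx2 a ha * xx2 a ha = 1 := by
  have h1 := (bl2_x ha).mul ((bl2_x ha).mul (bl2_x ha))
  rw [X_cube ha] at h1
  rw [mul_assoc]
  have h2 : Bl2 (1 : M2 F) (1 : SU 4 F 3) := bl2_one
  exact mat_injective (ext4 (h1.1.trans h2.1.symm) (h1.2.1.trans h2.2.1.symm) (h1.2.2.1.trans h2.2.2.1.symm)
    (h1.2.2.2.trans h2.2.2.2.symm))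

theorem e_x1x2 : xx1 a ha * xx2 a ha = xx2 a ha * xx1 a ha := by
  obtain ⟨a1, a2, a3, a4⟩ := bl1_x ha
  obtain ⟨b1, b2, b3, b4⟩ := bl2_x ha
  apply mat_injective
  rw [mat_mul, mat_mul]
  refine ext4 ?_ ?_ ?_ ?_
  · rw [b11_mul, b11_mul, a1, a2, a3, b1, b2, b3]; simp
  · rw [b12_mul, b12_mul, a1, a2, a4, b1, b2, b4]; simp
  · rw [b21_mul, b21_mul, a1, a3, a4, b1, b3, b4]; simp
  · rw [b22_mul, b22_mul, a2, a3, a4, b2, b3, b4]; simp

/-- conjugates by the swap -/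
theorem swap_one {g : SU 4 F 3} (h12 : b12 (mat g) = 0) (h21 : b21 (mat g) = 0) (h22 : b22 (mat g) = 1) :
    b12 (mat (s4 * g * s4⁻¹)) = 0 ∧ b21 (mat (s4 * g * s4⁻¹)) = 0 ∧ b11 (mat (s4 * g * s4⁻¹)) = 1 := by
  have hs1 : b11 (mat (s4 : SU 4 F 3)) = 0 := by ext i j; fin_cases i <;> fin_cases j <;> rfl
  have hs2 : b22 (mat (s4 : SU 4 F 3)) = 0 := by ext i j; fin_cases i <;> fin_cases j <;> rfl
  have hu := st_mat (s4 : SU 4 F 3)
  have hu' := mul_st (u12 hu hs2)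
  rw [mat_mul, mat_mul, mat_inv]
  refine ⟨?_, ?_, ?_⟩
  · rw [b12_mul, b11_mul, b22_st, hs1, hs2, h21, st_zero']; simp
  · rw [b21_mul, b22_mul, b11_st, hs1, hs2, h12, st_zero']; simp
  · rw [b11_mul, b12_mul, b11_st, b21_st, hs1, st_zero', mul_zero, zero_add, zero_mul, zero_add, h22, mul_one, hu']

theorem swap_two {g : SU 4 F 3} (h12 : b12 (mat g) = 0) (h21 : b21 (mat g) = 0) (h11 : b11 (mat g) = 1) :
    b12 (mat (s4 * g * s4⁻¹)) = 0 ∧ b21 (mat (s4 * g * s4⁻¹)) = 0 ∧ b22 (mat (s4 * g * s4⁻¹)) = 1 := by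
  have hs1 : b11 (mat (s4 : SU 4 F 3)) = 0 := by ext i j; fin_cases i <;> fin_cases j <;> rfl
  have hs2 : b22 (mat (s4 : SU 4 F 3)) = 0 := by ext i j; fin_cases i <;> fin_cases j <;> rfl
  have hu := st_mat (s4 : SU 4 F 3)
  have hu' := mul_st (u21 hu hs1)
  rw [mat_mul, mat_mul, mat_inv]
  refine ⟨?_, ?_, ?_⟩
  · rw [b12_mul, b11_mul, b22_st, hs1, hs2, h21, st_zero']; simp
  · rw [b21_mul, b22_mul, b11_st, hs1, hs2, h12, st_zero']; simp
  · rw [b22_mul, b21_mul, b12_st, b22_st, hs2, st_zero', mul_zero, add_zero, zero_mul, add_zero, h11, mul_one, hu']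

/-- conjugates by block diagonal elements -/
theorem diag_one {t g : SU 4 F 3} (t12 : b12 (mat t) = 0) (t21 : b21 (mat t) = 0) (h12 : b12 (mat g) = 0)
    (h21 : b21 (mat g) = 0) (h22 : b22 (mat g) = 1) :
    b12 (mat (t * g * t⁻¹)) = 0 ∧ b21 (mat (t * g * t⁻¹)) = 0 ∧ b22 (mat (t * g * t⁻¹)) = 1 := by
  have hu := st_mat t
  have hu' := mul_st (u22 hu t12)
  rw [mat_mul, mat_mul, mat_inv]
  refine ⟨?_, ?_, ?_⟩
  · rw [b12_mul, b12_mul, b12_st, t12, t21, h12, st_zero']; simp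
  · rw [b21_mul, b21_mul, b21_st, t12, t21, h21, st_zero']; simp
  · rw [b22_mul, b21_mul, b22_mul, b12_st, b22_st, t21, st_zero', mul_zero, zero_mul, zero_add, zero_add, h22, mul_one,
      hu']

theorem diag_two {t g : SU 4 F 3} (t12 : b12 (mat t) = 0) (t21 : b21 (mat t) = 0) (h12 : b12 (mat g) = 0)
    (h21 : b21 (mat g) = 0) (h11 : b11 (mat g) = 1) :
    b12 (mat (t * g * t⁻¹)) = 0 ∧ b21 (mat (t * g * t⁻¹)) = 0 ∧ b11 (mat (t * g * t⁻¹)) = 1 := by
  have hu := st_mat t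
  have hu' := mul_st (u11 hu t21)
  rw [mat_mul, mat_mul, mat_inv]
  refine ⟨?_, ?_, ?_⟩
  · rw [b12_mul, b12_mul, b12_st, t12, t21, h12, st_zero']; simp
  · rw [b21_mul, b21_mul, b21_st, t12, t21, h21, st_zero']; simp
  · rw [b11_mul, b11_mul, b12_mul, b11_st, b21_st, t12, st_zero', mul_zero, zero_mul, add_zero, add_zero, h11, mul_one,
      hu']

end a

end Mat

end Cfsg.Agent.OddHalf.NI3.Bad.NSideU
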