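import Cfsg.Agent.OddHalf.NI3.Lift
import Cfsg.Agent.OddHalf.NI3.TC

/-!
# Classical pairs lift through central 2-extensions (node NI over `F₃`, (KD); helper100)

`Cl.lift` : `f : E → Y` surjective with central 2-kernel, `(x, J)` a classical pair of `Y`: `(z, Lft f J)` is a classical
pair of `E` for some `z` over `x`, and `Lft f J` is mapped onto `J`.
-/

set_option autoImplicit false

namespace Cfsg.Agent.OddHalf.NI3

open Subgroup Cfsg Cfsg.Agent.GH.Cov.Lft

variable {E Y : Type*} [Group E] [Group Y] {f : E →* Y}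

theorem Cl.lift [Finite E] (hf : CExt f) {x : Y} {J : Subgroup Y} (h : Cl x J) :
    ∃ z : E, f z = x ∧ Cl z (Lft f J) ∧ (Lft f J).map f = J := by
  have hF : Odd (Fintype.card (ZMod 3)) := by rw [ZMod.card]; decide
  obtain ⟨e⟩ := h.pr.iso
  let φ : ↥(Lft f J) ≃* ↥J := liftEquiv hf hF e
  have hφ : ∀ a : ↥(Lft f J), ((φ a : ↥J) : Y) = f a := fun a => rfl
  set z' : ↥(Lft f J) := φ.symm ⟨x, h.pr.mem⟩ with hz'
  have hz : f (z' : E) = x := by
    rw [← hφ, hz', φ.apply_symm_apply]
  have hord : orderOf (z' : E) = 2 := by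
    have h1 : orderOf ((φ z' : ↥J) : Y) = orderOf (φ z') := Subgroup.orderOf_coe _
    rw [Subgroup.orderOf_coe, ← MulEquiv.orderOf_eq φ, ← h1, hφ, hz, h.pr.ord]
  refine ⟨z', hz, ⟨⟨⟨φ.trans e⟩, hord, z'.2⟩, ?_, ?_⟩, ?_⟩
  · intro a ha
    rw [mem_centralizer_singleton_iff]
    have h2 : f a ∈ J := map_mem ha
    have h3 := h.pr.comm_z h2
    have h4 : (⟨a, ha⟩ : ↥(Lft f J)) * z' = z' * ⟨a, ha⟩ := by
      apply φ.injective
      rw [map_mul, map_mul]
      apply Subtype.ext
      rw [Subgroup.coe_mul, Subgroup.coe_mul, hφ, hφ, hz]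
      exact h3
    exact congrArg Subtype.val h4
  · refine lft_subnormal ?_ ?_ h.sn.2
    · intro y hy
      rw [mem_centralizer_singleton_iff] at hy ⊢
      rw [← hz, ← map_mul, hy, map_mul]
    · intro a ha
      rw [mem_centralizer_singleton_iff]
      have h2 : f a ∈ J := map_mem ha
      have h3 := h.pr.comm_z h2
      have h4 : (⟨a, ha⟩ : ↥(Lft f J)) * z' = z' * ⟨a, ha⟩ := by
        apply φ.injective
        rw [map_mul, map_mul]
        apply Subtype.ext
        rw [Subgroup.coe_mul, Subgroup.coe_mul, hφ, hφ, hz]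
        exact h3
      exact congrArg Subtype.val h4
  · apply le_antisymm
    · rintro _ ⟨a, ha, rfl⟩
      exact map_mem ha
    · intro y hy
      obtain ⟨a, ha, hay⟩ := hf.exists_mem (le_closure_of_sl hF e) hy
      exact ⟨a, ha, hay⟩

end Cfsg.Agent.OddHalf.NI3
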