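import Cfsg.Agent.OddHalf.NI3.Bad.OrthEight
import Cfsg.Agent.OddHalf.NI3.Bad.EightPair
import Cfsg.Agent.OddHalf.NI3.Bad.OrthLift
import Cfsg.Agent.S1082
import Cfsg.Agent.ChevalleyStructure.FieldIso

/-!
# (KD), row `PΩ₈⁺(3)`: `RowA'` (node NI over `F₃`, THEOREM NIB; helper100)

* `Case2` : the statement for `w² = -1` (proved in `Bad/EightUnit.lean`, helper598);
* `row_of` : `Case2 → XO8p X → RowA' X`.
-/

set_option autoImplicit false
set_option linter.unusedSectionVars false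
set_option linter.unusedVariables false

namespace Cfsg.Agent.OddHalf.NI3.Bad.RowO8p

open Subgroup Cfsg Cfsg.Agent.LieClassical.OrthCore Cfsg.Agent.OddHalf.NI3.Bad.Sim
  Cfsg.Agent.OddHalf.NI3.Bad.OrthEight Cfsg.Agent.OddHalf.NI3.Bad.OrthStd Cfsg.Agent.GH.Cov.Lft
  Cfsg.Agent.OddHalf.NI3.Bad.QPair Cfsg.Agent.OddHalf.NI3.Bad.RowOrth
open Cfsg.Agent.OddHalf.NI (CompIn)

abbrev F := ZMod 3
abbrev V := OrthStd.V
abbrev Q := OrthStd.Q

/-- the conclusion of the row -/
def Concl (w : ↥(Om Q)) : Prop :=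
  ∃ K : Subgroup (↥(Om Q) ⧸ center ↥(Om Q)),
    CompIn (centralizer ({(w : ↥(Om Q) ⧸ center ↥(Om Q))} : Set (↥(Om Q) ⧸ center ↥(Om Q)))) K ∧
      (w : ↥(Om Q) ⧸ center ↥(Om Q)) ∈ K

/-- `w² = -1` -/
def Case2 : Prop := ∀ w : ↥(Om Q), (∀ v, (w : V ≃ₗ[F] V) ((w : V ≃ₗ[F] V) v) = -v) → Concl w

theorem mem_center (z : ↥(Om Q)) : z ∈ center ↥(Om Q) ↔ z = 1 ∨ z = EightPair.ngO neg_Q :=
  EightPair.mem_center_iff card_F nondeg_Q (by rw [finrank_V]; norm_num) neg_Q z

theorem ngO_sq : EightPair.ngO neg_Q * EightPair.ngO neg_Q = 1 := by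
  apply Subtype.ext
  apply LinearEquiv.ext
  intro v
  show - -v = v
  rw [neg_neg]

theorem ngO_ne : EightPair.ngO neg_Q ≠ 1 := by
  intro h
  have h1 : -((1 : MM), (0 : MM)) = (1, 0) := congrArg (fun g : ↥(Om Q) => (g : V ≃ₗ[F] V) (1, 0)) h
  have h2 : -(1 : MM) = 1 := congrArg Prod.fst h1
  exact absurd h2 (by decide +kernel)

/-- the projection -/
def pi : ↥(Om Q) →* ↥(Om Q) ⧸ center ↥(Om Q) := QuotientGroup.mk' _

theorem pi_eq_one {z : ↥(Om Q)} : pi z = 1 ↔ z ∈ center ↥(Om Q) := QuotientGroup.eq_one_iff z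

theorem cext : CExt pi where
  surj := QuotientGroup.mk'_surjective _
  cen c hc x := ((mem_center_iff.1 (pi_eq_one.1 hc)) x).symm
  two c hc := by
    refine ⟨1, ?_⟩
    rw [pow_one, pow_two]
    rcases (mem_center c).1 (pi_eq_one.1 hc) with h | h
    · rw [h, one_mul]
    · rw [h, ngO_sq]

instance : Finite ↥(Om Q) := inferInstance

theorem clA_of {z : ↥(Om Q)} {J : Subgroup ↥(Om Q)} (h : Cl z J) : ClA (z : V ≃ₗ[F] V) (J.map (Om Q).subtype) := by
  refine ⟨h.pr.map (Om Q).subtype ?_, ?_, ?_⟩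
  · intro h1
    exact h.pr.t3.z_ne (Subtype.ext h1)
  · rintro _ ⟨g, _, rfl⟩
    exact g.2
  · rw [← cent_map]
    exact h.sn.map _

theorem ap {a b : ↥(Om Q)} (hab : a = b) (v : V) : (a : V ≃ₗ[F] V) v = (b : V ≃ₗ[F] V) v := by rw [hab]

theorem cube_aux {G : Type*} [Group G] {n a : G} (hc : n * a = a * n) (hn : n * n = 1) (ha : a * a * a = 1)
    (h : n * a * (n * a) * (n * a) = 1) : n = 1 := by
  have h1 : (n * a) ^ 3 = n ^ 3 * a ^ 3 := Commute.mul_pow hc 3
  have h2 : (n * a) ^ 3 = 1 := by rw [← h, pow_succ, pow_two]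
  have h3 : a ^ 3 = 1 := by rw [← ha, pow_succ, pow_two]
  have h4 : n ^ 3 = n := by rw [pow_succ, pow_two, hn, one_mul]
  rw [h2, h3, h4, mul_one] at h1
  exact h1.symm

/-- **the row in the model** -/
theorem model (h2 : Case2) : RowA' (↥(Om Q) ⧸ center ↥(Om Q)) := by
  intro x A B w hpos
  obtain ⟨z, hz, hA, hAm⟩ := hpos.a.lift cext
  obtain ⟨z', hz', hB, hBm⟩ := hpos.b.lift cext
  have hx1 : x ≠ 1 := hpos.a.pr.t3.z_ne
  set A1 := Lft pi A with hA1
  set B1 := Lft pi B with hB1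
  -- the lifts commute
  have hcomm : ∀ a ∈ A1, ∀ b ∈ B1, a * b = b * a := by
    intro a ha b hb
    have h1 : A1 ≤ centralizer {b} := by
      apply hA.pr.le_of_cube
      intro a ha ha3
      rw [mem_centralizer_singleton_iff]
      have h3 : pi a ∈ A := by rw [← hAm]; exact mem_map_of_mem _ ha
      have h4 : pi b ∈ B := by rw [← hBm]; exact mem_map_of_mem _ hb
      have h5 : pi a * pi b = pi b * pi a := mem_centralizer_iff.1 (hpos.comm h4) _ h3
      have h6 : pi (a * b * a⁻¹ * b⁻¹) = 1 := by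
        have e6 : a * b * a⁻¹ * b⁻¹ = a * b * (b * a)⁻¹ := by group
        rw [e6, map_mul, map_inv, map_mul, map_mul, h5, mul_inv_cancel]
      have h7 := cext.cen _ h6
      rcases (mem_center _).1 (pi_eq_one.1 h6) with h8 | h8
      · calc a * b = (a * b * a⁻¹ * b⁻¹) * (b * a) := by group
          _ = b * a := by rw [h8, one_mul]
      · exfalso
        have h9 : b * a * b⁻¹ = EightPair.ngO neg_Q * a := by
          calc b * a * b⁻¹ = (a * b * a⁻¹ * b⁻¹)⁻¹ * a := by group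
            _ = EightPair.ngO neg_Q * a := by
              rw [h8, inv_eq_of_mul_eq_one_left ngO_sq]
        have h10 : (b * a * b⁻¹) * (b * a * b⁻¹) * (b * a * b⁻¹) = 1 := by
          calc (b * a * b⁻¹) * (b * a * b⁻¹) * (b * a * b⁻¹) = b * (a * a * a) * b⁻¹ := by group
            _ = 1 := by rw [ha3]; group
        rw [h9] at h10
        rw [h8] at h7
        exact ngO_ne (cube_aux (h7 a) ngO_sq ha3 h10)
    exact mem_centralizer_singleton_iff.1 (h1 ha)
  obtain ⟨p0, hp0, q0, hq0, hpp0, hqq0, hw⟩ := hpos.dec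
  rw [← hAm] at hp0
  rw [← hBm] at hq0
  obtain ⟨p, hp, rfl⟩ := hp0
  obtain ⟨q, hq, rfl⟩ := hq0
  -- squares
  have hpp : p * p = z := by
    have h1 : pi (p * p * z⁻¹) = 1 := by rw [map_mul, map_mul, map_inv, hpp0, hz, mul_inv_cancel]
    have h3 : p * p * z⁻¹ = 1 :=
      hA.pr.inj pi (by rw [hz]; exact hx1) (mul_mem (mul_mem hp hp) (inv_mem hA.pr.mem)) h1
    exact mul_inv_eq_one.1 h3
  have hqq : q * q = z' := by
    have h1 : pi (q * q * z'⁻¹) = 1 := by rw [map_mul, map_mul, map_inv, hqq0, hz', mul_inv_cancel]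
    have h3 : q * q * z'⁻¹ = 1 :=
      hB.pr.inj pi (by rw [hz']; exact hx1) (mul_mem (mul_mem hq hq) (inv_mem hB.pr.mem)) h1
    exact mul_inv_eq_one.1 h3
  have hpq := hcomm p hp q hq
  have hzz : z * z = 1 := hA.pr.t3.z_sq
  have hz1 : z ≠ 1 := hA.pr.t3.z_ne
  have hzn : z ≠ EightPair.ngO neg_Q := by
    intro h
    apply hx1
    rw [← hz, h]
    exact pi_eq_one.2 ((mem_center _).2 (Or.inr rfl))
  have hw' : w = ((p * q : ↥(Om Q)) : ↥(Om Q) ⧸ center ↥(Om Q)) := by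
    rw [hw, ← map_mul]; rfl
  rw [hw']
  have hzz' : pi (z⁻¹ * z') = 1 := by rw [map_mul, map_inv, hz, hz', inv_mul_cancel]
  rcases (mem_center _).1 (pi_eq_one.1 hzz') with h3 | h3
  · -- the same involution
    have h4 : z' = z := (inv_mul_eq_one.1 h3).symm
    subst h4
    obtain ⟨j, hj, hjj, hpj⟩ := anti hA.pr hp hpp
    obtain ⟨k, hk, hkk, hqk⟩ := anti hB.pr hq hqq
    have hQd : Qd (z' : V ≃ₗ[F] V) p j q k :=
      { xx := ap hzz
        pp := ap hpp
        jj := ap hjj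
        qq := ap hqq
        kk := ap hkk
        pj := ap hpj
        qk := ap hqk
        pq := ap (hcomm p hp q hq)
        pk := ap (hcomm p hp k hk)
        jq := ap (hcomm j hj q hq)
        jk := ap (hcomm j hj k hk) }
    have hxn : (z' : V ≃ₗ[F] V) ≠ LinearEquiv.neg F := fun h => hzn (Subtype.ext h)
    have tA : ∀ v, (z' : V ≃ₗ[F] V) v = v → (p : V ≃ₗ[F] V) v = v := fun v hv =>
      triv_of_cl (clA_of hA) (p := p) (j := j) ⟨ap hzz, ap hpp, ap hjj, ap hpj⟩
        (mem_map_of_mem (Om Q).subtype hp) (mem_map_of_mem (Om Q).subtype hj) hxn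
        (mem_map_of_mem (Om Q).subtype hp) hv
    have tB : ∀ v, (z' : V ≃ₗ[F] V) v = v → (q : V ≃ₗ[F] V) v = v := fun v hv =>
      triv_of_cl (clA_of hB) (p := q) (j := k) ⟨ap hzz, ap hqq, ap hkk, ap hqk⟩
        (mem_map_of_mem (Om Q).subtype hq) (mem_map_of_mem (Om Q).subtype hk) hxn
        (mem_map_of_mem (Om Q).subtype hq) hv
    refine EightPair.row card_F nondeg_Q finrank_V neg_Q hQd z'.2 p.2 j.2 q.2 k.2 ?_ ?_ ?_ (p * q) rfl
    · by_contra hcon
      push Not at hcon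
      exact hz1 (Subtype.ext (LinearEquiv.ext hcon))
    · by_contra hcon
      push Not at hcon
      exact hxn (LinearEquiv.ext hcon)
    · intro v hv
      exact ⟨tA v hv, tB v hv⟩
  · -- opposite involutions
    apply h2
    intro v
    have h4 : z' = z * EightPair.ngO neg_Q := by rw [← h3, mul_inv_cancel_left]
    have h5 : p * q * (p * q) = EightPair.ngO neg_Q := by
      calc p * q * (p * q) = p * (q * p) * q := by simp only [mul_assoc]
        _ = p * (p * q) * q := by rw [hpq]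
        _ = (p * p) * (q * q) := by simp only [mul_assoc]
        _ = (z * z) * EightPair.ngO neg_Q := by rw [hpp, hqq, h4, mul_assoc]
        _ = EightPair.ngO neg_Q := by rw [hzz, one_mul]
    exact ap h5 v

/-- **row `PΩ₈⁺(3)`** -/
theorem row_of (h2 : Case2) (X : Type*) [Group X] (h : XO8p X) : RowA' X := by
  obtain ⟨K, i, i', hK, ⟨e⟩⟩ := h
  obtain ⟨e1⟩ := Cfsg.Agent.S1082.result (F := K)
  obtain ⟨e2⟩ := Cfsg.Agent.S1082.result (F := F)
  obtain ⟨e3⟩ := Models.om8p card_F nondeg_Q finrank_V neg_Q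
  have hcard : Fintype.card K = Fintype.card F := by rw [hK]; rfl
  let φ : K ≃+* F := FiniteField.ringEquivOfCardEq hcard
  let e4 := ChevalleyStructure.FieldIso.groupEquiv Lie.chevD4 φ
  exact (model h2).congr ((((e.trans e1.symm).trans e4).trans e2).trans e3.symm)

end Cfsg.Agent.OddHalf.NI3.Bad.RowO8p
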