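import Cfsg.Agent.OddHalf.NI3.Bad.OrthStd
import Cfsg.Agent.OddHalf.NI3.Bad.Frame
import Cfsg.Agent.OddHalf.NI3.Bad.Trans

/-!
# A classical `SL₂(3)` of `Ω₈⁺(3)` is trivial on `V_+(z)` (node NI over `F₃`, (KD), row `PΩ₈⁺(3)`; helper100)

* `Qs x p j` : a quaternion group `⟨p, j⟩` with involution `x`;
* `Qs.frame` : dim 8, `x ≠ 1, -1`: `V_-(x)` has the orthogonal basis `e, p e, j e, p j e`, `Q e = 1`;
* `conj_z0` : `x` is conjugate in `O(Q)` to `z0`, `V = M₂(3) ⟂ M₂(3)`;
* `triv_of_cl` : a subgroup `J ≃ SL₂(3)` with involution `x`, subnormal in `C_Ω(x)`, is trivial on `V_+(x)`.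
-/

set_option autoImplicit false
set_option linter.unusedSectionVars false
set_option linter.unusedVariables false

namespace Cfsg.Agent.OddHalf.NI3.Bad.OrthEight

open QuadraticMap Module Cfsg.Agent.LieClassical.OrthCore Cfsg.Agent.OddHalf.NI3.Bad.Emb
  Cfsg.Agent.ClassicalGeometry.OddInvolutions Cfsg.Agent.OddHalf.NI3.Bad.QPair Cfsg.Agent.OddHalf.NI3.Bad.Sim
  Cfsg.Agent.OddHalf.NI3.Bad.Frame

section

variable {F V : Type*} [Field F] [AddCommGroup V] [Module F V]

/-- a quaternion group `⟨p, j⟩` with involution `x` -/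
structure Qs (x p j : V ≃ₗ[F] V) : Prop where
  xx : ∀ v, x (x v) = v
  pp : ∀ v, p (p v) = x v
  jj : ∀ v, j (j v) = x v
  pj : ∀ v, p (j v) = x (j (p v))

variable {x p j : V ≃ₗ[F] V} {Q : QuadraticForm F V}

namespace Qs

variable (h : Qs x p j)

include h

theorem px (v : V) : p (x v) = x (p v) := by rw [← h.pp v, h.pp (p v)]
theorem jx (v : V) : j (x v) = x (j v) := by rw [← h.jj v, h.jj (j v)]
theorem jp (v : V) : j (p v) = x (p (j v)) := by rw [h.pj, h.xx]

theorem x_mem (hp : p ∈ O Q) : x ∈ O Q := by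
  have : x = p * p := LinearEquiv.ext fun v => (h.pp v).symm
  rw [this]
  exact (O Q).mul_mem hp hp

end Qs

theorem orth4 (h2 : (2 : F) ≠ 0) {g : V ≃ₗ[F] V} (hg : g ∈ O Q) {v : V} (hv : g (g v) = -v) :
    polar Q v (g v) = 0 := by
  have h1 := polar_map hg v (g v)
  rw [hv, polar_neg_right, polar_comm] at h1
  have h3 : (2 : F) * polar Q v (g v) = 0 := by linear_combination -h1
  exact (mul_eq_zero.1 h3).resolve_left h2

theorem Qs.fr_x (h : Qs x p j) {e : V} (hx : x e = -e) (i : Fin 4) : x (fr p j e i) = - fr p j e i := by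
  fin_cases i
  · exact hx
  · show x (p e) = -(p e)
    rw [← h.px, hx, map_neg]
  · show x (j e) = -(j e)
    rw [← h.jx, hx, map_neg]
  · show x (p (j e)) = -(p (j e))
    rw [← h.px, ← h.jx, hx, map_neg, map_neg]

/-- the frame is an orthogonal family, all values are equal -/
theorem Qs.fr_OF (h2 : (2 : F) ≠ 0) (h : Qs x p j) (hp : p ∈ O Q) (hj : j ∈ O Q) {e : V} (hx : x e = -e)
    (he : Q e ≠ 0) : OF Q (fun _ : Fin 4 => Q e) (fr p j e) := by
  have hxj : x (j e) = -(j e) := by rw [← h.jx, hx, map_neg]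
  have a01 : polar Q e (p e) = 0 := orth4 h2 hp (by rw [h.pp, hx])
  have a02 : polar Q e (j e) = 0 := orth4 h2 hj (by rw [h.jj, hx])
  have a03 : polar Q e (p (j e)) = 0 := by
    refine orth4 (g := p * j) h2 ((O Q).mul_mem hp hj) ?_
    show p (j (p (j e))) = -e
    rw [h.jp, h.jj, hx, map_neg, map_neg, map_neg, h.px, h.pp, h.xx]
  have a12 : polar Q (p e) (j e) = 0 := by
    have h1 := polar_map hp (p e) (j e)
    rw [h.pp, hx, polar_neg_left, a03, neg_zero] at h1
    exact h1.symm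
  have a13 : polar Q (p e) (p (j e)) = 0 := by rw [polar_map hp]; exact a02
  have a23 : polar Q (j e) (p (j e)) = 0 := orth4 h2 hp (by rw [h.pp, hxj])
  refine ⟨?_, fun _ => he, ?_⟩
  · intro i
    fin_cases i
    · rfl
    · exact mem_O.1 hp e
    · exact mem_O.1 hj e
    · show Q (p (j e)) = Q e
      rw [mem_O.1 hp, mem_O.1 hj]
  · have key : ∀ a b : Fin 4, a < b → polar Q (fr p j e a) (fr p j e b) = 0 := by
      intro a b hab
      fin_cases a <;> fin_cases b <;> first | (exfalso; revert hab; decide) | skip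
      · exact a01
      · exact a02
      · exact a03
      · exact a12
      · exact a13
      · exact a23
    intro a b hab
    rcases lt_or_gt_of_ne hab with h1 | h1
    · exact key a b h1
    · rw [polar_comm]; exact key b a h1

/-- the complement of the frame is invariant -/
theorem Qs.perp_inv (h : Qs x p j) (hp : p ∈ O Q) (hj : j ∈ O Q) {e : V} (hx : x e = -e)
    {v : V} (hv : ∀ i, polar Q (fr p j e i) v = 0) :
    (∀ i, polar Q (fr p j e i) (p v) = 0) ∧ (∀ i, polar Q (fr p j e i) (j v) = 0) := by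
  have key : ∀ {g : V ≃ₗ[F] V} {u u' : V}, g ∈ O Q → polar Q u v = 0 → (g u = u' ∨ g u = -u') →
      polar Q u' (g v) = 0 := by
    intro g u u' hg h1 h3
    have h4 := polar_map hg u v
    rw [h1] at h4
    rcases h3 with h3 | h3
    · rwa [h3] at h4
    · rw [h3, polar_neg_left, neg_eq_zero] at h4
      exact h4
  have f0 : fr p j e 0 = e := rfl
  have f1 : fr p j e 1 = p e := rfl
  have f2 : fr p j e 2 = j e := rfl
  have f3 : fr p j e 3 = p (j e) := rfl
  have hxj : x (j e) = -(j e) := by rw [← h.jx, hx, map_neg]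
  refine ⟨?_, ?_⟩
  · intro i
    fin_cases i
    · exact key hp (hv 1) (Or.inr (by rw [f1, h.pp, hx]; rfl))
    · exact key hp (hv 0) (Or.inl rfl)
    · exact key hp (hv 3) (Or.inr (by rw [f3, h.pp, hxj]; rfl))
    · exact key hp (hv 2) (Or.inl rfl)
  · intro i
    fin_cases i
    · exact key hj (hv 2) (Or.inr (by rw [f2, h.jj, hx]; rfl))
    · refine key hj (hv 3) (Or.inl ?_)
      have h6 : j (p (j e)) = x (p (j (j e))) := by rw [h.pj (j e), h.xx]
      rw [f3, h6, h.jj, h.px, h.xx]; rfl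
    · exact key hj (hv 0) (Or.inl rfl)
    · refine key hj (hv 1) (Or.inr ?_)
      have h5 := h.pj e
      have h6 : j (p e) = x (p (j e)) := by rw [h5, h.xx]
      rw [f1, h6, ← h.px, hxj, map_neg]; rfl

/-- a non-singular vector -/
theorem exists_vec (h2 : (2 : F) ≠ 0) (hx : x ∈ O Q) (hxx : ∀ v, x (x v) = v) (M : Submodule F V)
    (hM : ∀ u ∈ M, (∀ y ∈ M, polar Q u y = 0) → u = 0) (hxM : ∀ v ∈ M, x v ∈ M)
    (hne : ∃ v ∈ M, v ≠ 0 ∧ x v = -v) : ∃ e ∈ M, x e = -e ∧ Q e ≠ 0 := by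
  obtain ⟨u, hu, hu0, hux⟩ := hne
  by_contra hcon
  push Not at hcon
  apply hu0
  apply hM _ hu
  intro y hy
  have hy1 : y - x y ∈ M := M.sub_mem hy (hxM _ hy)
  have hy2 : x (y - x y) = -(y - x y) := by rw [map_sub, hxx]; abel
  have e1 : polar Q u (y - x y) = 0 := by
    have f1 : Q (u + (y - x y)) = 0 := hcon _ (M.add_mem hu hy1) (by rw [map_add, hux, hy2]; abel)
    rw [Q_add, hcon _ hu hux, hcon _ hy1 hy2] at f1
    linear_combination f1
  rw [polar_sub_right, self_adj hx hxx, hux, polar_neg_left] at e1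
  have e2 : (2 : F) * polar Q u y = 0 := by linear_combination e1
  exact (mul_eq_zero.1 e2).resolve_left h2

/-- **the frame of `V_-(x)`** -/
theorem Qs.frame [Fintype F] (hF : Fintype.card F = 3) [FiniteDimensional F V] (h : Qs x p j) (hQ : Nondeg Q)
    (hp : p ∈ O Q) (hj : j ∈ O Q) (hx1 : ∃ v, x v ≠ v) (hd : finrank F V = 8) (hxn : ∃ v, x v ≠ -v) :
    ∃ e : V, x e = -e ∧ Q e = 1 ∧ ∀ v, (∀ i, polar Q (fr p j e i) v = 0) → x v = v := by
  have h2 := two_ne hF
  have hx := h.x_mem hp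
  obtain ⟨u, hu⟩ := hx1
  obtain ⟨e0, _, g1, g2⟩ := exists_vec h2 hx h.xx ⊤ (fun u _ h => hQ u fun y => h y trivial)
    (fun _ _ => trivial) ⟨u - x u, trivial, fun h1 => hu (sub_eq_zero.1 h1).symm, by rw [map_sub, h.xx]; abel⟩
  obtain ⟨e, he1, he2⟩ : ∃ e : V, x e = -e ∧ Q e = 1 := by
    rcases Sim.cases hF (Q e0) with g3 | g3 | g3
    · exact absurd g3 g2
    · exact ⟨e0, g1, g3⟩
    · refine ⟨e0 + p e0, by rw [map_add, ← h.px, g1, map_neg]; abel, ?_⟩
      rw [Q_add, orth4 h2 hp (by rw [h.pp, g1]), mem_O.1 hp, g3]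
      have := three hF
      linear_combination -this
  refine ⟨e, he1, he2, ?_⟩
  have he0 : Q e ≠ 0 := by rw [he2]; exact one_ne_zero
  have hf := h.fr_OF h2 hp hj he1 he0
  by_contra hcon
  push Not at hcon
  obtain ⟨v, hv, hvx⟩ := hcon
  have hinv : ∀ v ∈ pc Q (fr p j e), p v ∈ pc Q (fr p j e) ∧ j v ∈ pc Q (fr p j e) :=
    fun v hv => h.perp_inv hp hj he1 hv
  have hxM : ∀ v ∈ pc Q (fr p j e), x v ∈ pc Q (fr p j e) := fun v hv => by
    rw [← h.pp]; exact (hinv _ (hinv v hv).1).1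
  obtain ⟨e', heM, k1, k2⟩ := exists_vec h2 hx h.xx (pc Q (fr p j e))
    (fun u hu h => OF_pc_nondeg h2 hQ hf hu h) hxM
    ⟨v - x v, Submodule.sub_mem _ hv (hxM v hv), fun h1 => hvx (sub_eq_zero.1 h1).symm,
      by rw [map_sub, h.xx]; abel⟩
  have hf' := h.fr_OF h2 hp hj k1 k2
  have hfM : ∀ i, fr p j e' i ∈ pc Q (fr p j e) := by
    intro i
    fin_cases i
    · exact heM
    · exact (hinv _ heM).1
    · exact (hinv _ heM).2
    · exact (hinv _ (hinv _ heM).2).1
  have hF' := OF_sum hf hf' (fun i k => hfM k i)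
  obtain ⟨w, hw⟩ := hxn
  apply hw
  have h9 : w + x w = 0 := by
    refine hF'.eq_zero h2 (by rw [Fintype.card_sum, Fintype.card_fin, hd]) ?_
    intro i
    rw [polar_comm]
    refine eig_orth h2 hx (by rw [map_add, h.xx, add_comm]) ?_
    rcases i with i | i
    · exact h.fr_x he1 i
    · exact h.fr_x k1 i
  rw [eq_neg_iff_add_eq_zero, add_comm]
  exact h9

/-- isometries between spaces with full orthogonal families -/
theorem exists_iso [Fintype F] (h2 : (2 : F) ≠ 0) {V' : Type*} [AddCommGroup V'] [Module F V']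
    [FiniteDimensional F V] [FiniteDimensional F V'] {Q' : QuadraticForm F V'} {ι : Type} [Fintype ι] [DecidableEq ι]
    {d : ι → F} {f : ι → V} {f' : ι → V'} (h : OF Q d f) (h' : OF Q' d f') (hι : Fintype.card ι = finrank F V)
    (hι' : Fintype.card ι = finrank F V') :
    ∃ e : V ≃ₗ[F] V', (∀ v, Q' (e v) = Q v) ∧ ∀ i, e (f i) = f' i := by
  have b : ∀ {W : Type _} [AddCommGroup W] [Module F W] [FiniteDimensional F W] {q : QuadraticForm F W} {f : ι → W}
      (h : OF q d f) (hι : Fintype.card ι = finrank F W), Function.Bijective (h.ad h2).L := by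
    intro W _ _ _ q f h hι
    have h1 : Function.Injective (h.ad h2).L := (h.ad h2).L_injective
    exact ⟨h1, (LinearMap.injective_iff_surjective_of_finrank_eq_finrank
      (by rw [finrank_fintype_fun_eq_card, hι])).1 h1⟩
  have b' : Function.Bijective (h'.ad h2).L := by
    have h1 : Function.Injective (h'.ad h2).L := (h'.ad h2).L_injective
    exact ⟨h1, (LinearMap.injective_iff_surjective_of_finrank_eq_finrank
      (by rw [finrank_fintype_fun_eq_card, hι'])).1 h1⟩
  set E := LinearEquiv.ofBijective (h.ad h2).L (b h hι) with hE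
  set E' := LinearEquiv.ofBijective (h'.ad h2).L b' with hE'
  refine ⟨E.symm.trans E', fun v => ?_, fun i => ?_⟩
  · obtain ⟨a, rfl⟩ := E.surjective v
    rw [LinearEquiv.trans_apply, E.symm_apply_apply]
    show Q' ((h'.ad h2).L a) = Q ((h.ad h2).L a)
    rw [(h'.ad h2).nm, (h.ad h2).nm]
  · have h1 : E (Pi.single i 1) = f i := h.L_single h2 i
    rw [← h1, LinearEquiv.trans_apply, E.symm_apply_apply]
    exact h'.L_single h2 i

/-- reindexing -/
def s8 : Fin (7 + 1) → Fin 4 ⊕ Fin 4 :=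
  ![Sum.inl 0, Sum.inl 1, Sum.inl 2, Sum.inl 3, Sum.inr 0, Sum.inr 1, Sum.inr 2, Sum.inr 3]

theorem s8_inj : Function.Injective s8 := by decide

/-- the complement of a frame with values 1 in dimension 8, `-1 ∈ Ω` -/
theorem compl4 [Fintype F] (hF : Fintype.card F = 3) [FiniteDimensional F V] (hQ : Nondeg Q) (hN : Neg Q)
    (hd : finrank F V = 8) {e : Fin 4 → V} (he : OF Q (fun _ => 1) e) :
    ∃ f : Fin 4 → V, OF Q (fun _ => 1) f ∧ ∀ i k, polar Q (e i) (f k) = 0 := by
  have h2 := two_ne hF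
  have hr := finrank_pc h2 he
  have hW := nondeg_res h2 hQ he
  rw [Fintype.card_fin, hd] at hr
  obtain ⟨c, hc, f', hf'⟩ := exists_OF_one h2 hW (ι := Fin 4) (by rw [Fintype.card_fin]; omega) 0
  have hf : OF Q (fun i : Fin 4 => if i = 0 then c else 1) (fun k => (f' k : V)) :=
    ⟨fun i => hf'.nm i, hf'.ne, fun i j hij => hf'.orth i j hij⟩
  have hef : ∀ i k, polar Q (e i) ((f' k : V)) = 0 := fun i k => (f' k).2 i
  refine ⟨fun k => (f' k : V), ?_, hef⟩
  rcases Sim.cases hF c with h1 | h1 | h1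
  · exact absurd h1 hc
  · have : (fun i : Fin 4 => if i = 0 then c else (1 : F)) = fun _ => 1 := by
      funext i; rw [h1]; split_ifs <;> rfl
    rwa [this] at hf
  · exfalso
    have hs := OF_sum hf he (fun i k => by rw [polar_comm]; exact hef k i)
    have h3 := hs.comp s8 s8_inj
    have h4 : (Sum.elim (fun i : Fin 4 => if i = 0 then c else (1 : F)) (fun _ : Fin 4 => (1 : F))) ∘ s8 =
        fun i : Fin (7 + 1) => if i = 0 then (-1 : F) else 1 := by
      funext i
      rw [h1]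
      fin_cases i <;> rfl
    rw [h4] at h3
    have h5 := of_full h2 h3 (by rw [Fintype.card_fin, hd])
    have h6 : Neg (T1 F (2 * 4 - 1)) := h5.neg_iff.2 hN
    exact not_neg_T1 hF (m := 4) (by norm_num) h6

end

/-! ### The model -/

open Subgroup OrthStd
open scoped MatrixGroups commutatorElement

/-- the quaternion basis of `M₂(3)` -/
def qb : Fin 4 → MM := ![1, !![0, 1; -1, 0], !![1, 1; 1, -1], !![1, -1; -1, -1]]

theorem polar_Q (u v : OrthStd.V) : polar OrthStd.Q u v =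
    (u.1 + v.1).det + (u.2 + v.2).det - (u.1.det + u.2.det) - (v.1.det + v.2.det) := by
  rw [polar, OrthStd.Q_apply, OrthStd.Q_apply, OrthStd.Q_apply]
  rfl

/-- the standard frames -/
def sf : Fin 4 ⊕ Fin 4 → OrthStd.V := Sum.elim (fun i => (qb i, 0)) (fun i => (0, qb i))

theorem sf_OF : OF OrthStd.Q (fun _ => 1) sf := by
  refine ⟨?_, fun _ => one_ne_zero, ?_⟩
  · intro i
    rw [OrthStd.Q_apply]
    revert i
    decide +kernel
  · intro i j
    rw [polar_Q]
    revert i j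
    decide +kernel

theorem card_F : Fintype.card (ZMod 3) = 3 := by decide

theorem finrank_V : finrank (ZMod 3) OrthStd.V = 8 := by
  rw [Module.finrank_prod, Module.finrank_matrix]
  simp

theorem nondeg_Q : Nondeg OrthStd.Q := by
  intro u hu
  have h2 : (2 : ZMod 3) ≠ 0 := by decide
  exact sf_OF.eq_zero h2 (by rw [finrank_V]; rfl) fun i => by rw [polar_comm]; exact hu _

theorem neg_Q : Neg OrthStd.Q := by
  have h2 : (2 : ZMod 3) ≠ 0 := by decide
  have h1 := of_full h2 (sf_OF.comp s8 s8_inj) (by rw [finrank_V]; rfl)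
  exact h1.neg_iff.1 (neg_T0 4)

theorem sf_full : Fintype.card (Fin 4 ⊕ Fin 4) = finrank (ZMod 3) OrthStd.V := by rw [finrank_V]; rfl

theorem z0_sf_inl (i : Fin 4) : z0 (sf (Sum.inl i)) = -sf (Sum.inl i) := by
  rw [z0_apply]
  exact Prod.ext rfl neg_zero.symm

theorem z0_sf_inr (i : Fin 4) : z0 (sf (Sum.inr i)) = sf (Sum.inr i) := by
  rw [z0_apply]
  exact Prod.ext neg_zero rfl

/-- **involutions of quaternion groups** are conjugate to `z0` -/
theorem conj_z0 {x p j : OrthStd.V ≃ₗ[ZMod 3] OrthStd.V} (h : Qs x p j) (hp : p ∈ O OrthStd.Q)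
    (hj : j ∈ O OrthStd.Q) (hx1 : ∃ v, x v ≠ v) (hxn : ∃ v, x v ≠ -v) :
    ∃ g ∈ O OrthStd.Q, g * x * g⁻¹ = z0 := by
  obtain ⟨e, he1, he2, he3⟩ := h.frame card_F nondeg_Q hp hj hx1 finrank_V hxn
  have h2 : (2 : ZMod 3) ≠ 0 := by decide
  have hf := h.fr_OF h2 hp hj he1 (by rw [he2]; exact one_ne_zero)
  rw [he2] at hf
  obtain ⟨f, hf2, hef⟩ := compl4 card_F nondeg_Q neg_Q finrank_V hf
  have hs := OF_sum hf hf2 hef
  have h1 : (Sum.elim (fun _ : Fin 4 => (1 : ZMod 3)) (fun _ : Fin 4 => (1 : ZMod 3))) = fun _ => 1 := by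
    funext i; rcases i with i | i <;> rfl
  rw [h1] at hs
  obtain ⟨g, hg1, hg2⟩ := exists_iso h2 hs sf_OF sf_full sf_full
  refine ⟨g, mem_O.2 hg1, ?_⟩
  rw [mul_inv_eq_iff_eq_mul]
  have h3 : ∀ v, (x⁻¹ * g⁻¹ * z0 * g) v = v := by
    apply ext_full h2 hs sf_full
    have h4 : ∀ v, g (x v) = z0 (g v) → (x⁻¹ * g⁻¹ * z0 * g) v = v := by
      intro v hv
      show x.symm (g.symm (z0 (g v))) = v
      rw [← hv, g.symm_apply_apply, x.symm_apply_apply]
    rintro (i | i)
    · apply h4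
      show g (x (fr p j e i)) = z0 (g (Sum.elim (fr p j e) f (Sum.inl i)))
      rw [h.fr_x he1, hg2, z0_sf_inl, ← hg2 (Sum.inl i), map_neg]
      rfl
    · apply h4
      show g (x (f i)) = z0 (g (Sum.elim (fr p j e) f (Sum.inr i)))
      rw [he3 _ (fun l => hef l i), hg2, z0_sf_inr, ← hg2 (Sum.inr i)]
      rfl
  ext1 v
  have h5 : x.symm (g.symm (z0 (g v))) = v := h3 v
  show g (x v) = z0 (g v)
  rw [LinearEquiv.symm_apply_eq, LinearEquiv.symm_apply_eq] at h5
  exact h5.symm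

/-- classical subgroups -/
theorem ClA.conj {z : OrthStd.V ≃ₗ[ZMod 3] OrthStd.V} {J : Subgroup (OrthStd.V ≃ₗ[ZMod 3] OrthStd.V)}
    (h : ClA z J) {g : OrthStd.V ≃ₗ[ZMod 3] OrthStd.V} (hg : g ∈ O OrthStd.Q) :
    ClA (g * z * g⁻¹) (J.map (MulAut.conj g).toMonoidHom) := by
  have hOm : (Om OrthStd.Q).map (MulAut.conj g).toMonoidHom ≤ Om OrthStd.Q := by
    rintro _ ⟨k, hk, rfl⟩
    show g * k * g⁻¹ ∈ Om OrthStd.Q
    have h1 : g * k * g⁻¹ = ⁅g, k⁆ * k := by rw [commutatorElement_def]; group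
    rw [h1]
    exact (Om OrthStd.Q).mul_mem (commutator_mem_commutator hg (Om_le_O hk)) hk
  have hOm' : (Om OrthStd.Q ⊓ centralizer {z}).map (MulAut.conj g).toMonoidHom =
      Om OrthStd.Q ⊓ centralizer {g * z * g⁻¹} := by
    apply le_antisymm
    · rintro _ ⟨k, hk, rfl⟩
      refine mem_inf.2 ⟨hOm ⟨k, (mem_inf.1 hk).1, rfl⟩, ?_⟩
      have h1 := mem_centralizer_singleton_iff.1 (mem_inf.1 hk).2
      rw [mem_centralizer_singleton_iff]
      show g * k * g⁻¹ * (g * z * g⁻¹) = g * z * g⁻¹ * (g * k * g⁻¹)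
      calc g * k * g⁻¹ * (g * z * g⁻¹) = g * (k * z) * g⁻¹ := by group
        _ = g * (z * k) * g⁻¹ := by rw [h1]
        _ = _ := by group
    · intro k hk
      refine ⟨g⁻¹ * k * g, mem_inf.2 ⟨?_, ?_⟩, ?_⟩
      · have h1 : g⁻¹ * k * g = ⁅g⁻¹, k⁆ * k := by rw [commutatorElement_def]; group
        rw [h1]
        exact (Om OrthStd.Q).mul_mem (commutator_mem_commutator ((O OrthStd.Q).inv_mem hg)
          (Om_le_O (mem_inf.1 hk).1)) (mem_inf.1 hk).1
      · have h1 := mem_centralizer_singleton_iff.1 (mem_inf.1 hk).2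
        rw [mem_centralizer_singleton_iff]
        calc g⁻¹ * k * g * z = g⁻¹ * (k * (g * z * g⁻¹)) * g := by group
          _ = g⁻¹ * ((g * z * g⁻¹) * k) * g := by rw [h1]
          _ = _ := by group
      · show g * (g⁻¹ * k * g) * g⁻¹ = k
        group
  refine ⟨?_, ?_, ?_⟩
  · exact h.pr.mapE (MulAut.conj g)
  · exact (map_mono h.le).trans hOm
  · rw [← hOm']
    exact h.sn.map _

/-- **`J` is trivial on `V_+(z)`** -/
theorem triv_of_cl {z : OrthStd.V ≃ₗ[ZMod 3] OrthStd.V} {J : Subgroup (OrthStd.V ≃ₗ[ZMod 3] OrthStd.V)}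
    (h : ClA z J) {p j : OrthStd.V ≃ₗ[ZMod 3] OrthStd.V} (hpj : Qs z p j) (hp : p ∈ J) (hj : j ∈ J)
    (hxn : z ≠ LinearEquiv.neg (ZMod 3)) {g : OrthStd.V ≃ₗ[ZMod 3] OrthStd.V} (hg : g ∈ J) {v : OrthStd.V}
    (hv : z v = v) : g v = v := by
  obtain ⟨k, hk, hkz⟩ := conj_z0 hpj (Om_le_O (h.le hp)) (Om_le_O (h.le hj))
    (by
      by_contra hcon
      push Not at hcon
      exact h.pr.t3.z_ne (LinearEquiv.ext hcon))
    (by
      by_contra hcon
      push Not at hcon
      exact hxn (LinearEquiv.ext hcon))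
  have h1 := ClA.conj h hk
  rw [hkz] at h1
  have h3 : z0 (k v) = k v := by
    rw [← hkz]
    show k (z (k.symm (k v))) = k v
    rw [k.symm_apply_apply, hv]
  have h4 := triv h1 (mem_map_of_mem _ hg) h3
  have h5 : k (g (k.symm (k v))) = k v := h4
  rw [k.symm_apply_apply] at h5
  exact k.injective h5

end Cfsg.Agent.OddHalf.NI3.Bad.OrthEight
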