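import Cfsg.Agent.OddHalf.NI3.Bad.Sim
import Cfsg.Agent.OddHalf.NI3.TC
import Cfsg.Agent.LieClassical.OrthFourPlus

/-!
# The classical subgroups of `Ω(V)`, `V = M₂(3) ⟂ M₂(3)`, for the involution `(-1, 1)` (node NI over `F₃`, (KD), row
`PΩ₈⁺(3)`; helper100)

`F = ℤ/3`, `V = M₂(F) × M₂(F)`, `Q = det + det`, `z0 = (X, Y) ↦ (-X, Y)`.
* `LL`, `RR` : left and right multiplications by `SL₂(3)` on `M₂(F)`;
* `K1`, `K2` : the left and the right multiplications of the first component;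
* `main` : the subnormal subgroups `J ≃ SL₂(3)`, `z0 ∈ J`, of `C_{Ω(V)}(z0)` are `K1` and `K2`.
-/

set_option autoImplicit false
set_option linter.unusedSectionVars false

namespace Cfsg.Agent.OddHalf.NI3.Bad.OrthStd

open Subgroup QuadraticMap Cfsg.Agent.LieClassical.OrthCore Cfsg.Agent.LieClassical.OrthFourPlus
  Cfsg.Agent.LieClassical.OrthFourCommon Cfsg.Agent.OddHalf.NI3.Bad.Sim
open scoped MatrixGroups

abbrev F := ZMod 3

abbrev MM := Matrix (Fin 2) (Fin 2) (ZMod 3)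

abbrev V := MM × MM

instance : Finite (V ≃ₗ[F] V) := by
  have h : Function.Injective (fun g : V ≃ₗ[F] V => (g : V → V)) := DFunLike.coe_injective
  exact Finite.of_injective _ h

instance : Finite (MM ≃ₗ[F] MM) := by
  have h : Function.Injective (fun g : MM ≃ₗ[F] MM => (g : MM → MM)) := DFunLike.coe_injective
  exact Finite.of_injective _ h

/-! ### The forms -/

/-- the entry `(i, j)` -/
def ent (i j : Fin 2) : MM →ₗ[F] F where
  toFun X := X i j
  map_add' _ _ := rfl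
  map_smul' _ _ := rfl

/-- the determinant -/
def detQ : QuadraticForm F MM :=
  QuadraticMap.linMulLin (ent 0 0) (ent 1 1) - QuadraticMap.linMulLin (ent 0 1) (ent 1 0)

theorem detQ_apply (X : MM) : detQ X = X.det := by
  rw [Matrix.det_fin_two]
  rfl

/-- `det + det` -/
def Q : QuadraticForm F V := QuadraticMap.prod detQ detQ

theorem Q_apply (v : V) : Q v = v.1.det + v.2.det := by
  rw [Q, QuadraticMap.prod_apply, detQ_apply, detQ_apply]

/-! ### Pairs of linear maps -/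

/-- `(g, h)` -/
def pr : (MM ≃ₗ[F] MM) × (MM ≃ₗ[F] MM) →* (V ≃ₗ[F] V) where
  toFun p := p.1.prodCongr p.2
  map_one' := by ext1 v; rfl
  map_mul' p q := by ext1 v; rfl

theorem pr_apply (g h : MM ≃ₗ[F] MM) (v : V) : pr (g, h) v = (g v.1, h v.2) := rfl

theorem pr_injective : Function.Injective pr := by
  rintro ⟨g, h⟩ ⟨g', h'⟩ hh
  refine Prod.ext ?_ ?_
  · ext1 X
    have := congrArg (fun k : V ≃ₗ[F] V => (k (X, 0)).1) hh
    exact this
  · ext1 X
    have := congrArg (fun k : V ≃ₗ[F] V => (k (0, X)).2) hh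
    exact this

/-- `(X, Y) ↦ (-X, Y)` -/
def z0 : V ≃ₗ[F] V := pr (LinearEquiv.neg F, 1)

theorem z0_apply (v : V) : z0 v = (-v.1, v.2) := rfl

theorem ne_neg : ∀ X : MM, X = -X → X = 0 := by decide +kernel

/-- the first component of `g` -/
def fstE (g : V ≃ₗ[F] V) (hg : g * z0 = z0 * g) : MM ≃ₗ[F] MM :=
  LinearEquiv.ofLinear ((LinearMap.fst F MM MM).comp (g.toLinearMap.comp (LinearMap.inl F MM MM)))
    ((LinearMap.fst F MM MM).comp (g.symm.toLinearMap.comp (LinearMap.inl F MM MM)))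
    (by
      apply LinearMap.ext
      intro X
      show (g ((g.symm (X, 0)).1, 0)).1 = X
      have h1 : (g.symm (X, 0)).2 = 0 := by
        have h2 : z0 (g.symm (X, 0)) = -(g.symm (X, 0)) := by
          apply g.injective
          have h3 := congrArg (fun k : V ≃ₗ[F] V => k (g.symm (X, 0))) hg
          have h4 : g (z0 (g.symm (X, 0))) = z0 (g (g.symm (X, 0))) := h3
          rw [h4, map_neg, g.apply_symm_apply]
          rw [z0_apply]; simp
        exact ne_neg _ (congrArg Prod.snd h2)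
      have h5 : ((g.symm (X, 0)).1, (0 : MM)) = g.symm (X, 0) := Prod.ext rfl h1.symm
      rw [h5, g.apply_symm_apply])
    (by
      apply LinearMap.ext
      intro X
      show (g.symm ((g (X, 0)).1, 0)).1 = X
      have h1 : (g (X, 0)).2 = 0 := by
        have h3 := congrArg (fun k : V ≃ₗ[F] V => k (X, 0)) hg
        have h4 : g (z0 (X, 0)) = z0 (g (X, 0)) := h3
        have h6 : z0 ((X, 0) : V) = -(X, 0) := by rw [z0_apply]; simp
        rw [h6, map_neg] at h4
        exact ne_neg _ (congrArg Prod.snd h4.symm)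
      have h5 : ((g (X, 0)).1, (0 : MM)) = g (X, 0) := Prod.ext rfl h1.symm
      rw [h5, g.symm_apply_apply])

/-- the second component of `g` -/
def sndE (g : V ≃ₗ[F] V) (hg : g * z0 = z0 * g) : MM ≃ₗ[F] MM :=
  LinearEquiv.ofLinear ((LinearMap.snd F MM MM).comp (g.toLinearMap.comp (LinearMap.inr F MM MM)))
    ((LinearMap.snd F MM MM).comp (g.symm.toLinearMap.comp (LinearMap.inr F MM MM)))
    (by
      apply LinearMap.ext
      intro X
      show (g (0, (g.symm (0, X)).2)).2 = X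
      have h1 : (g.symm (0, X)).1 = 0 := by
        have h2 : z0 (g.symm (0, X)) = (g.symm (0, X)) := by
          apply g.injective
          have h3 := congrArg (fun k : V ≃ₗ[F] V => k (g.symm (0, X))) hg
          have h4 : g (z0 (g.symm (0, X))) = z0 (g (g.symm (0, X))) := h3
          rw [h4, g.apply_symm_apply]
          rw [z0_apply]; simp
        exact ne_neg _ (congrArg Prod.fst h2).symm
      have h5 : ((0 : MM), (g.symm (0, X)).2) = g.symm (0, X) := Prod.ext h1.symm rfl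
      rw [h5, g.apply_symm_apply])
    (by
      apply LinearMap.ext
      intro X
      show (g.symm (0, (g (0, X)).2)).2 = X
      have h1 : (g (0, X)).1 = 0 := by
        have h3 := congrArg (fun k : V ≃ₗ[F] V => k (0, X)) hg
        have h4 : g (z0 (0, X)) = z0 (g (0, X)) := h3
        have h6 : z0 ((0, X) : V) = (0, X) := by rw [z0_apply]; simp
        rw [h6] at h4
        exact ne_neg _ (congrArg Prod.fst h4)
      have h5 : ((0 : MM), (g (0, X)).2) = g (0, X) := Prod.ext h1.symm rfl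
      rw [h5, g.symm_apply_apply])

theorem fstE_apply (g : V ≃ₗ[F] V) (hg : g * z0 = z0 * g) (X : MM) : fstE g hg X = (g (X, 0)).1 := rfl

theorem sndE_apply (g : V ≃ₗ[F] V) (hg : g * z0 = z0 * g) (X : MM) : sndE g hg X = (g (0, X)).2 := rfl

theorem eq_pr (g : V ≃ₗ[F] V) (hg : g * z0 = z0 * g) : g = pr (fstE g hg, sndE g hg) := by
  ext1 v
  obtain ⟨X, Y⟩ := v
  have h1 : (g (X, 0)).2 = 0 := by
    have h3 := congrArg (fun k : V ≃ₗ[F] V => k (X, 0)) hg
    have h4 : g (z0 (X, 0)) = z0 (g (X, 0)) := h3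
    have h6 : z0 ((X, 0) : V) = -(X, 0) := by rw [z0_apply]; simp
    rw [h6, map_neg] at h4
    exact ne_neg _ (congrArg Prod.snd h4.symm)
  have h2 : (g (0, Y)).1 = 0 := by
    have h3 := congrArg (fun k : V ≃ₗ[F] V => k (0, Y)) hg
    have h4 : g (z0 (0, Y)) = z0 (g (0, Y)) := h3
    have h6 : z0 ((0, Y) : V) = (0, Y) := by rw [z0_apply]; simp
    rw [h6] at h4
    exact ne_neg _ (congrArg Prod.fst h4)
  have h3 : ((X, Y) : V) = (X, 0) + (0, Y) := by simp
  rw [pr_apply, fstE_apply, sndE_apply, h3, map_add]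
  refine Prod.ext ?_ ?_
  · show (g (X, 0)).1 + (g (0, Y)).1 = (g (X + 0, 0)).1
    rw [h2, add_zero, add_zero]
  · show (g (X, 0)).2 + (g (0, Y)).2 = (g (0, 0 + Y)).2
    rw [h1, zero_add, zero_add]

theorem fst_mem {g : V ≃ₗ[F] V} (hg : g * z0 = z0 * g) (hO : g ∈ O Q) : fstE g hg ∈ isom (dt F) := by
  intro X
  have h1 := hO (X, 0)
  rw [eq_pr g hg, pr_apply, Q_apply, Q_apply] at h1
  have h2 : (sndE g hg) (0 : MM) = 0 := map_zero _
  simp only [h2] at h1
  simpa using h1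

theorem snd_mem {g : V ≃ₗ[F] V} (hg : g * z0 = z0 * g) (hO : g ∈ O Q) : sndE g hg ∈ isom (dt F) := by
  intro X
  have h1 := hO (0, X)
  rw [eq_pr g hg, pr_apply, Q_apply, Q_apply] at h1
  have h2 : (fstE g hg) (0 : MM) = 0 := map_zero _
  simp only [h2] at h1
  simpa using h1

theorem pr_mem {g h : MM ≃ₗ[F] MM} (hg : g ∈ isom (dt F)) (hh : h ∈ isom (dt F)) : pr (g, h) ∈ O Q := by
  intro v
  rw [pr_apply, Q_apply, Q_apply]
  have h1 := hg v.1
  have h2 := hh v.2
  simp only [dt] at h1 h2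
  rw [h1, h2]

theorem pr_comm_z0 (g h : MM ≃ₗ[F] MM) : pr (g, h) * z0 = z0 * pr (g, h) := by
  ext1 v
  show pr (g, h) (z0 v) = z0 (pr (g, h) v)
  rw [z0_apply, pr_apply, pr_apply, z0_apply, map_neg]

/-! ### Elements of order 3 -/

theorem tau_sq : (tau (F := F)) * tau = 1 := by
  refine Subtype.ext (LinearEquiv.ext fun X => ?_)
  show X.adjugate.adjugate = X
  rw [Matrix.adjugate_adjugate']
  simp

theorem cube_psi {g : MM ≃ₗ[F] MM} (hg : g ∈ isom (dt F)) (h3 : g * g * g = 1) :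
    ∃ p : Gam F, g = (psi p : isom (dt F)) := by
  set g' : isom (dt F) := ⟨g, hg⟩ with hg'
  have h3' : g' * g' * g' = 1 := Subtype.ext h3
  have key : ∀ k : isom (dt F), ∃ p : Gam F, k * k = psi p := by
    intro k
    obtain ⟨p, hp | hp⟩ := exists_eq k
    · exact ⟨p * p, by rw [hp, map_mul]⟩
    · refine ⟨p * sw p, ?_⟩
      rw [hp, map_mul, ← tau_conj]
      calc psi p * tau * (psi p * tau) = psi p * (tau * psi p * tau⁻¹) * (tau * tau) := by group
        _ = psi p * (tau * psi p * tau⁻¹) := by rw [tau_sq, mul_one]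
  obtain ⟨p, hp⟩ := key (g' * g')
  refine ⟨p, ?_⟩
  have h4 : g' = psi p := by
    rw [← hp]
    calc g' = g' * (g' * g' * g') := by rw [h3', mul_one]
      _ = g' * g' * (g' * g') := by group
  exact congrArg Subtype.val h4

/-! ### Left and right multiplications -/

/-- left multiplication -/
noncomputable def LL : SL23 →* (MM ≃ₗ[F] MM) where
  toFun a := (phi (F := F) (a, 1) : isom (dt F))
  map_one' := by
    have : ((1 : SL23), (1 : SL23)) = 1 := rfl
    rw [this, map_one]; rfl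
  map_mul' a b := by
    have : ((a * b, 1) : SL(2, F) × SL(2, F)) = (a, 1) * (b, 1) := by rw [Prod.mk_mul_mk, mul_one]
    rw [this, map_mul]; rfl

/-- right multiplication -/
noncomputable def RR : SL23 →* (MM ≃ₗ[F] MM) where
  toFun a := (phi (F := F) (1, a) : isom (dt F))
  map_one' := by
    have : ((1 : SL23), (1 : SL23)) = 1 := rfl
    rw [this, map_one]; rfl
  map_mul' a b := by
    have : ((1, a * b) : SL(2, F) × SL(2, F)) = (1, a) * (1, b) := by rw [Prod.mk_mul_mk, mul_one]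
    rw [this, map_mul]; rfl

theorem LL_apply (a : SL23) (X : MM) : LL a X = (a : MM) * X := by
  show (a : MM) * X * _ = _
  have : (((((1 : SL23)).toGL : GL (Fin 2) F)⁻¹ : GL (Fin 2) F) : MM) = 1 := by
    rw [map_one, inv_one]; rfl
  show (a : MM) * X * (((((1 : SL23)).toGL : GL (Fin 2) F)⁻¹ : GL (Fin 2) F) : MM) = _
  rw [this, mul_one]

theorem RR_apply (a : SL23) (X : MM) : RR a X = X * ((a⁻¹ : SL23) : MM) := by
  show (((1 : SL23) : MM)) * X * (((a.toGL : GL (Fin 2) F)⁻¹ : GL (Fin 2) F) : MM) = _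
  have h1 : (((a.toGL : GL (Fin 2) F)⁻¹ : GL (Fin 2) F) : MM) = ((a⁻¹ : SL23) : MM) := by
    rw [← map_inv]; rfl
  rw [h1, Matrix.SpecialLinearGroup.coe_one, one_mul]

theorem LL_mem (a : SL23) : LL a ∈ isom (dt F) := (phi (F := F) (a, 1)).2

theorem RR_mem (a : SL23) : RR a ∈ isom (dt F) := (phi (F := F) (1, a)).2

theorem LL_injective : Function.Injective LL := by
  intro a b h
  have h1 := congrArg (fun k : MM ≃ₗ[F] MM => k 1) h
  simp only [LL_apply, mul_one] at h1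
  exact Subtype.ext h1

theorem RR_injective : Function.Injective RR := by
  intro a b h
  have h1 := congrArg (fun k : MM ≃ₗ[F] MM => k 1) h
  simp only [RR_apply, one_mul] at h1
  exact inv_injective (Subtype.ext h1)

/-- the quaternion group `O₂(SL₂(3))` -/
def Q8 : Subgroup SL23 where
  carrier := {q | q * q = 1 ∨ q * q = -1}
  mul_mem' {a b} := by
    revert a b
    show ∀ a b : SL23, (a * a = 1 ∨ a * a = -1) → (b * b = 1 ∨ b * b = -1) → (a * b * (a * b) = 1 ∨ a * b * (a * b) = -1)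
    decide +kernel
  one_mem' := Or.inl (one_mul 1)
  inv_mem' {a} := by
    revert a
    show ∀ a : SL23, (a * a = 1 ∨ a * a = -1) → (a⁻¹ * a⁻¹ = 1 ∨ a⁻¹ * a⁻¹ = -1)
    decide +kernel

theorem mem_Q8 {q : SL23} : q ∈ Q8 ↔ q * q = 1 ∨ q * q = -1 := Iff.rfl

theorem Q8_pow {q : SL23} (hq : q ∈ Q8) : q ^ 2 ^ 2 = 1 := by
  have h : (q * q) * (q * q) = 1 := by
    rcases hq with h | h <;> rw [h]
    · exact one_mul 1
    · decide +kernel
  have h2 : q ^ 2 ^ 2 = (q * q) * (q * q) := by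
    have h3 : (2 : ℕ) ^ 2 = 4 := rfl
    rw [h3]
    simp only [pow_succ, pow_zero, one_mul, mul_assoc]
  rw [h2, h]

set_option maxRecDepth 100000 in
theorem Q8_comm : ∀ q : SL23, (q * q = 1 ∨ q * q = -1) → ∃ a b : SL23, q = a * b * a⁻¹ * b⁻¹ := by
  decide +kernel

/-! ### The four factors -/

/-- left multiplications of the first component -/
noncomputable def k1 : SL23 →* (V ≃ₗ[F] V) := pr.comp ((MonoidHom.inl _ _).comp LL)
/-- right multiplications of the first component -/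
noncomputable def k2 : SL23 →* (V ≃ₗ[F] V) := pr.comp ((MonoidHom.inl _ _).comp RR)
/-- left multiplications of the second component -/
noncomputable def k3 : SL23 →* (V ≃ₗ[F] V) := pr.comp ((MonoidHom.inr _ _).comp LL)
/-- right multiplications of the second component -/
noncomputable def k4 : SL23 →* (V ≃ₗ[F] V) := pr.comp ((MonoidHom.inr _ _).comp RR)

theorem k1_def (a : SL23) : k1 a = pr (LL a, 1) := rfl
theorem k2_def (a : SL23) : k2 a = pr (RR a, 1) := rfl
theorem k3_def (a : SL23) : k3 a = pr (1, LL a) := rfl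
theorem k4_def (a : SL23) : k4 a = pr (1, RR a) := rfl

theorem k1_injective : Function.Injective k1 := fun a b h => LL_injective (congrArg Prod.fst (pr_injective h))
theorem k2_injective : Function.Injective k2 := fun a b h => RR_injective (congrArg Prod.fst (pr_injective h))
theorem k3_injective : Function.Injective k3 := fun a b h => LL_injective (congrArg Prod.snd (pr_injective h))
theorem k4_injective : Function.Injective k4 := fun a b h => RR_injective (congrArg Prod.snd (pr_injective h))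

theorem one_mem_isom : (1 : MM ≃ₗ[F] MM) ∈ isom (dt F) := one_mem _

theorem k1_mem_O (a : SL23) : k1 a ∈ O Q := pr_mem (LL_mem a) one_mem_isom
theorem k2_mem_O (a : SL23) : k2 a ∈ O Q := pr_mem (RR_mem a) one_mem_isom
theorem k3_mem_O (a : SL23) : k3 a ∈ O Q := pr_mem one_mem_isom (LL_mem a)
theorem k4_mem_O (a : SL23) : k4 a ∈ O Q := pr_mem one_mem_isom (RR_mem a)

/-- the quaternion groups lie in `Ω(V)` -/
theorem mem_Om_of_Q8 {k : SL23 →* (V ≃ₗ[F] V)} (hk : ∀ a, k a ∈ O Q) {q : SL23} (hq : q ∈ Q8) : k q ∈ Om Q := by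
  obtain ⟨a, b, rfl⟩ := Q8_comm q hq
  rw [map_mul, map_mul, map_mul, map_inv, map_inv]
  exact commutator_mem_commutator (hk a) (hk b)

theorem isPGroup_map (k : SL23 →* (V ≃ₗ[F] V)) : IsPGroup 2 (Q8.map k) := by
  have h : IsPGroup 2 Q8 := fun q => ⟨2, Subtype.ext (Q8_pow q.2)⟩
  exact h.map k

/-- conjugation of `Q8` by matrices -/
theorem Q8_conj : ∀ A B : MM, A * B = 1 → B * A = 1 → ∀ q : SL23, (q * q = 1 ∨ q * q = -1) →
    ∃ r : SL23, (r * r = 1 ∨ r * r = -1) ∧ A * (q : MM) * B = r := by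
  intro A B h1 h2 q hq
  have hd : (A * (q : MM) * B).det = 1 := by
    rw [Matrix.det_mul, Matrix.det_mul, q.2, mul_one, ← Matrix.det_mul, h1, Matrix.det_one]
  obtain ⟨r, hr⟩ : ∃ r : SL23, (r : MM) = A * (q : MM) * B := ⟨⟨A * (q : MM) * B, hd⟩, rfl⟩
  refine ⟨r, ?_, hr.symm⟩
  have h3 : ∀ c : SL23, (c : MM) = A * ((q * q : SL23) : MM) * B → r * r = c := by
    intro c hc
    apply Subtype.ext
    rw [Matrix.SpecialLinearGroup.coe_mul, hr]
    rw [hc, Matrix.SpecialLinearGroup.coe_mul]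
    calc (A * (q : MM) * B) * (A * (q : MM) * B) = A * (q : MM) * (B * A) * (q : MM) * B := by noncomm_ring
      _ = A * ((q : MM) * q) * B := by rw [h2]; noncomm_ring
  rcases hq with hq | hq
  · left
    apply h3
    rw [hq, Matrix.SpecialLinearGroup.coe_one, mul_one, h1]
  · right
    apply h3
    rw [hq, Matrix.SpecialLinearGroup.coe_neg, Matrix.SpecialLinearGroup.coe_one]
    rw [mul_neg, mul_one, neg_mul, h1]

theorem psi_coe_apply (p : Gam F) (X : MM) : (psi p : isom (dt F)).1 X =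
    (p.1.1 : MM) * X * ((p.1.2⁻¹ : GL (Fin 2) F) : MM) := rfl

theorem conj_LL (p : Gam F) {q : SL23} (hq : q ∈ Q8) :
    ∃ r ∈ Q8, (psi p : isom (dt F)).1 * LL q * ((psi p : isom (dt F)).1)⁻¹ = LL r := by
  obtain ⟨r, hr, hr'⟩ := Q8_conj (p.1.1 : MM) ((p.1.1⁻¹ : GL (Fin 2) F) : MM) (Units.mul_inv _) (Units.inv_mul _) q hq
  refine ⟨r, hr, ?_⟩
  rw [mul_inv_eq_iff_eq_mul]
  ext1 X
  show (psi p : isom (dt F)).1 (LL q X) = LL r ((psi p : isom (dt F)).1 X)
  rw [LL_apply, LL_apply, psi_coe_apply, psi_coe_apply, ← hr']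
  calc (p.1.1 : MM) * ((q : MM) * X) * ((p.1.2⁻¹ : GL (Fin 2) F) : MM)
      = (p.1.1 : MM) * (q : MM) * 1 * X * ((p.1.2⁻¹ : GL (Fin 2) F) : MM) := by noncomm_ring
    _ = (p.1.1 : MM) * (q : MM) * (((p.1.1⁻¹ : GL (Fin 2) F) : MM) * (p.1.1 : MM)) * X *
        ((p.1.2⁻¹ : GL (Fin 2) F) : MM) := by rw [Units.inv_mul]
    _ = _ := by noncomm_ring

theorem conj_RR (p : Gam F) {q : SL23} (hq : q ∈ Q8) :
    ∃ r ∈ Q8, (psi p : isom (dt F)).1 * RR q * ((psi p : isom (dt F)).1)⁻¹ = RR r := by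
  obtain ⟨r, hr, hr'⟩ := Q8_conj (p.1.2 : MM) ((p.1.2⁻¹ : GL (Fin 2) F) : MM) (Units.mul_inv _) (Units.inv_mul _) q⁻¹
    (Q8.inv_mem hq)
  refine ⟨r⁻¹, Q8.inv_mem hr, ?_⟩
  rw [mul_inv_eq_iff_eq_mul]
  ext1 X
  show (psi p : isom (dt F)).1 (RR q X) = RR r⁻¹ ((psi p : isom (dt F)).1 X)
  rw [RR_apply, RR_apply, psi_coe_apply, psi_coe_apply, inv_inv, ← hr']
  calc (p.1.1 : MM) * (X * ((q⁻¹ : SL23) : MM)) * ((p.1.2⁻¹ : GL (Fin 2) F) : MM)
      = (p.1.1 : MM) * X * 1 * ((q⁻¹ : SL23) : MM) * ((p.1.2⁻¹ : GL (Fin 2) F) : MM) := by noncomm_ring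
    _ = (p.1.1 : MM) * X * (((p.1.2⁻¹ : GL (Fin 2) F) : MM) * (p.1.2 : MM)) * ((q⁻¹ : SL23) : MM) *
        ((p.1.2⁻¹ : GL (Fin 2) F) : MM) := by rw [Units.inv_mul]
    _ = _ := by noncomm_ring

/-! ### Linear maps commuting with multiplications -/

def ii : SL23 := ⟨!![0, 1; -1, 0], by decide +kernel⟩
def jj : SL23 := ⟨!![1, 1; 1, -1], by decide +kernel⟩

theorem ii_mem : ii ∈ Q8 := Or.inr (by decide +kernel)
theorem jj_mem : jj ∈ Q8 := Or.inr (by decide +kernel)

theorem coord : ∀ X : MM, X = (-(X 0 0 + X 1 1)) • (1 : MM) + (X 1 0 - X 0 1) • (ii : MM) +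
    (X 0 0 - X 1 1 + X 0 1 + X 1 0) • (jj : MM) + (X 0 0 - X 1 1 - X 0 1 - X 1 0) • ((ii : MM) * (jj : MM)) := by
  decide +kernel

theorem left_comm (f : MM ≃ₗ[F] MM) (hi : f * LL ii = LL ii * f) (hj : f * LL jj = LL jj * f) (X : MM) :
    f X = X * f 1 := by
  have hi' : ∀ X, f ((ii : MM) * X) = (ii : MM) * f X := fun X => by
    have := congrArg (fun k : MM ≃ₗ[F] MM => k X) hi
    have h2 : f (LL ii X) = LL ii (f X) := this
    rwa [LL_apply, LL_apply] at h2
  have hj' : ∀ X, f ((jj : MM) * X) = (jj : MM) * f X := fun X => by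
    have := congrArg (fun k : MM ≃ₗ[F] MM => k X) hj
    have h2 : f (LL jj X) = LL jj (f X) := this
    rwa [LL_apply, LL_apply] at h2
  have h1 : f (ii : MM) = (ii : MM) * f 1 := by rw [← hi', mul_one]
  have h2 : f (jj : MM) = (jj : MM) * f 1 := by rw [← hj', mul_one]
  have h3 : f ((ii : MM) * (jj : MM)) = (ii : MM) * (jj : MM) * f 1 := by rw [hi', h2, mul_assoc]
  conv_lhs => rw [coord X]
  conv_rhs => rw [coord X]
  rw [map_add, map_add, map_add, map_smul, map_smul, map_smul, map_smul, h1, h2, h3]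
  simp only [add_mul, smul_mul_assoc, one_mul]

theorem right_comm (f : MM ≃ₗ[F] MM) (hi : f * RR ii = RR ii * f) (hj : f * RR jj = RR jj * f) (X : MM) :
    f X = f 1 * X := by
  have inv_i : ((ii⁻¹ : SL23) : MM) = -(ii : MM) := by decide +kernel
  have inv_j : ((jj⁻¹ : SL23) : MM) = -(jj : MM) := by decide +kernel
  have hi' : ∀ X, f (X * (ii : MM)) = f X * (ii : MM) := fun X => by
    have := congrArg (fun k : MM ≃ₗ[F] MM => k X) hi
    have h2 : f (RR ii X) = RR ii (f X) := this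
    rw [RR_apply, RR_apply, inv_i, mul_neg, mul_neg, map_neg] at h2
    exact neg_inj.1 h2
  have hj' : ∀ X, f (X * (jj : MM)) = f X * (jj : MM) := fun X => by
    have := congrArg (fun k : MM ≃ₗ[F] MM => k X) hj
    have h2 : f (RR jj X) = RR jj (f X) := this
    rw [RR_apply, RR_apply, inv_j, mul_neg, mul_neg, map_neg] at h2
    exact neg_inj.1 h2
  have h1 : f (ii : MM) = f 1 * (ii : MM) := by rw [← hi', one_mul]
  have h2 : f (jj : MM) = f 1 * (jj : MM) := by rw [← hj', one_mul]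
  have h3 : f ((ii : MM) * (jj : MM)) = f 1 * ((ii : MM) * (jj : MM)) := by rw [hj', h1, mul_assoc]
  conv_lhs => rw [coord X]
  conv_rhs => rw [coord X]
  rw [map_add, map_add, map_add, map_smul, map_smul, map_smul, map_smul, h1, h2, h3]
  simp only [mul_add, mul_smul_comm, mul_one]

theorem scalar_cube : ∀ s : MM, (∀ X : MM, X * s = s * X) → s * s * s = 1 → s = 1 := by
  have h : ∀ s : MM, (ii : MM) * s = s * (ii : MM) → (jj : MM) * s = s * (jj : MM) → s * s * s = 1 → s = 1 := by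
    decide +kernel
  exact fun s hs h3 => h s (hs _) (hs _) h3

theorem eq_one_of_comm (f : MM ≃ₗ[F] MM) (hi : f * LL ii = LL ii * f) (hj : f * LL jj = LL jj * f)
    (hi' : f * RR ii = RR ii * f) (hj' : f * RR jj = RR jj * f) (h3 : f * f * f = 1) : f = 1 := by
  have h1 := left_comm f hi hj
  have h2 := right_comm f hi' hj'
  have h4 : ∀ X : MM, X * f 1 = f 1 * X := fun X => by rw [← h1, ← h2]
  have h5 : f 1 * f 1 * f 1 = 1 := by
    have h6 := congrArg (fun k : MM ≃ₗ[F] MM => k 1) h3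
    have h7 : f (f (f 1)) = 1 := h6
    rw [h1 (f (f 1)), h1 (f 1)] at h7
    exact h7
  have h6 := scalar_cube _ h4 h5
  ext1 X
  rw [h1, h6, mul_one]; rfl

/-! ### The main lemma -/

/-- classical pairs of `Ω(V)`, in `GL(V)` -/
structure ClA (z : V ≃ₗ[F] V) (J : Subgroup (V ≃ₗ[F] V)) : Prop where
  pr : IsPr J z
  le : J ≤ Om Q
  sn : Sn J (Om Q ⊓ centralizer {z})

theorem Om_le_O : Om Q ≤ O Q := commutator_le_self _

section

variable {J : Subgroup (V ≃ₗ[F] V)} (h : ClA z0 J)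

include h

theorem comm_z0 {d : V ≃ₗ[F] V} (hd : d ∈ J) : d * z0 = z0 * d := h.pr.comm_z hd

/-- the elements of order 3 of `J` -/
theorem exists_psi {d : V ≃ₗ[F] V} (hd : d ∈ J) (h3 : d * d * d = 1) :
    ∃ p p' : Gam F, d = OrthStd.pr ((psi p : isom (dt F)).1, (psi p' : isom (dt F)).1) := by
  have hc := comm_z0 h hd
  have hO : d ∈ O Q := Om_le_O (h.le hd)
  have e := eq_pr d hc
  rw [e] at h3
  rw [← map_mul, ← map_mul, ← map_one OrthStd.pr] at h3
  have h4 := pr_injective h3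
  obtain ⟨p, hp⟩ := cube_psi (fst_mem hc hO) (congrArg Prod.fst h4)
  obtain ⟨p', hp'⟩ := cube_psi (snd_mem hc hO) (congrArg Prod.snd h4)
  exact ⟨p, p', by rw [e, hp, hp']⟩

/-- `J` normalises the four quaternion groups -/
theorem le_normalizer {k : SL23 →* (V ≃ₗ[F] V)}
    (hk : ∀ p p' : Gam F, ∀ q ∈ Q8, ∃ r ∈ Q8,
      OrthStd.pr ((psi p : isom (dt F)).1, (psi p' : isom (dt F)).1) * k q *
        (OrthStd.pr ((psi p : isom (dt F)).1, (psi p' : isom (dt F)).1))⁻¹ = k r) :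
    J ≤ normalizer (Q8.map k : Set (V ≃ₗ[F] V)) := by
  refine h.pr.le_of_cube fun d hd h3 => ?_
  have key : ∀ d ∈ J, d * d * d = 1 → ∀ x ∈ Q8.map k, d * x * d⁻¹ ∈ Q8.map k := by
    rintro d hd h3 _ ⟨q, hq, rfl⟩
    obtain ⟨p, p', rfl⟩ := exists_psi h hd h3
    obtain ⟨r, hr, hr'⟩ := hk p p' q hq
    exact ⟨r, hr, hr'.symm⟩
  rw [mem_normalizer_iff]
  intro x
  refine ⟨key d hd h3 x, fun hx => ?_⟩
  have h4 : d⁻¹ * d⁻¹ * d⁻¹ = 1 := by
    have : d⁻¹ * d⁻¹ * d⁻¹ = (d * d * d)⁻¹ := by group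
    rw [this, h3, inv_one]
  have h5 := key d⁻¹ (inv_mem hd) h4 _ hx
  have h6 : d⁻¹ * (d * x * d⁻¹) * d⁻¹⁻¹ = x := by group
  rwa [h6] at h5

/-- either `J` meets the quaternion group or the elements of order 3 centralise it -/
theorem dich {k : SL23 →* (V ≃ₗ[F] V)} (hkO : ∀ a, k a ∈ O Q) (hkz : ∀ a, k a * z0 = z0 * k a)
    (hk : ∀ p p' : Gam F, ∀ q ∈ Q8, ∃ r ∈ Q8,
      OrthStd.pr ((psi p : isom (dt F)).1, (psi p' : isom (dt F)).1) * k q *
        (OrthStd.pr ((psi p : isom (dt F)).1, (psi p' : isom (dt F)).1))⁻¹ = k r) :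
    (∀ y ∈ J, y * y = z0 → y ∈ Q8.map k) ∨ ∀ d ∈ J, d * d * d = 1 → ∀ q ∈ Q8, d * k q = k q * d := by
  by_cases hc : ∀ y ∈ J, y * y = z0 → y ∈ Q8.map k
  · exact Or.inl hc
  · right
    intro d hd h3 q hq
    refine T3.comm_of_sn h.pr.t3 h.sn ?_ (isPGroup_map k) (le_normalizer h hk) hc hd h3 ⟨q, hq, rfl⟩
    rintro _ ⟨q, hq, rfl⟩
    exact mem_inf.2 ⟨mem_Om_of_Q8 hkO hq, mem_centralizer_singleton_iff.2 (hkz q)⟩

theorem exists_four : ∃ y ∈ J, y * y = z0 := by
  obtain ⟨i, j, d, hl⟩ := h.pr.sl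
  exact ⟨i, hl.hi, hl.q.i2⟩

end

theorem conj3 (p p' : Gam F) (q : SL23) (hq : q ∈ Q8) : ∃ r ∈ Q8,
    pr ((psi p : isom (dt F)).1, (psi p' : isom (dt F)).1) * k3 q *
      (pr ((psi p : isom (dt F)).1, (psi p' : isom (dt F)).1))⁻¹ = k3 r := by
  obtain ⟨r, hr, hr'⟩ := conj_LL p' hq
  refine ⟨r, hr, ?_⟩
  rw [k3_def, k3_def, ← map_mul, ← map_inv, ← map_mul, ← hr']
  congr 1
  refine Prod.ext ?_ rfl
  show (psi p : isom (dt F)).1 * 1 * ((psi p : isom (dt F)).1)⁻¹ = 1
  group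

theorem conj4 (p p' : Gam F) (q : SL23) (hq : q ∈ Q8) : ∃ r ∈ Q8,
    pr ((psi p : isom (dt F)).1, (psi p' : isom (dt F)).1) * k4 q *
      (pr ((psi p : isom (dt F)).1, (psi p' : isom (dt F)).1))⁻¹ = k4 r := by
  obtain ⟨r, hr, hr'⟩ := conj_RR p' hq
  refine ⟨r, hr, ?_⟩
  rw [k4_def, k4_def, ← map_mul, ← map_inv, ← map_mul, ← hr']
  congr 1
  refine Prod.ext ?_ rfl
  show (psi p : isom (dt F)).1 * 1 * ((psi p : isom (dt F)).1)⁻¹ = 1
  group

theorem neg_ne_one : (LinearEquiv.neg F : MM ≃ₗ[F] MM) ≠ 1 := by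
  intro h
  have h1 : -(1 : MM) = 1 := congrArg (fun k : MM ≃ₗ[F] MM => k 1) h
  exact absurd h1 (by decide +kernel)

/-- **a classical `J` is trivial on `V_+(z0)`** -/
theorem triv {J : Subgroup (V ≃ₗ[F] V)} (h : ClA z0 J) {g : V ≃ₗ[F] V} (hg : g ∈ J) {v : V} (hv : z0 v = v) :
    g v = v := by
  obtain ⟨y, hy, hyy⟩ := exists_four h
  have c3 : ∀ d ∈ J, d * d * d = 1 → ∀ q ∈ Q8, d * k3 q = k3 q * d := by
    rcases dich h k3_mem_O (fun a => pr_comm_z0 _ _) conj3 with h1 | h1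
    · exfalso
      obtain ⟨q, hq, hq'⟩ := h1 y hy hyy
      rw [← hq', ← map_mul, k3_def] at hyy
      exact neg_ne_one (congrArg Prod.fst (pr_injective hyy)).symm
    · exact h1
  have c4 : ∀ d ∈ J, d * d * d = 1 → ∀ q ∈ Q8, d * k4 q = k4 q * d := by
    rcases dich h k4_mem_O (fun a => pr_comm_z0 _ _) conj4 with h1 | h1
    · exfalso
      obtain ⟨q, hq, hq'⟩ := h1 y hy hyy
      rw [← hq', ← map_mul, k4_def] at hyy
      exact neg_ne_one (congrArg Prod.fst (pr_injective hyy)).symm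
    · exact h1
  let S : Subgroup (V ≃ₗ[F] V) :=
    { carrier := {g | ∀ v, z0 v = v → g v = v}
      mul_mem' := fun {a b} ha hb v hv => by
        show a (b v) = v
        rw [hb v hv, ha v hv]
      one_mem' := fun _ _ => rfl
      inv_mem' := fun {a} ha v hv => by
        show a.symm v = v
        rw [LinearEquiv.symm_apply_eq, ha v hv] }
  have h1 : J ≤ S := by
    apply h.pr.le_of_cube
    intro d hd hd3 v hv
    obtain ⟨p, p', rfl⟩ := exists_psi h hd hd3
    have e3 : ∀ q ∈ Q8, (psi p' : isom (dt F)).1 * LL q = LL q * (psi p' : isom (dt F)).1 := by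
      intro q hq
      have h2 := c3 _ hd hd3 q hq
      rw [k3_def, ← map_mul, ← map_mul] at h2
      exact congrArg Prod.snd (pr_injective h2)
    have e4 : ∀ q ∈ Q8, (psi p' : isom (dt F)).1 * RR q = RR q * (psi p' : isom (dt F)).1 := by
      intro q hq
      have h2 := c4 _ hd hd3 q hq
      rw [k4_def, ← map_mul, ← map_mul] at h2
      exact congrArg Prod.snd (pr_injective h2)
    have h5 : (psi p' : isom (dt F)).1 * (psi p' : isom (dt F)).1 * (psi p' : isom (dt F)).1 = 1 := by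
      rw [← map_mul, ← map_mul, ← map_one OrthStd.pr] at hd3
      exact congrArg Prod.snd (pr_injective hd3)
    have h6 := eq_one_of_comm _ (e3 ii ii_mem) (e3 jj jj_mem) (e4 ii ii_mem) (e4 jj jj_mem) h5
    rw [pr_apply, h6]
    have h7 : v.1 = 0 := ne_neg _ (congrArg Prod.fst hv).symm
    refine Prod.ext ?_ rfl
    show (psi p : isom (dt F)).1 v.1 = v.1
    rw [h7, map_zero]
  exact h1 hg v hv

end Cfsg.Agent.OddHalf.NI3.Bad.OrthStd
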