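import Cfsg.Agent.OddHalf.NI3.Bad.Inner
import Cfsg.Agent.Lib.ProductSet

/-!
# THEOREM NIB, K-free tools: the pair lemma (helper598)

`pair` : `S` a normal 2-subgroup of the finite group `H`, `J = Q⟨v⟩`, `J' = Q'⟨v'⟩ ≅ SL₂(3)` with the same involution,
`Q, Q' ≤ S`, `[S, v] ≤ Q`, `[S, v'] ≤ Q'`, `J` subnormal in `H`. Then `Q = Q'` or `v'` centralises `Q`.
-/

set_option autoImplicit false
set_option linter.unusedSimpArgs false

namespace Cfsg.Agent.OddHalf.NI3.Bad

open Subgroup Cfsg Cfsg.Agent.Cit Cfsg.Agent.Cit.SLThree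
open scoped Pointwise

variable {H : Type*} [Group H]

/-- `v x v⁻¹ = z x` is impossible -/
theorem ne_z_mul {J : Subgroup H} {z i j v : H} (h : Sl J z i j v) {x : H} (hx : v * x * v⁻¹ = z * x) : False := by
  have dz : v * z * v⁻¹ = z := by rw [h.dz]; group
  have h3 : v * v * v = 1 := h.d3
  have h5 : x = z * x := by
    calc x = (v * v * v) * x * (v * v * v)⁻¹ := by rw [h3]; group
      _ = v * (v * (v * x * v⁻¹) * v⁻¹) * v⁻¹ := by group
      _ = v * (v * (z * x) * v⁻¹) * v⁻¹ := by rw [hx]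
      _ = v * ((v * z * v⁻¹) * (v * x * v⁻¹)) * v⁻¹ := by group
      _ = v * (z * (z * x)) * v⁻¹ := by rw [dz, hx]
      _ = v * x * v⁻¹ := by rw [h.q.zz]
      _ = z * x := hx
  exact h.q.z1 (mul_right_cancel (b := x) (by rw [one_mul]; exact h5.symm))

/-- `S` normalises `Q` -/
theorem le_normalizer_Q {J S : Subgroup H} {z i j v : H} (h : Sl J z i j v) (hS : IsPGroup 2 S)
    (hQ : closure ({i, j} : Set H) ≤ S) (hB : Br S i j v) : S ≤ normalizer (closure ({i, j} : Set H) : Set H) := by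
  have key : ∀ s ∈ S, ∀ q ∈ closure ({i, j} : Set H), s * q * s⁻¹ ∈ closure ({i, j} : Set H) := by
    intro s hs q hq
    rcases inner h hS hQ hB hs hq with h1 | h1
    · rw [h1]; exact hq
    · rw [h1]; exact mul_mem h.q.mem_z hq
  intro s hs
  rw [mem_normalizer_iff]
  intro q
  refine ⟨fun hq => key s hs q hq, fun hq => ?_⟩
  have h1 := key s⁻¹ (inv_mem hs) _ hq
  have e : s⁻¹ * (s * q * s⁻¹) * s⁻¹⁻¹ = q := by group
  rwa [e] at h1

theorem v_mem_normalizer_Q {J : Subgroup H} {z i j v : H} (h : Sl J z i j v) :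
    v ∈ normalizer (closure ({i, j} : Set H) : Set H) := by
  rw [mem_normalizer_iff]
  intro q
  refine ⟨fun hq => h.conj_mem hq, fun hq => ?_⟩
  have h1 := h.conj_mem (h.conj_mem hq)
  have h4 : v * v = v⁻¹ := h.d_inv.symm
  have h3 : v * v * v = 1 := h.d3
  have e : v * (v * (v * q * v⁻¹) * v⁻¹) * v⁻¹ = q := by
    calc v * (v * (v * q * v⁻¹) * v⁻¹) * v⁻¹ = (v * v * v) * q * (v * v * v)⁻¹ := by group
      _ = q := by rw [h3]; group
  rwa [e] at h1

/-- a subgroup of order eight normalised by `J`, contained in `S` -/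
theorem eq_or_comm [Finite H] {J S : Subgroup H} {z i j v : H} (h : Sl J z i j v) (hB : Br S i j v)
    {R : Subgroup H} (hR : R ≤ S) (hn : J ≤ normalizer (R : Set H)) (hc : Nat.card R = 8) :
    closure ({i, j} : Set H) = R ∨ ∀ x ∈ R, v * x = x * v := by
  by_cases hall : ∀ x ∈ R, v * x * v⁻¹ * x⁻¹ = 1 ∨ v * x * v⁻¹ * x⁻¹ = z
  · right
    intro x hx
    rcases hall x hx with h1 | h1
    · exact mul_inv_eq_iff_eq_mul.1 (mul_inv_eq_one.1 h1)
    · exact (ne_z_mul h (mul_inv_eq_iff_eq_mul.1 h1)).elim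
  · left
    push Not at hall
    obtain ⟨x, hx, h1, h2⟩ := hall
    have h3 := hB x (hR hx)
    have h4 : v * x * v⁻¹ * x⁻¹ ∈ R := mul_mem ((mem_normalizer_iff.1 (hn h.hd) x).1 hx) (inv_mem hx)
    refine eq_of_le_of_card_ge (h.normal_gen hn h4 (h.Qle h3) h1 h2) ?_
    rw [hc, h.q.card]

theorem mem_cj_iff_normalizer {Q : Subgroup H} {v k : H} :
    v ∈ normalizer ((Cit.cj k Q : Subgroup H) : Set H) ↔ k⁻¹ * v * k ∈ normalizer (Q : Set H) := by
  rw [mem_normalizer_iff_cj, mem_normalizer_iff_cj]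
  constructor
  · intro h
    rw [cj_mul, cj_mul, h, cj_inv_cj]
  · intro h
    have h1 := congrArg (Cit.cj k) h
    rw [← cj_mul] at h1
    have e : k * (k⁻¹ * v * k) = v * k := by group
    rw [e, cj_mul] at h1
    exact h1

theorem cj_eq_iff {Q : Subgroup H} {k l : H} :
    Cit.cj k Q = Cit.cj l Q ↔ k⁻¹ * l ∈ normalizer (Q : Set H) := by
  rw [mem_normalizer_iff_cj, cj_mul]
  constructor
  · intro h
    rw [← h, cj_inv_cj]
  · intro h
    have h1 := congrArg (Cit.cj k) h
    rw [cj_cj_inv] at h1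
    exact h1.symm

section Main

variable [Finite H] {S : Subgroup H} [hSn : S.Normal] (hS : IsPGroup 2 S) {J J' : Subgroup H}
  {z i j v i' j' v' : H} (h : Sl J z i j v) (h' : Sl J' z i' j' v') (hQ : closure ({i, j} : Set H) ≤ S)
  (hQ' : closure ({i', j'} : Set H) ≤ S) (hB : Br S i j v) (hB' : Br S i' j' v') (hJ : J.IsSubnormal)

include hS h h' hQ hQ' hB hB'

omit hSn hB' in
/-- the order of `C_{QQ'}(v)` -/
theorem card_cent_le : Nat.card ((closure ({i, j} : Set H) ⊔ closure ({i', j'} : Set H)) ⊓ centralizer {v} :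
    Subgroup H) ≤ 8 := by
  set Q := closure ({i, j} : Set H) with hQd
  set Q' := closure ({i', j'} : Set H) with hQd'
  set C := (Q ⊔ Q') ⊓ centralizer {v} with hC
  have hES : Q ⊔ Q' ≤ S := sup_le hQ hQ'
  have hn : Q' ≤ normalizer (Q : Set H) := hQ'.trans (le_normalizer_Q h hS hQ hB)
  -- `|QQ'| ≤ 32`
  have e1 : Nat.card (Q ⊔ Q' : Subgroup H) * Nat.card (Q ⊓ Q' : Subgroup H) = 64 := by
    have h1 := Lib.ProductSet.card_mul_card_inf Q' Q
    rw [← Subgroup.coe_mul_of_left_le_normalizer_right Q' Q hn, h.q.card, h'.q.card] at h1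
    rw [sup_comm, inf_comm]
    exact h1
  have e2 : 2 ≤ Nat.card (Q ⊓ Q' : Subgroup H) := by
    have h1 : orderOf z = 2 := orderOf_eq_prime (by rw [pow_two]; exact h.q.z2) h.q.z1
    rw [← h1, ← Nat.card_zpowers]
    refine Nat.card_le_card_of_injective (inclusion ?_) (inclusion_injective _)
    rw [zpowers_le]
    exact ⟨h.q.mem_z, h'.q.mem_z⟩
  -- `QQ' = Q C`
  have e3 : ((Q : Set H) * (C : Set H)) = ((Q ⊔ Q' : Subgroup H) : Set H) := by
    ext x
    constructor
    · rintro ⟨q, hq, c, hc, rfl⟩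
      exact mul_mem (mem_sup_left hq) (show c ∈ Q ⊔ Q' from hc.1)
    · intro hx
      obtain ⟨q, hq, c, -, rfl, hv, -⟩ := decomp h hS hQ hB (hES hx)
      refine ⟨q, hq, c, ⟨?_, mem_centralizer_singleton_iff.2 hv.symm⟩, rfl⟩
      exact ((Q ⊔ Q').mul_mem_cancel_left (mem_sup_left hq)).1 hx
  have e4 := Lib.ProductSet.card_mul_card_inf Q C
  rw [e3] at e4
  have e5 : Nat.card (Q ⊓ C : Subgroup H) = 2 := by
    have h1 : orderOf z = 2 := orderOf_eq_prime (by rw [pow_two]; exact h.q.z2) h.q.z1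
    rw [← h1, ← Nat.card_zpowers]
    congr 1
    have : Q ⊓ C = zpowers z := by
      apply le_antisymm
      · rintro x ⟨hx, hx'⟩
        have h2 := comm_of_comm_v h hS hQ hB (hQ hx) (mem_centralizer_singleton_iff.1 hx'.2).symm
        rcases h.q.central hx (h2 i (Qt.mem_i z i j)) (h2 j (Qt.mem_j z i j)) with rfl | rfl
        · exact one_mem _
        · exact mem_zpowers _
      · rw [zpowers_le]
        exact ⟨h.q.mem_z, mem_sup_left h.q.mem_z, mem_centralizer_singleton_iff.2 h.dz.symm⟩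
    rw [this]
  have e6 : Nat.card ((Q ⊔ Q' : Subgroup H) : Set H) = Nat.card (Q ⊔ Q' : Subgroup H) := rfl
  rw [e6, e5, h.q.card] at e4
  have e7 : Nat.card (Q ⊔ Q' : Subgroup H) ≤ 32 := by
    have : Nat.card (Q ⊔ Q' : Subgroup H) * 2 ≤ 64 := by
      rw [← e1]; exact Nat.mul_le_mul_left _ e2
    omega
  omega

include hJ

/-- **The pair lemma.** -/
theorem pair : closure ({i, j} : Set H) = closure ({i', j'} : Set H) ∨
    ∀ q ∈ closure ({i, j} : Set H), v' * q = q * v' := by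
  have hcardC := card_cent_le hS h h' hQ hQ' hB
  set Q := closure ({i, j} : Set H) with hQd
  set Q' := closure ({i', j'} : Set H) with hQd'
  set C := (Q ⊔ Q') ⊓ centralizer {v} with hC
  have hSQ : S ≤ normalizer (Q : Set H) := le_normalizer_Q h hS hQ hB
  have hSQ' : S ≤ normalizer (Q' : Set H) := le_normalizer_Q h' hS hQ' hB'
  have hiS : i ∈ S := hQ (Qt.mem_i z i j)
  have hiS' : i' ∈ S := hQ' (Qt.mem_i z i' j')
  set K := closure ({v, v'} : Set H) ⊔ S with hK
  have hvK : v ∈ K := mem_sup_left (subset_closure (by simp))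
  have hvK' : v' ∈ K := mem_sup_left (subset_closure (by simp))
  -- `K` normalises `E = QQ'`
  have hKE : K ≤ normalizer ((Q ⊔ Q' : Subgroup H) : Set H) := by
    have hcube : ∀ u : H, u * u * u = 1 → (∀ x ∈ Q ⊔ Q', u * x * u⁻¹ ∈ Q ⊔ Q') →
        u ∈ normalizer ((Q ⊔ Q' : Subgroup H) : Set H) := by
      intro u hu hc
      rw [mem_normalizer_iff]
      intro x
      refine ⟨hc x, fun hx => ?_⟩
      have h1 := hc _ (hc _ hx)
      have e : u * (u * (u * x * u⁻¹) * u⁻¹) * u⁻¹ = x := by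
        calc u * (u * (u * x * u⁻¹) * u⁻¹) * u⁻¹ = (u * u * u) * x * (u * u * u)⁻¹ := by group
          _ = x := by rw [hu]; group
      rwa [e] at h1
    have hE : Q ⊔ Q' ≤ S := sup_le hQ hQ'
    refine sup_le ?_ ?_
    · rw [closure_le]
      rintro x (rfl | rfl)
      · refine hcube _ h.d3 fun y hy => ?_
        have e : x * y * x⁻¹ = (x * y * x⁻¹ * y⁻¹) * y := by group
        rw [e]
        exact mul_mem (mem_sup_left (hB y (hE hy))) hy
      · refine hcube _ h'.d3 fun y hy => ?_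
        have e : x * y * x⁻¹ = (x * y * x⁻¹ * y⁻¹) * y := by group
        rw [e]
        exact mul_mem (mem_sup_right (hB' y (hE hy))) hy
    · intro s hs
      rw [mem_normalizer_iff_cj]
      rw [show Cit.cj s (Q ⊔ Q') = Cit.cj s Q ⊔ Cit.cj s Q' from Subgroup.map_sup _ _ _,
        mem_normalizer_iff_cj.1 (hSQ hs), mem_normalizer_iff_cj.1 (hSQ' hs)]
  -- `K / S` is a 3-group
  have hK3 : ∀ x ∈ K, ∃ n : ℕ, x ^ 3 ^ n ∈ S := by
    let π := QuotientGroup.mk' S
    have hπ : ∀ x, π x = 1 ↔ x ∈ S := fun x => by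
      rw [QuotientGroup.mk'_apply, QuotientGroup.eq_one_iff]
    have p3 : ∀ u : H, u * u * u = 1 → IsPGroup 3 (zpowers (π u)) := by
      intro u hu
      rintro ⟨x, k, rfl⟩
      refine ⟨1, Subtype.ext ?_⟩
      change ((π u) ^ k) ^ 3 ^ 1 = 1
      rw [pow_one, ← zpow_natCast, ← zpow_mul, mul_comm, zpow_mul, zpow_natCast, pow_succ, pow_two, ← map_mul,
        ← map_mul, hu, map_one, one_zpow]
    have hJm : J.map π ≤ zpowers (π v) := by
      rw [h.gen, MonoidHom.map_closure, closure_le]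
      rintro _ ⟨x, (rfl | rfl), rfl⟩
      · rw [(hπ x).2 hiS]; exact one_mem _
      · exact mem_zpowers _
    have h1 : π v ∈ pCore 3 (H ⧸ S) := by
      have h2 : (J.map π).IsSubnormal := hJ.map (QuotientGroup.mk'_surjective S)
      exact SignalizersComponents.CompBasic.subnormal_pGroup_le_pCore h2 ((p3 v h.d3).to_le hJm) ⟨v, h.hd, rfl⟩
    have hN : (pCore 3 (H ⧸ S)).Normal := Lib.Cores.pCore_normal 3
    have h3 : IsPGroup 3 (pCore 3 (H ⧸ S) ⊔ zpowers (π v') : Subgroup (H ⧸ S)) :=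
      IsPGroup.to_sup_of_normal_left (Lib.Cores.pCore_isPGroup 3) (p3 v' h'.d3)
    have h4 : K ≤ (pCore 3 (H ⧸ S) ⊔ zpowers (π v')).comap π := by
      refine sup_le ?_ ?_
      · rw [closure_le]
        rintro x (rfl | rfl)
        · exact mem_sup_left h1
        · exact mem_sup_right (mem_zpowers _)
      · intro x hx
        rw [mem_comap, (hπ x).2 hx]
        exact one_mem _
    intro x hx
    obtain ⟨n, hn⟩ := h3 ⟨π x, h4 hx⟩
    refine ⟨n, (hπ _).1 ?_⟩
    rw [map_pow]
    exact congrArg Subtype.val hn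
  -- the index of the normaliser of `Q`
  set N' := (normalizer (Q : Set H)).subgroupOf K with hN'
  obtain ⟨e, he⟩ : ∃ e : ℕ, N'.index ∣ 3 ^ e := by
    have h1 : IsPGroup 3 (K ⧸ S.subgroupOf K) := by
      intro x
      induction x using QuotientGroup.induction_on with
      | H x =>
        obtain ⟨n, hn⟩ := hK3 x x.2
        refine ⟨n, ?_⟩
        rw [← QuotientGroup.mk_pow, QuotientGroup.eq_one_iff, mem_subgroupOf]
        exact hn
    have : Fact (Nat.Prime 3) := ⟨Nat.prime_three⟩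
    obtain ⟨e, he⟩ := IsPGroup.iff_card.1 h1
    refine ⟨e, ?_⟩
    rw [← he]
    have h2 : (S.subgroupOf K).index = Nat.card (K ⧸ S.subgroupOf K) := rfl
    rw [← h2]
    exact index_dvd_of_le fun x hx => hSQ hx
  -- the conjugates of `Q` normalised by `v`
  have key : ∀ k ∈ K, v ∈ normalizer ((Cit.cj k Q : Subgroup H) : Set H) → Cit.cj k Q = Q ∨ Cit.cj k Q = C := by
    intro k hk hv
    have hkS : ∀ s ∈ S, s ∈ normalizer ((Cit.cj k Q : Subgroup H) : Set H) := by
      intro s hs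
      rw [mem_cj_iff_normalizer]
      apply hSQ
      have := hSn.conj_mem s hs k⁻¹
      rwa [inv_inv] at this
    have hle : Cit.cj k Q ≤ S := by
      rintro _ ⟨x, hx, rfl⟩
      exact hSn.conj_mem x (hQ hx) k
    have hJn : J ≤ normalizer ((Cit.cj k Q : Subgroup H) : Set H) := by
      rw [h.gen, closure_le]
      rintro x (rfl | rfl)
      · exact hkS _ hiS
      · exact hv
    have hcard : Nat.card (Cit.cj k Q : Subgroup H) = 8 := by
      rw [← h.q.card]
      exact Nat.card_congr (equivMapOfInjective _ _ (MulAut.conj k).injective).toEquiv.symm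
    rcases eq_or_comm h hB hle hJn hcard with h1 | h1
    · exact Or.inl h1.symm
    · right
      refine eq_of_le_of_card_ge ?_ (by rw [hcard]; exact hcardC)
      intro x hx
      refine ⟨?_, mem_centralizer_singleton_iff.2 (h1 x hx).symm⟩
      obtain ⟨y, hy, rfl⟩ := hx
      exact (mem_normalizer_iff.1 (hKE hk) y).1 (mem_sup_left hy)
  by_cases hidx : N'.index = 1
  · have h1 : v' ∈ normalizer (Q : Set H) := by
      have h2 : N' = ⊤ := index_eq_one.1 hidx
      have h3 : (⟨v', hvK'⟩ : K) ∈ N' := by rw [h2]; exact mem_top _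
      exact h3
    have hJn : J' ≤ normalizer (Q : Set H) := by
      rw [h'.gen, closure_le]
      rintro x (rfl | rfl)
      · exact hSQ hiS'
      · exact h1
    rcases eq_or_comm h' hB' hQ hJn h.q.card with h2 | h2
    · exact Or.inl h2.symm
    · exact Or.inr h2
  · exfalso
    have hp3 : Nat.Prime 3 := Nat.prime_three
    have : Fact (Nat.Prime 3) := ⟨hp3⟩
    have h3 : 3 ∣ N'.index := by
      obtain ⟨f, -, hf⟩ := (Nat.dvd_prime_pow hp3).1 he
      rw [hf] at hidx ⊢
      exact dvd_pow_self 3 (fun h0 => hidx (by rw [h0, pow_zero]))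
    -- fixed points of `v` on `K / N'`
    let R : Subgroup K := zpowers (⟨v, hvK⟩ : K)
    have hR : IsPGroup 3 R := by
      rintro ⟨x, k, rfl⟩
      refine ⟨1, Subtype.ext (Subtype.ext ?_)⟩
      change (v ^ k) ^ 3 ^ 1 = 1
      rw [pow_one, ← zpow_natCast, ← zpow_mul, mul_comm, zpow_mul, zpow_natCast, pow_succ, pow_two, h.d3, one_zpow]
    have hfin : Finite (K ⧸ N') := inferInstance
    have hmod := hR.card_modEq_card_fixedPoints (K ⧸ N')
    have hfix : ∀ k : K, ((k : K) : K ⧸ N') ∈ MulAction.fixedPoints R (K ⧸ N') →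
        v ∈ normalizer ((Cit.cj (k : H) Q : Subgroup H) : Set H) := by
      intro k hk
      have h4 := hk ⟨⟨v, hvK⟩, mem_zpowers _⟩
      change ((((⟨v, hvK⟩ : K) * k : K) : K ⧸ N')) = (k : K ⧸ N') at h4
      rw [eq_comm, QuotientGroup.eq] at h4
      rw [mem_cj_iff_normalizer]
      have h5 : (k : H)⁻¹ * (v * k) ∈ normalizer (Q : Set H) := h4
      rwa [← mul_assoc] at h5
    have hone : ((1 : K) : K ⧸ N') ∈ MulAction.fixedPoints R (K ⧸ N') := by
      rintro ⟨x, k, rfl⟩
      change ((((⟨v, hvK⟩ : K) ^ k * 1 : K) : K ⧸ N')) = ((1 : K) : K ⧸ N')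
      rw [mul_one, eq_comm, QuotientGroup.eq, inv_one, one_mul]
      exact zpow_mem (show (⟨v, hvK⟩ : K) ∈ N' from v_mem_normalizer_Q h) k
    have h4 : 3 ∣ Nat.card (MulAction.fixedPoints R (K ⧸ N')) := by
      have h5 : Nat.card (K ⧸ N') = N'.index := rfl
      rw [h5] at hmod
      exact (Nat.modEq_zero_iff_dvd.1 (hmod.symm.trans (Nat.modEq_zero_iff_dvd.2 h3)))
    have h5 : 0 < Nat.card (MulAction.fixedPoints R (K ⧸ N')) :=
      Nat.card_pos_iff.2 ⟨⟨⟨_, hone⟩⟩, inferInstance⟩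
    have h6 : 2 < Nat.card (MulAction.fixedPoints R (K ⧸ N')) := by
      have := Nat.le_of_dvd h5 h4
      omega
    have : Fintype (MulAction.fixedPoints R (K ⧸ N')) := Fintype.ofFinite _
    rw [Nat.card_eq_fintype_card] at h6
    obtain ⟨⟨a, ha⟩, ⟨b, hb⟩, ⟨c, hc⟩, hab, hac, hbc⟩ := Fintype.two_lt_card_iff.1 h6
    obtain ⟨a, rfl⟩ := QuotientGroup.mk_surjective a
    obtain ⟨b, rfl⟩ := QuotientGroup.mk_surjective b
    obtain ⟨c, rfl⟩ := QuotientGroup.mk_surjective c
    have inj : ∀ k l : K, (k : K ⧸ N') ≠ (l : K ⧸ N') → Cit.cj (k : H) Q ≠ Cit.cj (l : H) Q := by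
      intro k l hkl h7
      apply hkl
      rw [QuotientGroup.eq]
      exact cj_eq_iff.1 h7
    have iab := inj a b (fun h7 => hab (Subtype.ext h7))
    have iac := inj a c (fun h7 => hac (Subtype.ext h7))
    have ibc := inj b c (fun h7 => hbc (Subtype.ext h7))
    rcases key a a.2 (hfix a ha) with h7 | h7 <;> rcases key b b.2 (hfix b hb) with h8 | h8 <;>
    rcases key c c.2 (hfix c hc) with h9 | h9
    · exact iab (h7.trans h8.symm)
    · exact iab (h7.trans h8.symm)
    · exact iac (h7.trans h9.symm)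
    · exact ibc (h8.trans h9.symm)
    · exact ibc (h8.trans h9.symm)
    · exact iac (h7.trans h9.symm)
    · exact iab (h7.trans h8.symm)
    · exact iab (h7.trans h8.symm)

end Main

end Cfsg.Agent.OddHalf.NI3.Bad
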