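import Cfsg.Agent.OddHalf.NI3.Bad.Basic
import Cfsg.Agent.OddHalf.NI3.SLThree

/-!
# NI over `F₃`, THEOREM NIB: the component `D` of `C(a)` containing `A^c` and `B^c`
-/

set_option autoImplicit false
set_option linter.style.haveILetI false
set_option linter.unusedSectionVars false

namespace Cfsg.Agent.OddHalf.NI3.Bad

open Subgroup Cfsg Cfsg.Agent.OddHalf.Iface Cfsg.Agent.OddHalf.LieOddFam Cfsg.Agent.SignalizersComponents
open Cfsg.Agent.OddHalf.D3 (Comp)
open Cfsg.Agent.OddHalf.NI (CompIn)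
open Cfsg.Agent.Cit (cj TStmt pc cls)

universe u

section

variable {X : Type u} [Group X] [Finite X]

/-- **Two commuting classical `SL₂(3)` with the same involution**: subnormal, or both in one component. -/
theorem exists_piece (hT : TStmt.{u}) (hO : pPrimeCore 2 X = ⊥) {x : X} {A B : Subgroup X} (hA : Cl x A)
    (hB : Cl x B) (hc : B ≤ centralizer (A : Set X)) (hA' : ¬ A.IsSubnormal) (hB' : ¬ B.IsSubnormal) :
    ∃ D : Subgroup X, IsComponent D ∧ IsPGroup 2 (center ↥D) ∧ A ≤ D ∧ B ≤ D := by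
  have hc' : A ≤ centralizer (B : Set X) := (le_centralizer_iff).1 hc
  obtain ⟨hD, hD2, hBD⟩ := (step' hT hO hA hB.pr hB.sn hc).resolve_left hB'
  obtain ⟨hE, -, hAE⟩ := (step' hT hO hB hA.pr hA.sn hc').resolve_left hA'
  have hAD : A ≤ pc (cls A) A := Cit.le_pc
  have hBE : B ≤ pc (cls B) B := Cit.le_pc
  by_cases h : pc (cls A) A = pc (cls B) B
  · exact ⟨pc (cls A) A, hD, hD2, hAD, by rw [h]; exact hBE⟩
  · exfalso
    have h1 := Components.component_le_centralizer_of_ne hD hE h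
    obtain ⟨s, hs, t, ht, hsz, htz, hst⟩ := hB.pr.t3.ex4
    exact hst (mem_centralizer_iff.1 (h1 (hBD t ht htz)) s (hBE hs))

end

section

variable {G : Type u} [Group G] {N : Subgroup G} {a b e : G} {A B : Subgroup G}

/-- **The component `D` of `C(a)`.** -/
theorem Cfg.exists_D (C : Ctx G) (hT : TStmt.{u}) (h : Cfg N a b e A B) {c : G} (hc : c ∈ N)
    (h1 : c * a * c⁻¹ = b) (h2 : c * b * c⁻¹ = e) (h3 : c * e * c⁻¹ = a)
    (hA : ¬ Sn (cj c A) (centralizer ({a} : Set G))) (hB : ¬ Sn (cj c B) (centralizer ({a} : Set G))) :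
    ∃ D : Subgroup G, Comp a D ∧ cj c A ≤ D ∧ cj c B ≤ D := by
  have := C.fin
  have h' := h.rotate hc h1 h2 h3
  have ha : orderOf a = 2 := by
    refine orderOf_eq_prime (by rw [pow_two, h.aa]) ?_
    rintro rfl
    have h4 : b * e ≠ 1 := h'.z_ne
    have h5 : b = 1 := by rw [← h1]; group
    have h6 : e = 1 := by rw [← h2, h5]; group
    rw [h5, h6, mul_one] at h4
    exact h4 rfl
  have hO : pPrimeCore 2 ↥(centralizer ({a} : Set G)) = ⊥ := by
    have h4 := C.bal a ha
    rw [centralizerPPrimeCore] at h4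
    exact (Subgroup.map_eq_bot_iff_of_injective _ (centralizer ({a} : Set G)).subtype_injective).1 h4
  have hcl1 := h'.clA
  have hcl2 := h'.clB
  obtain ⟨D, hD, -, hAD, hBD⟩ := exists_piece hT hO hcl1 hcl2 (by
      intro x hx
      rw [mem_centralizer_iff]
      intro y hy
      exact Subtype.ext (h'.AB y hy x hx)) (fun h5 => hA ⟨h'.A_le_e, h5⟩) (fun h5 => hB ⟨h'.B_le_e, h5⟩)
  refine ⟨D.map (centralizer ({a} : Set G)).subtype, ⟨map_subtype_le _, ?_⟩, ?_, ?_⟩
  · rw [subgroupOf, comap_map_eq_self_of_injective (centralizer ({a} : Set G)).subtype_injective]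
    exact hD
  · intro x hx
    exact ⟨⟨x, h'.A_le_e hx⟩, hAD hx, rfl⟩
  · intro x hx
    exact ⟨⟨x, h'.B_le_e hx⟩, hBD hx, rfl⟩

end

end Cfsg.Agent.OddHalf.NI3.Bad
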