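import Cfsg.Agent.LFourA.AltPsiAut
import Cfsg.Agent.S0254

/-!
# Rigidity of `A₆ ≃ L₂(9)`

`rigid_alt` : an automorphism `α` of `A₆` with `α³ = 1` which is trivial on the centralizer of an involution is trivial.
`rigid_psl` : the same for `L₂(9)`.
-/

set_option autoImplicit false

namespace Cfsg.Agent.OddHalf.NI3.Bad.RigidSix

open Equiv Equiv.Perm Subgroup
open Cfsg.Agent.LFourA.AltPsiAut

/-- Rigidity of an involution `t`: automorphisms of order three do not centralise `C(t)`. -/
def Rig (E : Type*) [Group E] (t : E) : Prop :=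
  ∀ α : MulAut E, α ^ 3 = 1 → (∀ g, g * t = t * g → α g = g) → α = 1

theorem Rig.congr {E E' : Type*} [Group E] [Group E'] (e : E ≃* E') {t : E} (h : Rig E' (e t)) : Rig E t := by
  intro α h3 hα
  have hpow : ∀ (n : ℕ) (x : E), (α ^ n) x = e.symm (((MulAut.congr e α) ^ n) (e x)) := by
    intro n
    induction n with
    | zero => intro x; simp
    | succ n ih =>
      intro x
      rw [pow_succ', pow_succ', MulAut.mul_apply, MulAut.mul_apply, ih]
      simp [MulAut.congr]
  have h1 : MulAut.congr e α = 1 := by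
    refine h _ ?_ ?_
    · rw [← map_pow, h3, map_one]
    · intro g hg
      have h2 := hα (e.symm g) (by
        apply e.injective
        rw [map_mul, map_mul, e.apply_symm_apply, hg])
      change e (α (e.symm g)) = g
      rw [h2, e.apply_symm_apply]
  exact (MulAut.congr e).injective (h1.trans (map_one _).symm)

set_option maxRecDepth 100000 in
theorem cent_two : ∀ σ : Perm (Fin 6), σ * (swap 0 1 * swap 2 3) = (swap 0 1 * swap 2 3) * σ →
    σ * σ * σ = 1 → σ = 1 := by decide +kernel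

/-- The even involutions of `S₆` are conjugate to `(01)(23)`. -/
theorem exists_conj_sa {τ : Perm (Fin 6)} (h1 : τ ≠ 1) (h2 : τ * τ = 1) (hs : sign τ = 1) :
    ∃ g : Perm (Fin 6), g * τ * g⁻¹ = swap 0 1 * swap 2 3 := by
  have key : ∀ τ : Perm (Fin 6), τ ≠ 1 → τ * τ = 1 → sign τ = 1 → τ.cycleType = {2, 2} := by
    intro τ h1 h2 hs
    have ho : orderOf τ = 2 := orderOf_eq_prime (by rw [pow_two, h2]) h1
    obtain ⟨n, hn⟩ := cycleType_prime_order (σ := τ) (by rw [ho]; exact Nat.prime_two)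
    rw [ho] at hn
    have h3 : τ.cycleType.sum ≤ 6 := by
      rw [sum_cycleType]
      exact (Finset.card_le_univ _).trans (by simp)
    rw [hn, Multiset.sum_replicate] at h3
    have h4 := sign_of_cycleType τ
    rw [hs, hn, Multiset.sum_replicate, Multiset.card_replicate] at h4
    have h5 : n = 0 ∨ n = 1 ∨ n = 2 := by
      simp only [smul_eq_mul] at h3
      omega
    rcases h5 with rfl | rfl | rfl
    · exfalso; revert h4; decide
    · rw [hn]; rfl
    · exfalso; revert h4; decide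
  have h3 : (swap 0 1 * swap 2 3 : Perm (Fin 6)).cycleType = {2, 2} :=
    key _ (by decide) (by decide) (by decide)
  have h4 : IsConj τ (swap 0 1 * swap 2 3 : Perm (Fin 6)) := by
    rw [isConj_iff_cycleType_eq, h3]
    exact key _ h1 h2 hs
  exact isConj_iff.1 h4

set_option maxRecDepth 100000 in
theorem cent_gen : ∀ ρ : Perm (Fin 6),
    ρ * (swap 0 1 * swap 1 2 * (swap 2 3 * swap 3 4)) = (swap 0 1 * swap 1 2 * (swap 2 3 * swap 3 4)) * ρ →
    ρ * (swap 0 1 * swap 1 5) = (swap 0 1 * swap 1 5) * ρ → ρ = 1 := by decide +kernel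

theorem rigid_alt {t : alternatingGroup (Fin 6)} (h1 : t ≠ 1) (h2 : t * t = 1) :
    Rig (alternatingGroup (Fin 6)) t := by
  intro α h3 hα
  -- `α` is not exotic
  have hNE : α ∈ NE := by
    by_contra hn
    have hn' : α⁻¹ ∉ NE := fun h => hn (inv_mem_iff.1 h)
    have h4 := inv_mul_mem hn' hn
    rw [inv_inv] at h4
    have h5 : α = α * α * (α * α) := by
      have : α * α * (α * α) = α ^ 3 * α := by rw [pow_three]; group
      rw [this, h3, one_mul]
    apply hn
    rw [h5]
    exact mul_mem h4 h4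
  obtain ⟨σ, hσ⟩ := exists_perm hNE
  -- `σ³` centralises `A₆`
  have hpow : ∀ (n : ℕ) (x : alternatingGroup (Fin 6)), ((α ^ n) x : Perm (Fin 6)) = σ ^ n * x * (σ ^ n)⁻¹ := by
    intro n
    induction n with
    | zero => intro x; simp
    | succ n ih =>
      intro x
      rw [pow_succ', MulAut.mul_apply, hσ, ih, pow_succ']
      group
  have hcen : ∀ x : alternatingGroup (Fin 6), σ ^ 3 * x = x * σ ^ 3 := by
    intro x
    have h4 := hpow 3 x
    rw [h3, MulAut.one_apply] at h4
    exact (mul_inv_eq_iff_eq_mul.1 h4.symm)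
  have hσ3 : σ ^ 3 = 1 :=
    cent_gen _ (hcen ⟨swap 0 1 * swap 1 2 * (swap 2 3 * swap 3 4), by rw [Perm.mem_alternatingGroup]; decide⟩)
      (hcen ⟨swap 0 1 * swap 1 5, by rw [Perm.mem_alternatingGroup]; decide⟩)
  have hst : σ * t = t * σ := by
    have h4 := hσ t
    rw [hα t rfl] at h4
    exact (mul_inv_eq_iff_eq_mul.1 h4.symm)
  obtain ⟨g, hg⟩ := exists_conj_sa (τ := (t : Perm (Fin 6))) (fun h => h1 (Subtype.ext h))
    (congrArg Subtype.val h2) (Perm.mem_alternatingGroup.1 t.2)
  have h5 : g * σ * g⁻¹ = 1 := by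
    refine cent_two _ ?_ ?_
    · rw [← hg]
      calc g * σ * g⁻¹ * (g * t * g⁻¹) = g * (σ * t) * g⁻¹ := by group
        _ = g * (t * σ) * g⁻¹ := by rw [hst]
        _ = _ := by group
    · calc g * σ * g⁻¹ * (g * σ * g⁻¹) * (g * σ * g⁻¹) = g * σ ^ 3 * g⁻¹ := by rw [pow_three]; group
        _ = 1 := by rw [hσ3]; group
  have h6 : σ = 1 := by
    have : σ = g⁻¹ * (g * σ * g⁻¹) * g := by group
    rw [this, h5]; group
  ext x : 1
  apply Subtype.ext
  rw [hσ, h6]
  simp

theorem rigid_of_alt {E : Type*} [Group E] (e : Nonempty (E ≃* alternatingGroup (Fin 6))) {t : E} (h1 : t ≠ 1)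
    (h2 : t * t = 1) : Rig E t := by
  obtain ⟨e⟩ := e
  refine Rig.congr e (rigid_alt ?_ ?_)
  · intro h
    exact h1 (e.injective (h.trans (map_one e).symm))
  · rw [← map_mul, h2, map_one]

/-- **Rigidity of `L₂(9)`.** -/
theorem rigid_psl {F : Type*} [Field F] [Fintype F] (hF : Fintype.card F = 9) {E : Type*} [Group E]
    (e : Nonempty (E ≃* Matrix.ProjectiveSpecialLinearGroup (Fin 2) F)) {t : E} (h1 : t ≠ 1) (h2 : t * t = 1) :
    Rig E t := by
  obtain ⟨e⟩ := e
  obtain ⟨f⟩ := Cfsg.Agent.S0254.result hF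
  exact rigid_of_alt ⟨e.trans f⟩ h1 h2

end Cfsg.Agent.OddHalf.NI3.Bad.RigidSix
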