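import Cfsg.Agent.OddHalf.NI3.Bad.Trans
import Cfsg.Agent.OddHalf.NI3.SubSL
import Cfsg.Agent.KFacts.PSpFourThree.AltFour
import Cfsg.Agent.KFacts.PSpFourThree.Main

/-!
# THEOREM NIB, table (KD), `D = PSp₄(3)` (helper931)

`sp4 : XSp4 X → RowC X`.
-/

set_option autoImplicit false
set_option linter.style.haveILetI false
set_option maxRecDepth 100000

namespace Cfsg.Agent.KFacts.PSpFourThree

open Matrix Subgroup Cfsg
open Cfsg.Agent.Lib.FieldThree (F3)
open Cfsg.Agent.SmallSimple.S1000.Order25920PSp (Mat Sp π π_mul π_one π_eq m1 m2 m3 m4)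
open Cfsg.Agent.OddHalf.Small.PSp43 (bm m3_eq J_eq Pm m4_eq)
open Cfsg.Agent.OddHalf.NI3 Cfsg.Agent.OddHalf.NI3.Bad

namespace PE

/-- the diagonal involution -/
def e1 : PE := ⟨q1, q1, false⟩

theorem ok_e1 : e1.Ok := ⟨by decide, by decide⟩

theorem el_e1 : e1.el = π m1 := by
  rw [el_eq ok_e1]
  refine π_eq (Or.inl ?_)
  show bmm q1 q1 * sw false = m1
  rw [sf, mul_one]
  unfold bmm bm
  decide +kernel

/-- the noncentral involutions of `R` are conjugate to `e1` -/
theorem w_check : allPE (fun p => or (not (and (inR p) (and (isOne (p.mul p)) (and (not (isOne p)) (not (p.beqs zz))))))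
    (anyG (fun x => anyG (fun y => (PE.mul ⟨x, y, false⟩ e1).beqs (p.mul ⟨x, y, false⟩)) slL) slL)) = true := by
  decide +kernel

theorem exists_cj {r : PSp 2 F3} (hr : r ∈ R) (h2 : r * r = 1) (h1 : r ≠ 1) (hz : r ≠ z) :
    ∃ c : PSp 2 F3, c * z = z * c ∧ c * π m1 * c⁻¹ = r := by
  obtain ⟨p, hp, rfl⟩ := exists_el (R_comm hr)
  have h := allPE_spec w_check hp
  rw [Bool.or_eq_true, Bool.not_eq_true'] at h
  rcases h with h | h
  · exfalso
    have e1' : inR p = true := (mem_R hp).1 hr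
    have e2 : isOne (p.mul p) = true := by rw [← el_eq_one (hp.mul hp), el_mul hp hp, h2]
    have e3 : isOne p = false := by
      rw [Bool.eq_false_iff]
      intro h3
      exact h1 ((el_eq_one hp).2 h3)
    have e4 : p.beqs zz = false := by
      rw [Bool.eq_false_iff]
      intro h3
      exact hz (eq_el hp ok_zz h3)
    rw [e1', e2, e3, e4] at h
    exact absurd h (by decide)
  · rw [anyG_iff] at h
    obtain ⟨x, hx, h⟩ := h
    rw [anyG_iff] at h
    obtain ⟨y, hy, h⟩ := h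
    have hc : Ok ⟨x, y, false⟩ := ⟨slL_det x hx, slL_det y hy⟩
    refine ⟨(PE.mk x y false).el, z_comm hc, ?_⟩
    have h3 := eq_el (hc.mul ok_e1) (hp.mul hc) h
    rw [el_mul hc ok_e1, el_mul hp hc, el_e1] at h3
    rw [h3, mul_inv_cancel_right]

theorem m1z_mem : π m1 * z ∈ PW.E4 := by
  have h : π m1 * z = π PW.aS := by
    rw [z, el_zz]; rfl
  rw [h]
  exact PW.a_mem

end PE

open PE (z R)

/-- conjugates of a classical pair at `z` -/
theorem rowC_z {w : PSp 2 F3} (hwR : w ∈ R) (h2 : w * w = 1) (h1 : w ≠ 1) (hz : w ≠ z) :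
    ∃ E : Subgroup (PSp 2 F3), Sn E (centralizer ({w} : Set (PSp 2 F3))) ∧ w * z ∈ E ∧
      Nonempty (↥E ≃* ↥(alternatingGroup (Fin 4))) := by
  obtain ⟨c, hcz, hcw⟩ := PE.exists_cj hwR h2 h1 hz
  refine ⟨PW.E4.map (MulAut.conj c).toMonoidHom, ?_, ?_, ?_⟩
  · have h3 : Sn PW.E4 (centralizer ({π m1} : Set (PSp 2 F3))) := by
      refine Sn.of_normal PW.E4_le ?_
      intro g hg
      rw [mem_centralizer_singleton_iff] at hg
      rw [mem_normalizer_iff]
      intro x
      constructor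
      · exact fun hx => PW.normal_E4 hg hx
      · intro hx
        have hg' : g⁻¹ * π m1 = π m1 * g⁻¹ := (show Commute g (π m1) from hg).inv_left.eq
        have h4 := PW.normal_E4 hg' hx
        have e : g⁻¹ * (g * x * g⁻¹) * g⁻¹⁻¹ = x := by group
        rwa [e] at h4
    have h4 := h3.map (MulAut.conj c).toMonoidHom
    have h5 := cent_mapE (MulAut.conj c) (π m1)
    have h6 : (MulAut.conj c) (π m1) = w := hcw
    rw [h6] at h5
    rw [← h5]
    exact h4
  · refine ⟨π m1 * z, PE.m1z_mem, ?_⟩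
    show c * (π m1 * z) * c⁻¹ = w * z
    have h7 : c * z * c⁻¹ = z := by rw [hcz, mul_inv_cancel_right]
    calc c * (π m1 * z) * c⁻¹ = (c * π m1 * c⁻¹) * (c * z * c⁻¹) := by group
      _ = w * z := by rw [hcw, h7]
  · obtain ⟨f⟩ := PW.iso_E4
    exact ⟨(PW.E4.equivMapOfInjective (MulAut.conj c).toMonoidHom (MulAut.conj c).injective).symm.trans f⟩

/-- the elements of order four of a classical `SL₂(3)` -/
theorem mem_core {D : Type*} [Group D] [Finite D] {x : D} {A : Subgroup D} (h : Cl x A) {p : D} (hp : p ∈ A)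
    (hpp : p * p = x) : p ∈ (pCore 2 ↥(centralizer ({x} : Set D))).map (centralizer ({x} : Set D)).subtype := by
  have h1 : IsPr (A.subgroupOf (centralizer ({x} : Set D))) (⟨x, h.sn.1 h.pr.mem⟩ : ↥(centralizer ({x} : Set D))) :=
    h.pr.subgroupOf h.sn.1
  exact ⟨⟨p, h.sn.1 hp⟩, h1.mem_pCore h.sn.2 (y := ⟨p, h.sn.1 hp⟩) hp (Subtype.ext hpp), rfl⟩

theorem core_norm {D : Type*} [Group D] [Finite D] {x g n : D} (hg : g * x = x * g)
    (hn : n ∈ (pCore 2 ↥(centralizer ({x} : Set D))).map (centralizer ({x} : Set D)).subtype) :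
    g * n * g⁻¹ ∈ (pCore 2 ↥(centralizer ({x} : Set D))).map (centralizer ({x} : Set D)).subtype := by
  obtain ⟨m, hm, rfl⟩ := hn
  have h1 : (pCore 2 ↥(centralizer ({x} : Set D))).Normal := Lib.Cores.pCore_normal 2
  exact ⟨_, h1.conj_mem m hm ⟨g, mem_centralizer_singleton_iff.2 hg⟩, rfl⟩

theorem rowC_model : RowC (PSp 2 F3) := by
  intro x A B w hp
  -- `x` is conjugate to `z`
  have hx2 : x * x = 1 := hp.a.pr.t3.z_sq
  have hcls := classes x hx2 hp.a.pr.t3.z_ne
  have hc : ∃ k, k * z * k⁻¹ = x := by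
    rcases hcls with h | h
    · exact h
    · exfalso
      obtain ⟨a, ha, b, hb, haz, hbz, hab⟩ := hp.a.pr.t3.ex4
      apply hab
      refine h ((pCore 2 ↥(centralizer ({x} : Set (PSp 2 F3)))).map
        (centralizer ({x} : Set (PSp 2 F3))).subtype) ?_ ?_ ?_ a (mem_core hp.a ha haz) b (mem_core hp.a hb hbz)
      · exact (Lib.Cores.pCore_isPGroup 2).map _
      · rintro _ ⟨n, -, rfl⟩
        exact mem_centralizer_singleton_iff.1 n.2
      · intro g hg n hn
        exact core_norm hg hn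
  obtain ⟨k, hk⟩ := hc
  -- transport to `z`
  have hp' := hp.mapE (MulAut.conj k⁻¹)
  have hkx : (MulAut.conj k⁻¹) x = z := by
    show k⁻¹ * x * k⁻¹⁻¹ = z
    rw [← hk]; group
  rw [hkx] at hp'
  set w' := (MulAut.conj k⁻¹) w with hw'
  obtain ⟨p, hpA, q, hqB, hpp, hqq, hpq⟩ := hp'.dec
  have hcore : (pCore 2 ↥(centralizer ({z} : Set (PSp 2 F3)))).map (centralizer ({z} : Set (PSp 2 F3))).subtype ≤ R := by
    refine PE.max_R _ ((Lib.Cores.pCore_isPGroup 2).map _) ?_ ?_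
    · rintro _ ⟨n, -, rfl⟩
      exact mem_centralizer_singleton_iff.1 n.2
    · intro g hg n hn
      exact core_norm hg hn
  have hpR : p ∈ R := hcore (mem_core hp'.a hpA hpp)
  have hqR : q ∈ R := hcore (mem_core hp'.b hqB hqq)
  have hpqc : p * q = q * p := mem_centralizer_iff.1 (hp'.comm hqB) p hpA
  have hzz : z * z = 1 := PE.z_mul_z
  have hwR : w' ∈ R := by rw [hpq]; exact mul_mem hpR hqR
  have hw2 : w' * w' = 1 := by
    rw [hpq]
    calc p * q * (p * q) = p * (q * p) * q := by group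
      _ = (p * p) * (q * q) := by rw [← hpqc]; group
      _ = 1 := by rw [hpp, hqq, hzz]
  -- `p` is not in `B`
  have hpB : ∀ c : PSp 2 F3, (c = 1 ∨ c = z) → p * q ≠ c := by
    intro c hc' hpc
    have h3 : p = c * q⁻¹ := by rw [← hpc]; group
    have hzB : z ∈ B.map (MulAut.conj k⁻¹).toMonoidHom := hp'.b.pr.mem
    have hpB' : p ∈ B.map (MulAut.conj k⁻¹).toMonoidHom := by
      rw [h3]
      refine mul_mem ?_ (inv_mem hqB)
      rcases hc' with rfl | rfl
      · exact one_mem _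
      · exact hzB
    rcases hp'.a.pr.t3.cen p hpA (fun y hy _ => mem_centralizer_iff.1 (hp'.comm hpB') y hy |>.symm) with h4 | h4
    · rw [h4, mul_one] at hpp
      exact hp'.a.pr.t3.z_ne hpp.symm
    · rw [h4, hzz] at hpp
      exact hp'.a.pr.t3.z_ne hpp.symm
  have hw1 : w' ≠ 1 := by rw [hpq]; exact hpB 1 (Or.inl rfl)
  have hwz : w' ≠ z := by rw [hpq]; exact hpB z (Or.inr rfl)
  obtain ⟨E, hE, hwE, ⟨f⟩⟩ := rowC_z hwR hw2 hw1 hwz
  refine ⟨E.map (MulAut.conj k).toMonoidHom, ?_, ?_, ?_⟩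
  · have h3 := hE.map (MulAut.conj k).toMonoidHom
    have h4 := cent_mapE (MulAut.conj k) w'
    have h5 : (MulAut.conj k) w' = w := by
      rw [hw']
      show k * (k⁻¹ * w * k⁻¹⁻¹) * k⁻¹ = w
      group
    rw [h5] at h4
    rw [← h4]
    exact h3
  · refine ⟨w' * z, hwE, ?_⟩
    show k * (w' * z) * k⁻¹ = w * x
    rw [hw', ← hk]
    show k * (k⁻¹ * w * k⁻¹⁻¹ * z) * k⁻¹ = w * (k * z * k⁻¹)
    group
  · exact ⟨(E.equivMapOfInjective (MulAut.conj k).toMonoidHom (MulAut.conj k).injective).symm.trans f⟩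

/-- **(KD), `PSp₄(3)`** -/
theorem sp4 (X : Type*) [Group X] (h : XSp4 X) : RowC X := by
  obtain ⟨F, _, _, hF, ⟨e⟩⟩ := h
  exact rowC_model.congr (e.trans
    (Cfsg.Agent.LieClassical.FieldTransfer.pspCongr 2 (Cfsg.Agent.Lib.FieldThree.equivOfCard hF)))

end Cfsg.Agent.KFacts.PSpFourThree
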