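import Cfsg.Agent.OddHalf.NI3.Bad.RowC
import Cfsg.Agent.KFacts.LFourThree.Facts

/-!
# THEOREM NIB, table (KD), `D = L₄(3)`: the positions (helper931)

* `Pos.core`, `Pos.facts` : `w ∈ O₂(C(x))`, `w² = 1`, `w ≠ 1`, `w ≠ x`.
* `RowL4.cls` : every involution of `L = PSL(4, 3)` is conjugate to `z` or `i k`.
* `RowL4.exists_conj` : a position of `L` is conjugate to one with `x = z`, `w = i k`.
-/

set_option autoImplicit false
set_option linter.style.haveILetI false
set_option maxRecDepth 100000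

namespace Cfsg.Agent.OddHalf.NI3.Bad

open Subgroup Cfsg

section

variable {D : Type*} [Group D] {x w : D} {A B : Subgroup D}

theorem Pos.ne (hp : Pos x A B w) : w * w = 1 ∧ w ≠ 1 ∧ w ≠ x ∧ w * x = x * w := by
  obtain ⟨p, hpA, q, hqB, hpp, hqq, rfl⟩ := hp.dec
  have hpq : p * q = q * p := mem_centralizer_iff.1 (hp.comm hqB) p hpA
  have hxx : x * x = 1 := hp.a.pr.t3.z_sq
  have hx1 : x ≠ 1 := hp.a.pr.t3.z_ne
  have hne : ∀ c : D, c ∈ B → p * q ≠ c := by
    intro c hc hpc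
    have hpB : p ∈ B := by
      have h3 : p = c * q⁻¹ := by rw [← hpc]; group
      rw [h3]; exact mul_mem hc (inv_mem hqB)
    rcases hp.a.pr.t3.cen p hpA (fun y hy _ => mem_centralizer_iff.1 (hp.comm hpB) y hy |>.symm) with h4 | h4
    · rw [h4, mul_one] at hpp
      exact hx1 hpp.symm
    · rw [h4, hxx] at hpp
      exact hx1 hpp.symm
  refine ⟨?_, hne 1 (one_mem _), hne x hp.b.pr.mem, ?_⟩
  · calc p * q * (p * q) = p * (q * p) * q := by group
      _ = (p * p) * (q * q) := by rw [← hpq]; group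
      _ = 1 := by rw [hpp, hqq, hxx]
  · have h1 : p * x = x * p := by rw [← hpp, mul_assoc]
    have h2 : q * x = x * q := by rw [← hqq, mul_assoc]
    rw [mul_assoc, h2, ← mul_assoc, h1, mul_assoc]

theorem Pos.mem_core [Finite D] (hp : Pos x A B w) :
    w ∈ (pCore 2 ↥(centralizer ({x} : Set D))).map (centralizer ({x} : Set D)).subtype := by
  obtain ⟨p, hpA, q, hqB, hpp, hqq, rfl⟩ := hp.dec
  exact mul_mem (KFacts.PSpFourThree.mem_core hp.a hpA hpp) (KFacts.PSpFourThree.mem_core hp.b hqB hqq)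

end

namespace RowL4

open Cfsg.Agent.KFacts.LFourThree Cfsg.Agent.KFacts.LFourThree.Facts
open Cfsg.Agent.SmallExtra438 Cfsg.Agent.SmallExtra438.FrameA

/-! ### Classes of involutions -/

def eS1 : SL4 := ⟨!![1, 0, 0, 1; 0, 1, 2, 0; 2, 0, 0, 1; 0, 2, 2, 0], by decide +kernel⟩
def eS2 : SL4 := ⟨!![2, 0, 0, 2; 1, 2, 2, 1; 1, 0, 0, 2; 0, 2, 1, 0], by decide +kernel⟩
def eS3 : SL4 := ⟨!![0, 0, 1, 1; 2, 0, 0, 0; 0, 0, 1, 2; 0, 1, 0, 0], by decide +kernel⟩
def eS4 : SL4 := ⟨!![2, 0, 0, 0; 1, 0, 0, 2; 0, 1, 0, 0; 0, 0, 1, 0], by decide +kernel⟩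

theorem f1 : pr eS1 * z = s * pr eS1 := by
  simp only [z, s, ← map_mul]
  exact pm (by decide +kernel)

theorem f2 : pr eS2 * z = (y * s) * pr eS2 := by
  simp only [z, s, y, ← map_mul]
  exact pm (by decide +kernel)

theorem f3 : pr eS3 * (i * k) = (z * s) * pr eS3 := by
  simp only [z, s, i, k, ← map_mul]
  exact pm (by decide +kernel)

theorem f4 : pr eS4 * (i * k) = (z * (y * s)) * pr eS4 := by
  simp only [z, s, y, i, k, ← map_mul]
  exact pm (by decide +kernel)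

theorem F592 : F z i j k l x₁ x₂ y s 592 = z * s := by simp [F, Frame.L_16, kap]
theorem F864 : F z i j k l x₁ x₂ y s 864 = y * s := by simp [F, Frame.L_0, kap]
theorem F880 : F z i j k l x₁ x₂ y s 880 = z * (y * s) := by simp [F, Frame.L_16, kap]

theorem conj_of {G : Type*} [Group G] {g a b : G} (h : g * a = b * g) : g⁻¹ * b * g = a := by
  rw [mul_assoc, ← h]; group

/-- the involutions of `C(z)` -/
theorem cls_z {p : L} (hpz : p * z = z * p) (hpp : p * p = 1) (hp1 : p ≠ 1) :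
    ∃ g : L, g * p * g⁻¹ = z ∨ g * p * g⁻¹ = i * k := by
  obtain ⟨r, hr, c, -, hc⟩ := ClassA.class0 case9aa tw0 hpz hpp hp1
  have key : ∀ {g a : L}, g * a = (F z i j k l x₁ x₂ y s r) * g → (g⁻¹ * c) * p * (g⁻¹ * c)⁻¹ = a := by
    intro g a h
    have e : (g⁻¹ * c) * p * (g⁻¹ * c)⁻¹ = g⁻¹ * (c * p * c⁻¹) * g := by group
    rw [e, hc]
    exact conj_of h
  simp only [List.mem_cons, List.not_mem_nil, or_false] at hr
  rcases hr with rfl | rfl | rfl | rfl | rfl | rfl | rfl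
  · exact ⟨c, Or.inl (by rw [hc, F_16])⟩
  · exact ⟨c, Or.inr (by rw [hc, F_5])⟩
  · exact ⟨_, Or.inl (key (g := g) (by rw [F_288]; exact gz))⟩
  · exact ⟨_, Or.inl (key (by rw [F_576]; exact f1))⟩
  · exact ⟨_, Or.inr (key (by rw [F592]; exact f3))⟩
  · exact ⟨_, Or.inl (key (by rw [F864]; exact f2))⟩
  · exact ⟨_, Or.inr (key (by rw [F880]; exact f4))⟩

/-- the involutions of `L₄(3)` -/
theorem cls {p : L} (hpp : p * p = 1) (hp1 : p ≠ 1) : ∃ g : L, g * p * g⁻¹ = z ∨ g * p * g⁻¹ = i * k := by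
  haveI : Fact (Nat.Prime 2) := ⟨Nat.prime_two⟩
  have hodd := one_L.odd
  -- a Sylow 2-subgroup in `C(z)`
  obtain ⟨S⟩ : Nonempty (Sylow 2 ↥(centralizer ({z} : Set L))) := inferInstance
  have hS : IsPGroup 2 ((S : Subgroup ↥(centralizer ({z} : Set L))).map (centralizer ({z} : Set L)).subtype) :=
    S.isPGroup'.map _
  obtain ⟨T, hT⟩ := hS.exists_le_sylow
  have hTS : (T : Subgroup L) = (S : Subgroup ↥(centralizer ({z} : Set L))).map (centralizer ({z} : Set L)).subtype := by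
    symm
    refine eq_of_le_of_card_ge hT ?_
    rw [card_map_of_injective (centralizer ({z} : Set L)).subtype_injective]
    have h1 : ¬ 2 ∣ (centralizer ({z} : Set L)).index := hodd.not_two_dvd_nat
    have h2 := (centralizer ({z} : Set L)).index_mul_card
    rw [T.card_eq_multiplicity, S.card_eq_multiplicity]
    refine le_of_eq ?_
    rw [← h2, Nat.factorization_mul index_ne_zero_of_finite Nat.card_pos.ne']
    simp only [Finsupp.coe_add, Pi.add_apply]
    rw [Nat.factorization_eq_zero_of_not_dvd h1, zero_add]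
  have hp2 : IsPGroup 2 (zpowers p) := by
    refine IsPGroup.of_card (n := 1) ?_
    rw [Nat.card_zpowers, orderOf_eq_prime (by rw [pow_two, hpp]) hp1, pow_one]
  obtain ⟨P, hP⟩ := hp2.exists_le_sylow
  obtain ⟨g, hg⟩ := MulAction.exists_smul_eq L P T
  have h1 : g * p * g⁻¹ ∈ (T : Subgroup L) := by
    rw [← hg]
    exact ⟨p, hP (mem_zpowers p), rfl⟩
  rw [hTS] at h1
  obtain ⟨t, -, ht⟩ := h1
  have h2 : (g * p * g⁻¹) * z = z * (g * p * g⁻¹) := by
    have := mem_centralizer_singleton_iff.1 t.2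
    rw [← ht]; exact this
  obtain ⟨c, hc⟩ := cls_z h2 (by
    calc g * p * g⁻¹ * (g * p * g⁻¹) = g * (p * p) * g⁻¹ := by group
      _ = 1 := by rw [hpp]; group) (by
    intro h3
    apply hp1
    calc p = g⁻¹ * (g * p * g⁻¹) * g := by group
      _ = 1 := by rw [h3]; group)
  refine ⟨c * g, ?_⟩
  have e : c * g * p * (c * g)⁻¹ = c * (g * p * g⁻¹) * c⁻¹ := by group
  rw [e]
  exact hc

/-- the involutions of `Q` -/
theorem cls_Q {w : L} (hwQ : w ∈ Q) (hww : w * w = 1) (hw1 : w ≠ 1) (hwz : w ≠ z) :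
    ∃ c : L, c * z = z * c ∧ c * w * c⁻¹ = i * k := by
  have hwc : w * z = z * w := one_L.RP w hwQ
  obtain ⟨r, hr, c, hcz, hc⟩ := ClassA.class0 case9aa tw0 hwc hww hw1
  have hmem : F z i j k l x₁ x₂ y s r ∈ Q := by
    rw [← hc]
    exact one_L.nR c hcz w hwQ
  simp only [List.mem_cons, List.not_mem_nil, or_false] at hr
  have hlt : r < 32 := by
    refine (mem_Q_iff case9aa ?_).1 hmem
    rcases hr with rfl | rfl | rfl | rfl | rfl | rfl | rfl <;> norm_num
  rcases hr with rfl | rfl | rfl | rfl | rfl | rfl | rfl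
  · exfalso
    apply hwz
    rw [F_16] at hc
    have h1 : w = c⁻¹ * z * c := by rw [← hc]; group
    rw [h1, mul_assoc, ← hcz]; group
  · exact ⟨c, hcz, by rw [hc, F_5]⟩
  all_goals omega

/-- positions with `x = z` -/
theorem exists_conj_z {w : L} {A B : Subgroup L} (h : Pos z A B w) : ∃ g : L, g * z = z * g ∧ g * w * g⁻¹ = i * k := by
  obtain ⟨h1, h2, h3, -⟩ := h.ne
  refine cls_Q ?_ h1 h2 h3
  have h4 : (pCore 2 ↥(centralizer ({z} : Set L))).map (centralizer ({z} : Set L)).subtype ≤ Q := by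
    refine one_L.max _ ((Lib.Cores.pCore_isPGroup 2).map _) ?_ ?_
    · rintro _ ⟨n, -, rfl⟩
      exact mem_centralizer_singleton_iff.1 n.2
    · intro g hg n hn
      exact KFacts.PSpFourThree.core_norm hg hn
  exact h4 h.mem_core

/-- **the positions of `L₄(3)`**; hypothesis `hW`: a component of `C(i k)` with abelian centraliser in `C(i k)` -/
theorem exists_conj_of (hW : ∃ E : Subgroup L, NI.CompIn (centralizer ({i * k} : Set L)) E ∧
      ∀ a ∈ centralizer ({i * k} : Set L) ⊓ centralizer (E : Set L),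
        ∀ b ∈ centralizer ({i * k} : Set L) ⊓ centralizer (E : Set L), a * b = b * a)
    {x w : L} {A B : Subgroup L} (h : Pos x A B w) : ∃ g : L, g * x * g⁻¹ = z ∧ g * w * g⁻¹ = i * k := by
  obtain ⟨g, hg | hg⟩ := cls h.a.pr.t3.z_sq h.a.pr.t3.z_ne
  · have h1 := h.mapE (MulAut.conj g)
    have h2 : (MulAut.conj g) x = z := hg
    rw [h2] at h1
    obtain ⟨c, hcz, hc⟩ := exists_conj_z h1
    have h3 : (MulAut.conj g) w = g * w * g⁻¹ := rfl
    rw [h3] at hc
    refine ⟨c * g, ?_, ?_⟩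
    · calc c * g * x * (c * g)⁻¹ = c * (g * x * g⁻¹) * c⁻¹ := by group
        _ = z := by rw [hg, hcz, mul_inv_cancel_right]
    · calc c * g * w * (c * g)⁻¹ = c * (g * w * g⁻¹) * c⁻¹ := by group
        _ = i * k := hc
  · exfalso
    have h1 := h.a.mapE (MulAut.conj g)
    have h2 : (MulAut.conj g) x = i * k := hg
    rw [h2] at h1
    obtain ⟨E, hE, hab⟩ := hW
    set C := centralizer ({i * k} : Set L) with hC
    set J := A.map (MulAut.conj g).toMonoidHom with hJ
    have h3 : IsPr (J.subgroupOf C) (⟨i * k, h1.sn.1 h1.pr.mem⟩ : ↥C) := h1.pr.subgroupOf h1.sn.1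
    have h4 := comm_component h3 h1.sn.2 hE.comp
    have h5 : ∀ a ∈ J, a ∈ C ⊓ centralizer (E : Set L) := by
      intro a ha
      refine mem_inf.2 ⟨h1.sn.1 ha, ?_⟩
      rw [mem_centralizer_iff]
      intro b hb
      exact (congrArg Subtype.val (h4 ⟨a, h1.sn.1 ha⟩ ha ⟨b, hE.le hb⟩ hb)).symm
    obtain ⟨p, hp, q, hq, -, -, hpq⟩ := h1.pr.t3.ex4
    exact hpq (hab p (h5 p hp) q (h5 q hq))

end RowL4

end Cfsg.Agent.OddHalf.NI3.Bad
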