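import Cfsg.Agent.OddHalf.NI3.Bad.CaseA
import Cfsg.Agent.OddHalf.NI3.Bad.Inner
import Cfsg.Agent.OddHalf.NI3.SubSL

/-!
# THEOREM NIB, (3d)(a2): elements acting on `SL₂(3)` (bb ODD: helper967)

`J ≅ SL₂(3)` with involution `z`, `g` normalises `J`, `p ∈ J` of order 4.
* `sq_comm_of_inv` : if `g` inverts `p` then `g²` centralises `J`;
* `outer_conj` : if `g` commutes with `p` and `g²` acts on `J` as `p`, then `g p' g⁻¹ = (p p')^{±1}` for the elements
  `p' ∈ J` of order 4 not commuting with `p`;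
* `outer_pow` : and `[g, v]` is not a 2-element for `v ∈ J` of order 3.
* `perm` : a pair of commuting `SL₂(3)`, `J₁, J₂`, with the same involution: an element which normalises `J₁ ⊔ J₂`
  permutes `{J₁, J₂}`.
-/

set_option autoImplicit false
set_option linter.style.haveILetI false
set_option linter.unusedSectionVars false
set_option linter.unusedSimpArgs false

namespace Cfsg.Agent.OddHalf.NI3.Bad.ATwo

open Subgroup Cfsg Cfsg.Agent.Cit Cfsg.Agent.Cit.SolvTwo
open Cfsg.Agent.Cit.SLThree (Qt Sl)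

section One

variable {G : Type*} [Group G] {J : Subgroup G} {z : G}

theorem cj_mem {g : G} (hg : g ∈ J) : cj g J = J := mem_normalizer_iff_cj.1 (le_normalizer hg)

/-- coordinates with given `i` -/
theorem exists_sl (h : IsPr J z) {p : G} (hp : p ∈ J) (hpz : p * p = z) : ∃ j d, Sl J z p j d := by
  obtain ⟨i, j, d, hl⟩ := h.sl
  obtain ⟨g, hg, hgp⟩ := h.t3.conj i hl.hi p hp hl.q.i2 hpz
  have h1 := hl.of_cj g
  rw [cj_mem hg, hgp] at h1
  have h2 : g * z * g⁻¹ = z := by rw [h.comm_z hg, mul_inv_cancel_right]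
  rw [h2] at h1
  exact ⟨_, _, h1⟩

theorem four {i j d : G} (hl : Sl J z i j d) (h3 : T3 J z) {x : G} (hx : x ∈ J) (hx2 : x * x = z)
    (hn : i * x ≠ x * i) : x = j ∨ x = z * j ∨ x = i * j ∨ x = z * (i * j) := by
  rcases hl.q.mem_cases (mem_Q_of_sq hl h3 hx hx2) with h1 | h1 | h1 | h1 | h1 | h1 | h1 | h1
  · exact absurd (by rw [h1, one_mul, mul_one]) hn
  · exact absurd (by rw [h1, hl.q.iz]) hn
  · exact absurd (by rw [h1]) hn
  · exact absurd (by rw [h1, hl.q.izx, mul_assoc]) hn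
  · exact Or.inl h1
  · exact Or.inr (Or.inl h1)
  · exact Or.inr (Or.inr (Or.inl h1))
  · exact Or.inr (Or.inr (Or.inr h1))

theorem q_conj_four {i j d : G} (hl : Sl J z i j d) (h3 : T3 J z) {x y : G} (hx : x ∈ J) (hxz : x * x = z) (hy : y ∈ J)
    (hyz : y * y = z) : x * y * x⁻¹ = y ∨ x * y * x⁻¹ = z * y :=
  q_conj hl.q (mem_Q_of_sq hl h3 hx hxz) (mem_Q_of_sq hl h3 hy hyz)

theorem conj_z (h : IsPr J z) {g : G} (hg : cj g J = J) : g * z * g⁻¹ = z := by
  have h1 : g * z * g⁻¹ ∈ J := by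
    have := conj_mem_cj (g := g) h.mem
    rwa [hg] at this
  rcases h.inv_eq h1 (by
    calc g * z * g⁻¹ * (g * z * g⁻¹) = g * (z * z) * g⁻¹ := by group
      _ = 1 := by rw [h.t3.z_sq]; group) with h2 | h2
  · exfalso
    apply h.t3.z_ne
    calc z = g⁻¹ * (g * z * g⁻¹) * g := by group
      _ = 1 := by rw [h2]; group
  · exact h2

theorem conj_mem {g : G} (hg : cj g J = J) {x : G} (hx : x ∈ J) : g * x * g⁻¹ ∈ J := by
  have := conj_mem_cj (g := g) hx
  rwa [hg] at this

/-- commuting with the elements of order 4 of `J` and normalising `J` implies centralising `J` -/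
theorem comm_of_four (h : IsPr J z) {g : G} (hg : cj g J = J) (h4 : ∀ x ∈ J, x * x = z → g * x = x * g) :
    ∀ x ∈ J, g * x = x * g := by
  -- for `d` of order three
  have key : ∀ d ∈ J, d * d * d = 1 → g * d = d * g := by
    intro d hd hd3
    set w := g * d * g⁻¹ * d⁻¹ with hw
    have hwJ : w ∈ J := mul_mem (conj_mem hg hd) (inv_mem hd)
    have hgd : g * d * g⁻¹ = w * d := by rw [hw]; group
    have hwc : ∀ y ∈ J, y * y = z → w * y = y * w := by
      intro y hy hyz
      -- `y = d x d⁻¹`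
      have hx : d⁻¹ * y * d ∈ J := mul_mem (mul_mem (inv_mem hd) hy) hd
      have hxz : (d⁻¹ * y * d) * (d⁻¹ * y * d) = z := by
        calc (d⁻¹ * y * d) * (d⁻¹ * y * d) = d⁻¹ * (y * y) * d := by group
          _ = z := by rw [hyz, mul_assoc, ← h.comm_z hd]; group
      have h1 := h4 _ hx hxz
      have h2 := h4 y hy hyz
      have h3 : g * y * g⁻¹ = y := by rw [h2]; group
      have h5 : g * (d⁻¹ * y * d) * g⁻¹ = d⁻¹ * y * d := by rw [h1]; group
      have h6 : (w * d) * (d⁻¹ * y * d) * (w * d)⁻¹ = y := by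
        rw [← hgd]
        calc g * d * g⁻¹ * (d⁻¹ * y * d) * (g * d * g⁻¹)⁻¹ = g * d * (g⁻¹ * (d⁻¹ * y * d) * g) * d⁻¹ * g⁻¹ := by group
          _ = g * d * (d⁻¹ * y * d) * d⁻¹ * g⁻¹ := by
              have : g⁻¹ * (d⁻¹ * y * d) * g = d⁻¹ * y * d := by
                rw [mul_assoc, ← h1]; group
              rw [this]
          _ = g * y * g⁻¹ := by group
          _ = y := h3
      have h7 : w * y * w⁻¹ = y := by
        calc w * y * w⁻¹ = (w * d) * (d⁻¹ * y * d) * (w * d)⁻¹ := by group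
          _ = y := h6
      exact mul_inv_eq_iff_eq_mul.1 h7
    rcases h.t3.cen w hwJ hwc with h1 | h1
    · have h2 : g * d * g⁻¹ = d := by rw [hgd, h1, one_mul]
      exact mul_inv_eq_iff_eq_mul.1 h2
    · exfalso
      have h2 : (g * d * g⁻¹) * (g * d * g⁻¹) * (g * d * g⁻¹) = 1 := SLThree.cube_conj hd3 g
      rw [hgd, h1] at h2
      have h3 : z * d * (z * d) * (z * d) = z * (d * d * d) := by
        have e1 : d * z = z * d := h.comm_z hd
        calc z * d * (z * d) * (z * d) = z * (d * z) * d * z * d := by group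
          _ = z * (z * d) * d * z * d := by rw [e1]
          _ = (z * z) * d * (d * z) * d := by group
          _ = (z * z) * d * (z * d) * d := by rw [e1]
          _ = (z * z) * (d * z) * d * d := by group
          _ = (z * z) * (z * d) * d * d := by rw [e1]
          _ = (z * z) * z * (d * d * d) := by group
          _ = z * (d * d * d) := by rw [h.t3.z_sq, one_mul]
      rw [h3, hd3, mul_one] at h2
      exact h.t3.z_ne h2
  have h1 : J ≤ centralizer ({g} : Set G) := by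
    refine h.le_of_cube fun v hv h3 => ?_
    rw [mem_centralizer_singleton_iff]
    exact (key v hv h3).symm
  intro x hx
  exact (mem_centralizer_singleton_iff.1 (h1 hx)).symm

/-- if `g` inverts an element of order 4 of `J` then `g²` centralises `J` -/
theorem sq_comm_of_inv (h : IsPr J z) {g : G} (hg : cj g J = J) {p : G} (hp : p ∈ J) (hpz : p * p = z)
    (hgp : g * p * g⁻¹ = p⁻¹) : ∀ x ∈ J, g * g * x = x * (g * g) := by
  obtain ⟨j, d, hl⟩ := exists_sl h hp hpz
  have hgz := conj_z h hg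
  have hq := hl.q
  have hjJ : j ∈ J := by rw [← hl.di]; exact mul_mem (mul_mem hl.hd hl.hi) (inv_mem hl.hd)
  have hy : g * j * g⁻¹ ∈ J := conj_mem hg hjJ
  have hyz : g * j * g⁻¹ * (g * j * g⁻¹) = z := by
    calc g * j * g⁻¹ * (g * j * g⁻¹) = g * (j * j) * g⁻¹ := by group
      _ = z := by rw [hq.j2, hgz]
  have hn : p * (g * j * g⁻¹) ≠ (g * j * g⁻¹) * p := by
    intro h1
    apply hq.not_comm
    have h2 : p⁻¹ * (g * j * g⁻¹) = (g * j * g⁻¹) * p⁻¹ := (show Commute p (g * j * g⁻¹) from h1).inv_left.eq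
    rw [← hgp] at h2
    have h3 : g * (p * j) * g⁻¹ = g * (j * p) * g⁻¹ := by
      calc g * (p * j) * g⁻¹ = g * p * g⁻¹ * (g * j * g⁻¹) := by group
        _ = (g * j * g⁻¹) * (g * p * g⁻¹) := h2
        _ = g * (j * p) * g⁻¹ := by group
    exact mul_left_cancel (mul_right_cancel h3)
  -- `g² p g⁻² = p`, `g² j g⁻² = j`
  have e2 : ∀ x, g * g * x * (g * g)⁻¹ = g * (g * x * g⁻¹) * g⁻¹ := fun x => by group
  have em : ∀ x y, g * (x * y) * g⁻¹ = (g * x * g⁻¹) * (g * y * g⁻¹) := fun x y => by group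
  have k1 : g * g * p * (g * g)⁻¹ = p := by
    rw [e2, hgp]
    calc g * p⁻¹ * g⁻¹ = (g * p * g⁻¹)⁻¹ := by group
      _ = p := by rw [hgp, inv_inv]
  have k2 : g * g * j * (g * g)⁻¹ = j := by
    rw [e2]
    rcases four hl h.t3 hy hyz hn with h1 | h1 | h1 | h1
    · rw [h1, h1]
    · rw [h1, em, hgz, h1, hq.zz]
    · rw [h1, em, hgp, h1, hq.i_inv]
      simp only [mul_assoc, one_mul, mul_one, hq.z2, hq.zz, hq.iz, hq.jz, hq.izx, hq.jzx, hq.i2, hq.j2, hq.iix,
        hq.jjx, hq.ji, hq.jix]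
    · rw [h1, em, em, hgp, h1, hgz, hq.i_inv]
      simp only [mul_assoc, one_mul, mul_one, hq.z2, hq.zz, hq.iz, hq.jz, hq.izx, hq.jzx, hq.i2, hq.j2, hq.iix,
        hq.jjx, hq.ji, hq.jix]
  have k1' : g * g * p = p * (g * g) := mul_inv_eq_iff_eq_mul.1 k1
  have k2' : g * g * j = j * (g * g) := mul_inv_eq_iff_eq_mul.1 k2
  have hgg : cj (g * g) J = J := by rw [cj_mul, hg, hg]
  refine comm_of_four h hgg ?_
  intro x hx hxz
  have h1 : closure ({p, j} : Set G) ≤ centralizer ({g * g} : Set G) := by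
    rw [closure_le]
    rintro y (rfl | rfl)
    · exact mem_centralizer_singleton_iff.2 k1'.symm
    · exact mem_centralizer_singleton_iff.2 k2'.symm
  exact (mem_centralizer_singleton_iff.1 (h1 (mem_Q_of_sq hl h.t3 hx hxz))).symm

/-- if `g` commutes with `p` and `g²` acts as `p`, then `g` acts on `J` as an outer automorphism -/
theorem outer_conj (h : IsPr J z) {g : G} (hg : cj g J = J) {p : G} (hp : p ∈ J) (hpz : p * p = z)
    (hgp : g * p = p * g) (hgg : ∀ x ∈ J, g * g * x * (g * g)⁻¹ = p * x * p⁻¹) {x : G} (hx : x ∈ J) (hxz : x * x = z)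
    (hn : p * x ≠ x * p) : g * x * g⁻¹ = p * x ∨ g * x * g⁻¹ = z * (p * x) := by
  obtain ⟨j, d, hl⟩ := exists_sl h hp hpz
  have hgz := conj_z h hg
  have hq := hl.q
  have hgp' : g * p * g⁻¹ = p := by rw [hgp]; group
  have hy : g * x * g⁻¹ ∈ J := conj_mem hg hx
  have hyz : g * x * g⁻¹ * (g * x * g⁻¹) = z := by
    calc g * x * g⁻¹ * (g * x * g⁻¹) = g * (x * x) * g⁻¹ := by group
      _ = z := by rw [hxz, hgz]
  have hyn : p * (g * x * g⁻¹) ≠ (g * x * g⁻¹) * p := by
    intro h1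
    apply hn
    nth_rw 1 [← hgp'] at h1
    nth_rw 2 [← hgp'] at h1
    have h3 : g * (p * x) * g⁻¹ = g * (x * p) * g⁻¹ := by
      calc g * (p * x) * g⁻¹ = g * p * g⁻¹ * (g * x * g⁻¹) := by group
        _ = (g * x * g⁻¹) * (g * p * g⁻¹) := h1
        _ = g * (x * p) * g⁻¹ := by group
    exact mul_left_cancel (mul_right_cancel h3)
  have e2 : g * g * x * (g * g)⁻¹ = g * (g * x * g⁻¹) * g⁻¹ := by group
  have em : ∀ x y, g * (x * y) * g⁻¹ = (g * x * g⁻¹) * (g * y * g⁻¹) := fun x y => by group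
  have h2 := hgg x hx
  rw [e2] at h2
  -- `p x p⁻¹ ≠ x`
  have h3 : p * x * p⁻¹ ≠ x := fun h4 => hn (mul_inv_eq_iff_eq_mul.1 h4)
  -- excluded : `g x g⁻¹ = x`, `z x`
  have ex1 : g * x * g⁻¹ ≠ x := by
    intro h4
    rw [h4, h4] at h2
    exact h3 h2.symm
  have ex2 : g * x * g⁻¹ ≠ z * x := by
    intro h4
    rw [h4, em, hgz, h4, hq.zz] at h2
    exact h3 h2.symm
  rcases four hl h.t3 hx hxz hn with h4 | h4 | h4 | h4 <;> rcases four hl h.t3 hy hyz hyn with h5 | h5 | h5 | h5 <;>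
    rw [h5] <;> rw [h5] at ex1 ex2 <;> subst h4 <;>
    simp only [mul_assoc, one_mul, mul_one, hq.z2, hq.zz, hq.iz, hq.jz, hq.izx, hq.jzx, hq.i2, hq.j2, hq.iix,
        hq.jjx, hq.ji, hq.jix, true_or, or_true, ne_eq, not_true_eq_false] at ex1 ex2 ⊢

/-- and `[g, v]` is not a 2-element for `v ∈ J` of order 3 -/
theorem outer_pow (h : IsPr J z) {g : G} (hg : cj g J = J) {p : G} (hp : p ∈ J) (hpz : p * p = z)
    (hgp : g * p = p * g) (hgg : ∀ x ∈ J, g * g * x * (g * g)⁻¹ = p * x * p⁻¹) {v : G} (hv : v ∈ J)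
    (hv3 : v * v * v = 1) (hv1 : v ≠ 1) (n : ℕ) : (g * v * g⁻¹ * v⁻¹) ^ 2 ^ n ≠ 1 := by
  obtain ⟨j, d, hl⟩ := exists_sl h hp hpz
  have hgz := conj_z h hg
  have hgp' : g * p * g⁻¹ = p := by rw [hgp]; group
  set w := g * v * g⁻¹ * v⁻¹ with hw
  have hwJ : w ∈ J := mul_mem (conj_mem hg hv) (inv_mem hv)
  have hgv : g * v * g⁻¹ = w * v := by rw [hw]; group
  -- `p₁ = v p v⁻¹`
  have hp1 : v * p * v⁻¹ ∈ J := mul_mem (mul_mem hv hp) (inv_mem hv)
  have hp1z : (v * p * v⁻¹) * (v * p * v⁻¹) = z := by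
    calc (v * p * v⁻¹) * (v * p * v⁻¹) = v * (p * p) * v⁻¹ := by group
      _ = z := by rw [hpz, h.comm_z hv, mul_inv_cancel_right]
  have hn : p * (v * p * v⁻¹) ≠ (v * p * v⁻¹) * p := by
    intro h1
    -- `v p v⁻¹` commutes with `p`, so is `p` or `z p`
    have h2 : v * p * v⁻¹ = p ∨ v * p * v⁻¹ = z * p := by
      rcases hl.q.mem_cases (mem_Q_of_sq hl h.t3 hp1 hp1z) with h2 | h2 | h2 | h2 | h2 | h2 | h2 | h2
      · rw [h2, one_mul] at hp1z; exact absurd hp1z.symm hl.q.z1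
      · rw [h2, hl.q.z2] at hp1z; exact absurd hp1z.symm hl.q.z1
      · exact Or.inl h2
      · exact Or.inr h2
      · rw [h2] at h1; exact absurd h1 hl.q.not_comm
      · exfalso
        rw [h2, hl.q.izx, mul_assoc] at h1
        exact hl.q.not_comm (mul_left_cancel h1)
      · exfalso
        rw [h2] at h1
        have h3 : p * j = j * p := mul_left_cancel (a := p) (by rw [h1, mul_assoc])
        exact hl.q.not_comm h3
      · exfalso
        rw [h2, hl.q.izx, mul_assoc] at h1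
        have h4 := mul_left_cancel h1
        have h3 : p * j = j * p := mul_left_cancel (a := p) (by rw [h4, mul_assoc])
        exact hl.q.not_comm h3
    have h3 : v * p * v⁻¹ = p := by
      rcases h2 with h2 | h2
      · exact h2
      · exfalso
        have hvz : v * z * v⁻¹ = z := by rw [h.comm_z hv]; group
        have e : (v * v * v) * p * (v * v * v)⁻¹ = z * p := by
          calc (v * v * v) * p * (v * v * v)⁻¹ = v * (v * (v * p * v⁻¹) * v⁻¹) * v⁻¹ := by group
            _ = v * (v * (z * p) * v⁻¹) * v⁻¹ := by rw [h2]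
            _ = v * ((v * z * v⁻¹) * (v * p * v⁻¹)) * v⁻¹ := by group
            _ = v * (z * (z * p)) * v⁻¹ := by rw [hvz, h2]
            _ = v * p * v⁻¹ := by rw [hl.q.zz]
            _ = z * p := h2
        rw [hv3, inv_one, one_mul, mul_one] at e
        exact hl.q.z1 (mul_right_cancel (b := p) (by rw [one_mul]; exact e.symm))
    -- `v` centralises `⟨p⟩`: but `v` of order 3 moves it
    have h4 : v * p = p * v := mul_inv_eq_iff_eq_mul.1 h3
    obtain ⟨q, hq, hvq⟩ := hl.mem_cases hv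
    have hqc : ∀ x ∈ closure ({p, j} : Set G), q * x * q⁻¹ = x ∨ q * x * q⁻¹ = z * x := by
      intro x hx
      rcases hl.q.mem_cases hq with rfl | rfl | rfl | rfl | rfl | rfl | rfl | rfl <;>
      rcases hl.q.mem_cases hx with rfl | rfl | rfl | rfl | rfl | rfl | rfl | rfl <;>
      simp only [mul_inv_rev, hl.q.z_inv, hl.q.i_inv, hl.q.j_inv, inv_one,
        mul_assoc, one_mul, mul_one, hl.q.z2, hl.q.zz, hl.q.iz, hl.q.jz, hl.q.izx, hl.q.jzx, hl.q.i2, hl.q.j2,
        hl.q.iix, hl.q.jjx, hl.q.ji, hl.q.jix, true_or, or_true]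
    have hne : ∀ x, (x = j ∨ x = p * j) → ∀ y, (y = x ∨ y = z * x) → y ≠ p := by
      rintro x hx y hy rfl
      apply hl.q.not_comm
      have h5 : j = y ∨ j = z * y ∨ j = 1 ∨ j = z := by
        rcases hx with rfl | rfl <;> rcases hy with h6 | h6
        · exact Or.inl h6.symm
        · right; left; rw [h6, hl.q.zz]
        · exact Or.inr (Or.inr (Or.inl (mul_left_cancel (h6.symm.trans (mul_one y).symm))))
        · refine Or.inr (Or.inr (Or.inr ?_))
          rw [← hl.q.izx] at h6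
          have h7 : z * j = 1 := mul_left_cancel (h6.symm.trans (mul_one y).symm)
          rw [← hl.q.zz j, h7, mul_one]
      rcases h5 with h5 | h5 | h5 | h5 <;> rw [h5]
      · rw [hl.q.izx]; group
      · rw [one_mul, mul_one]
      · exact hl.q.iz
    rcases hvq with h5 | h5 | h5
    · -- `v ∈ Q` of order 3
      rw [← h5] at hq
      rcases hl.q.sq hq with h6 | h6
      · rcases hl.q.sq_cases hq h6 with h7 | h7
        · exact hv1 h7
        · rw [h7, hl.q.z2, one_mul] at hv3; exact hl.q.z1 hv3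
      · rw [h6] at hv3
        have h7 : v = z := by
          calc v = z * (z * v) := (hl.q.zz v).symm
            _ = z := by rw [hv3, mul_one]
        rw [h7, hl.q.z2] at h6
        exact hl.q.z1 h6.symm
    · have h6 : q * j * q⁻¹ = p := by
        rw [← hl.di]
        calc q * (d * p * d⁻¹) * q⁻¹ = (q * d) * p * (q * d)⁻¹ := by group
          _ = p := by rw [← h5, h3]
      exact hne j (Or.inl rfl) _ (hqc j (Qt.mem_j z _ _)) h6
    · have h6 : q * (p * j) * q⁻¹ = p := by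
        rw [← hl.dj, ← hl.di]
        calc q * (d * (d * p * d⁻¹) * d⁻¹) * q⁻¹ = (q * (d * d)) * p * (q * (d * d))⁻¹ := by group
          _ = p := by rw [← h5, h3]
      exact hne (p * j) (Or.inr rfl) _ (hqc _ (mul_mem (Qt.mem_i z _ _) (Qt.mem_j z _ _))) h6
  -- `w ∉ Q`
  have hwQ : ∀ y ∈ J, y * y = z → y ≠ w ∧ y * y ≠ w ∧ w ≠ 1 := by
    have key : w * (v * p * v⁻¹) * w⁻¹ ≠ v * p * v⁻¹ ∧ w * (v * p * v⁻¹) * w⁻¹ ≠ z * (v * p * v⁻¹) := by
      have h1 : g * (v * p * v⁻¹) * g⁻¹ = w * (v * p * v⁻¹) * w⁻¹ := by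
        calc g * (v * p * v⁻¹) * g⁻¹ = (g * v * g⁻¹) * (g * p * g⁻¹) * (g * v * g⁻¹)⁻¹ := by group
          _ = w * (v * p * v⁻¹) * w⁻¹ := by rw [hgv, hgp']; group
      rw [← h1]
      have h2 := outer_conj h hg hp hpz hgp hgg hp1 hp1z hn
      have h3 : ∀ y : G, p * y ≠ y := fun y h4 => hl.q.i_ne (by
        calc p = p * y * y⁻¹ := by group
          _ = 1 := by rw [h4, mul_inv_cancel])
      have h3' : ∀ y : G, p * y ≠ z * y := fun y h4 => by
        have h5 : p = z := mul_right_cancel h4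
        have h6 := hpz
        rw [h5, hl.q.z2] at h6
        exact hl.q.z1 h6.symm
      rcases h2 with h2 | h2 <;> rw [h2]
      · exact ⟨h3 _, h3' _⟩
      · refine ⟨fun h4 => h3' (v * p * v⁻¹) ?_, fun h4 => h3 (v * p * v⁻¹) (mul_left_cancel h4)⟩
        calc p * (v * p * v⁻¹) = z * (z * (p * (v * p * v⁻¹))) := (hl.q.zz _).symm
          _ = z * (v * p * v⁻¹) := by rw [h4]
    intro y hy hyz
    refine ⟨?_, ?_, ?_⟩
    · rintro rfl
      rcases q_conj_four hl h.t3 hy hyz hp1 hp1z with h4 | h4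
      · exact key.1 h4
      · exact key.2 h4
    · intro h4
      rw [hyz] at h4
      apply key.1
      rw [← h4, ← h.comm_z hp1]; group
    · intro h4
      apply key.1
      rw [h4]; group
  obtain ⟨y, hy, y', hy', hyz, hy'z, -⟩ := h.t3.ex4
  have w1 : w ≠ 1 := (hwQ y hy hyz).2.2
  have wz : w ≠ z := fun h1 => (hwQ y hy hyz).2.1 (by rw [hyz, h1])
  have w2 : w * w ≠ z := fun h1 => (hwQ w hwJ h1).1 rfl
  intro h1
  have h6 : w ^ 6 = 1 := by
    rcases h.t3.cases w hwJ with h2 | h2 | h2 | h2 | h2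
    · exact absurd h2 w2
    · exact absurd h2 w1
    · exact absurd h2 wz
    · calc w ^ 6 = (w * w * w) * (w * w * w) := by simp only [pow_succ, pow_zero, one_mul, mul_assoc]
        _ = 1 := by rw [h2, one_mul]
    · calc w ^ 6 = (w * w * w) * (w * w * w) := by simp only [pow_succ, pow_zero, one_mul, mul_assoc]
        _ = 1 := by rw [h2, h.t3.z_sq]
  have h7 : w ^ Nat.gcd 6 (2 ^ n) = 1 := pow_gcd_eq_one.2 ⟨h6, h1⟩
  have h8 : Nat.gcd 6 (2 ^ n) ∣ 2 := by
    have h9 : Nat.Coprime 3 (2 ^ n) := Nat.Coprime.pow_right n (by norm_num)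
    have h10 : Nat.gcd (3 * 2) (2 ^ n) = Nat.gcd 2 (2 ^ n) := Nat.Coprime.gcd_mul_left_cancel 2 h9
    rw [show (6 : ℕ) = 3 * 2 from rfl, h10]
    exact Nat.gcd_dvd_left _ _
  have h9 : w * w = 1 := by
    rw [← pow_two]
    obtain ⟨k, hk⟩ := h8
    rw [hk, pow_mul, h7, one_pow]
  rcases h.inv_eq hwJ h9 with h10 | h10
  · exact w1 h10
  · exact wz h10

end One

end Cfsg.Agent.OddHalf.NI3.Bad.ATwo
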