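import Cfsg.Agent.OddHalf.NI3.Bad.Emb
import Cfsg.Agent.ClassicalGeometry.Discriminant
import Cfsg.Agent.LieClassical.OrthForms
import Cfsg.Agent.LieClassical.OrthCenter
import Cfsg.Agent.S0300
import Cfsg.Agent.S0301
import Cfsg.Agent.S0302
import Cfsg.Agent.S0303
import Cfsg.Agent.S0790
import Cfsg.Agent.S0791

/-!
# Nondegenerate quadratic spaces over `F₃` up to similarity, and the groups `Ω`

`Om Q = ⁅O Q, O Q⁆`, `Neg Q` : `-1 ∈ Om Q`. Over the field with three elements:
* `sim_odd`, `sim_even` : two nondegenerate forms of the same dimension `n` are similar (`n` even: if `Neg Q ↔ Neg Q'`);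
* `center_eq_bot`, `card_center` : the centre of `Om Q`;
* `om5`, `om6`, `om6c`, `om7`, `om8m`, `om8p`, `om4` : `Om Q` (or `Om Q` modulo its centre) is `PSp₄(3)`, `L₄(3)`, `U₄(3)`,
  `Ω₇(3)`, `PΩ₈⁻(3)`, `PΩ₈⁺(3)`, `L₂(9)`.
-/

set_option autoImplicit false
set_option linter.unusedSectionVars false
set_option linter.unusedVariables false

namespace Cfsg.Agent.OddHalf.NI3.Bad.Sim

open QuadraticMap Module Cfsg.Agent.LieClassical.OrthCore Cfsg.Agent.OddHalf.NI3.Bad.Emb
  Cfsg.Agent.ClassicalGeometry.OddInvolutions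

/-! ### Similarity -/

section

variable {F V V' V'' : Type*} [Field F] [AddCommGroup V] [Module F V] [AddCommGroup V'] [Module F V']
  [AddCommGroup V''] [Module F V'']

/-- `Ω(V)` -/
abbrev Om (Q : QuadraticForm F V) : Subgroup (V ≃ₗ[F] V) := ⁅O Q, O Q⁆

/-- `-1 ∈ Ω(V)` -/
def Neg (Q : QuadraticForm F V) : Prop := (LinearEquiv.neg F : V ≃ₗ[F] V) ∈ Om Q

/-- similarity -/
def Sml (Q : QuadraticForm F V) (Q' : QuadraticForm F V') : Prop :=
  ∃ (e : V ≃ₗ[F] V') (x : F), x ≠ 0 ∧ ∀ v, Q' (e v) = x * Q v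

variable {Q : QuadraticForm F V} {Q' : QuadraticForm F V'} {Q'' : QuadraticForm F V''}

theorem Sml.symm (h : Sml Q Q') : Sml Q' Q := by
  obtain ⟨e, x, hx, h⟩ := h
  refine ⟨e.symm, x⁻¹, inv_ne_zero hx, fun v => ?_⟩
  have h1 := h (e.symm v)
  rw [e.apply_symm_apply] at h1
  rw [h1, ← mul_assoc, inv_mul_cancel₀ hx, one_mul]

theorem Sml.trans (h : Sml Q Q') (h' : Sml Q' Q'') : Sml Q Q'' := by
  obtain ⟨e, x, hx, h⟩ := h
  obtain ⟨e', x', hx', h'⟩ := h'
  refine ⟨e.trans e', x' * x, mul_ne_zero hx' hx, fun v => ?_⟩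
  rw [LinearEquiv.trans_apply, h', h, mul_assoc]

/-- conjugation -/
def cje (e : V ≃ₗ[F] V') : (V ≃ₗ[F] V) ≃* (V' ≃ₗ[F] V') where
  toFun g := e.symm.trans (g.trans e)
  invFun g := e.trans (g.trans e.symm)
  left_inv g := by ext x; simp
  right_inv g := by ext x; simp
  map_mul' g h := by
    ext x
    show e (g (h (e.symm x))) = e (g (e.symm (e (h (e.symm x)))))
    rw [e.symm_apply_apply]

theorem cje_apply (e : V ≃ₗ[F] V') (g : V ≃ₗ[F] V) (x : V') : cje e g x = e (g (e.symm x)) := rfl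

theorem cje_neg (e : V ≃ₗ[F] V') : cje e (LinearEquiv.neg F) = LinearEquiv.neg F := by
  ext x
  rw [cje_apply, LinearEquiv.neg_apply, map_neg, e.apply_symm_apply, LinearEquiv.neg_apply]

theorem map_O {e : V ≃ₗ[F] V'} {x : F} (hx : x ≠ 0) (h : ∀ v, Q' (e v) = x * Q v) :
    (O Q).map (cje e).toMonoidHom = O Q' := by
  ext g
  constructor
  · rintro ⟨k, hk, rfl⟩
    intro v
    show Q' (e (k (e.symm v))) = Q' v
    rw [h, mem_O.1 hk, ← h, e.apply_symm_apply]
  · intro hg
    refine ⟨(cje e).symm g, ?_, (cje e).apply_symm_apply g⟩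
    intro v
    show Q (e.symm (g (e v))) = Q v
    have h1 := h (e.symm (g (e v)))
    rw [e.apply_symm_apply, mem_O.1 hg, h] at h1
    exact (mul_left_cancel₀ hx h1).symm

theorem map_Om {e : V ≃ₗ[F] V'} {x : F} (hx : x ≠ 0) (h : ∀ v, Q' (e v) = x * Q v) :
    (Om Q).map (cje e).toMonoidHom = Om Q' := by
  rw [Subgroup.map_commutator, map_O hx h]

theorem Sml.neg_iff (h : Sml Q Q') : Neg Q ↔ Neg Q' := by
  constructor
  · obtain ⟨e, x, hx, h⟩ := h
    intro hN
    unfold Neg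
    rw [← map_Om hx h, ← cje_neg e]
    exact ⟨_, hN, rfl⟩
  · obtain ⟨e, x, hx, h⟩ := h.symm
    intro hN
    unfold Neg
    rw [← map_Om hx h, ← cje_neg e]
    exact ⟨_, hN, rfl⟩

theorem Sml.equiv (h : Sml Q Q') : Nonempty (Om Q ≃* Om Q') := by
  obtain ⟨e, x, hx, h⟩ := h
  exact ⟨((cje e).subgroupMap (Om Q)).trans (MulEquiv.subgroupCongr (map_Om hx h))⟩

theorem Sml.nondeg (h : Sml Q Q') (hQ : Nondeg Q) : Nondeg Q' := by
  obtain ⟨e, x, hx, h⟩ := h
  intro v hv
  have hp : ∀ a b, polar Q' (e a) (e b) = x * polar Q a b := by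
    intro a b
    simp only [polar, ← map_add, h]
    ring
  have h1 : e.symm v = 0 := by
    apply hQ
    intro y
    have h2 := hv (e y)
    rw [← e.apply_symm_apply v, hp] at h2
    exact (mul_eq_zero.1 h2).resolve_left hx
  rw [← e.apply_symm_apply v, h1, map_zero]

theorem Sml.finrank (h : Sml Q Q') : Module.finrank F V = Module.finrank F V' := by
  obtain ⟨e, _⟩ := h
  exact e.finrank_eq

theorem nondegenerate (hQ : Nondeg Q) : (polarBilin Q).Nondegenerate :=
  ⟨fun x hx => hQ x hx, fun y hy => hQ y fun x => by rw [polar_comm]; exact hy x⟩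

end

/-! ### Matrices -/

section

variable {F : Type*} [Field F] {ι : Type} [Fintype ι] [DecidableEq ι]

theorem neg_iff (Q : QuadraticForm F (ι → F)) :
    Neg Q ↔ ∃ g : Cfsg.isometryGroup F ⇑Q, g ∈ Cfsg.Omega F ⇑Q ∧
      ((g : Matrix.GeneralLinearGroup ι F) : Matrix ι ι F) = -1 := by
  unfold Neg Om
  rw [← LieClassical.OrthFinite.map_Omega]
  constructor
  · rintro ⟨g, hg, h⟩
    refine ⟨g, hg, ?_⟩
    apply Matrix.mulVec_injective
    funext v
    have h1 := congrArg (fun l : (ι → F) ≃ₗ[F] (ι → F) => l v) h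
    have h3 : ((g : Matrix.GeneralLinearGroup ι F) : Matrix ι ι F).mulVec v = -v := h1
    rw [h3, Matrix.neg_mulVec, Matrix.one_mulVec]
  · rintro ⟨g, hg, h⟩
    refine ⟨g, hg, ?_⟩
    ext v i
    rw [LieClassical.OrthFinite.isometryHom_apply, h, Matrix.neg_mulVec, Matrix.one_mulVec]
    rfl

/-- `Ω(V)/Z = PΩ` -/
theorem Sml.pomega {V : Type*} [AddCommGroup V] [Module F V] {Q : QuadraticForm F V}
    {Q' : QuadraticForm F (ι → F)} (h : Sml Q Q') :
    Nonempty (Om Q ⧸ Subgroup.center (Om Q) ≃* Cfsg.POmega F ⇑Q') := by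
  obtain ⟨e⟩ := h.equiv
  exact ⟨LieClassical.OrthFinite.quotientCenterCongr (e.trans (LieClassical.OrthFinite.omegaEquiv Q').symm)⟩

end

/-! ### Centres -/

section

variable {F V : Type*} [Field F] [AddCommGroup V] [Module F V] [FiniteDimensional F V]

/-- coordinates -/
theorem exists_coord (Q : QuadraticForm F V) : ∃ Q' : QuadraticForm F (Fin (finrank F V) → F), Sml Q Q' := by
  let e := (finBasis F V).equivFun
  refine ⟨Q.comp e.symm.toLinearMap, e, 1, one_ne_zero, fun v => ?_⟩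
  rw [QuadraticMap.comp_apply, one_mul]
  show Q (e.symm (e v)) = Q v
  rw [e.symm_apply_apply]

variable {Q : QuadraticForm F V}

theorem exists_sing [Finite F] (hn : 3 ≤ finrank F V) : ∃ u : V, u ≠ 0 ∧ Q u = 0 := by
  obtain ⟨u, h1, h2, h3⟩ := LieClassical.OrthFinite.exists_sing_mem (Q := Q) ⊤ (by rwa [finrank_top])
  exact ⟨u, h2, h3⟩

/-- the centre of `Ω(V)` if `-1 ∉ Ω(V)` -/
theorem center_eq_bot [Finite F] (hQ : Nondeg Q) (hn : 3 ≤ finrank F V) (h : ¬ Neg Q) :
    Subgroup.center (Om Q) = ⊥ := by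
  obtain ⟨Q', hs⟩ := exists_coord Q
  have hQ' := hs.nondeg hQ
  have h' : ¬ Neg Q' := fun h1 => h (hs.neg_iff.2 h1)
  obtain ⟨e⟩ := hs.equiv
  have h1 : Subgroup.center (Cfsg.Omega F ⇑Q') = ⊥ := by
    refine LieClassical.OrthCenter.center_omega_eq_bot (nondegenerate hQ') (by rwa [Fintype.card_fin])
      (exists_sing (by rwa [finrank_fin_fun])) ?_
    intro g hg hg1
    exact h' ((neg_iff Q').2 ⟨g, hg, hg1⟩)
  rw [← LieClassical.OrthFinite.map_center_mulEquiv
    (e.trans (LieClassical.OrthFinite.omegaEquiv Q').symm).symm, h1, Subgroup.map_bot]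

/-- the centre of `Ω(V)` if `-1 ∈ Ω(V)` -/
theorem card_center [Finite F] (h2 : (2 : F) ≠ 0) (hQ : Nondeg Q) (hn : 3 ≤ finrank F V) (h : Neg Q) :
    Nat.card (Subgroup.center (Om Q)) = 2 := by
  obtain ⟨Q', hs⟩ := exists_coord Q
  have hQ' := hs.nondeg hQ
  obtain ⟨e⟩ := hs.equiv
  have h1 : Nat.card (Subgroup.center (Cfsg.Omega F ⇑Q')) = 2 := by
    refine LieClassical.OrthCenter.card_center_omega_of_neg_one_mem h2 (nondegenerate hQ') (by rwa [Fintype.card_fin])
      (exists_sing (by rwa [finrank_fin_fun])) ?_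
    obtain ⟨g, hg, hg1⟩ := (neg_iff Q').1 (hs.neg_iff.1 h)
    exact ⟨g, hg, hg1⟩
  rw [← LieClassical.OrthFinite.map_center_mulEquiv
    (e.trans (LieClassical.OrthFinite.omegaEquiv Q').symm).symm]
  rw [← h1]
  exact (Nat.card_congr (Subgroup.equivMapOfInjective _ _ (MulEquiv.injective _)).toEquiv).symm

/-- `-1 ∉ Ω(V)` in odd dimension -/
theorem not_neg_of_odd (h2 : (2 : F) ≠ 0) (hn : Odd (finrank F V)) : ¬ Neg Q := by
  intro h
  have h1 : LinearEquiv.det (LinearEquiv.neg F : V ≃ₗ[F] V) = 1 := by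
    have h3 : ∀ g ∈ Om Q, LinearEquiv.det g = 1 := by
      intro g hg
      have h4 : (Om Q).map (LinearEquiv.det : (V ≃ₗ[F] V) →* Fˣ) ≤ ⊥ := by
        rw [Subgroup.map_commutator]
        rw [Subgroup.commutator_le]
        intro a _ b _
        rw [Subgroup.mem_bot, commutatorElement_def]
        rw [mul_comm a b]; simp
      exact Subgroup.mem_bot.1 (h4 ⟨g, hg, rfl⟩)
    exact h3 _ h
  have h3 : (LinearMap.det ((LinearEquiv.neg F : V ≃ₗ[F] V) : V →ₗ[F] V)) = 1 := by
    rw [← LinearEquiv.coe_det, h1]; rfl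
  have h4 : ((LinearEquiv.neg F : V ≃ₗ[F] V) : V →ₗ[F] V) = (-1 : F) • LinearMap.id := by
    ext x; simp
  rw [h4, LinearMap.det_smul, LinearMap.det_id, mul_one, hn.neg_one_pow] at h3
  apply h2
  linear_combination -h3

end

/-! ### The field with three elements -/

section

variable {F : Type*} [Field F] [Fintype F]

theorem three (hF : Fintype.card F = 3) : (3 : F) = 0 := by
  have h := FiniteField.cast_card_eq_zero F
  rw [hF] at h
  exact_mod_cast h

theorem two_ne (hF : Fintype.card F = 3) : (2 : F) ≠ 0 := by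
  intro h
  have h1 : (1 : F) = 0 := by linear_combination three hF - h
  exact one_ne_zero h1

theorem cases (hF : Fintype.card F = 3) (x : F) : x = 0 ∨ x = 1 ∨ x = -1 := by
  classical
  have h2 := two_ne hF
  have h3 : ({0, 1, -1} : Finset F).card = 3 := by
    rw [Finset.card_eq_three]
    refine ⟨0, 1, -1, zero_ne_one, (neg_ne_zero.2 one_ne_zero).symm, ?_, rfl⟩
    intro h; apply h2; linear_combination h
  have h4 : ({0, 1, -1} : Finset F) = Finset.univ := (Finset.card_eq_iff_eq_univ _).1 (by rw [h3, hF])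
  have h5 : x ∈ ({0, 1, -1} : Finset F) := by rw [h4]; exact Finset.mem_univ x
  simpa using h5

theorem mul_self_eq (hF : Fintype.card F = 3) {x : F} (hx : x ≠ 0) : x * x = 1 := by
  rcases cases hF x with h | h | h
  · exact absurd h hx
  · rw [h, one_mul]
  · rw [h]; ring

theorem pow_odd (hF : Fintype.card F = 3) {x : F} (hx : x ≠ 0) {n : ℕ} (hn : Odd n) : x ^ n = x := by
  obtain ⟨k, rfl⟩ := hn
  rw [pow_succ, pow_mul, pow_two, mul_self_eq hF hx, one_pow, one_mul]

variable {V V' : Type*} [AddCommGroup V] [Module F V] [FiniteDimensional F V] [AddCommGroup V'] [Module F V']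
  [FiniteDimensional F V'] {Q : QuadraticForm F V} {Q' : QuadraticForm F V'}

/-- orthogonal families with prescribed values -/
theorem exists_OF (h2 : (2 : F) ≠ 0) (hQ : Nondeg Q) {ι : Type} [Fintype ι] [DecidableEq ι]
    (hι : Fintype.card ι = finrank F V) (c : ι → F) (hc : ∀ i, c i ≠ 0)
    (hdet : (LinearMap.BilinForm.toMatrix (finBasis F V) (polarBilin Q)).det = ∏ i, (2 * c i)) :
    ∃ f : ι → V, OF Q c f := by
  have hS : LinearMap.BilinForm.IsSymm (polarBilin Q) := ⟨fun x y => by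
    show polar Q x y = polar Q y x
    exact polar_comm _ _ _⟩
  obtain ⟨v, hv⟩ := ClassicalGeometry.Discriminant.exists_basis_diag h2 (polarBilin Q) hS (nondegenerate hQ)
    (finBasis F V) (fun i => 2 * c i) hι (fun i => mul_ne_zero h2 (hc i)) 1 (by rw [hdet, one_pow, one_mul])
  refine ⟨v, fun i => ?_, hc, fun i j hij => ?_⟩
  · have h1 := hv i i
    rw [if_pos rfl, polarBilin_apply_apply, polar_self'] at h1
    exact mul_left_cancel₀ h2 h1
  · have h1 := hv i j
    rwa [if_neg hij, polarBilin_apply_apply] at h1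

theorem det_ne_zero (hQ : Nondeg Q) :
    (LinearMap.BilinForm.toMatrix (finBasis F V) (polarBilin Q)).det ≠ 0 :=
  (LinearMap.BilinForm.nondegenerate_iff_det_ne_zero (finBasis F V)).1 (nondegenerate hQ)

/-- all values but one are 1 -/
theorem exists_OF_one (h2 : (2 : F) ≠ 0) (hQ : Nondeg Q) {ι : Type} [Fintype ι] [DecidableEq ι]
    (hι : Fintype.card ι = finrank F V) (i₀ : ι) :
    ∃ x : F, x ≠ 0 ∧ ∃ f : ι → V, OF Q (fun i => if i = i₀ then x else 1) f := by
  set D := (LinearMap.BilinForm.toMatrix (finBasis F V) (polarBilin Q)).det with hD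
  have hD0 : D ≠ 0 := det_ne_zero hQ
  refine ⟨D / 2 ^ Fintype.card ι, div_ne_zero hD0 (pow_ne_zero _ h2), ?_⟩
  refine exists_OF h2 hQ hι _ (fun i => ?_) ?_
  · split_ifs
    · exact div_ne_zero hD0 (pow_ne_zero _ h2)
    · exact one_ne_zero
  · rw [← hD, Finset.prod_mul_distrib, Finset.prod_const, Finset.card_univ, Finset.prod_ite_eq' Finset.univ i₀,
      if_pos (Finset.mem_univ _), mul_div_cancel₀ _ (pow_ne_zero _ h2)]

/-- odd dimension: all values are equal -/
theorem exists_OF_const (hF : Fintype.card F = 3) (hQ : Nondeg Q) {ι : Type} [Fintype ι] [DecidableEq ι]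
    (hι : Fintype.card ι = finrank F V) (hodd : Odd (Fintype.card ι)) :
    ∃ x : F, x ≠ 0 ∧ ∃ f : ι → V, OF Q (fun _ => x) f := by
  have h2 := two_ne hF
  set D := (LinearMap.BilinForm.toMatrix (finBasis F V) (polarBilin Q)).det with hD
  have hD0 : D ≠ 0 := det_ne_zero hQ
  have hx : D / 2 ^ Fintype.card ι ≠ 0 := div_ne_zero hD0 (pow_ne_zero _ h2)
  refine ⟨D / 2 ^ Fintype.card ι, hx, ?_⟩
  refine exists_OF h2 hQ hι _ (fun i => hx) ?_
  rw [← hD, Finset.prod_const, Finset.card_univ, mul_pow, pow_odd hF hx hodd, mul_div_cancel₀ _ (pow_ne_zero _ h2)]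

/-- full orthogonal families -/
theorem of_full (h2 : (2 : F) ≠ 0) {ι : Type} [Fintype ι] [DecidableEq ι] {d : ι → F} {f : ι → V} (h : OF Q d f)
    (hι : Fintype.card ι = finrank F V) : Sml (DQ d) Q := by
  have h1 : Function.Injective (h.ad h2).L := (h.ad h2).L_injective
  have h3 : Function.Surjective (h.ad h2).L :=
    (LinearMap.injective_iff_surjective_of_finrank_eq_finrank (by rw [finrank_fintype_fun_eq_card, hι])).1 h1
  refine ⟨LinearEquiv.ofBijective (h.ad h2).L ⟨h1, h3⟩, 1, one_ne_zero, fun v => ?_⟩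
  rw [one_mul]
  exact (h.ad h2).nm v

theorem DQ_const {ι : Type} [Fintype ι] [DecidableEq ι] {x : F} (hx : x ≠ 0) :
    Sml (DQ (fun _ : ι => (1 : F))) (DQ (fun _ : ι => x)) := by
  refine ⟨LinearEquiv.refl F _, x, hx, fun v => ?_⟩
  rw [LinearEquiv.refl_apply, DQ_apply, DQ_apply, Finset.mul_sum]
  refine Finset.sum_congr rfl fun i _ => ?_
  ring

/-- the two types in dimension `n + 1` -/
def T1 (F : Type*) [Field F] (n : ℕ) : QuadraticForm F (Fin (n + 1) → F) :=
  DQ (fun i => if i = 0 then (-1 : F) else 1)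

def T0 (F : Type*) [Field F] (n : ℕ) : QuadraticForm F (Fin n → F) := DQ (fun _ => (1 : F))

theorem sml_odd (hF : Fintype.card F = 3) (hQ : Nondeg Q) {n : ℕ} (hn : finrank F V = n) (hodd : Odd n) :
    Sml (T0 F n) Q := by
  obtain ⟨x, hx, f, hf⟩ := exists_OF_const hF hQ (ι := Fin n) (by rw [Fintype.card_fin, hn]) (by rwa [Fintype.card_fin])
  exact (DQ_const hx).trans (of_full (two_ne hF) hf (by rw [Fintype.card_fin, hn]))

theorem sml_cases (hF : Fintype.card F = 3) (hQ : Nondeg Q) {n : ℕ} (hn : finrank F V = n + 1) :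
    Sml (T0 F (n + 1)) Q ∨ Sml (T1 F n) Q := by
  obtain ⟨x, hx, f, hf⟩ := exists_OF_one (two_ne hF) hQ (ι := Fin (n + 1)) (by rw [Fintype.card_fin, hn]) 0
  have h1 := of_full (two_ne hF) hf (by rw [Fintype.card_fin, hn])
  rcases cases hF x with h | h | h
  · exact absurd h hx
  · left
    rw [h] at h1
    have h3 : (fun i : Fin (n + 1) => if i = 0 then (1 : F) else 1) = fun _ => 1 := by
      funext i; split_ifs <;> rfl
    rw [h3] at h1
    exact h1
  · right
    rw [h] at h1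
    exact h1

theorem neg_T0 (m : ℕ) : Neg (T0 F (2 * m)) :=
  neg_mem_commutator _ (fun _ _ => rfl) (n := m) (Fintype.card_fin _)

theorem anis (hF : Fintype.card F = 3) : ∀ z₁ z₂ : F, z₁ ^ 2 + 0 * z₁ * z₂ + 1 * z₂ ^ 2 = 0 → z₁ = 0 ∧ z₂ = 0 := by
  have h2 := two_ne hF
  intro a b h
  rcases cases hF a with ha | ha | ha <;> rcases cases hF b with hb | hb | hb <;> subst ha <;> subst hb
  · exact ⟨rfl, rfl⟩
  all_goals exfalso; revert h; ring_nf; simp [h2]

/-- `-1 ∉ Ω` for the other type -/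
theorem not_neg_T1 (hF : Fintype.card F = 3) {m : ℕ} (hm : 1 ≤ m) : ¬ Neg (T1 F (2 * m - 1)) := by
  have h2 := two_ne hF
  have hodd : Odd 3 := by decide
  -- a model with `-1 ∉ Ω`
  have key : ∀ {ι : Type} [Fintype ι] [DecidableEq ι] (Q' : QuadraticForm F (ι → F)), Nondeg Q' →
      Fintype.card ι = 2 * m → ¬ Neg Q' → ¬ Neg (T1 F (2 * m - 1)) := by
    intro ι _ _ Q' hQ' hι hN h
    have h3 : 2 * m - 1 + 1 = 2 * m := by omega
    rcases sml_cases hF hQ' (n := 2 * m - 1) (by rw [finrank_fintype_fun_eq_card, hι, h3]) with h1 | h1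
    · rw [h3] at h1
      exact hN (h1.neg_iff.1 (neg_T0 m))
    · exact hN (h1.neg_iff.1 h)
  rcases Nat.even_or_odd m with hev | hod
  · -- minus type
    refine key (LieClassical.OrthForms.minusForm (m - 1) F 0 1)
      (LieClassical.OrthForms.nondeg_minusForm (m - 1) F 0 1 (anis hF)) ?_ ?_
    · rw [Fintype.card_sum, Fintype.card_sum, Fintype.card_fin, Fintype.card_fin]; omega
    · rw [neg_iff, LieClassical.OrthForms.coe_minusForm]
      rw [Cfsg.Agent.S0791.result hF hodd m hm 0 1 (anis hF)]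
      obtain ⟨k, rfl⟩ := hev
      rw [← two_mul, pow_mul]
      have : (3 ^ 2) ^ k % 4 = 1 := by rw [Nat.pow_mod]; norm_num
      omega
  · refine key (LieClassical.OrthForms.plusForm m F)
      (LieClassical.OrthForms.nondeg_plusForm m F) ?_ ?_
    · rw [Fintype.card_sum, Fintype.card_fin]; omega
    · rw [neg_iff, LieClassical.OrthForms.coe_plusForm]
      rw [Cfsg.Agent.S0790.result hF hodd m hm]
      obtain ⟨k, rfl⟩ := hod
      rw [pow_succ, pow_mul]
      have : (3 ^ 2) ^ k % 4 = 1 := by rw [Nat.pow_mod]; norm_num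
      omega

/-- similarity in even dimension -/
theorem sml_even (hF : Fintype.card F = 3) (hQ : Nondeg Q) (hQ' : Nondeg Q') {m : ℕ} (hm : 1 ≤ m)
    (hn : finrank F V = 2 * m) (hn' : finrank F V' = 2 * m) (h : Neg Q ↔ Neg Q') : Sml Q Q' := by
  have h3 : 2 * m - 1 + 1 = 2 * m := by omega
  rcases sml_cases hF hQ (n := 2 * m - 1) (by rw [h3, hn]) with h1 | h1 <;>
    rcases sml_cases hF hQ' (n := 2 * m - 1) (by rw [h3, hn']) with h4 | h4
  · exact h1.symm.trans h4
  · exfalso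
    rw [h3] at h1
    exact not_neg_T1 hF hm (h4.neg_iff.2 (h.1 (h1.neg_iff.1 (neg_T0 m))))
  · exfalso
    rw [h3] at h4
    exact not_neg_T1 hF hm (h1.neg_iff.2 (h.2 (h4.neg_iff.1 (neg_T0 m))))
  · exact h1.symm.trans h4

theorem sml_of_odd (hF : Fintype.card F = 3) (hQ : Nondeg Q) (hQ' : Nondeg Q') {n : ℕ}
    (hn : finrank F V = n) (hn' : finrank F V' = n) (hodd : Odd n) : Sml Q Q' :=
  (sml_odd hF hQ hn hodd).symm.trans (sml_odd hF hQ' hn' hodd)

end

end Cfsg.Agent.OddHalf.NI3.Bad.Sim
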