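import Cfsg.Agent.OddHalf.NI3.Step
import Cfsg.Agent.StandardComponent.AltExists
import Cfsg.Agent.SignalizersComponents.OddFixed

/-!
# NI over `F₃`, THEOREM NIB, step (1), the K-free part

`H` finite, `O(H) = 1`, `w` an involution of `H` with `O(C(w)) = 1`, `J ≅ SL₂(3)` subnormal in `C(w)`, `v ∈ J` of order 3.

* `cube_core` : a `2`-element `u` of `C(w)` which commutes with its conjugate under `v` is centralised by `v`.
* `comm_pCore` : if `O₂(J) ≰ O₂(H)`, then `v` centralises `O₂(H)`.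
* `main` : `O₂(J) ≤ O₂(H)`, or a component `L = L^w` of `H` is normalised by `J` and contains `O₂(J)`, or a component
  `L = L^w` of `H` is normalised and not centralised by `J`, and the elements of order 3 of `J` centralise `C_L(w)`.
-/

set_option autoImplicit false
set_option linter.style.haveILetI false

namespace Cfsg.Agent.OddHalf.NI3.Bad.StepOne

open Subgroup Cfsg Cfsg.Agent.Cit Cfsg.Agent.Cit.SolvTwo Cfsg.Agent.SignalizersComponents

universe u

/-! ### Two-elements -/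

section

variable {X : Type*} [Group X]

theorem sq_pow {a b : X} (h : a * b = b * a) {m n : ℕ} (ha : a ^ 2 ^ m = 1) (hb : b ^ 2 ^ n = 1) :
    (a * b) ^ 2 ^ (m + n) = 1 := by
  have h1 : a ^ 2 ^ (m + n) = 1 := by rw [pow_add, pow_mul, ha, one_pow]
  have h2 : b ^ 2 ^ (m + n) = 1 := by rw [add_comm, pow_add, pow_mul, hb, one_pow]
  rw [(show Commute a b from h).mul_pow, h1, h2, one_mul]

/-- `c³ ∈ H` and `c` a 2-element imply `c ∈ H` -/
theorem mem_of_cube_mem {H : Subgroup X} {c : X} {n : ℕ} (h2 : c ^ 2 ^ n = 1) (h3 : c * c * c ∈ H) : c ∈ H := by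
  have h4 : Nat.gcd 3 (2 ^ n) = 1 := Nat.Coprime.pow_right n (by norm_num)
  have h5 : c ^ 3 ∈ H := by rw [pow_succ, pow_succ, pow_one]; exact h3
  have h6 : c = (c ^ 3) ^ (Nat.gcdA 3 (2 ^ n)) := by
    have h7 := Nat.gcd_eq_gcd_ab 3 (2 ^ n)
    rw [h4] at h7
    calc c = c ^ (((1 : ℕ)) : ℤ) := by rw [Nat.cast_one, zpow_one]
      _ = (c ^ 3) ^ (Nat.gcdA 3 (2 ^ n)) * ((c ^ 2 ^ n) ^ (Nat.gcdB 3 (2 ^ n))) := by
        rw [h7, zpow_add, zpow_mul, zpow_mul, zpow_natCast, zpow_natCast]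
      _ = (c ^ 3) ^ (Nat.gcdA 3 (2 ^ n)) := by rw [h2, one_zpow, mul_one]
  rw [h6]
  exact H.zpow_mem h5 _

/-- **Lemma K0** -/
theorem cube_mem {K : Subgroup X} (hK : K.IsSubnormal) : ∀ {v u : X}, v ∈ K → v * v * v = 1 →
    (∃ n : ℕ, u ^ 2 ^ n = 1) → u * (v * u * v⁻¹) = (v * u * v⁻¹) * u → u⁻¹ * (v * u * v⁻¹) ∈ K := by
  induction hK with
  | top => intro v u _ _ _ _; exact mem_top _
  | step H K hle hK hHK ih =>
    intro v u hv h3 hu huv
    have hc := ih (hle hv) h3 hu huv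
    obtain ⟨n, hn⟩ := hu
    have hc2 : (u⁻¹ * (v * u * v⁻¹)) ^ 2 ^ (n + n) = 1 := by
      refine sq_pow ?_ (by rw [inv_pow, hn, inv_one]) ?_
      · exact (show Commute u (v * u * v⁻¹) from huv).inv_left.eq
      · rw [conj_pow, hn, mul_one, mul_inv_cancel]
    have e3 : (u⁻¹ * (v * u * v⁻¹)) * (v * (u⁻¹ * (v * u * v⁻¹)) * v⁻¹) *
        (v * (v * (u⁻¹ * (v * u * v⁻¹)) * v⁻¹) * v⁻¹) = 1 := by
      have h5 : (u⁻¹ * (v * u * v⁻¹)) * (v * (u⁻¹ * (v * u * v⁻¹)) * v⁻¹) *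
        (v * (v * (u⁻¹ * (v * u * v⁻¹)) * v⁻¹) * v⁻¹) = u⁻¹ * ((v * v * v) * u * (v * v * v)⁻¹) := by
        group
      rw [h5, h3]; group
    generalize u⁻¹ * (v * u * v⁻¹) = c at hc hc2 e3 ⊢
    have hnorm : ∀ {k x : X}, k ∈ K → x ∈ H → k * x * k⁻¹ ∈ H := by
      intro k x hk hx
      have := hHK.conj_mem ⟨x, hle hx⟩ hx ⟨k, hk⟩
      exact this
    have hvK := hle hv
    -- `[v, c] ∈ H`
    have e1 : v * c * v⁻¹ * c⁻¹ ∈ H := by
      have h4 : c * v⁻¹ * c⁻¹ ∈ H := hnorm hc (inv_mem hv)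
      have h5 : v * c * v⁻¹ * c⁻¹ = v * (c * v⁻¹ * c⁻¹) := by group
      rw [h5]; exact mul_mem hv h4
    have e2 : v * (v * c * v⁻¹) * v⁻¹ * c⁻¹ ∈ H := by
      have h5 : v * (v * c * v⁻¹) * v⁻¹ * c⁻¹ = v * (v * c * v⁻¹ * c⁻¹) * v⁻¹ * (v * c * v⁻¹ * c⁻¹) := by group
      rw [h5]
      exact mul_mem (hnorm hvK e1) e1
    have e4 : c * c * c ∈ H := by
      have h6 : (c * (v * c * v⁻¹ * c⁻¹) * c⁻¹) * (c * c * (v * (v * c * v⁻¹) * v⁻¹ * c⁻¹) * (c * c)⁻¹) * (c * c * c)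
          = c * (v * c * v⁻¹) * (v * (v * c * v⁻¹) * v⁻¹) := by group
      rw [e3] at h6
      rw [eq_inv_of_mul_eq_one_right h6]
      exact inv_mem (mul_mem (hnorm hc e1) (hnorm (mul_mem hc hc) e2))
    exact mem_of_cube_mem hc2 e4

end

/-! ### Lemma K -/

section

variable {H : Type*} [Group H]

/-- **Lemma K** -/
theorem cube_core {J : Subgroup H} {w z : H} (h : IsPr J z) (hs : Sn J (centralizer ({w} : Set H))) {v u : H}
    (hv : v ∈ J) (h3 : v * v * v = 1) (hu : ∃ n : ℕ, u ^ 2 ^ n = 1) (huw : u * w = w * u)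
    (huv : u * (v * u * v⁻¹) = (v * u * v⁻¹) * u) : v * u = u * v := by
  have hc : u⁻¹ * (v * u * v⁻¹) ∈ J := by
    have h4 := cube_mem hs.2 (v := ⟨v, hs.1 hv⟩) (u := ⟨u, mem_centralizer_singleton_iff.2 huw⟩) hv
      (Subtype.ext h3) (hu.imp fun n hn => Subtype.ext (by simpa using hn)) (Subtype.ext huv)
    exact h4
  obtain ⟨n, hn⟩ := hu
  have hc2 : (u⁻¹ * (v * u * v⁻¹)) ^ 2 ^ (n + n) = 1 := by
    refine sq_pow ?_ (by rw [inv_pow, hn, inv_one]) ?_
    · exact (show Commute u (v * u * v⁻¹) from huv).inv_left.eq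
    · rw [conj_pow, hn, mul_one, mul_inv_cancel]
  obtain ⟨u1, hu1⟩ : ∃ u1, u1 = v * u * v⁻¹ := ⟨_, rfl⟩
  obtain ⟨u2, hu2⟩ : ∃ u2, u2 = v * u1 * v⁻¹ := ⟨_, rfl⟩
  have hu3 : v * u2 * v⁻¹ = u := by
    rw [hu2, hu1]
    calc v * (v * (v * u * v⁻¹) * v⁻¹) * v⁻¹ = (v * v * v) * u * (v * v * v)⁻¹ := by group
      _ = u := by rw [h3]; group
  rw [← hu1] at huv hc hc2
  have c01 : Commute u u1 := huv
  have c12 : Commute u1 u2 := by
    show u1 * u2 = u2 * u1
    have : v * (u * u1) * v⁻¹ = v * (u1 * u) * v⁻¹ := by rw [huv]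
    calc u1 * u2 = v * (u * u1) * v⁻¹ := by rw [hu2, hu1]; group
      _ = v * (u1 * u) * v⁻¹ := this
      _ = u2 * u1 := by rw [hu2, hu1]; group
  have c20 : Commute u2 u := by
    show u2 * u = u * u2
    have h5 : u1 * u2 = u2 * u1 := c12
    have : v * (u1 * u2) * v⁻¹ = v * (u2 * u1) * v⁻¹ := by rw [h5]
    calc u2 * u = (v * u1 * v⁻¹) * (v * u2 * v⁻¹) := by rw [hu3, ← hu2]
      _ = v * (u1 * u2) * v⁻¹ := by group
      _ = v * (u2 * u1) * v⁻¹ := this
      _ = (v * u2 * v⁻¹) * (v * u1 * v⁻¹) := by group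
      _ = u * u2 := by rw [hu3, ← hu2]
  -- the three conjugates of `c`
  have hvc : v * (u⁻¹ * u1) * v⁻¹ = u1⁻¹ * u2 := by rw [hu2, hu1]; group
  have hvc2 : v * (u1⁻¹ * u2) * v⁻¹ = u2⁻¹ * u := by
    calc v * (u1⁻¹ * u2) * v⁻¹ = (v * u1 * v⁻¹)⁻¹ * (v * u2 * v⁻¹) := by group
      _ = u2⁻¹ * u := by rw [hu3, ← hu2]
  have hprod : (u⁻¹ * u1) * (u1⁻¹ * u2) * (u2⁻¹ * u) = 1 := by group
  have hvz : v * z * v⁻¹ = z := by rw [h.comm_z hv]; group
  have hzz : z * z = 1 := h.t3.z_sq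
  have hz1 := h.t3.z_ne
  rcases h.t3.cases_two hc hc2 with h4 | h4 | h4
  · -- `c² = z`
    exfalso
    have h5 : (u1⁻¹ * u2) * (u1⁻¹ * u2) = z := by
      rw [← hvc]
      calc v * (u⁻¹ * u1) * v⁻¹ * (v * (u⁻¹ * u1) * v⁻¹) = v * ((u⁻¹ * u1) * (u⁻¹ * u1)) * v⁻¹ := by group
        _ = z := by rw [h4, hvz]
    have h6 : (u2⁻¹ * u) * (u2⁻¹ * u) = z := by
      rw [← hvc2]
      calc v * (u1⁻¹ * u2) * v⁻¹ * (v * (u1⁻¹ * u2) * v⁻¹) = v * ((u1⁻¹ * u2) * (u1⁻¹ * u2)) * v⁻¹ := by group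
        _ = z := by rw [h5, hvz]
    have c1 : Commute (u⁻¹ * u1) (u1⁻¹ * u2) :=
      (Commute.mul_left (c01.inv_left.inv_right.mul_right c20.symm.inv_left)
        ((Commute.refl u1).inv_right.mul_right c12))
    have c2 : Commute ((u⁻¹ * u1) * (u1⁻¹ * u2)) (u2⁻¹ * u) := by
      refine Commute.mul_left (Commute.mul_left ?_ ?_) (Commute.mul_left ?_ ?_)
      · exact (c20.symm.inv_left.inv_right).mul_right (Commute.refl u).inv_left
      · exact c12.inv_right.mul_right c01.symm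
      · exact c12.inv_left.inv_right.mul_right c01.symm.inv_left
      · exact (Commute.refl u2).inv_right.mul_right c20
    have h7 : ((u⁻¹ * u1) * (u1⁻¹ * u2) * (u2⁻¹ * u)) * ((u⁻¹ * u1) * (u1⁻¹ * u2) * (u2⁻¹ * u)) = z := by
      rw [← pow_two, c2.mul_pow, c1.mul_pow, pow_two, pow_two, pow_two, h4, h5, h6, hzz, one_mul]
    rw [hprod, one_mul] at h7
    exact hz1 h7.symm
  · -- `c = 1`
    have h5 : u1 = u := by
      have := congrArg (fun x => u * x) h4
      simpa using this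
    rw [hu1, mul_inv_eq_iff_eq_mul] at h5
    exact h5
  · -- `c = z`
    exfalso
    rw [h4] at hvc hprod
    rw [hvz] at hvc
    rw [← hvc] at hvc2
    rw [hvz] at hvc2
    rw [← hvc, ← hvc2, hzz, one_mul] at hprod
    exact hz1 hprod

end

/-! ### The components -/

section

variable {H : Type u} [Group H] [Finite H] {J : Subgroup H} {w z : H}

/-- if `O₂(J) ≰ O₂(H)`, the elements of order 3 of `J` centralise `O₂(H)` -/
theorem comm_pCore (hw : w * w = 1) (h : IsPr J z) (hs : Sn J (centralizer ({w} : Set H)))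
    (hne : ¬ ∀ y ∈ J, y * y = z → y ∈ pCore 2 H) {v : H} (hv : v ∈ J) (h3 : v * v * v = 1) :
    ∀ x ∈ pCore 2 H, v * x = x * v := by
  haveI : Fact (Nat.Prime 2) := ⟨Nat.prime_two⟩
  haveI hPn : (pCore 2 H).Normal := Lib.Cores.pCore_normal 2
  have hP : IsPGroup 2 (pCore 2 H) := Lib.Cores.pCore_isPGroup (G := H) 2
  have hvw : v * w = w * v := mem_centralizer_singleton_iff.1 (hs.1 hv)
  have h1 : zpowers v ≤ centralizer (pCore 2 H : Set H) := by
    refine le_cent (z := w) hw hP ?_ ?_ ?_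
    · rw [Nat.card_zpowers]
      exact (Nat.coprime_two_right).2 (odd_of_cube h3)
    · rintro _ ⟨k, rfl⟩
      exact ((show Commute v w from hvw).zpow_left k).eq
    · intro x hx hxw y hy
      have h2 : v * x = x * v := by
        refine T3.comm_of_sn h.t3 hs (P := pCore 2 H ⊓ centralizer {w}) inf_le_right
          (hP.to_le inf_le_left) ?_ ?_ hv h3 ⟨hx, mem_centralizer_singleton_iff.2 hxw⟩
        · refine (le_inf ?_ ?_).trans inf_normalizer_le_normalizer_inf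
          · rw [normalizer_eq_top_iff.2 hPn]; exact le_top
          · exact hs.1.trans le_normalizer
        · intro h4
          exact hne fun y hy hyz => (h4 y hy hyz).1
      obtain ⟨k, rfl⟩ := hy
      exact ((show Commute v x from h2).zpow_left k).symm.eq
  intro x hx
  exact ((mem_centralizer_iff.1 (h1 (mem_zpowers v))) x hx).symm

omit [Finite H] in
/-- a central 2-element of a component lies in `O₂(H)` -/
theorem mem_pCore_of_center {L : Subgroup H} (hL : IsComponent L) {x : L} (hx : x ∈ center L) {n : ℕ}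
    (h2 : x ^ 2 ^ n = 1) : (x : H) ∈ pCore 2 H := by
  haveI : Fact (Nat.Prime 2) := ⟨Nat.prime_two⟩
  have h1 : zpowers (x : H) ≤ pCore 2 H := by
    refine CompBasic.subnormal_pGroup_le_pCore ?_ ?_
    · have h2 : Sn (zpowers (x : H)) L := by
        refine Sn.of_normal (zpowers_le.2 x.2) ?_
        intro l hl
        refine centralizer_le_normalizer _ ?_
        rw [mem_centralizer_iff]
        rintro _ ⟨k, rfl⟩
        have h4 : l * (x : H) = x * l := congrArg Subtype.val (mem_center_iff.1 hx ⟨l, hl⟩)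
        exact ((show Commute l (x : H) from h4).zpow_right k).eq.symm
      exact h2.isSubnormal hL.1
    · rintro ⟨_, k, rfl⟩
      refine ⟨n, Subtype.ext ?_⟩
      have h5 : (x : H) ^ 2 ^ n = 1 := by
        have := congrArg Subtype.val h2
        simpa using this
      show ((x : H) ^ k) ^ 2 ^ n = 1
      rw [← zpow_natCast, ← zpow_mul, mul_comm, zpow_mul, zpow_natCast, h5, one_zpow]
  exact h1 (mem_zpowers _)

/-- **the elements of order 3 of `J` fix every component** -/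
theorem comp_fixed (hO : pPrimeCore 2 H = ⊥) (hw : w * w = 1) (h : IsPr J z)
    (hs : Sn J (centralizer ({w} : Set H))) (hne : ¬ ∀ y ∈ J, y * y = z → y ∈ pCore 2 H)
    {v : H} (hv : v ∈ J) (h3 : v * v * v = 1) {L : Subgroup H} (hL : IsComponent L) : cj v L = L := by
  haveI : Fact (Nat.Prime 2) := ⟨Nat.prime_two⟩
  by_contra hv1
  have hvw : v * w = w * v := mem_centralizer_singleton_iff.1 (hs.1 hv)
  have hv3 : cj v (cj v (cj v L)) = L := by rw [← cj_mul, ← cj_mul, h3, cj_one]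
  have hv2 : cj v (cj v L) ≠ L := by
    intro h4
    rw [h4] at hv3
    exact hv1 hv3
  have hc0 : IsComponent (cj v L) := Comp.isComponent_cj hL v
  have hc1 : IsComponent (cj v (cj v L)) := Comp.isComponent_cj hc0 v
  by_cases hwL : cj w L = L
  · -- `L^w = L`
    have hwn : w ∈ normalizer (L : Set H) := mem_normalizer_iff_cj.2 hwL
    obtain ⟨t, ht, ⟨n, htn⟩, hζ, ⟨m, hζm⟩⟩ := CompBasic.exists_almost_fixed hL.2.1 2
      (OddFixed.two_dvd_card_component hO hL) (L.normalizerMonoidHom ⟨w, hwn⟩) (k := 1) (by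
        rw [← map_pow]
        have : (⟨w, hwn⟩ : normalizer (L : Set H)) ^ 2 ^ 1 = 1 := by
          apply Subtype.ext
          rw [pow_one, pow_two]
          exact hw
        rw [this, map_one])
    set ζ : L := t⁻¹ * L.normalizerMonoidHom ⟨w, hwn⟩ t with hζdef
    have hζP : v * (ζ : H) = ζ * v := comm_pCore hw h hs hne hv h3 _ (mem_pCore_of_center hL hζ hζm)
    have hwt : w * (t : H) * w⁻¹ = t * ζ := by
      have h4 : (L.normalizerMonoidHom ⟨w, hwn⟩ t : H) = w * t * w⁻¹ := rfl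
      rw [hζdef, coe_mul, h4, coe_inv]; group
    have htn' : (t : H) ^ 2 ^ n = 1 := by
      have := congrArg Subtype.val htn
      simpa using this
    have ht1 : v * (t : H) * v⁻¹ ∈ cj v L := conj_mem_cj t.2
    have ht2 : v * (v * (t : H) * v⁻¹) * v⁻¹ ∈ cj v (cj v L) := conj_mem_cj ht1
    have hc01 : ∀ l ∈ L, l * (v * (t : H) * v⁻¹) = (v * (t : H) * v⁻¹) * l := fun l hl =>
      Comp.comm_of_ne hL hc0 (Ne.symm hv1) hl ht1
    have hc02 : ∀ l ∈ L, l * (v * (v * (t : H) * v⁻¹) * v⁻¹) = (v * (v * (t : H) * v⁻¹) * v⁻¹) * l := fun l hl =>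
      Comp.comm_of_ne hL hc1 (Ne.symm hv2) hl ht2
    have hc12 : (v * (t : H) * v⁻¹) * (v * (v * (t : H) * v⁻¹) * v⁻¹) =
        (v * (v * (t : H) * v⁻¹) * v⁻¹) * (v * (t : H) * v⁻¹) :=
      Comp.comm_of_ne hc0 hc1 (fun h4 => hv1 (cj_inj.1 h4).symm) ht1 ht2
    obtain ⟨t1, ht1'⟩ : ∃ t1, t1 = v * (t : H) * v⁻¹ := ⟨_, rfl⟩
    obtain ⟨t2, ht2'⟩ : ∃ t2, t2 = v * t1 * v⁻¹ := ⟨_, rfl⟩
    rw [← ht1', ← ht2'] at hc12 ht2
    rw [← ht1'] at hc02
    rw [← ht2'] at hc02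
    rw [← ht1'] at hc01 ht1
    -- `u = t t₁⁻¹` commutes with `w`
    have hut : v * ((t : H) * t1⁻¹) * v⁻¹ = t1 * t2⁻¹ := by rw [ht2', ht1']; group
    have hwt1 : w * t1 * w⁻¹ = t1 * ζ := by
      have e1 : w * t1 * w⁻¹ = v * (w * t * w⁻¹) * v⁻¹ := by
        rw [ht1']
        calc w * (v * (t : H) * v⁻¹) * w⁻¹ = (w * v) * t * (w * v)⁻¹ := by group
          _ = (v * w) * t * (v * w)⁻¹ := by rw [hvw]
          _ = v * (w * t * w⁻¹) * v⁻¹ := by group
      rw [e1, hwt]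
      calc v * ((t : H) * ζ) * v⁻¹ = v * t * v⁻¹ * (v * ζ) * v⁻¹ := by group
        _ = v * t * v⁻¹ * ζ := by rw [hζP]; group
        _ = t1 * ζ := by rw [ht1']
    have huw : ((t : H) * t1⁻¹) * w = w * ((t : H) * t1⁻¹) := by
      have e1 : w * ((t : H) * t1⁻¹) * w⁻¹ = (t : H) * t1⁻¹ := by
        calc w * ((t : H) * t1⁻¹) * w⁻¹ = (w * t * w⁻¹) * (w * t1 * w⁻¹)⁻¹ := by group
          _ = t * ζ * (t1 * ζ)⁻¹ := by rw [hwt, hwt1]
          _ = (t : H) * t1⁻¹ := by group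
      rw [mul_inv_eq_iff_eq_mul] at e1
      exact e1.symm
    have hu2 : ((t : H) * t1⁻¹) ^ 2 ^ (n + n) = 1 := by
      refine sq_pow ?_ htn' ?_
      · exact (show Commute (t : H) t1 from hc01 t t.2).inv_right.eq
      · rw [inv_pow, ht1', conj_pow, htn', mul_one, mul_inv_cancel, inv_one]
    have h01 : Commute (t : H) t1 := hc01 t t.2
    have h02 : Commute (t : H) t2 := hc02 t t.2
    have h12 : Commute t1 t2 := hc12
    have huv : ((t : H) * t1⁻¹) * (v * ((t : H) * t1⁻¹) * v⁻¹) = (v * ((t : H) * t1⁻¹) * v⁻¹) * ((t : H) * t1⁻¹) := by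
      rw [hut]
      exact Commute.mul_left (h01.mul_right h02.inv_right)
        ((Commute.refl t1).inv_left.mul_right h12.inv_left.inv_right)
    have h4 := cube_core h hs hv h3 ⟨_, hu2⟩ huw huv
    rw [← mul_inv_eq_iff_eq_mul, hut] at h4
    -- `t = t₁ t₂⁻¹ t₁`
    have h5 : (t : H) = t1 * t2⁻¹ * t1 := by rw [h4]; group
    apply ht
    rw [mem_center_iff]
    intro l
    apply Subtype.ext
    show (l : H) * t = t * l
    rw [h5]
    have c1 : Commute (l : H) t1 := hc01 l l.2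
    have c2 : Commute (l : H) t2 := hc02 l l.2
    exact ((c1.mul_right c2.inv_right).mul_right c1).eq
  · -- `L^w ≠ L`
    obtain ⟨D, hDw, -, hDc, -, hD⟩ := Comp.exists_diag hL hw hwL
    have hww : ∀ M : Subgroup H, cj w (cj w M) = M := fun M => by rw [← cj_mul, hw, cj_one]
    have hne1 : cj v L ≠ cj w L := by
      intro h4
      apply hv2
      calc cj v (cj v L) = cj v (cj w L) := by rw [h4]
        _ = cj w (cj v L) := by rw [← cj_mul, hvw, cj_mul]
        _ = cj w (cj w L) := by rw [h4]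
        _ = L := hww L
    have hne2 : cj v (cj w L) ≠ L := by
      intro h4
      apply hne1
      have h5 : cj w (cj v L) = L := by rw [← cj_mul, ← hvw, cj_mul]; exact h4
      rw [← h5, hww, h5]
    have hab : ∀ e ∈ L, ∀ l ∈ L, l * e = e * l := by
      intro e he l hl
      have h4 := comm_component (h.subgroupOf hs.1) hs.2 hDc ⟨v, hs.1 hv⟩ hv
        ⟨e * (w * e * w⁻¹), hDw (hD e he)⟩ (hD e he)
      have h5 : v * (e * (w * e * w⁻¹)) = (e * (w * e * w⁻¹)) * v := congrArg Subtype.val h4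
      have c1 : Commute l (v * e * v⁻¹) := Comp.comm_of_ne hL hc0 (Ne.symm hv1) hl (conj_mem_cj he)
      have c2 : Commute l (v * (w * e * w⁻¹) * v⁻¹) :=
        Comp.comm_of_ne hL (Comp.isComponent_cj (Comp.isComponent_cj hL w) v) (Ne.symm hne2) hl
          (conj_mem_cj (conj_mem_cj he))
      have c3 : Commute l (w * e * w⁻¹) :=
        Comp.comm_of_ne hL (Comp.isComponent_cj hL w) (Ne.symm hwL) hl (conj_mem_cj he)
      have h6 : e = (v * e * v⁻¹) * (v * (w * e * w⁻¹) * v⁻¹) * (w * e * w⁻¹)⁻¹ := by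
        calc e = (e * (w * e * w⁻¹)) * v * v⁻¹ * (w * e * w⁻¹)⁻¹ := by group
          _ = v * (e * (w * e * w⁻¹)) * v⁻¹ * (w * e * w⁻¹)⁻¹ := by rw [← h5]
          _ = (v * e * v⁻¹) * (v * (w * e * w⁻¹) * v⁻¹) * (w * e * w⁻¹)⁻¹ := by group
      rw [h6]
      exact ((c1.mul_right c2).mul_right c3.inv_right).eq
    apply Components.quasisimple_not_isMulCommutative hL.2
    exact ⟨⟨fun a b => Subtype.ext (hab b b.2 a a.2)⟩⟩

/-- a component moved by `w` is centralised by `J` -/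
theorem comm_of_moved (hO : pPrimeCore 2 H = ⊥) (hw : w * w = 1) (h : IsPr J z)
    (hs : Sn J (centralizer ({w} : Set H))) (hne : ¬ ∀ y ∈ J, y * y = z → y ∈ pCore 2 H)
    {v : H} (hv : v ∈ J) (h3 : v * v * v = 1) {L : Subgroup H} (hL : IsComponent L) (hwL : cj w L ≠ L) :
    ∀ l ∈ L, v * l = l * v := by
  have hvw : v * w = w * v := mem_centralizer_singleton_iff.1 (hs.1 hv)
  have hvL := comp_fixed hO hw h hs hne hv h3 hL
  have hvL' : cj v (cj w L) = cj w L := by rw [← cj_mul, hvw, cj_mul, hvL]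
  obtain ⟨D, hDw, -, hDc, -, hD⟩ := Comp.exists_diag hL hw hwL
  refine StandardComponent.AltExists.comm_of_perfect L hL.2.1 v ?_ ?_
  · intro x hx
    have := conj_mem_cj (g := v) hx
    rwa [hvL] at this
  · intro e he l hl
    have h4 := comm_component (h.subgroupOf hs.1) hs.2 hDc ⟨v, hs.1 hv⟩ hv
      ⟨e * (w * e * w⁻¹), hDw (hD e he)⟩ (hD e he)
    have h5 : v * (e * (w * e * w⁻¹)) = (e * (w * e * w⁻¹)) * v := congrArg Subtype.val h4
    have hf : w * e * w⁻¹ ∈ cj w L := conj_mem_cj he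
    have hf' : v * (w * e * w⁻¹) * v⁻¹ ∈ cj w L := by
      have := conj_mem_cj (g := v) hf
      rwa [hvL'] at this
    have hcw : ∀ a ∈ L, ∀ b ∈ cj w L, a * b = b * a := fun a ha b hb =>
      Comp.comm_of_ne hL (Comp.isComponent_cj hL w) (Ne.symm hwL) ha hb
    have h6 : v * e * v⁻¹ * e⁻¹ = (w * e * w⁻¹) * (v * (w * e * w⁻¹) * v⁻¹)⁻¹ := by
      have c1 : e * (w * e * w⁻¹) = (w * e * w⁻¹) * e := hcw e he _ hf
      have c2 : Commute e (v * (w * e * w⁻¹) * v⁻¹) := hcw e he _ hf'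
      calc v * e * v⁻¹ * e⁻¹ = (v * (e * (w * e * w⁻¹))) * v⁻¹ * (v * (w * e * w⁻¹) * v⁻¹)⁻¹ * e⁻¹ := by group
        _ = (e * (w * e * w⁻¹)) * (v * (w * e * w⁻¹) * v⁻¹)⁻¹ * e⁻¹ := by rw [h5]; group
        _ = (w * e * w⁻¹) * (e * (v * (w * e * w⁻¹) * v⁻¹)⁻¹) * e⁻¹ := by rw [c1]; group
        _ = (w * e * w⁻¹) * (v * (w * e * w⁻¹) * v⁻¹)⁻¹ := by rw [c2.inv_right.eq]; group
    rw [h6]
    exact (hcw l hl _ (mul_mem hf (inv_mem hf'))).symm

/-- **STEP (1), K-free part** -/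
theorem main (hO : pPrimeCore 2 H = ⊥) (hw : w * w = 1)
    (hOw : pPrimeCore 2 ↥(centralizer ({w} : Set H)) = ⊥) (h : IsPr J z) (hs : Sn J (centralizer ({w} : Set H))) :
    (∀ y ∈ J, y * y = z → y ∈ pCore 2 H) ∨
    (∃ L : Subgroup H, IsComponent L ∧ cj w L = L ∧ J ≤ normalizer (L : Set H) ∧ ∀ y ∈ J, y * y = z → y ∈ L) ∨
    (∃ L : Subgroup H, IsComponent L ∧ cj w L = L ∧ J ≤ normalizer (L : Set H) ∧
      (∃ y ∈ J, y * y = z ∧ y ∉ centralizer (L : Set H)) ∧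
      (∀ v ∈ J, v * v * v = 1 → ∀ c ∈ pCore 2 H, v * c = c * v) ∧
      ∀ v ∈ J, v * v * v = 1 → ∀ c ∈ L, c * w = w * c → v * c = c * v) := by
  haveI : Fact (Nat.Prime 2) := ⟨Nat.prime_two⟩
  by_cases hne : ∀ y ∈ J, y * y = z → y ∈ pCore 2 H
  · exact Or.inl hne
  right
  -- a component not centralised by `O₂(J)`
  obtain ⟨L, hL, y, hy, hyz, hyL⟩ : ∃ L : Subgroup H, IsComponent L ∧
      ∃ y ∈ J, y * y = z ∧ y ∉ centralizer (L : Set H) := by
    by_contra hcon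
    push Not at hcon
    apply hne
    intro y hy hyz
    refine OneComp.centralizer_genFit_le hO (OneComp.mem_centralizer_genFit hO (fun L hL => hcon L hL y hy hyz) ?_)
    have h2 : J ≤ centralizer (pCore 2 H : Set H) := by
      refine h.le_of_cube fun v hv h3 => ?_
      rw [mem_centralizer_iff]
      intro x hx
      exact (comm_pCore hw h hs hne hv h3 x hx).symm
    exact h2 hy
  have hwL : cj w L = L := by
    by_contra hwL
    apply hyL
    have h2 : J ≤ centralizer (L : Set H) := by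
      refine h.le_of_cube fun v hv h3 => ?_
      rw [mem_centralizer_iff]
      intro l hl
      exact (comm_of_moved hO hw h hs hne hv h3 hL hwL l hl).symm
    exact h2 hy
  have hJn : J ≤ normalizer (L : Set H) :=
    h.le_of_cube fun v hv h3 => mem_normalizer_iff_cj.2 (comp_fixed hO hw h hs hne hv h3 hL)
  by_cases hJL2 : ∀ y ∈ J, y * y = z → y ∈ L
  · exact Or.inl ⟨L, hL, hwL, hJn, hJL2⟩
  right
  refine ⟨L, hL, hwL, hJn, ⟨y, hy, hyz, hyL⟩, fun v hv h3 => comm_pCore hw h hs hne hv h3, ?_⟩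
  intro v hv h3 c hc hcw
  have h4 := comm_subnormal hOw (h.subgroupOf hs.1) hs.2 (C := L.subgroupOf (centralizer ({w} : Set H)))
    (hL.1.comap _) ?_ ?_ (v := ⟨v, hs.1 hv⟩) hv (Subtype.ext h3) ⟨c, mem_centralizer_singleton_iff.2 hcw⟩ hc
  · exact congrArg Subtype.val h4
  · intro g hg
    rw [mem_normalizer_iff]
    intro k
    exact mem_normalizer_iff.1 (hJn hg) k
  · intro h5
    apply hJL2
    intro y hy hyz
    exact h5 ⟨y, hs.1 hy⟩ hy (Subtype.ext hyz)

end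

end Cfsg.Agent.OddHalf.NI3.Bad.StepOne
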