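import Cfsg.Agent.OddHalf.NI3.Bad.StepOne
import Cfsg.Agent.OddHalf.NI3.Bad.Unb
import Cfsg.Agent.Omega.Lie.OutT

/-!
# NI over `F₃`, THEOREM NIB, step (1): the outer case

`Out3 L J w z` : the third alternative of `StepOne.main`.

* `Out3.not_outNil` : `Out3` implies `¬ OutNil L` (`A₄ ≤ Out(L)`).
* `Out3.not_noFix` : `¬ NoFix L`; `NoFix L`: no automorphism of order 3 of `L` is trivial on the fixed points of a
  commuting automorphism of order at most two.
* `Out3.unb` : `L / Z(L)` is in the list of S1311.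
-/

set_option autoImplicit false
set_option linter.style.haveILetI false

namespace Cfsg.Agent.OddHalf.NI3.Bad.StepOne

open Subgroup Cfsg Cfsg.Agent.Cit Cfsg.Agent.Cit.SolvTwo Cfsg.Agent.SignalizersComponents
open Cfsg.Agent.Omega.Lie.OutT (OutNil)

universe u

/-- No automorphism of order 3 is trivial on the fixed points of a commuting automorphism of order at most two. -/
def NoFix (X : Type*) [Group X] : Prop :=
  ∀ α β : MulAut X, α * α = 1 → β * β * β = 1 → α * β = β * α → (∀ x, α x = x → β x = x) → β = 1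

theorem NoFix.of_equiv {X Y : Type*} [Group X] [Group Y] (e : X ≃* Y) (h : NoFix X) : NoFix Y := by
  intro α β hα hβ hc hf
  let E : MulAut Y ≃* MulAut X := MulAut.congr e.symm
  have hE : ∀ (γ : MulAut Y) (x : X), E γ x = e.symm (γ (e x)) := fun γ x => by simp [E, MulAut.congr]
  have h1 := h (E α) (E β) (by rw [← map_mul, hα, map_one]) (by rw [← map_mul, ← map_mul, hβ, map_one])
    (by rw [← map_mul, hc, map_mul]) (by
      intro x hx
      rw [hE] at hx ⊢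
      have h2 : α (e x) = e x := by
        apply e.symm.injective
        rw [hx, e.symm_apply_apply]
      rw [hf _ h2, e.symm_apply_apply])
  exact E.injective (by rw [h1, map_one])

section

variable {H : Type u} [Group H]

/-- the third alternative of `main` -/
structure Out3 (L J : Subgroup H) (w z : H) : Prop where
  comp : IsComponent L
  wL : cj w L = L
  JL : J ≤ normalizer (L : Set H)
  ne : ∃ y ∈ J, y * y = z ∧ y ∉ centralizer (L : Set H)
  cenP : ∀ v ∈ J, v * v * v = 1 → ∀ c ∈ pCore 2 H, v * c = c * v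
  cen : ∀ v ∈ J, v * v * v = 1 → ∀ c ∈ L, c * w = w * c → v * c = c * v

namespace Out3

variable {L J : Subgroup H} {w z : H}

theorem nL (h : Out3 L J w z) {g : H} (hg : g ∈ J) {x : H} (hx : x ∈ L) : g * x * g⁻¹ ∈ L :=
  (mem_normalizer_iff.1 (h.JL hg) x).1 hx

theorem wx (h : Out3 L J w z) {x : H} (hx : x ∈ L) : w * x * w⁻¹ ∈ L := by
  have := conj_mem_cj (g := w) hx
  rwa [h.wL] at this

theorem not_cent (h : Out3 L J w z) : ¬ J ≤ centralizer (L : Set H) := by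
  intro h1
  obtain ⟨y, hy, -, h2⟩ := h.ne
  exact h2 (h1 hy)

/-- an element `k ∈ J` with `k² = z` does not centralise `L` -/
theorem k_not (h : Out3 L J w z) (hp : IsPr J z) {k : H} (hk : k ∈ J) (hkz : k * k = z)
    (hkL : ∀ x ∈ L, k * x * k⁻¹ = x) : False := by
  obtain ⟨y, hy, hyz, hyL⟩ := h.ne
  obtain ⟨g, hg, rfl⟩ := hp.t3.conj k hk y hy hkz hyz
  apply hyL
  rw [mem_centralizer_iff]
  intro x hx
  have h1 : g⁻¹ * x * g ∈ L := by
    have := h.nL (inv_mem hg) hx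
    rwa [inv_inv] at this
  have h2 := hkL _ h1
  have h3 : g * k * g⁻¹ * x * (g * k * g⁻¹)⁻¹ = x := by
    calc g * k * g⁻¹ * x * (g * k * g⁻¹)⁻¹ = g * (k * (g⁻¹ * x * g) * k⁻¹) * g⁻¹ := by group
      _ = x := by rw [h2]; group
  rw [mul_inv_eq_iff_eq_mul] at h3
  exact h3.symm

/-- a central element of `L` is centralised by `v` -/
theorem comm_center (h : Out3 L J w z) (hZ : IsPGroup 2 ↥(center ↥L)) {v : H} (hv : v ∈ J) (h3 : v * v * v = 1)
    {ζ : H} (hζ : ζ ∈ L) (hc : ∀ x ∈ L, x * ζ = ζ * x) : v * ζ = ζ * v := by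
  have h1 : (⟨ζ, hζ⟩ : L) ∈ center L := by
    rw [mem_center_iff]
    intro x
    exact Subtype.ext (hc x x.2)
  obtain ⟨n, hn⟩ := hZ ⟨⟨ζ, hζ⟩, h1⟩
  have h2 : (⟨ζ, hζ⟩ : L) ^ 2 ^ n = 1 := by
    have := congrArg Subtype.val hn
    simpa using this
  exact h.cenP v hv h3 ζ (mem_pCore_of_center h.comp h1 h2)

/-- **no element of order 4 of `J` acts as an inner automorphism of `L`** -/
theorem inner_false (h : Out3 L J w z) (hp : IsPr J z) (hJw : J ≤ centralizer ({w} : Set H))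
    (hz : ∀ x ∈ L, z * x = x * z) (hZ : IsPGroup 2 ↥(center ↥L)) {i j d : H} (hs : SLThree.Sl J z i j d)
    {l : H} (hl : l ∈ L) (hil : ∀ x ∈ L, i * x * i⁻¹ = l * x * l⁻¹) : False := by
  have hiw : i * w = w * i := mem_centralizer_singleton_iff.1 (hJw hs.hi)
  have hdw : d * w = w * d := mem_centralizer_singleton_iff.1 (hJw hs.hd)
  have hwl := h.wx hl
  -- `ζ = l⁻¹ l^w` is central in `L`
  obtain ⟨ζ, hζ⟩ : ∃ ζ, ζ = l⁻¹ * (w * l * w⁻¹) := ⟨_, rfl⟩
  have hζL : ζ ∈ L := by rw [hζ]; exact mul_mem (inv_mem hl) hwl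
  have hwl' : w * l * w⁻¹ = l * ζ := by rw [hζ]; group
  have hw' : ∀ x ∈ L, w⁻¹ * x * w ∈ L := by
    intro x hx
    have h1 : x ∈ cj w L := by rw [h.wL]; exact hx
    exact Cit.mem_cj.1 h1
  have hζc : ∀ x ∈ L, x * ζ = ζ * x := by
    intro x hx
    have h1 : (w * l * w⁻¹) * x * (w * l * w⁻¹)⁻¹ = l * x * l⁻¹ := by
      calc (w * l * w⁻¹) * x * (w * l * w⁻¹)⁻¹ = w * (l * (w⁻¹ * x * w) * l⁻¹) * w⁻¹ := by group
        _ = w * (i * (w⁻¹ * x * w) * i⁻¹) * w⁻¹ := by rw [hil _ (hw' x hx)]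
        _ = (w * i) * (w⁻¹ * x * w) * (w * i)⁻¹ := by group
        _ = (i * w) * (w⁻¹ * x * w) * (i * w)⁻¹ := by rw [hiw]
        _ = i * x * i⁻¹ := by group
        _ = l * x * l⁻¹ := hil x hx
    rw [hwl'] at h1
    have h2 : ζ * x * ζ⁻¹ = x := by
      calc ζ * x * ζ⁻¹ = l⁻¹ * (l * ζ * x * (l * ζ)⁻¹) * l := by group
        _ = x := by rw [h1]; group
    rw [mul_inv_eq_iff_eq_mul] at h2
    exact h2.symm
  have hdζ : d * ζ = ζ * d := h.comm_center hZ hs.hd hs.d3 hζL hζc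
  -- `m = l⁻¹ l^d`
  obtain ⟨m, hm⟩ : ∃ m, m = l⁻¹ * (d * l * d⁻¹) := ⟨_, rfl⟩
  have hdl : d * l * d⁻¹ = l * m := by rw [hm]; group
  have hmL : m ∈ L := by rw [hm]; exact mul_mem (inv_mem hl) (h.nL hs.hd hl)
  have hmw : m * w = w * m := by
    have h1 : w * m * w⁻¹ = m := by
      calc w * m * w⁻¹ = (w * l * w⁻¹)⁻¹ * ((w * d) * l * (w * d)⁻¹) := by rw [hm]; group
        _ = (w * l * w⁻¹)⁻¹ * ((d * w) * l * (d * w)⁻¹) := by rw [hdw]
        _ = (w * l * w⁻¹)⁻¹ * (d * (w * l * w⁻¹) * d⁻¹) := by group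
        _ = (l * ζ)⁻¹ * (d * l * d⁻¹ * (d * ζ) * d⁻¹) := by rw [hwl']; group
        _ = (l * ζ)⁻¹ * (d * l * d⁻¹ * (ζ * d) * d⁻¹) := by rw [hdζ]
        _ = ζ⁻¹ * (m * ζ) := by rw [hm]; group
        _ = m := by rw [hζc m hmL]; group
    rw [mul_inv_eq_iff_eq_mul] at h1
    exact h1.symm
  have hdm : d * m = m * d := h.cen d hs.hd hs.d3 m hmL hmw
  have hdm' : d * m * d⁻¹ = m := by rw [hdm]; group
  have hm3 : m * m * m = 1 := by
    have h1 : l * (m * m * m) = l := by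
      calc l * (m * m * m) = (d * l * d⁻¹) * m * m := by rw [hdl]; group
        _ = (d * l * d⁻¹) * (d * m * d⁻¹) * (d * m * d⁻¹) := by rw [hdm']
        _ = d * (l * m) * (m) * d⁻¹ := by group
        _ = d * (d * l * d⁻¹) * (d * m * d⁻¹) * d⁻¹ := by rw [hdl, hdm']
        _ = d * (d * (l * m) * d⁻¹) * d⁻¹ := by group
        _ = (d * d * d) * l * (d * d * d)⁻¹ := by rw [← hdl]; group
        _ = l := by rw [hs.d3]; group
    have h2 : l * (m * m * m) = l * 1 := by rw [h1, mul_one]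
    exact mul_left_cancel h2
  -- `m` acts as `k = i⁻¹ j`
  have hd' : ∀ x ∈ L, d⁻¹ * x * d ∈ L := by
    intro x hx
    have := h.nL (inv_mem hs.hd) hx
    rwa [inv_inv] at this
  have hmk : ∀ x ∈ L, m * x * m⁻¹ = (i⁻¹ * j) * x * (i⁻¹ * j)⁻¹ := by
    intro x hx
    have h1 : d * l * d⁻¹ * x * (d * l * d⁻¹)⁻¹ = j * x * j⁻¹ := by
      calc d * l * d⁻¹ * x * (d * l * d⁻¹)⁻¹ = d * (l * (d⁻¹ * x * d) * l⁻¹) * d⁻¹ := by group
        _ = d * (i * (d⁻¹ * x * d) * i⁻¹) * d⁻¹ := by rw [hil _ (hd' x hx)]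
        _ = (d * i * d⁻¹) * x * (d * i * d⁻¹)⁻¹ := by group
        _ = j * x * j⁻¹ := by rw [hs.di]
    have hy : j * x * j⁻¹ ∈ L := h.nL hs.hj hx
    have h2 : l⁻¹ * (j * x * j⁻¹) * l = i⁻¹ * (j * x * j⁻¹) * i := by
      have h3 : i⁻¹ * (j * x * j⁻¹) * i ∈ L := by
        have := h.nL (inv_mem hs.hi) hy
        rwa [inv_inv] at this
      have h4 := hil _ h3
      calc l⁻¹ * (j * x * j⁻¹) * l = l⁻¹ * (i * (i⁻¹ * (j * x * j⁻¹) * i) * i⁻¹) * l := by group
        _ = i⁻¹ * (j * x * j⁻¹) * i := by rw [h4]; group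
    calc m * x * m⁻¹ = l⁻¹ * (d * l * d⁻¹ * x * (d * l * d⁻¹)⁻¹) * l := by rw [hm]; group
      _ = i⁻¹ * (j * x * j⁻¹) * i := by rw [h1, h2]
      _ = (i⁻¹ * j) * x * (i⁻¹ * j)⁻¹ := by group
  have hk2 : (i⁻¹ * j) * (i⁻¹ * j) = z := by
    simp only [hs.q.i_inv, mul_assoc, hs.q.jzx, hs.q.izx, hs.q.zz, hs.q.jix, hs.q.j2, hs.q.iz, hs.q.i2]
  have hmm : ∀ x ∈ L, (m * m) * x * (m * m)⁻¹ = x := by
    intro x hx
    have hx' : m * x * m⁻¹ ∈ L := mul_mem (mul_mem hmL hx) (inv_mem hmL)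
    calc (m * m) * x * (m * m)⁻¹ = m * (m * x * m⁻¹) * m⁻¹ := by group
      _ = (i⁻¹ * j) * (m * x * m⁻¹) * (i⁻¹ * j)⁻¹ := hmk _ hx'
      _ = (i⁻¹ * j) * ((i⁻¹ * j) * x * (i⁻¹ * j)⁻¹) * (i⁻¹ * j)⁻¹ := by rw [hmk x hx]
      _ = ((i⁻¹ * j) * (i⁻¹ * j)) * x * ((i⁻¹ * j) * (i⁻¹ * j))⁻¹ := by group
      _ = x := by rw [hk2, hz x hx]; group
  have hmi : m = (m * m)⁻¹ := eq_inv_of_mul_eq_one_right (by rw [mul_assoc] at hm3 ⊢; exact hm3)
  have hmc : ∀ x ∈ L, m * x * m⁻¹ = x := by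
    intro x hx
    have h1 := hmm x hx
    rw [hmi]
    calc (m * m)⁻¹ * x * (m * m)⁻¹⁻¹ = (m * m)⁻¹ * ((m * m) * x * (m * m)⁻¹) * (m * m) := by rw [h1, inv_inv]
      _ = x := by group
  refine h.k_not hp (mul_mem (inv_mem hs.hi) hs.hj) hk2 fun x hx => ?_
  rw [← hmk x hx, hmc x hx]

/-- the action on `L` -/
noncomputable def ρ (_h : Out3 L J w z) : ↥(normalizer (L : Set H)) →* MulAut ↥L := L.normalizerMonoidHom

theorem coe_ρ (h : Out3 L J w z) (g : ↥(normalizer (L : Set H))) (x : L) : ((h.ρ g x : L) : H) = g * x * g⁻¹ := rfl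

/-- **`A₄ ≤ Out(L)`** -/
theorem not_outNil [Finite H] (h : Out3 L J w z) (hp : IsPr J z) (hJw : J ≤ centralizer ({w} : Set H))
    (hz : ∀ x ∈ L, z * x = x * z) (hZ : IsPGroup 2 ↥(center ↥L)) : ¬ OutNil ↥L := by
  intro hO
  obtain ⟨i, j, d, hs⟩ := hp.sl
  set i' : MulAut L := h.ρ ⟨i, h.JL hs.hi⟩ with hi'
  set j' : MulAut L := h.ρ ⟨j, h.JL hs.hj⟩ with hj'
  set d' : MulAut L := h.ρ ⟨d, h.JL hs.hd⟩ with hd'
  have hz' : h.ρ ⟨z, h.JL hp.mem⟩ = 1 := by
    ext x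
    rw [coe_ρ, MulAut.one_apply]
    show z * (x : H) * z⁻¹ = x
    rw [hz x x.2]; group
  have hii : i' * i' = 1 := by
    rw [hi', ← map_mul, ← hz']
    congr 1
    exact Subtype.ext hs.q.i2
  have hjj : j' * j' = 1 := by
    rw [hj', ← map_mul, ← hz']
    congr 1
    exact Subtype.ext hs.q.j2
  have hji : j' * i' = i' * j' := by
    have h1 : h.ρ (⟨j, h.JL hs.hj⟩ * ⟨i, h.JL hs.hi⟩) = h.ρ (⟨z, h.JL hp.mem⟩ * (⟨i, h.JL hs.hi⟩ * ⟨j, h.JL hs.hj⟩)) := by
      congr 1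
      exact Subtype.ext hs.q.ji
    rw [map_mul, map_mul, map_mul, hz', one_mul] at h1
    exact h1
  have hdi : d' * i' * d'⁻¹ = j' := by
    rw [hd', hi', hj', ← map_inv, ← map_mul, ← map_mul]
    congr 1
    exact Subtype.ext hs.di
  have hdj : d' * j' * d'⁻¹ = i' * j' := by
    rw [hd', hi', hj', ← map_inv, ← map_mul, ← map_mul, ← map_mul]
    congr 1
    exact Subtype.ext hs.dj
  have hd3 : d' * d' * d' = 1 := by
    rw [hd', ← map_mul, ← map_mul, ← map_one h.ρ]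
    congr 1
    exact Subtype.ext hs.d3
  set X : Subgroup (MulAut L) := closure {i', j'} with hX
  have hiX : i' ∈ X := subset_closure (Or.inl rfl)
  have hjX : j' ∈ X := subset_closure (Or.inr rfl)
  have hgc : ∀ g : MulAut L, g * i' = i' * g → g * j' = j' * g → ∀ x ∈ X, g * x = x * g := by
    intro g h1 h2 x hx
    have h3 : X ≤ centralizer ({g} : Set (MulAut L)) := by
      rw [hX, closure_le]
      rintro k (rfl | rfl)
      · exact mem_centralizer_singleton_iff.2 h1.symm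
      · exact mem_centralizer_singleton_iff.2 h2.symm
    exact (mem_centralizer_singleton_iff.1 (h3 hx)).symm
  have hXc : ∀ x ∈ X, ∀ y ∈ X, x * y = y * x := by
    intro x hx y hy
    exact hgc x (hgc i' rfl hji.symm x hx).symm (hgc j' hji rfl x hx).symm y hy
  have hXsq : ∀ x ∈ X, x * x = 1 := by
    intro x hx
    induction hx using closure_induction with
    | mem x hx =>
      rcases hx with rfl | rfl
      · exact hii
      · exact hjj
    | one => rw [one_mul]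
    | mul x y hx hy h1 h2 =>
      calc x * y * (x * y) = x * (y * x) * y := by group
        _ = x * (x * y) * y := by rw [hXc y hy x hx]
        _ = (x * x) * (y * y) := by group
        _ = 1 := by rw [h1, h2, one_mul]
    | inv x hx h1 => rw [← mul_inv_rev, h1, inv_one]
  have hnorm : zpowers d' ≤ normalizer (X : Set (MulAut L)) := by
    rw [zpowers_le, Cit.mem_normalizer_iff_cj]
    have h1 : cj d' X ≤ X := by
      rw [Cit.cj_def, map_le_iff_le_comap, hX, closure_le]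
      rintro k (rfl | rfl)
      · show d' * i' * d'⁻¹ ∈ X
        rw [hdi]; exact hjX
      · show d' * j' * d'⁻¹ ∈ X
        rw [hdj]; exact mul_mem hiX hjX
    exact Subgroup.eq_of_le_of_card_ge h1 (by rw [Cit.card_cj])
  have h1 := hO X (zpowers d') hXsq (by rw [Nat.card_zpowers]; exact odd_of_cube hd3)
    (fun t ht x hx => (mem_normalizer_iff.1 (hnorm ht) x).1 hx) (by
      set S : Subgroup (MulAut L) := closure {y | ∃ x ∈ X, ∃ t ∈ zpowers d', x⁻¹ * (t * x * t⁻¹) = y} with hS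
      have e1 : i' ∈ S := by
        refine subset_closure ⟨j', hjX, d', mem_zpowers d', ?_⟩
        rw [hdj, ← hji]; group
      have e2 : i' * j' ∈ S := by
        refine subset_closure ⟨i', hiX, d', mem_zpowers d', ?_⟩
        rw [hdi, inv_eq_of_mul_eq_one_right hii]
      rw [hX, closure_le]
      rintro k (rfl | rfl)
      · exact e1
      · have e3 := mul_mem e1 e2
        rw [← mul_assoc, hii, one_mul] at e3
        exact e3) hiX
  obtain ⟨l, hl⟩ := h1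
  refine h.inner_false hp hJw hz hZ hs l.2 fun x hx => ?_
  have h2 := congrArg Subtype.val (DFunLike.congr_fun hl ⟨x, hx⟩)
  exact h2.symm

/-- the automorphisms induced by `w` and `v` -/
theorem aut (h : Out3 L J w z) (hw : w * w = 1) (hJw : J ≤ centralizer ({w} : Set H)) {v : H}
    (hv : v ∈ J) (h3 : v * v * v = 1) : ∃ α β : MulAut ↥L, α * α = 1 ∧ β * β * β = 1 ∧ α * β = β * α ∧
      (∀ x, α x = x → β x = x) ∧ (∀ x : L, ((β x : L) : H) = v * x * v⁻¹) := by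
  have hwn : w ∈ normalizer (L : Set H) := Cit.mem_normalizer_iff_cj.2 h.wL
  have hvw : v * w = w * v := mem_centralizer_singleton_iff.1 (hJw hv)
  refine ⟨h.ρ ⟨w, hwn⟩, h.ρ ⟨v, h.JL hv⟩, ?_, ?_, ?_, ?_, fun x => rfl⟩
  · rw [← map_mul, ← map_one h.ρ]
    congr 1
    exact Subtype.ext hw
  · rw [← map_mul, ← map_mul, ← map_one h.ρ]
    congr 1
    exact Subtype.ext h3
  · rw [← map_mul, ← map_mul]
    congr 1
    exact Subtype.ext hvw.symm
  · intro x hx
    have h1 : w * (x : H) * w⁻¹ = x := congrArg Subtype.val hx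
    rw [mul_inv_eq_iff_eq_mul] at h1
    apply Subtype.ext
    show v * (x : H) * v⁻¹ = x
    rw [h.cen v hv h3 x x.2 h1.symm]; group

theorem not_noFix (h : Out3 L J w z) (hw : w * w = 1) (hp : IsPr J z) (hJw : J ≤ centralizer ({w} : Set H)) :
    ¬ NoFix ↥L := by
  intro hN
  apply h.not_cent
  refine hp.le_of_cube fun v hv h3 => ?_
  obtain ⟨α, β, h1, h2, h4, h5, h6⟩ := h.aut hw hJw hv h3
  have h7 := hN α β h1 h2 h4 h5
  rw [mem_centralizer_iff]
  intro x hx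
  have h8 := h6 ⟨x, hx⟩
  rw [h7, MulAut.one_apply, eq_mul_inv_iff_mul_eq] at h8
  exact h8

theorem unb [Finite H] (h1311 : Stmts.P1311.{u}) (h : Out3 L J w z) (hw : w * w = 1) (hp : IsPr J z)
    (hJw : J ≤ centralizer ({w} : Set H)) (hZ : IsPGroup 2 ↥(center ↥L)) : Unb.IsUnb (↥L ⧸ center ↥L) := by
  by_contra hcon
  apply h.not_cent
  refine hp.le_of_cube fun v hv h3 => ?_
  obtain ⟨α, β, h1, h2, h4, h5, h6⟩ := h.aut hw hJw hv h3
  have h7 : β = 1 := by
    by_contra hβ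
    refine hcon (Unb.unbQ h1311 h.comp.2 h1 h2 hβ h4 h5 ?_)
    intro x hx
    apply Subtype.ext
    rw [h6]
    rw [h.comm_center hZ hv h3 x.2 (fun y hy => congrArg Subtype.val (mem_center_iff.1 hx ⟨y, hy⟩))]
    group
  rw [mem_centralizer_iff]
  intro x hx
  have h8 := h6 ⟨x, hx⟩
  rw [h7, MulAut.one_apply, eq_mul_inv_iff_mul_eq] at h8
  exact h8

end Out3

end

end Cfsg.Agent.OddHalf.NI3.Bad.StepOne
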