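import Cfsg.Agent.OddHalf.NI3.Bad.CaseA
import Cfsg.Agent.OddHalf.NI.LemmaP

/-!
# Node NI over `F₃`, bad types, step (2) (bb #14136, helper515; (2)(B) = bb #14641)

`Fr N J₁ J₂ y z w q₁ q₂ s n` : the facts about `N ≅ Ω₆⁻(3)` used in step (2) (`y = -1`, `z = -1₁₂₃₄`, `w = -1₅₆`,
`J₁ J₂ = Ω(1234)`, `q₁ q₂ = -1₁₂`).
`stepTwo` : `N` a component of `C(y)`, `J₁` subnormal in `C(w)`, `O₂(J₁) O₂(J₂) ≤ O₂(C(z))`. Then `J₁` is subnormal in
`C(z)`.
-/

set_option autoImplicit false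
set_option linter.style.haveILetI false
set_option linter.unusedSectionVars false

namespace Cfsg.Agent.OddHalf.NI3.Bad

open Subgroup Cfsg Cfsg.Agent.Cit Cfsg.Agent.Cit.SolvTwo Cfsg.Agent.SignalizersComponents
open Cfsg.Agent.OddHalf.D3 (Comp FT BL)
open Cfsg.Agent.OddHalf.NI (CompIn Dg pump2)

universe u

/-- the facts about `N ≅ Ω₆⁻(3)` used in step (2) -/
structure Fr {G : Type*} [Group G] (N J1 J2 : Subgroup G) (y z w q1 q2 s n : G) : Prop where
  p1 : IsPr J1 z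
  le1 : J1 ≤ N
  comm : J2 ≤ centralizer (J1 : Set G)
  yN : y ∈ N
  yc : ∀ a ∈ N, a * y = y * a
  yo : orderOf y = 2
  wo : orderOf w = 2
  wN : w ∈ N
  yzw : y = z * w
  sn1 : Sn J1 (N ⊓ centralizer ({z} : Set G))
  nor : ∀ g ∈ N, g * z = z * g → ∀ a ∈ J1 ⊔ J2, g * a * g⁻¹ ∈ J1 ⊔ J2
  cen : ∀ g ∈ N, (∀ a ∈ J1, g * a = a * g) → (∀ a ∈ J2, g * a = a * g) → g = 1 ∨ g = z ∨ g = y ∨ g = w
  hq1 : q1 ∈ J1
  q1z : q1 * q1 = z
  hq2 : q2 ∈ J2
  q2z : q2 * q2 = z
  sN : s ∈ N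
  sw : s * w = w * s
  sJ : Cit.cj s J1 = J2
  nN : n ∈ N
  nw : n * w * n⁻¹ = q1 * q2

namespace Fr

variable {G : Type*} [Group G] {N J1 J2 : Subgroup G} {y z w q1 q2 s n : G}

theorem zz (h : Fr N J1 J2 y z w q1 q2 s n) : z * z = 1 := h.p1.t3.z_sq

theorem ww (h : Fr N J1 J2 y z w q1 q2 s n) : w * w = 1 := by
  rw [← pow_two, ← h.wo, pow_orderOf_eq_one]

theorem yy (h : Fr N J1 J2 y z w q1 q2 s n) : y * y = 1 := by
  rw [← pow_two, ← h.yo, pow_orderOf_eq_one]

theorem zN (h : Fr N J1 J2 y z w q1 q2 s n) : z ∈ N := h.le1 h.p1.mem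

theorem le2 (h : Fr N J1 J2 y z w q1 q2 s n) : J2 ≤ N := by
  rw [← h.sJ]
  rintro _ ⟨a, ha, rfl⟩
  exact mul_mem (mul_mem h.sN (h.le1 ha)) (inv_mem h.sN)

theorem zw (h : Fr N J1 J2 y z w q1 q2 s n) : z * w = w * z := by
  have h1 := h.yc z h.zN
  rw [h.yzw] at h1
  calc z * w = z * z * (z * w) := by rw [h.zz, one_mul]
    _ = z * (z * (z * w)) := by group
    _ = z * (z * w * z) := by rw [h1]
    _ = (z * z) * (w * z) := by group
    _ = w * z := by rw [h.zz, one_mul]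

theorem w_eq (h : Fr N J1 J2 y z w q1 q2 s n) : w = z * y := by
  rw [h.yzw, ← mul_assoc, h.zz, one_mul]

theorem z_eq (h : Fr N J1 J2 y z w q1 q2 s n) : z = y * w := by
  rw [h.yzw, mul_assoc, h.ww, mul_one]

theorem sz (h : Fr N J1 J2 y z w q1 q2 s n) : s * z * s⁻¹ = z := by
  have h1 := h.yc s h.sN
  have h2 : s * z = z * s := by
    rw [h.z_eq]
    calc s * (y * w) = (s * y) * w := by group
      _ = y * (s * w) := by rw [h1]; group
      _ = y * w * s := by rw [h.sw]; group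
  rw [h2]; group

theorem p2 (h : Fr N J1 J2 y z w q1 q2 s n) : IsPr J2 z := by
  have h1 := h.p1.cj s
  rwa [h.sJ, h.sz] at h1

/-- elements commuting with `z` and `w` commute with `y` -/
theorem y_of (h : Fr N J1 J2 y z w q1 q2 s n) {g : G} (hz : g * z = z * g) (hw : g * w = w * g) : g * y = y * g := by
  rw [h.yzw]
  exact ((show Commute g z from hz).mul_right (show Commute g w from hw)).eq

theorem w_of (h : Fr N J1 J2 y z w q1 q2 s n) {g : G} (hz : g * z = z * g) (hy : g * y = y * g) : g * w = w * g := by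
  rw [h.w_eq]
  exact ((show Commute g z from hz).mul_right (show Commute g y from hy)).eq

theorem z_of (h : Fr N J1 J2 y z w q1 q2 s n) {g : G} (hw : g * w = w * g) (hy : g * y = y * g) : g * z = z * g := by
  rw [h.z_eq]
  exact ((show Commute g y from hy).mul_right (show Commute g w from hw)).eq

theorem J1z (h : Fr N J1 J2 y z w q1 q2 s n) {a : G} (ha : a ∈ J1) : a * z = z * a := h.p1.comm_z ha

theorem J2z (h : Fr N J1 J2 y z w q1 q2 s n) {a : G} (ha : a ∈ J2) : a * z = z * a := h.p2.comm_z ha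

theorem J1w (h : Fr N J1 J2 y z w q1 q2 s n) {a : G} (ha : a ∈ J1) : a * w = w * a :=
  h.w_of (h.J1z ha) (h.yc a (h.le1 ha))

theorem J2w (h : Fr N J1 J2 y z w q1 q2 s n) {a : G} (ha : a ∈ J2) : a * w = w * a :=
  h.w_of (h.J2z ha) (h.yc a (h.le2 ha))

theorem cen_eq (h : Fr N J1 J2 y z w q1 q2 s n) :
    centralizer ({y} : Set G) ⊓ centralizer ({z} : Set G) =
      centralizer ({w} : Set G) ⊓ centralizer ({z} : Set G) := by
  ext g
  simp only [mem_inf, mem_centralizer_singleton_iff]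
  exact ⟨fun hg => ⟨h.w_of hg.2 hg.1, hg.2⟩, fun hg => ⟨h.y_of hg.2 hg.1, hg.2⟩⟩

/-- `q₁ q₂ ≠ w` -/
theorem ne_w (h : Fr N J1 J2 y z w q1 q2 s n) : q1 * q2 ≠ w := by
  intro h1
  obtain ⟨a, ha, b, hb, haz, hbz, hab⟩ := h.p1.t3.ex4
  -- some element of order 4 of `J1` does not commute with `q1`
  have h2 : ∃ c ∈ J1, c * q1 ≠ q1 * c := by
    by_contra hcon
    push Not at hcon
    obtain ⟨g, hg, hga⟩ := h.p1.t3.conj q1 h.hq1 a ha h.q1z haz
    apply hab
    have h3 := hcon (g⁻¹ * b * g) (mul_mem (mul_mem (inv_mem hg) hb) hg)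
    rw [← hga]
    calc g * q1 * g⁻¹ * b = g * (q1 * (g⁻¹ * b * g)) * g⁻¹ := by group
      _ = g * ((g⁻¹ * b * g) * q1) * g⁻¹ := by rw [h3]
      _ = b * (g * q1 * g⁻¹) := by group
  obtain ⟨c, hc, hcq⟩ := h2
  apply hcq
  have h3 : c * q2 = q2 * c := mem_centralizer_iff.1 (h.comm h.hq2) c hc
  have h4 := h.J1w hc
  rw [← h1] at h4
  have h5 : c * q1 * q2 = q1 * c * q2 := by
    calc c * q1 * q2 = c * (q1 * q2) := by group
      _ = q1 * (q2 * c) := by rw [h4]; group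
      _ = q1 * c * q2 := by rw [← h3]; group
  exact mul_right_cancel h5

/-- `n z n⁻¹ = y q₁ q₂` -/
theorem nz (h : Fr N J1 J2 y z w q1 q2 s n) : n * z * n⁻¹ = y * (q1 * q2) := by
  have h1 : n * y * n⁻¹ = y := by rw [h.yc n h.nN]; group
  calc n * z * n⁻¹ = (n * y * n⁻¹) * (n * w * n⁻¹) := by rw [h.z_eq]; group
    _ = y * (q1 * q2) := by rw [h1, h.nw]

theorem uu (h : Fr N J1 J2 y z w q1 q2 s n) : (q1 * q2) * (q1 * q2) = 1 := by
  rw [← h.nw]
  calc n * w * n⁻¹ * (n * w * n⁻¹) = n * (w * w) * n⁻¹ := by group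
    _ = 1 := by rw [h.ww]; group

theorem uo (h : Fr N J1 J2 y z w q1 q2 s n) : orderOf (q1 * q2) = 2 := by
  rw [← h.nw, ← h.wo]
  have := orderOf_injective (MulAut.conj n).toMonoidHom (MulAut.conj n).injective w
  simpa using this

/-- `w` is not central in `N` -/
theorem w_not_central (h : Fr N J1 J2 y z w q1 q2 s n) : ¬ ∀ a ∈ N, a * w = w * a := by
  intro h1
  apply h.ne_w
  rw [← h.nw, h1 n h.nN]
  group

end Fr

section

variable {G : Type u} [Group G] [Finite G] {N J1 J2 : Subgroup G} {y z w q1 q2 s n : G}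

/-- `J₁` is subnormal in `C(y) ∩ C(z)` -/
theorem Fr.sn_yz (h : Fr N J1 J2 y z w q1 q2 s n) (hN : Comp y N) :
    Sn J1 (centralizer ({y} : Set G) ⊓ centralizer ({z} : Set G)) := by
  refine h.sn1.trans ?_
  exact Sn.inf ⟨hN.le, hN.comp.1⟩ _

theorem Fr.sn_wz (h : Fr N J1 J2 y z w q1 q2 s n) (hN : Comp y N) :
    Sn J1 (centralizer ({w} : Set G) ⊓ centralizer ({z} : Set G)) := by
  rw [← h.cen_eq]
  exact h.sn_yz hN

/-- `(z, J₁)` is a classical pair of `C(g)`, `g = y` or `w` -/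
theorem cl_of {g : G} (p1 : IsPr J1 z) (hg : J1 ≤ centralizer ({g} : Set G))
    (hs : Sn J1 (centralizer ({g} : Set G) ⊓ centralizer ({z} : Set G))) :
    Cl (⟨z, hg p1.mem⟩ : centralizer ({g} : Set G)) (J1.subgroupOf (centralizer ({g} : Set G))) := by
  refine ⟨p1.subgroupOf hg, ?_⟩
  rw [← centralizer_subgroupOf (hg p1.mem)]
  have h1 : (centralizer ({g} : Set G) ⊓ centralizer ({z} : Set G)).subgroupOf (centralizer ({g} : Set G)) =
      (centralizer ({z} : Set G)).subgroupOf (centralizer ({g} : Set G)) := by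
    ext x
    simp only [mem_subgroupOf, mem_inf]
    exact ⟨fun hx => hx.2, fun hx => ⟨x.2, hx⟩⟩
  rw [← h1]
  exact hs.comap _

end

/-! ### Conjugates of a subnormal classical pair -/

section

variable {H : Type u} [Group H] [Finite H]

/-- the piece of a subnormal classical pair `(x, J)` is `J` -/
theorem pc_eq (hT : TStmt.{u}) (hO : pPrimeCore 2 H = ⊥) {x : H} {J : Subgroup H} (h : Cl x J)
    (hs : J.IsSubnormal) : pc (cls J) J = J := by
  haveI : Fact (Nat.Prime 2) := ⟨Nat.prime_two⟩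
  have hOm := h.hyp' hT hO
  have hm : J ∈ cls J := self_mem_cls _
  rcases (h.pieces hT hO).eq_or_quasisimple hOm hm with hD | ⟨-, hDq, hD2⟩
  · exact hD
  exfalso
  set D := pc (cls J) J with hDdef
  have hJD : J ≤ D := le_pc
  have hDc : IsComponent D := by
    refine ⟨?_, hDq⟩
    have h1 : Sn D (sSup (cls J)) :=
      Sn.of_normal (sSup_le fun K hK => le_sSup (chn_mem hm hK)) (sSup_le_normalizer_pc hm)
    have h2 : (sSup (cls J)).Normal := by
      refine ⟨fun n hn g => ?_⟩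
      have h3 : Cit.cj g (sSup (cls J)) ≤ sSup (cls J) := by
        rw [Cit.cj_le_iff]
        refine sSup_le fun K hK => ?_
        rw [← Cit.cj_le_iff]
        exact le_sSup (hOm.conj K hK g)
      exact h3 (conj_mem_cj hn)
    exact h1.isSubnormal h2.isSubnormal
  obtain ⟨a, ha, b, hb, -, -, hab⟩ := h.pr.t3.ex4
  exact hab (comm_component h.pr hs hDc a ha b (hJD hb))

/-- a subnormal `SL₂(3)` (from a classical pair) commutes with its conjugates with other involutions -/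
theorem comm_conj (hT : TStmt.{u}) (hO : pPrimeCore 2 H = ⊥) {x : H} {J : Subgroup H} (h : Cl x J)
    (hs : J.IsSubnormal) {g : H} (hg : g * x * g⁻¹ ≠ x) {a b : H} (ha : a ∈ J) (hb : b ∈ J) :
    a * (g * b * g⁻¹) = (g * b * g⁻¹) * a := by
  have hOm := h.hyp' hT hO
  have hD := pc_eq hT hO h hs
  have hcj : pc (cls J) (Cit.cj g J) = Cit.cj g J := by rw [← cj_pc hOm.conj, hD]
  have hne : pc (cls J) (Cit.cj g J) ≠ pc (cls J) J := by
    rw [hcj, hD]
    intro he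
    have hxg : g * x * g⁻¹ ∈ Cit.cj g J := conj_mem_cj h.pr.mem
    rw [he] at hxg
    apply hg
    have h1 := hOm.uniq J (self_mem_cls _) (g * x * g⁻¹) ?_ ?_
    · rw [← h.zz_eq hT hO] at h1 ⊢
      exact h1
    · exact hxg
    · have := orderOf_injective (MulAut.conj g).toMonoidHom (MulAut.conj g).injective x
      rw [← h.pr.ord, ← this]; rfl
  have h2 := pc_comm (hOm.conj J (self_mem_cls _) g) (self_mem_cls _) hne
  rw [hcj, hD] at h2
  exact mem_centralizer_iff.1 (h2 (conj_mem_cj hb)) a ha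

end

/-! ### The two cases -/

/-- coprime action: `v` of order 3 centralises `A` and `C_N(A) ≤ C(v)` is elementary -/
theorem comm_of_cen {G : Type*} [Group G] {v x : G} {A : Subgroup G} (hvA : ∀ a ∈ A, v * a = a * v)
    (hx : ∀ a ∈ A, x * a * x⁻¹ ∈ A) (h3 : v * v * v = 1)
    (hc : ∀ g : G, (∀ a ∈ A, g * a = a * g) → g = x⁻¹ * (v * x * v⁻¹) → g * g = 1 ∧ v * g = g * v) :
    v * x = x * v := by
  set ζ := x⁻¹ * (v * x * v⁻¹) with hζ
  have h1 : ∀ a ∈ A, ζ * a = a * ζ := by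
    intro a ha
    have e1 : v⁻¹ * a * v = a := by
      calc v⁻¹ * a * v = v⁻¹ * (a * v) := by group
        _ = v⁻¹ * (v * a) := by rw [hvA a ha]
        _ = a := by group
    have e2 : v * (x * a * x⁻¹) * v⁻¹ = x * a * x⁻¹ := by rw [hvA _ (hx a ha)]; group
    rw [← mul_inv_eq_iff_eq_mul]
    calc ζ * a * ζ⁻¹ = x⁻¹ * (v * (x * (v⁻¹ * a * v) * x⁻¹) * v⁻¹) * x := by rw [hζ]; group
      _ = x⁻¹ * (x * a * x⁻¹) * x := by rw [e1, e2]
      _ = a := by group
  obtain ⟨h2, h4⟩ := hc ζ h1 rfl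
  have e1 : v * x * v⁻¹ = x * ζ := by rw [hζ]; group
  have e2 : v * ζ * v⁻¹ = ζ := by rw [h4]; group
  have e3 : v * (v * x * v⁻¹) * v⁻¹ = x := by
    calc v * (v * x * v⁻¹) * v⁻¹ = v * (x * ζ) * v⁻¹ := by rw [e1]
      _ = (v * x * v⁻¹) * (v * ζ * v⁻¹) := by group
      _ = x * (ζ * ζ) := by rw [e1, e2]; group
      _ = x := by rw [h2, mul_one]
  have e4 : x = v * x * v⁻¹ := by
    calc x = (v * v * v) * x * (v * v * v)⁻¹ := by rw [h3]; group
      _ = v * (v * (v * x * v⁻¹) * v⁻¹) * v⁻¹ := by group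
      _ = v * x * v⁻¹ := by rw [e3]
  exact (eq_mul_inv_iff_mul_eq.1 e4).symm

section

variable {G : Type u} [Group G] [Finite G] {N J1 J2 : Subgroup G} {y z w q1 q2 s n : G}

/-- conjugates of `J₁` under `C(w)` -/
theorem Fr.comm_cj (hT : TStmt.{u}) (h : Fr N J1 J2 y z w q1 q2 s n) (hN : Comp y N)
    (hOw : pPrimeCore 2 ↥(centralizer ({w} : Set G)) = ⊥) (hs : Sn J1 (centralizer ({w} : Set G))) {g : G}
    (hgw : g * w = w * g) (hgz : g * z * g⁻¹ ≠ z) {a b : G} (ha : a ∈ J1) (hb : b ∈ J1) :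
    a * (g * b * g⁻¹) = (g * b * g⁻¹) * a := by
  have hcl := cl_of h.p1 hs.le (h.sn_wz hN)
  have h1 := comm_conj hT hOw hcl hs.2 (g := ⟨g, mem_centralizer_singleton_iff.2 hgw⟩)
    (fun he => hgz (congrArg Subtype.val he)) (a := ⟨a, hs.le ha⟩) (b := ⟨b, hs.le hb⟩) ha hb
  exact congrArg Subtype.val h1

/-- (α) -/
theorem Fr.comm_D (hT : TStmt.{u}) (h : Fr N J1 J2 y z w q1 q2 s n) (hN : Comp y N)
    (hOw : pPrimeCore 2 ↥(centralizer ({w} : Set G)) = ⊥) (hs : Sn J1 (centralizer ({w} : Set G))) {c : G}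
    (hcw : c * w = w * c) (hcz : c * z * c⁻¹ ≠ z) {b : G} (hb : b ∈ J1 ∨ b ∈ J2) :
    ∀ a ∈ J1 ⊔ J2, a * (c * b * c⁻¹) = (c * b * c⁻¹) * a := by
  -- the first group
  have h1 : ∀ g : G, g * w = w * g → g * z * g⁻¹ ≠ z → ∀ a ∈ J1, ∀ b : G, b ∈ J1 ∨ b ∈ J2 →
      a * (g * b * g⁻¹) = (g * b * g⁻¹) * a := by
    intro g hgw hgz a ha b hb
    rcases hb with hb | hb
    · exact h.comm_cj hT hN hOw hs hgw hgz ha hb
    · rw [← h.sJ] at hb
      obtain ⟨b', hb', rfl⟩ := hb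
      have h2 : (g * s) * w = w * (g * s) := by
        calc (g * s) * w = g * (s * w) := by group
          _ = (g * w) * s := by rw [h.sw]; group
          _ = w * (g * s) := by rw [hgw]; group
      have h3 : (g * s) * z * (g * s)⁻¹ ≠ z := by
        have e : (g * s) * z * (g * s)⁻¹ = g * (s * z * s⁻¹) * g⁻¹ := by group
        rw [e, h.sz]; exact hgz
      have h4 := h.comm_cj hT hN hOw hs h2 h3 ha hb'
      have e : g * (s * b' * s⁻¹) * g⁻¹ = (g * s) * b' * (g * s)⁻¹ := by group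
      show a * (g * (s * b' * s⁻¹) * g⁻¹) = (g * (s * b' * s⁻¹) * g⁻¹) * a
      rw [e]; exact h4
  have h2 : J1 ⊔ J2 ≤ centralizer ({c * b * c⁻¹} : Set G) := by
    refine sup_le ?_ ?_
    · intro a ha
      exact mem_centralizer_singleton_iff.2 (h1 c hcw hcz a ha b hb)
    · rw [← h.sJ]
      rintro _ ⟨a', ha', rfl⟩
      rw [mem_centralizer_singleton_iff]
      have h3 : (s⁻¹ * c) * w = w * (s⁻¹ * c) := by
        have e : s⁻¹ * w = w * s⁻¹ := ((show Commute s w from h.sw).inv_left).eq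
        calc (s⁻¹ * c) * w = s⁻¹ * (c * w) := by group
          _ = (s⁻¹ * w) * c := by rw [hcw]; group
          _ = w * (s⁻¹ * c) := by rw [e]; group
      have h4 : (s⁻¹ * c) * z * (s⁻¹ * c)⁻¹ ≠ z := by
        intro h5
        apply hcz
        calc c * z * c⁻¹ = s * ((s⁻¹ * c) * z * (s⁻¹ * c)⁻¹) * s⁻¹ := by group
          _ = z := by rw [h5, h.sz]
      have h5 := h1 _ h3 h4 a' ha' b hb
      show (s * a' * s⁻¹) * (c * b * c⁻¹) = (c * b * c⁻¹) * (s * a' * s⁻¹)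
      calc (s * a' * s⁻¹) * (c * b * c⁻¹) = s * (a' * ((s⁻¹ * c) * b * (s⁻¹ * c)⁻¹)) * s⁻¹ := by group
        _ = s * (((s⁻¹ * c) * b * (s⁻¹ * c)⁻¹) * a') * s⁻¹ := by rw [h5]
        _ = (c * b * c⁻¹) * (s * a' * s⁻¹) := by group
  intro a ha
  exact mem_centralizer_singleton_iff.1 (h2 ha)

/-- (β): `(J₁ J₂)^c` centralises `N` -/
theorem Fr.comm_N (hT : TStmt.{u}) (h : Fr N J1 J2 y z w q1 q2 s n) (hN : Comp y N)
    (hZ : IsPGroup 2 ↥(center ↥N))
    (hOw : pPrimeCore 2 ↥(centralizer ({w} : Set G)) = ⊥) (hs : Sn J1 (centralizer ({w} : Set G))) {c : G}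
    (hcw : c * w = w * c) (hcz : c * z * c⁻¹ ≠ z) {b : G} (hb : b ∈ J1 ∨ b ∈ J2) :
    ∀ x ∈ N, (c * b * c⁻¹) * x = x * (c * b * c⁻¹) := by
  -- elements of order 3 first
  have key : ∀ b : G, (b ∈ J1 ∨ b ∈ J2) → b * b * b = 1 → ∀ x ∈ N, (c * b * c⁻¹) * x = x * (c * b * c⁻¹) := by
    intro b hb hb3
    set v := c * b * c⁻¹ with hv
    have hvD : ∀ a ∈ J1 ⊔ J2, a * v = v * a := h.comm_D hT hN hOw hs hcw hcz hb
    have hv3 : v * v * v = 1 := by
      calc v * v * v = c * (b * b * b) * c⁻¹ := by rw [hv]; group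
        _ = 1 := by rw [hb3]; group
    have hvz : v * z = z * v := (hvD z (mem_sup_left h.p1.mem)).symm
    have hbw : b * w = w * b := by
      rcases hb with hb | hb
      · exact h.J1w hb
      · exact h.J2w hb
    have hvw : v * w = w * v := by
      have c1 : Commute c w := hcw
      have c2 : Commute b w := hbw
      exact ((c1.mul_left c2).mul_left c1.inv_left).eq
    have hvy : v * y = y * v := h.y_of hvz hvw
    -- `v` normalises `N`
    have hvN : D3.cj v N = N := by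
      by_contra hne
      have h1 := (hN.conj_of_comm hvy).comm hN hne
      obtain ⟨a, ha, a', ha', -, -, haa⟩ := h.p1.t3.ex4
      have h2 : a ∈ D3.cj v N := by
        refine ⟨a, h.le1 ha, ?_⟩
        show v * a * v⁻¹ = a
        rw [← hvD a (mem_sup_left ha)]; group
      exact haa (mem_centralizer_iff.1 (h1 h2) a' (h.le1 ha')).symm
    have hvn : v ∈ normalizer (N : Set G) := by
      rw [mem_normalizer_iff_cj]; exact hvN
    have hNc : ∀ x ∈ N, v * x * v⁻¹ ∈ N := fun x hx => (mem_normalizer_iff.1 hvn x).1 hx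
    -- the fixed point theorem in `C(y)`
    have hcl := cl_of h.p1 (h.le1.trans hN.le) (h.sn_yz hN)
    have hq : IsQuasisimple (N.subgroupOf (centralizer ({y} : Set G))) := hN.comp.2
    have hZ' : IsPGroup 2 (center ↥(N.subgroupOf (centralizer ({y} : Set G)))) := by
      have e := Subgroup.subgroupOfEquivOfLe hN.le
      exact hZ.of_equiv (Subgroup.centerCongr e).symm
    have h1 := hcl.fix hT hq hZ' (fun a ha => h.le1 ha) (v := ⟨v, mem_centralizer_singleton_iff.2 hvy⟩) ?_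
      (Subtype.ext hv3) ?_
    · intro x hx
      exact congrArg Subtype.val (h1 ⟨x, hN.le hx⟩ hx)
    · rw [mem_normalizer_iff]
      intro k
      exact mem_normalizer_iff.1 hvn k
    · rintro ⟨x, hxy⟩ hxN hxz
      have hxN' : x ∈ N := hxN
      have hxz' : x * z = z * x := congrArg Subtype.val hxz
      refine Subtype.ext (comm_of_cen (A := J1 ⊔ J2) (fun a ha => (hvD a ha).symm) (h.nor x hxN' hxz') hv3 ?_)
      intro g hg hgx
      have hgN : g ∈ N := by rw [hgx]; exact mul_mem (inv_mem hxN') (hNc x hxN')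
      rcases h.cen g hgN (fun a ha => hg a (mem_sup_left ha)) (fun a ha => hg a (mem_sup_right ha)) with
        h4 | h4 | h4 | h4
      · rw [h4]; exact ⟨by simp, by simp⟩
      · rw [h4]; exact ⟨h.zz, hvz⟩
      · rw [h4]; exact ⟨h.yy, hvy⟩
      · rw [h4]; exact ⟨h.ww, hvw⟩
  -- generation
  have gen : ∀ K : Subgroup G, IsPr K z → (∀ b ∈ K, b ∈ J1 ∨ b ∈ J2) → ∀ b ∈ K, ∀ x ∈ N,
      (c * b * c⁻¹) * x = x * (c * b * c⁻¹) := by
    intro K hK hKJ b hb x hx
    have h1 : K ≤ (centralizer ({x} : Set G)).comap (MulAut.conj c).toMonoidHom := by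
      refine hK.le_of_cube fun v hv hv3 => ?_
      show c * v * c⁻¹ ∈ centralizer ({x} : Set G)
      exact mem_centralizer_singleton_iff.2 (key v (hKJ v hv) hv3 x hx)
    exact mem_centralizer_singleton_iff.1 (h1 hb)
  intro x hx
  rcases hb with hb | hb
  · exact gen J1 h.p1 (fun b hb => Or.inl hb) b hb x hx
  · exact gen J2 h.p2 (fun b hb => Or.inr hb) b hb x hx

/-- **(2)(B)**: `C(w) ≤ C(z)` -/
theorem Fr.caseB (hT : TStmt.{u}) (hFT : FT G) (hB : BL G) (h : Fr N J1 J2 y z w q1 q2 s n) (hN : Comp y N)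
    (hZ : IsPGroup 2 ↥(center ↥N))
    (hOw : pPrimeCore 2 ↥(centralizer ({w} : Set G)) = ⊥) (hs : Sn J1 (centralizer ({w} : Set G))) {c : G}
    (hcw : c * w = w * c) : c * z = z * c := by
  by_contra hcon
  have hcz : c * z * c⁻¹ ≠ z := by
    intro h1
    exact hcon (mul_inv_eq_iff_eq_mul.1 h1)
  have hNc : ∀ b : G, (b ∈ J1 ∨ b ∈ J2) → ∀ x ∈ N, (c * b * c⁻¹) * x = x * (c * b * c⁻¹) := fun b hb =>
    h.comm_N hT hN hZ hOw hs hcw hcz hb
  set u := q1 * q2 with hu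
  set N' : Subgroup G := D3.cj c⁻¹ N with hN'
  set y' := c⁻¹ * y * c⁻¹⁻¹ with hy'
  have hNc' : ∀ b : G, (b ∈ J1 ∨ b ∈ J2) → ∀ x ∈ N', b * x = x * b := by
    rintro b hb _ ⟨x, hx, rfl⟩
    have h1 := hNc b hb x hx
    show b * (c⁻¹ * x * c⁻¹⁻¹) = (c⁻¹ * x * c⁻¹⁻¹) * b
    calc b * (c⁻¹ * x * c⁻¹⁻¹) = c⁻¹ * ((c * b * c⁻¹) * x) * c := by group
      _ = c⁻¹ * (x * (c * b * c⁻¹)) * c := by rw [h1]
      _ = (c⁻¹ * x * c⁻¹⁻¹) * b := by group
  have hNu : ∀ x ∈ N', u * x = x * u := by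
    intro x hx
    have c1 : Commute q1 x := hNc' q1 (Or.inl h.hq1) x hx
    have c2 : Commute q2 x := hNc' q2 (Or.inr h.hq2) x hx
    exact (c1.mul_left c2).eq
  have hyN' : y' ∈ N' := ⟨y, h.yN, rfl⟩
  have hcN : Comp y' N' := hN.conj c⁻¹
  have hy'o : orderOf y' = 2 := by
    rw [← h.yo]
    have := orderOf_injective (MulAut.conj c⁻¹).toMonoidHom (MulAut.conj c⁻¹).injective y
    simpa [hy'] using this
  have huy : u * y' = y' * u := hNu y' hyN'
  have hin : CompIn (centralizer ({u} : Set G) ⊓ centralizer ({y'} : Set G)) N' := by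
    refine (NI.compIn_of_comp hcN).mono (le_inf ?_ hcN.le) inf_le_right
    intro x hx
    exact mem_centralizer_singleton_iff.2 (hNu x hx).symm
  obtain ⟨D, hD, hcase⟩ := pump2 hFT hB h.uo hy'o huy hin
  -- `J₅ = J₁^n`
  have hJ5 : Sn (Cit.cj n J1) (centralizer ({u} : Set G)) := by
    have h1 := hs.cj n
    have h2 : Cit.cj n (centralizer ({w} : Set G)) = centralizer ({u} : Set G) := by
      have h3 := D3.cj_centralizer_singleton n w
      rw [h.nw] at h3
      exact h3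
    rwa [h2] at h1
  have hp5 : IsPr (Cit.cj n J1) (n * z * n⁻¹) := h.p1.cj n
  have hcomm : ∀ E : Subgroup G, Comp u E → ∀ e ∈ E, (n * z * n⁻¹) * e = e * (n * z * n⁻¹) := by
    intro E hE e he
    have h1 := comm_component (hp5.subgroupOf hJ5.le) hJ5.2 hE.comp ⟨_, hJ5.le hp5.mem⟩ hp5.mem
      ⟨e, hE.le he⟩ he
    exact congrArg Subtype.val h1
  have hz5 : ∀ x ∈ N', (n * z * n⁻¹) * x = x * (n * z * n⁻¹) := by
    rcases hcase with h1 | h1 | h1
    · intro x hx
      rw [h1] at hx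
      exact hcomm D hD x hx
    · intro x hx
      exact hcomm D hD x (h1.1.le hx)
    · intro x hx
      obtain ⟨d, hd, rfl⟩ := h1.ex x hx
      have h2 := hD.conj_of_comm huy.symm
      have c1 : Commute (n * z * n⁻¹) d := hcomm D hD d hd
      have c2 : Commute (n * z * n⁻¹) (y' * d * y'⁻¹) := hcomm _ h2 _ ⟨d, hd, rfl⟩
      exact (c1.mul_right c2).eq
  -- so `w` centralises `N'`
  have hwN : ∀ x ∈ N', w * x = x * w := by
    intro x hx
    have c1 : Commute (y * u) x := by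
      have h1 := hz5 x hx
      rw [h.nz] at h1
      exact h1
    have c2 : Commute u x := hNu x hx
    have c3 : Commute z x := hNc' z (Or.inl h.p1.mem) x hx
    have c4 : Commute y x := by
      have h1 : y = (y * u) * u⁻¹ := by group
      rw [h1]
      exact c1.mul_left c2.inv_left
    rw [h.w_eq]
    exact (c3.mul_left c4).eq
  apply h.w_not_central
  intro a ha
  have h1 := hwN (c⁻¹ * a * c⁻¹⁻¹) ⟨a, ha, rfl⟩
  have h2 : c * w * c⁻¹ = w := by rw [hcw]; group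
  calc a * w = a * (c * w * c⁻¹) := by rw [h2]
    _ = c * ((c⁻¹ * a * c⁻¹⁻¹) * w) * c⁻¹ := by group
    _ = c * (w * (c⁻¹ * a * c⁻¹⁻¹)) * c⁻¹ := by rw [h1]
    _ = (c * w * c⁻¹) * a := by group
    _ = w * a := by rw [h2]

/-- **STEP (2)** -/
theorem stepTwo (hT : TStmt.{u}) (hFT : FT G) (hB : BL G)
    (hO : ∀ g : G, orderOf g = 2 → pPrimeCore 2 ↥(centralizer ({g} : Set G)) = ⊥)
    (h : Fr N J1 J2 y z w q1 q2 s n) (hN : Comp y N) (hZ : IsPGroup 2 ↥(center ↥N))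
    (hs : Sn J1 (centralizer ({w} : Set G)))
    (hR1 : ∀ a ∈ J1, a * a = z →
      a ∈ (pCore 2 ↥(centralizer ({z} : Set G))).map (centralizer ({z} : Set G)).subtype)
    (hR2 : ∀ a ∈ J2, a * a = z →
      a ∈ (pCore 2 ↥(centralizer ({z} : Set G))).map (centralizer ({z} : Set G)).subtype) :
    Sn J1 (centralizer ({z} : Set G)) := by
  have hcz : ∀ c : G, c * w = w * c → c * z = z * c := fun c hc =>
    h.caseB hT hFT hB hN hZ (hO w h.wo) hs hc
  set H : Subgroup G := centralizer ({z} : Set G) with hH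
  have hle : ∀ {a : G}, a * z = z * a → a ∈ H := fun ha => mem_centralizer_singleton_iff.2 ha
  have hJ1H : J1 ≤ H := fun a ha => hle (h.J1z ha)
  have hJ2H : J2 ≤ H := fun a ha => hle (h.J2z ha)
  have hs' : ∀ J : Subgroup G, J ≤ H → Sn J (centralizer ({w} : Set G)) →
      Sn (J.subgroupOf H) (centralizer ({(⟨w, hle h.zw.symm⟩ : H)} : Set H)) := by
    intro J hJ hJs
    rw [← centralizer_subgroupOf (hle h.zw.symm)]
    exact hJs.comap _
  have hs2 : Sn J2 (centralizer ({w} : Set G)) := by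
    have h1 := hs.cj s
    have h2 : Cit.cj s (centralizer ({w} : Set G)) = centralizer ({w} : Set G) := by
      have h3 := D3.cj_centralizer_singleton s w
      have h4 : s * w * s⁻¹ = w := by rw [h.sw]; group
      rw [h4] at h3
      exact h3
    rwa [h2, h.sJ] at h1
  refine ⟨hJ1H, ?_⟩
  refine caseA (hO z h.p1.ord) (h.p1.subgroupOf hJ1H) (h.p2.subgroupOf hJ2H) ?_ (Subtype.ext h.ww)
    (hs' J1 hJ1H hs) (hs' J2 hJ2H hs2) ?_ ?_ ?_ (q1 := ⟨q1, hJ1H h.hq1⟩) (q2 := ⟨q2, hJ2H h.hq2⟩) h.hq1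
    (Subtype.ext h.q1z) h.hq2 (Subtype.ext h.q2z) ?_
  · intro g
    exact Subtype.ext (mem_centralizer_singleton_iff.1 g.2)
  · intro a ha
    rw [mem_centralizer_iff]
    intro b hb
    exact Subtype.ext (mem_centralizer_iff.1 (h.comm ha) b hb)
  · intro a ha haz
    obtain ⟨a', ha', hae⟩ := hR1 a ha (congrArg Subtype.val haz)
    have h1 : a' = a := Subtype.ext hae
    rwa [← h1]
  · intro a ha haz
    obtain ⟨a', ha', hae⟩ := hR2 a ha (congrArg Subtype.val haz)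
    have h1 : a' = a := Subtype.ext hae
    rwa [← h1]
  · intro c hc
    have hc' : (c : G) * (q1 * q2) = (q1 * q2) * c := congrArg Subtype.val hc
    apply Subtype.ext
    show (c : G) * w = w * c
    have hcz' : (c : G) * z = z * c := mem_centralizer_singleton_iff.1 c.2
    refine h.w_of hcz' ?_
    -- `n⁻¹ c n` commutes with `w`, hence with `z` and `y`
    have h1 : (n⁻¹ * c * n) * w = w * (n⁻¹ * c * n) := by
      have h2 : w = n⁻¹ * (q1 * q2) * n := by rw [← h.nw]; group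
      rw [h2]
      calc n⁻¹ * c * n * (n⁻¹ * (q1 * q2) * n) = n⁻¹ * (c * (q1 * q2)) * n := by group
        _ = n⁻¹ * ((q1 * q2) * c) * n := by rw [hc']
        _ = n⁻¹ * (q1 * q2) * n * (n⁻¹ * c * n) := by group
    have h2 := h.y_of (hcz _ h1) h1
    have h3 : n * y * n⁻¹ = y := by rw [h.yc n h.nN]; group
    calc (c : G) * y = c * (n * y * n⁻¹) := by rw [h3]
      _ = n * ((n⁻¹ * c * n) * y) * n⁻¹ := by group
      _ = n * (y * (n⁻¹ * c * n)) * n⁻¹ := by rw [h2]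
      _ = (n * y * n⁻¹) * c := by group
      _ = y * c := by rw [h3]

end

end Cfsg.Agent.OddHalf.NI3.Bad
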