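import Cfsg.Agent.OddHalf.NI3.Bad.StepTwo
import Cfsg.Agent.OddHalf.NI3.Bad.Basic

/-!
# THEOREM NIB: step (2) for a configuration `Cfg N a b e A B`

* `Sheet.fr` : the facts `Fr` of step (2);
* `Cfg.caseB` : if `A` is subnormal in `C(e)` then `C(e) ≤ C(a b)`;
* `Cfg.stepTwo` : if `A` is subnormal in `C(e)` and `O₂(A) O₂(B) ≤ O₂(C(a b))` then `A` is subnormal in `C(a b)`;
* `Cfg.false_of_sn` : contradiction in `Ctx G`.
-/

set_option autoImplicit false
set_option linter.style.haveILetI false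

namespace Cfsg.Agent.OddHalf.NI3.Bad

open Subgroup Cfsg Cfsg.Agent.OddHalf.Iface Cfsg.Agent.OddHalf.LieOddFam
open Cfsg.Agent.OddHalf.D3 (Comp FT BL)
open Cfsg.Agent.OddHalf.NI (CompIn)
open Cfsg.Agent.Cit (cj TStmt)

universe u

section

variable {G : Type*} [Group G] {N : Subgroup G} {a b e : G} {A B : Subgroup G}

theorem Sheet.e_ne (h : Sheet N a b e A B) : e ≠ 1 := by
  obtain ⟨c, -, -, h2, h3⟩ := h.rot
  intro he
  have hb : b = 1 := by
    have : b = c⁻¹ * (c * b * c⁻¹) * c := by group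
    rw [this, h2, he]; group
  have ha : a = 1 := by rw [← h3, he]; group
  exact h.z_ne (by rw [ha, hb, mul_one])

theorem Sheet.fr (h : Sheet N a b e A B) : ∃ p q s n : G, Fr N A B (a * b * e) (a * b) e p q s n := by
  obtain ⟨p, hp, q, hq, h1, h2, h3⟩ := h.a_eq
  obtain ⟨c, hc, h4, h5, h6⟩ := h.rot
  obtain ⟨s, hs, h7, h8, h9, h10, h11⟩ := h.swap
  refine ⟨p, q, s, c, ?_⟩
  exact
    { p1 := h.prA
      le1 := h.AN
      comm := fun x hx => mem_centralizer_iff.2 fun y hy => h.AB y hy x hx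
      yN := h.yN
      yc := h.y_comm
      yo := h.y_ord
      wo := orderOf_eq_prime (by rw [pow_two, h.ee]) h.e_ne
      wN := h.eN
      yzw := rfl
      sn1 := h.snA
      nor := by
        intro g hg hgz x hx
        have h12 := h.nor g hg hgz
        have h13 : g * x * g⁻¹ ∈ cj g (A ⊔ B) := ⟨x, hx, rfl⟩
        rwa [h12] at h13
      cen := by
        intro g hg hgA hgB
        rcases h.cAB g hg hgA hgB with h1 | h1 | h1 | h1
        · exact Or.inl h1
        · exact Or.inr (Or.inl h1)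
        · exact Or.inr (Or.inr (Or.inr h1))
        · exact Or.inr (Or.inr (Or.inl h1))
      hq1 := hp
      q1z := h1
      hq2 := hq
      q2z := h2
      sN := hs
      sw := h8
      sJ := h10
      nN := hc
      nw := by rw [h6, h3] }

/-- the centre of `N` is a 2-group -/
theorem Sheet.center_two (h : Sheet N a b e A B) : IsPGroup 2 ↥(center ↥N) := by
  rintro ⟨⟨x, hxN⟩, hx⟩
  refine ⟨1, ?_⟩
  have h1 : ∀ g ∈ N, g * x = x * g := by
    intro g hg
    exact congrArg Subtype.val (mem_center_iff.1 hx ⟨g, hg⟩)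
  apply Subtype.ext
  apply Subtype.ext
  show x ^ 2 ^ 1 = 1
  rw [pow_one, pow_two]
  rcases h.cen x hxN h1 with h2 | h2
  · rw [h2, mul_one]
  · rw [h2]; exact h.yy

end

section

variable {G : Type u} [Group G] [Finite G] {N : Subgroup G} {a b e : G} {A B : Subgroup G}

/-- **(2)(B)** -/
theorem Cfg.caseB (hT : TStmt.{u}) (hFT : FT G) (hB : BL G) (h : Cfg N a b e A B)
    (hOe : pPrimeCore 2 ↥(centralizer ({e} : Set G)) = ⊥) (hs : Sn A (centralizer ({e} : Set G))) {c : G}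
    (hc : c * e = e * c) : c * (a * b) = a * b * c := by
  obtain ⟨p, q, s, n, hfr⟩ := h.fr
  exact hfr.caseB hT hFT hB h.comp h.center_two hOe hs hc

/-- **STEP (2)** -/
theorem Cfg.stepTwo (hT : TStmt.{u}) (hFT : FT G) (hB : BL G)
    (hO : ∀ g : G, orderOf g = 2 → pPrimeCore 2 ↥(centralizer ({g} : Set G)) = ⊥)
    (h : Cfg N a b e A B) (hs : Sn A (centralizer ({e} : Set G)))
    (hA : ∀ x ∈ A, x * x = a * b → x ∈ PP (a * b)) (hBB : ∀ x ∈ B, x * x = a * b → x ∈ PP (a * b)) :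
    Sn A (centralizer ({a * b} : Set G)) := by
  obtain ⟨p, q, s, n, hfr⟩ := h.fr
  exact Bad.stepTwo hT hFT hB hO hfr h.comp h.center_two hs hA hBB

end

/-- `O(C(g)) = 1` in `Ctx G` -/
theorem core_of_ctx {G : Type u} [Group G] (C : Ctx G) (g : G) (hg : orderOf g = 2) :
    pPrimeCore 2 ↥(centralizer ({g} : Set G)) = ⊥ := by
  have h1 := C.bal g hg
  rwa [centralizerPPrimeCore, Subgroup.map_eq_bot_iff_of_injective _ (Subgroup.subtype_injective _)] at h1

/-- **STEP (2)**: `A` is not subnormal in `C(e)` -/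
theorem Cfg.false_of_sn {G : Type u} [Group G] (C : Ctx G) (hT : TStmt.{u}) (hFT : FT G) (hB : BL G) {N : Subgroup G}
    {a b e : G} {A B : Subgroup G} (h : Cfg N a b e A B) (hs : Sn A (centralizer ({e} : Set G)))
    (hA : ∀ x ∈ A, x * x = a * b → x ∈ PP (a * b)) (hBB : ∀ x ∈ B, x * x = a * b → x ∈ PP (a * b)) : False := by
  haveI := C.fin
  have h1 := h.stepTwo hT hFT hB (core_of_ctx C) hs hA hBB
  exact Cfg.not_cl C ⟨h.prA, h1⟩

end Cfsg.Agent.OddHalf.NI3.Bad
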