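import Cfsg.Agent.OddHalf.D4.M22.CenCert
import Cfsg.Agent.OddHalf.NI3.Bad.ExTri

/-!
# Triples (`ExTri`) in subgroups of `M24`: Boolean certificates

`D ≤ M24`, `X` normal in `D`; packed permutations (`KFacts.MM.El`).

* `grp L h` : the subgroup with elements packed in `L`;
* `Cls D X inX adm v gens TL RL WL GO` : for an element `v` of order 3 of `D`, a Sylow 2-subgroup `TL` of `C_D(v)`,
  generated by `gens`;
* `max_cls` : it is maximal; `pair_of_row`.
-/

set_option autoImplicit false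

namespace Cfsg.Agent.OddHalf.NI3.TriM24

open Subgroup Cfsg Cfsg.Agent.SporadicA.GolayBase Cfsg.Agent.SporadicA.GolayPerm
open Cfsg.Agent.SporadicStructure.M24El Cfsg.Agent.KFacts.MM Cfsg.Agent.OddHalf.D4.M22.CenCert
open Cfsg.Agent.OddHalf.NI3.ExTri

/-! ### Subgroups given by lists -/

/-- a list of packed permutations closed under products -/
def chkG (L : List ℕ) : Bool :=
  L.all isPerm && L.contains idP && L.all fun P => L.all fun Q => L.any fun R => El.weq [P, Q] [R]

theorem inv_mem_of_mul {G : Type*} [Group G] [Finite G] {S : Set G} (h1 : (1 : G) ∈ S)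
    (hm : ∀ x ∈ S, ∀ y ∈ S, x * y ∈ S) {x : G} (hx : x ∈ S) : x⁻¹ ∈ S := by
  have hp : ∀ n : ℕ, x ^ n ∈ S := by
    intro n
    induction n with
    | zero => rw [pow_zero]; exact h1
    | succ n ih => rw [pow_succ]; exact hm _ ih _ hx
  have h2 : x⁻¹ = x ^ (orderOf x - 1) := by
    have h3 : 0 < orderOf x := orderOf_pos x
    rw [inv_eq_iff_mul_eq_one, ← pow_succ', Nat.sub_add_cancel h3, pow_orderOf_eq_one]
  rw [h2]
  exact hp _

theorem isPerm_idP : isPerm idP = true := InvM22.isPerm_of_ok ok_idP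

theorem okl_cons {P : ℕ} {l : List ℕ} (h : isPerm P = true) (hl : El.okl l = true) : El.okl (P :: l) = true := by
  unfold El.okl at hl ⊢
  rw [List.all_cons, h, hl]
  rfl

theorem okl_nil : El.okl [] = true := rfl

/-- the subgroup with elements packed in `L` -/
def grp (L : List ℕ) (h : chkG L = true) : Subgroup (Equiv.Perm GolayPt) where
  carrier := {g | ∃ P ∈ L, El.pm P = g}
  one_mem' := by
    unfold chkG at h
    rw [Bool.and_eq_true, Bool.and_eq_true] at h
    exact ⟨idP, List.contains_iff_mem.1 h.1.2, pm_idP⟩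
  mul_mem' := by
    rintro _ _ ⟨P, hP, rfl⟩ ⟨Q, hQ, rfl⟩
    unfold chkG at h
    rw [Bool.and_eq_true, Bool.and_eq_true, List.all_eq_true, List.all_eq_true] at h
    have h1 := h.2 P hP
    rw [List.all_eq_true] at h1
    have h2 := h1 Q hQ
    rw [List.any_eq_true] at h2
    obtain ⟨R, hR, hw⟩ := h2
    refine ⟨R, hR, ?_⟩
    have h3 := El.pr_of_weq (okl_cons (h.1.1 P hP) (okl_cons (h.1.1 Q hQ) okl_nil))
      (okl_cons (h.1.1 R hR) okl_nil) hw
    rw [El.pr_cons, El.pr_one, El.pr_one] at h3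
    exact h3.symm
  inv_mem' := by
    intro x hx
    refine inv_mem_of_mul (S := {g | ∃ P ∈ L, El.pm P = g}) ?_ ?_ hx
    · unfold chkG at h
      rw [Bool.and_eq_true, Bool.and_eq_true] at h
      exact ⟨idP, List.contains_iff_mem.1 h.1.2, pm_idP⟩
    · rintro _ ⟨P, hP, rfl⟩ _ ⟨Q, hQ, rfl⟩
      unfold chkG at h
      rw [Bool.and_eq_true, Bool.and_eq_true, List.all_eq_true, List.all_eq_true] at h
      have h1 := h.2 P hP
      rw [List.all_eq_true] at h1
      have h2 := h1 Q hQ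
      rw [List.any_eq_true] at h2
      obtain ⟨R, hR, hw⟩ := h2
      refine ⟨R, hR, ?_⟩
      have h3 := El.pr_of_weq (okl_cons (h.1.1 P hP) (okl_cons (h.1.1 Q hQ) okl_nil))
        (okl_cons (h.1.1 R hR) okl_nil) hw
      rw [El.pr_cons, El.pr_one, El.pr_one] at h3
      exact h3.symm

theorem mem_grp {L : List ℕ} {h : chkG L = true} {g : Equiv.Perm GolayPt} :
    g ∈ grp L h ↔ ∃ P ∈ L, El.pm P = g := Iff.rfl

theorem perm_of_chkG {L : List ℕ} (h : chkG L = true) {P : ℕ} (hP : P ∈ L) : isPerm P = true := by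
  unfold chkG at h
  rw [Bool.and_eq_true, Bool.and_eq_true, List.all_eq_true] at h
  exact h.1.1 P hP

theorem card_grp {L : List ℕ} (h : chkG L = true) (hd : El.dist (L.map fun P => [P]) = true) :
    Nat.card (grp L h) = L.length := by
  have h1 := El.card_of_list (L := L.map fun P => [P]) (by
    intro l hl
    obtain ⟨P, hP, rfl⟩ := List.mem_map.1 hl
    exact okl_cons (perm_of_chkG h hP) okl_nil) hd (grp L h : Set (Equiv.Perm GolayPt)) (by
      intro g
      constructor
      · rintro ⟨P, hP, rfl⟩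
        exact ⟨[P], List.mem_map.2 ⟨P, hP, rfl⟩, El.pr_one P⟩
      · rintro ⟨l, hl, rfl⟩
        obtain ⟨P, hP, rfl⟩ := List.mem_map.1 hl
        exact ⟨P, hP, (El.pr_one P).symm⟩)
  rw [List.length_map] at h1
  exact h1

/-! ### Equations between words -/

theorem weq2 {A B C E : ℕ} (hA : isPerm A = true) (hB : isPerm B = true) (hC : isPerm C = true)
    (hE : isPerm E = true) (h : El.weq [A, B] [C, E] = true) : El.pm A * El.pm B = El.pm C * El.pm E := by
  have h3 := El.pr_of_weq (okl_cons hA (okl_cons hB okl_nil)) (okl_cons hC (okl_cons hE okl_nil)) h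
  rwa [El.pr_cons, El.pr_one, El.pr_cons, El.pr_one] at h3

theorem weq1 {A B : ℕ} (hA : isPerm A = true) (hB : isPerm B = true)
    (h : El.weq [A] [B] = true) : El.pm A = El.pm B := by
  have h3 := El.pr_of_weq (okl_cons hA okl_nil) (okl_cons hB okl_nil) h
  rwa [El.pr_one, El.pr_one] at h3

/-! ### One class of elements of order 3 -/

/-- the Boolean check of one class -/
def chkC (inX : ℕ → Bool) (adm : ℕ → ℕ → Bool) (v : ℕ) (gens TL : List ℕ) (tst : List (List ℕ)) (RL : List Root)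
    (WL : List (ℕ × List ℕ)) (GO : List ℕ) : Bool :=
  -- the group `TL`, centralising `v`, of exponent dividing 16, containing `gens`
  chkG TL && (gens.all fun P => TL.contains P) && (TL.all fun P => El.weq [P, v] [v, P] &&
    El.weq [P, P, P, P, P, P, P, P, P, P, P, P, P, P, P, P] []) &&
  -- the centraliser of `v :: gens`
  chk (v :: gens) adm RL WL GO &&
  (GO.all fun Q => isPerm Q && (TL.all fun P => El.weq [P, Q] [Q, P]) &&
    (!(TL.any fun P => El.weq [Q, Q] [P]) || TL.any fun P => El.weq [Q] [P])) &&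
  -- automorphisms of the group `TL`
  ((combos (gens.map fun _ => TL)).all fun c =>
    !((c.zip gens).all fun p => inX p.1 == inX p.2) ||
    !(tst.all fun w => El.weq (wd c w) [] == El.weq (wd gens w) []) ||
    TL.any fun R => (c.zip gens).all fun p => El.weq [R, p.2] [p.1, R])

theorem exists_images {L gens : List ℕ} {R : ℕ → ℕ → Prop} (h : ∀ P ∈ gens, ∃ a ∈ L, R a P) :
    ∃ c : List ℕ, List.Forall₂ (fun a P => a ∈ L ∧ R a P) c gens := by
  induction gens with
  | nil => exact ⟨[], List.Forall₂.nil⟩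
  | cons P l ih =>
    obtain ⟨a, ha, hR⟩ := h P List.mem_cons_self
    obtain ⟨c, hc⟩ := ih fun Q hQ => h Q (List.mem_cons_of_mem _ hQ)
    exact ⟨a :: c, List.Forall₂.cons ⟨ha, hR⟩ hc⟩

theorem forall_zip {R : ℕ → ℕ → Prop} {c l : List ℕ} (h : List.Forall₂ R c l) : ∀ p ∈ c.zip l, R p.1 p.2 := by
  induction h with
  | nil => intro p hp; simp at hp
  | cons h1 _ ih =>
    intro p hp
    rw [List.zip_cons_cons, List.mem_cons] at hp
    rcases hp with rfl | hp
    · exact h1
    · exact ih p hp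

theorem forall_getD {R : ℕ → ℕ → Prop} {c l : List ℕ} (h : List.Forall₂ R c l) (h0 : R idP idP) (k : ℕ) :
    R (c.getD k idP) (l.getD k idP) := by
  induction h generalizing k with
  | nil => exact h0
  | cons h1 _ ih =>
    cases k with
    | zero => exact h1
    | succ k => simpa using ih k

theorem pr_wd_conj {n : Equiv.Perm GolayPt} {c l : List ℕ}
    (h : List.Forall₂ (fun a P => El.pm a = n * El.pm P * n⁻¹) c l) (w : List ℕ) :
    El.pr (wd c w) = n * El.pr (wd l w) * n⁻¹ := by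
  induction w with
  | nil => simp [wd, El.pr_nil]
  | cons k w ih =>
    have h1 : wd c (k :: w) = c.getD k idP :: wd c w := rfl
    have h2 : wd l (k :: w) = l.getD k idP :: wd l w := rfl
    have h3 := forall_getD (R := fun a P => El.pm a = n * El.pm P * n⁻¹) h (by rw [pm_idP]; group) k
    rw [h1, h2, El.pr_cons, El.pr_cons, ih, h3]
    group

theorem okl_wd' {D : List ℕ} (hD : ∀ P ∈ D, isPerm P = true) (w : List ℕ) : El.okl (wd D w) = true := by
  unfold El.okl wd
  rw [List.all_eq_true]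
  intro x hx
  obtain ⟨k, -, rfl⟩ := List.mem_map.1 hx
  rw [List.getD_eq_getElem?_getD]
  rcases hk : D[k]? with _ | P
  · exact isPerm_idP
  · exact hD P (List.mem_of_getElem? hk)

variable {D X : Subgroup (Equiv.Perm GolayPt)} {inX : ℕ → Bool} {adm : ℕ → ℕ → Bool} {v : ℕ} {gens TL : List ℕ}
  {tst : List (List ℕ)} {RL : List Root} {WL : List (ℕ × List ℕ)} {GO : List ℕ}

/-- the group `TL` is a Sylow 2-subgroup of the centraliser of `v` in `D` -/
theorem max_cls (hDM : ∀ g ∈ D, g ∈ M24)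
    (hinX : ∀ P, isPerm P = true → El.pm P ∈ D → (inX P = true ↔ El.pm P ∈ X))
    (hXn : ∀ g ∈ D, ∀ x, x ∈ X ↔ g * x * g⁻¹ ∈ X)
    (hadm : ∀ g ∈ D, ∀ j < 24, adm j (El.val g j) = true)
    (h : chkC inX adm v gens TL tst RL WL GO = true) (hG : chkG TL = true) (hTD : ∀ P ∈ TL, El.pm P ∈ D)
    (hvp : isPerm v = true) (hv : El.pm v ∈ D) :
    ∀ Q : Subgroup D, Q ≤ centralizer {(⟨El.pm v, hv⟩ : D)} → IsPGroup 2 Q →
      (grp TL hG).subgroupOf D ≤ Q → Q = (grp TL hG).subgroupOf D := by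
  haveI : Fact (Nat.Prime 2) := ⟨Nat.prime_two⟩
  unfold chkC at h
  simp only [Bool.and_eq_true, List.all_eq_true] at h
  obtain ⟨⟨⟨⟨⟨-, hgT⟩, hTv⟩, hcert⟩, hGO⟩, hcomb⟩ := h
  have hgT' : ∀ P ∈ gens, P ∈ TL := fun P hP => List.contains_iff_mem.1 (hgT P hP)
  have hTp : ∀ P ∈ TL, isPerm P = true := fun P hP => perm_of_chkG hG hP
  have hgp : ∀ P ∈ gens, isPerm P = true := fun P hP => hTp P (hgT' P hP)
  apply max_of_nrm
  · -- a 2-group
    rintro ⟨x, hx⟩
    obtain ⟨P, hP, e⟩ := (mem_subgroupOf.1 hx : (x : Equiv.Perm GolayPt) ∈ grp TL hG)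
    refine ⟨4, Subtype.ext (Subtype.ext ?_)⟩
    push_cast
    rw [← e]
    have h1 := (hTv P hP).2
    have hp := hTp P hP
    have h2 := El.pr_of_weq (okl_cons hp <| okl_cons hp <| okl_cons hp <| okl_cons hp <| okl_cons hp <|
      okl_cons hp <| okl_cons hp <| okl_cons hp <| okl_cons hp <| okl_cons hp <| okl_cons hp <| okl_cons hp <|
      okl_cons hp <| okl_cons hp <| okl_cons hp <| okl_cons hp okl_nil) okl_nil h1
    simp only [El.pr_cons, El.pr_nil, mul_one] at h2
    rw [← h2]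
    simp only [pow_succ, pow_zero, one_mul, mul_assoc]
  · intro n hn hnT hn2
    rw [mem_centralizer_singleton_iff] at hn
    have hn' : (n : Equiv.Perm GolayPt) * El.pm v = El.pm v * n := congrArg Subtype.val hn
    have hnD := n.2
    -- the images of the generators
    obtain ⟨c, hc⟩ := exists_images (L := TL) (gens := gens)
      (R := fun a P => El.pm a = (n : Equiv.Perm GolayPt) * El.pm P * (n : Equiv.Perm GolayPt)⁻¹) (by
        intro P hP
        have h1 := hnT ⟨El.pm P, hTD P (hgT' P hP)⟩ (mem_subgroupOf.2 ⟨P, hgT' P hP, rfl⟩)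
        obtain ⟨a, ha, e⟩ := mem_subgroupOf.1 h1
        exact ⟨a, ha, e⟩)
    have hcT : ∀ a ∈ c, a ∈ TL := by
      intro a ha
      have := List.forall₂_iff_get.1 hc
      obtain ⟨k, hk, rfl⟩ := List.mem_iff_getElem.1 ha
      exact (this.2 k hk (by rw [← this.1]; exact hk)).1
    have hcc : c ∈ combos (gens.map fun _ => TL) := by
      apply mem_combos
      rw [List.forall₂_map_right_iff]
      exact hc.imp fun _ _ hab => hab.1
    have hR := hc.imp (fun _ _ hab => hab.2)
    have h1 := hcomb c hcc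
    rw [Bool.or_eq_true, Bool.or_eq_true, Bool.not_eq_true', Bool.not_eq_true'] at h1
    have hzipT : ∀ p ∈ c.zip gens, p.1 ∈ TL ∧ p.2 ∈ gens := fun p hp =>
      ⟨(forall_zip hc p hp).1, (List.of_mem_zip hp).2⟩
    rcases h1 with (h1 | h1) | h1
    · exfalso
      rw [← Bool.not_eq_true, List.all_eq_true] at h1
      apply h1
      intro p hp
      have h2 := forall_zip hR p hp
      have h3 := hzipT p hp
      have h4 := hinX p.1 (hTp _ h3.1) (hTD _ h3.1)
      have h5 := hinX p.2 (hgp _ h3.2) (hTD _ (hgT' _ h3.2))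
      have h6 := hXn n hnD (El.pm p.2)
      rw [← h2, ← h4, ← h5] at h6
      rw [beq_iff_eq, Bool.eq_iff_iff]
      exact h6.symm
    · exfalso
      rw [← Bool.not_eq_true, List.all_eq_true] at h1
      apply h1
      intro w _
      have h2 := pr_wd_conj hR w
      have h3 := El.weq_iff (okl_wd' (fun P hP => hTp P (hcT P hP)) w) okl_nil
      have h4 := El.weq_iff (okl_wd' hgp w) okl_nil
      rw [beq_iff_eq, Bool.eq_iff_iff, h3, h4, h2, El.pr_nil]
      constructor
      · intro h5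
        calc El.pr (wd gens w) = (n : Equiv.Perm GolayPt)⁻¹ *
              ((n : Equiv.Perm GolayPt) * El.pr (wd gens w) * (n : Equiv.Perm GolayPt)⁻¹) * n := by group
          _ = 1 := by rw [h5]; group
      · intro h5
        rw [h5]; group
    · rw [List.any_eq_true] at h1
      obtain ⟨R, hRT, hRz⟩ := h1
      rw [List.all_eq_true] at hRz
      have hRp := hTp R hRT
      have hRD := hTD R hRT
      set q : Equiv.Perm GolayPt := (El.pm R)⁻¹ * n with hq
      have hqD : q ∈ D := mul_mem (inv_mem hRD) hnD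
      -- `q` commutes with the generators
      have hqg : ∀ P ∈ gens, q * El.pm P = El.pm P * q := by
        intro P hP
        obtain ⟨k, hk, rfl⟩ := List.mem_iff_getElem.1 hP
        have hlen := hR.length_eq
        have hk' : k < c.length := by rw [hlen]; exact hk
        obtain ⟨a, ha⟩ : ∃ a, a = List.get c ⟨k, hk'⟩ := ⟨_, rfl⟩
        have hp : (a, gens[k]) ∈ c.zip gens := by
          have h5 : k < (c.zip gens).length := by rw [List.length_zip, hlen, min_self]; exact hk
          have h6 : List.get (c.zip gens) ⟨k, h5⟩ = (a, gens[k]) := by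
            rw [ha]
            exact List.getElem_zip
          rw [← h6]
          exact List.get_mem _ _
        have h5 := forall_zip hR _ hp
        have h6 := weq2 hRp (hgp _ hP) (hTp _ (hzipT _ hp).1) hRp (hRz _ hp)
        -- `R P = a R`, `a = n P n⁻¹`
        have h7 : El.pm a = El.pm R * El.pm gens[k] * (El.pm R)⁻¹ := by
          rw [h6]; group
        have h5' : El.pm a = (n : Equiv.Perm GolayPt) * El.pm gens[k] * (n : Equiv.Perm GolayPt)⁻¹ := h5
        rw [h7] at h5'
        calc q * El.pm gens[k] = (El.pm R)⁻¹ * ((n : Equiv.Perm GolayPt) * El.pm gens[k] *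
              (n : Equiv.Perm GolayPt)⁻¹) * n := by rw [hq]; group
          _ = (El.pm R)⁻¹ * (El.pm R * El.pm gens[k] * (El.pm R)⁻¹) * n := by rw [h5']
          _ = El.pm gens[k] * q := by rw [hq]; group
      have hRv : El.pm R * El.pm v = El.pm v * El.pm R := weq2 hRp hvp hvp hRp (hTv R hRT).1
      have hqv : q * El.pm v = El.pm v * q := by
        calc q * El.pm v = (El.pm R)⁻¹ * ((n : Equiv.Perm GolayPt) * El.pm v) := by rw [hq]; group
          _ = (El.pm R)⁻¹ * (El.pm v * El.pm R) * (El.pm R)⁻¹ * n := by rw [hn']; group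
          _ = (El.pm R)⁻¹ * (El.pm R * El.pm v) * (El.pm R)⁻¹ * n := by rw [hRv]
          _ = El.pm v * q := by rw [hq]; group
      obtain ⟨Q, hQ, hqQ⟩ := cen_of_cert hcert (hDM q hqD) (hadm q hqD) (by
        intro P hP
        rcases List.mem_cons.1 hP with rfl | hP
        · exact hqv
        · exact hqg P hP)
      have hQ2 := hGO Q hQ
      obtain ⟨⟨hQp, hQT⟩, hQs⟩ := hQ2
      have hcom : El.pm R * El.pm Q = El.pm Q * El.pm R := weq2 hRp hQp hQp hRp (hQT R hRT)
      have hnq : (n : Equiv.Perm GolayPt) = El.pm R * El.pm Q := by rw [← hqQ, hq]; group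
      -- the square
      have h8 : (n : Equiv.Perm GolayPt) * n ∈ grp TL hG := by
        have := mem_subgroupOf.1 hn2
        rw [pow_two] at this
        exact this
      have hRG : El.pm R ∈ grp TL hG := ⟨R, hRT, rfl⟩
      have h9 : El.pm Q * El.pm Q ∈ grp TL hG := by
        have h10 : El.pm Q * El.pm Q = (El.pm R)⁻¹ * (El.pm R)⁻¹ * ((n : Equiv.Perm GolayPt) * n) := by
          rw [hnq]
          calc El.pm Q * El.pm Q = (El.pm R)⁻¹ * (El.pm R)⁻¹ * (El.pm R * (El.pm R * El.pm Q) * El.pm Q) := by group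
            _ = (El.pm R)⁻¹ * (El.pm R)⁻¹ * (El.pm R * (El.pm Q * El.pm R) * El.pm Q) := by rw [hcom]
            _ = _ := by group
        rw [h10]
        exact mul_mem (mul_mem (inv_mem hRG) (inv_mem hRG)) h8
      obtain ⟨P, hP, hPe⟩ := h9
      rw [Bool.or_eq_true, Bool.not_eq_true'] at hQs
      rcases hQs with hQs | hQs
      · exfalso
        rw [← Bool.not_eq_true, List.any_eq_true] at hQs
        apply hQs
        refine ⟨P, hP, ?_⟩
        rw [El.weq_iff (okl_cons hQp (okl_cons hQp okl_nil)) (okl_cons (hTp P hP) okl_nil), El.pr_cons,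
          El.pr_one, El.pr_one, hPe]
      · rw [List.any_eq_true] at hQs
        obtain ⟨P', hP', hw⟩ := hQs
        have h11 := weq1 hQp (hTp P' hP') hw
        rw [mem_subgroupOf, hnq, h11]
        exact mul_mem hRG ⟨P', hP', rfl⟩

/-! ### The triples -/

/-- `a` is a triple for `g`, `v` -/
def chkT (okX : ℕ → Bool) (g v a : ℕ) : Bool :=
  okX a && El.weq [a, g] [g, a] && El.weq [a, a] [] && !(El.weq [a] []) && El.weq [a, v, a, v, a, v] []

/-- the involutions of `TL` have two triples -/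
def chkA (okX : ℕ → Bool) (v : ℕ) (TL : List ℕ) (AL : List (ℕ × ℕ × ℕ)) : Bool :=
  TL.all fun P => El.weq [P] [] || !(El.weq [P, P] []) || AL.any fun t => Nat.beq t.1 P &&
    chkT okX P v t.2.1 && chkT okX P v t.2.2 && !(El.weq [t.2.2] [t.2.1]) &&
    !(El.weq [t.2.2, v] [v, t.2.1]) && !(El.weq [t.2.2, v, v] [v, v, t.2.1])

theorem tri_of_cube {W : Type*} [Group W] {g b a : W} (h1 : a * g = g * a) (h2 : a * a = 1) (h3 : a ≠ 1)
    (hb : b * b * b = 1) (h : a * b * (a * b) * (a * b) = 1) : TriW g b a := by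
  refine ⟨h1, h2, h3, ?_⟩
  have hb' : b⁻¹ * b⁻¹ = b := by
    calc b⁻¹ * b⁻¹ = b⁻¹ * b⁻¹ * (b * b * b) := by rw [hb, mul_one]
      _ = b := by group
  calc a * (b * a * b⁻¹) * (b * (b * a * b⁻¹) * b⁻¹) = a * b * a * b * a * (b⁻¹ * b⁻¹) := by group
    _ = a * b * a * b * a * b := by rw [hb']
    _ = a * b * (a * b) * (a * b) := by group
    _ = 1 := h

theorem tri_of_chk {okX : ℕ → Bool} (hX : ∀ P, okX P = true → isPerm P = true ∧ El.pm P ∈ X) {g a : ℕ}
    (hg : isPerm g = true) (hv : isPerm v = true) (hv3 : El.pm v * El.pm v * El.pm v = 1)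
    (h : chkT okX g v a = true) : El.pm a ∈ X ∧ TriW (El.pm g) (El.pm v) (El.pm a) := by
  unfold chkT at h
  simp only [Bool.and_eq_true, Bool.not_eq_true'] at h
  obtain ⟨⟨⟨⟨h1, h2⟩, h3⟩, h4⟩, h5⟩ := h
  obtain ⟨ha, haX⟩ := hX a h1
  refine ⟨haX, tri_of_cube (weq2 ha hg hg ha h2) ?_ ?_ hv3 ?_⟩
  · have := El.pr_of_weq (okl_cons ha (okl_cons ha okl_nil)) okl_nil h3
    rwa [El.pr_cons, El.pr_one, El.pr_nil] at this
  · have := El.pr_ne (okl_cons ha okl_nil) okl_nil h4
    rwa [El.pr_one, El.pr_nil] at this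
  · have := El.pr_of_weq (okl_cons ha <| okl_cons hv <| okl_cons ha <| okl_cons hv <| okl_cons ha <|
      okl_cons hv okl_nil) okl_nil h5
    simp only [El.pr_cons, El.pr_nil, mul_one] at this
    rw [← this]
    simp only [mul_assoc]

theorem pair_of_chk {okX : ℕ → Bool} (hX : ∀ P, okX P = true → isPerm P = true ∧ El.pm P ∈ X) (hXD : X ≤ D)
    {AL : List (ℕ × ℕ × ℕ)} (h : chkA okX v TL AL = true) (hG : chkG TL = true)
    (hvp : isPerm v = true) (hv : El.pm v ∈ D) (hv3 : El.pm v * El.pm v * El.pm v = 1) :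
    ∀ t ∈ (grp TL hG).subgroupOf D, t * t = 1 → t ≠ 1 → Pair (X.subgroupOf D) t ⟨El.pm v, hv⟩ := by
  intro t ht ht2 ht1
  obtain ⟨P, hP, e⟩ := mem_subgroupOf.1 ht
  have hPp := perm_of_chkG hG hP
  unfold chkA at h
  rw [List.all_eq_true] at h
  have h1 := h P hP
  rw [Bool.or_eq_true, Bool.or_eq_true, Bool.not_eq_true', ← Bool.not_eq_true] at h1
  rcases h1 with (h1 | h1) | h1
  · exfalso
    have := El.pr_of_weq (okl_cons hPp okl_nil) okl_nil h1
    rw [El.pr_one, El.pr_nil, e] at this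
    exact ht1 (Subtype.ext this)
  · exfalso
    apply h1
    rw [El.weq_iff (okl_cons hPp (okl_cons hPp okl_nil)) okl_nil, El.pr_cons, El.pr_one, El.pr_nil, e]
    exact congrArg Subtype.val ht2
  · rw [List.any_eq_true] at h1
    obtain ⟨⟨P', a, c⟩, -, h2⟩ := h1
    simp only [Bool.and_eq_true, Bool.not_eq_true'] at h2
    obtain ⟨⟨⟨⟨⟨h3, h4⟩, h5⟩, h6⟩, h7⟩, h8⟩ := h2
    obtain ⟨haX, ta⟩ := tri_of_chk hX hPp hvp hv3 h4
    obtain ⟨hcX, tc⟩ := tri_of_chk hX hPp hvp hv3 h5
    have hap : isPerm a = true := by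
      unfold chkT at h4
      simp only [Bool.and_eq_true] at h4
      exact (hX a h4.1.1.1.1).1
    have hcp : isPerm c = true := by
      unfold chkT at h5
      simp only [Bool.and_eq_true] at h5
      exact (hX c h5.1.1.1.1).1
    rw [e] at ta tc
    right
    refine ⟨⟨El.pm a, hXD haX⟩, haX, ⟨El.pm c, hXD hcX⟩, hcX, ?_, ?_, ?_, ?_, ?_⟩
    · exact ⟨Subtype.ext ta.comm, Subtype.ext ta.sq, fun h => ta.ne (congrArg Subtype.val h), Subtype.ext ta.tri⟩
    · exact ⟨Subtype.ext tc.comm, Subtype.ext tc.sq, fun h => tc.ne (congrArg Subtype.val h), Subtype.ext tc.tri⟩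
    · intro h
      have := El.pr_ne (okl_cons hcp okl_nil) (okl_cons hap okl_nil) h6
      rw [El.pr_one, El.pr_one] at this
      exact this (congrArg Subtype.val h)
    · intro h
      have h9 := congrArg Subtype.val h
      have := El.pr_ne (okl_cons hcp (okl_cons hvp okl_nil)) (okl_cons hvp (okl_cons hap okl_nil)) h7
      rw [El.pr_cons, El.pr_one, El.pr_cons, El.pr_one] at this
      apply this
      have h10 : El.pm c = El.pm v * El.pm a * (El.pm v)⁻¹ := h9
      rw [h10]; group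
    · intro h
      have h9 := congrArg Subtype.val h
      have := El.pr_ne (okl_cons hcp (okl_cons hvp (okl_cons hvp okl_nil)))
        (okl_cons hvp (okl_cons hvp (okl_cons hap okl_nil))) h8
      simp only [El.pr_cons, El.pr_nil, mul_one] at this
      apply this
      have h10 : El.pm c = El.pm v * (El.pm v * El.pm a * (El.pm v)⁻¹) * (El.pm v)⁻¹ := h9
      rw [h10]; group

/-! ### The elements of order 3 -/

/-- every element of the Sylow 3-subgroup `EL` is 1 or conjugate to an element of `VL` or its inverse -/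
def chkE (okD : ℕ → Bool) (VL EL : List ℕ) (CL : List (ℕ × ℕ × ℕ)) : Bool :=
  EL.all fun P => El.weq [P] [] || !(El.weq [P, P, P] []) || CL.any fun t => Nat.beq t.1 P && okD t.2.1 &&
    VL.contains t.2.2 && El.weq [t.2.1, t.2.2] [P, t.2.1]

theorem exists_rep [Finite D] {okD : ℕ → Bool} (hD : ∀ P, okD P = true → isPerm P = true ∧ El.pm P ∈ D)
    {VL EL : List ℕ} {CL : List (ℕ × ℕ × ℕ)} (h : chkE okD VL EL CL = true) (hG : chkG EL = true)
    (hd : El.dist (EL.map fun P => [P]) = true) (hED : ∀ P ∈ EL, El.pm P ∈ D) (hV : ∀ P ∈ VL, isPerm P = true)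
    (hVD : ∀ P ∈ VL, El.pm P ∈ D) {k m : ℕ} (hk : EL.length = 3 ^ k) (hm : Nat.card D = 3 ^ k * m) (h3 : ¬ 3 ∣ m)
    (b : D) (hb : b * b * b = 1) (hb1 : b ≠ 1) :
    ∃ P, ∃ hP : P ∈ VL, ∃ w : D, w * b * w⁻¹ = ⟨El.pm P, hVD P hP⟩ := by
  haveI : Fact (Nat.Prime 3) := ⟨Nat.prime_three⟩
  have hle : grp EL hG ≤ D := by
    rintro _ ⟨P, hP, rfl⟩
    exact hED P hP
  have hcard : Nat.card ((grp EL hG).subgroupOf D) = 3 ^ k := by
    rw [Nat.card_congr (subgroupOfEquivOfLe hle).toEquiv, card_grp hG hd, hk]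
  obtain ⟨c, -, hc⟩ := exists_conj_of_max (p := 3) (C := (⊤ : Subgroup D)) (T := (grp EL hG).subgroupOf D) le_top
    (IsPGroup.of_card hcard) (max_of_card hcard hm h3) (g := b) (mem_top b)
    ⟨1, by rw [pow_one, pow_succ, pow_succ, pow_one]; exact hb⟩
  obtain ⟨P, hP, e⟩ := mem_subgroupOf.1 hc
  have hPp := perm_of_chkG hG hP
  unfold chkE at h
  rw [List.all_eq_true] at h
  have h1 := h P hP
  rw [Bool.or_eq_true, Bool.or_eq_true, Bool.not_eq_true', ← Bool.not_eq_true] at h1
  rcases h1 with (h1 | h1) | h1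
  · exfalso
    have := El.pr_of_weq (okl_cons hPp okl_nil) okl_nil h1
    rw [El.pr_one, El.pr_nil, e] at this
    apply hb1
    have h2 : c * b * c⁻¹ = 1 := Subtype.ext this
    calc b = c⁻¹ * (c * b * c⁻¹) * c := by group
      _ = 1 := by rw [h2]; group
  · exfalso
    apply h1
    rw [El.weq_iff (okl_cons hPp (okl_cons hPp (okl_cons hPp okl_nil))) okl_nil]
    simp only [El.pr_cons, El.pr_nil, mul_one]
    rw [e]
    have h2 : c * b * c⁻¹ * (c * b * c⁻¹ * (c * b * c⁻¹)) = 1 := by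
      calc _ = c * (b * b * b) * c⁻¹ := by group
        _ = 1 := by rw [hb]; group
    exact congrArg Subtype.val h2
  · rw [List.any_eq_true] at h1
    obtain ⟨⟨P', x, V⟩, -, h2⟩ := h1
    simp only [Bool.and_eq_true] at h2
    obtain ⟨⟨⟨-, h3⟩, h4⟩, h5⟩ := h2
    have hV' := List.contains_iff_mem.1 h4
    obtain ⟨hxp, hxD⟩ := hD x h3
    have h6 := weq2 hxp (hV V hV') hPp hxp h5
    refine ⟨V, hV', (⟨El.pm x, hxD⟩ : D)⁻¹ * c, Subtype.ext ?_⟩
    change (El.pm x)⁻¹ * (c : Equiv.Perm GolayPt) * b * ((El.pm x)⁻¹ * (c : Equiv.Perm GolayPt))⁻¹ = El.pm V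
    have e' : El.pm P = (c : Equiv.Perm GolayPt) * b * (c : Equiv.Perm GolayPt)⁻¹ := e
    calc (El.pm x)⁻¹ * (c : Equiv.Perm GolayPt) * b * ((El.pm x)⁻¹ * (c : Equiv.Perm GolayPt))⁻¹
        = (El.pm x)⁻¹ * ((c : Equiv.Perm GolayPt) * b * (c : Equiv.Perm GolayPt)⁻¹) * El.pm x := by group
      _ = (El.pm x)⁻¹ * (El.pm P * El.pm x) := by rw [← e']; group
      _ = El.pm V := by rw [← h6]; group

/-- the class of `v` is fine -/
theorem goodCls (hDM : ∀ g ∈ D, g ∈ M24)
    (hinX : ∀ P, isPerm P = true → El.pm P ∈ D → (inX P = true ↔ El.pm P ∈ X))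
    (hXn : ∀ g ∈ D, ∀ x, x ∈ X ↔ g * x * g⁻¹ ∈ X)
    (hadm : ∀ g ∈ D, ∀ j < 24, adm j (El.val g j) = true) (hXD : X ≤ D)
    {okX okD : ℕ → Bool} (hX : ∀ P, okX P = true → isPerm P = true ∧ El.pm P ∈ X)
    (hD : ∀ P, okD P = true → isPerm P = true ∧ El.pm P ∈ D) {AL : List (ℕ × ℕ × ℕ)}
    (hv : okD v = true) (hv3 : El.weq [v, v, v] [] = true) (hTD : (TL.all okD) = true)
    (h : chkC inX adm v gens TL tst RL WL GO = true) (hA : chkA okX v TL AL = true) :
    GoodCls (X.subgroupOf D) (⟨El.pm v, (hD v hv).2⟩ : D) := by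
  have hG : chkG TL = true := by
    unfold chkC at h
    simp only [Bool.and_eq_true] at h
    exact h.1.1.1.1.1
  rw [List.all_eq_true] at hTD
  have hv3' : El.pm v * El.pm v * El.pm v = 1 := by
    have hp := (hD v hv).1
    have := El.pr_of_weq (okl_cons hp (okl_cons hp (okl_cons hp okl_nil))) okl_nil hv3
    simp only [El.pr_cons, El.pr_nil, mul_one] at this
    rw [← this, mul_assoc]
  have hTv : ∀ P ∈ TL, El.weq [P, v] [v, P] = true ∧
      El.weq [P, P, P, P, P, P, P, P, P, P, P, P, P, P, P, P] [] = true := by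
    unfold chkC at h
    simp only [Bool.and_eq_true, List.all_eq_true] at h
    exact h.1.1.1.2
  refine ⟨Subtype.ext hv3', (grp TL hG).subgroupOf D, ?_, ?_, ?_, ?_⟩
  · intro t ht
    obtain ⟨P, hP, e⟩ := mem_subgroupOf.1 ht
    have hPp := perm_of_chkG hG hP
    have h1 := weq2 hPp (hD v hv).1 (hD v hv).1 hPp (hTv P hP).1
    rw [e] at h1
    exact Subtype.ext h1
  · rintro ⟨x, hx⟩
    obtain ⟨P, hP, e⟩ := (mem_subgroupOf.1 hx : (x : Equiv.Perm GolayPt) ∈ grp TL hG)
    refine ⟨4, Subtype.ext (Subtype.ext ?_)⟩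
    push_cast
    rw [← e]
    have hp := perm_of_chkG hG hP
    have h2 := El.pr_of_weq (okl_cons hp <| okl_cons hp <| okl_cons hp <| okl_cons hp <| okl_cons hp <|
      okl_cons hp <| okl_cons hp <| okl_cons hp <| okl_cons hp <| okl_cons hp <| okl_cons hp <| okl_cons hp <|
      okl_cons hp <| okl_cons hp <| okl_cons hp <| okl_cons hp okl_nil) okl_nil (hTv P hP).2
    simp only [El.pr_cons, El.pr_nil, mul_one] at h2
    rw [← h2]
    simp only [pow_succ, pow_zero, one_mul, mul_assoc]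
  · exact max_cls hDM hinX hXn hadm h hG (fun P hP => (hD P (hTD P hP)).2) (hD v hv).1 (hD v hv).2
  · exact pair_of_chk hX hXD hA hG (hD v hv).1 (hD v hv).2 hv3'

end Cfsg.Agent.OddHalf.NI3.TriM24
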