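import Cfsg.Agent.OddHalf.NI3.Bad.Frame
import Cfsg.Agent.OddHalf.NI3.Bad.Cube
import Cfsg.Agent.OddHalf.NI3.Step
import Cfsg.Agent.SignalizersComponents.IntrinsicDiag

/-!
# A classical `SL₂(3)` of `Ω(V)` is trivial on `V_+(z)`, `dim V_+(z) ≤ 4`

`Ctx3` : `V` over `F₃`, `x ∈ Ω(V)` an involution, `e` an orthogonal basis of `V_-(x)` (four equal values), `f` one of
`V_+(x)` with three equal values, `dim V_+(x) = 3 + m`, `m ≤ 1`; `-1 ∉ Ω(V)`.
* `Ctx3.triv` : a subgroup `J ≃ SL₂(3)` with involution `x`, subnormal in `C_Ω(x)`, is trivial on `V_+(x)`.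
-/

set_option autoImplicit false
set_option linter.unusedSectionVars false
set_option linter.unusedVariables false
set_option linter.style.haveILetI false

namespace Cfsg.Agent.OddHalf.NI3.Bad.Triv

open scoped commutatorElement
open QuadraticMap Module Cfsg.Agent.LieClassical.OrthCore Cfsg.Agent.OddHalf.NI3.Bad.Emb
  Cfsg.Agent.ClassicalGeometry.OddInvolutions Cfsg.Agent.OddHalf.NI3.Bad.QPair Cfsg.Agent.OddHalf.NI3.Bad.Sim
  Cfsg.Agent.OddHalf.NI3.Bad.Frame Cfsg.Agent.OddHalf.NI3.Bad.Models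

variable {F V : Type*} [Field F] [Fintype F] [AddCommGroup V] [Module F V] [FiniteDimensional F V]
  {Q : QuadraticForm F V}

theorem finite_gl : Finite (V ≃ₗ[F] V) := by
  haveI : Finite V := Module.finite_of_finite F
  exact DFunLike.finite _

/-- the setting -/
structure Ctx3 (Q : QuadraticForm F V) (x : V ≃ₗ[F] V) (m : ℕ) (ce c : F) (d : Fin 3 ⊕ Fin m → F)
    (e : Fin 4 → V) (f : Fin 3 ⊕ Fin m → V) : Prop where
  hF : Fintype.card F = 3
  nd : Nondeg Q
  hm : m ≤ 1
  hn : finrank F V = 4 + (3 + m)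
  neg : ¬ Neg Q
  he : OF Q (fun _ => ce) e
  hf : OF Q d f
  hd : ∀ i, d (Sum.inl i) = c
  ef : ∀ i k, polar Q (e i) (f k) = 0
  xO : x ∈ O Q
  xe : ∀ i, x (e i) = -e i
  xf : ∀ k, x (f k) = f k

namespace Ctx3

variable {x : V ≃ₗ[F] V} {m : ℕ} {ce c : F} {d : Fin 3 ⊕ Fin m → F} {e : Fin 4 → V} {f : Fin 3 ⊕ Fin m → V}
  (h : Ctx3 Q x m ce c d e f)

include h

theorem h2 : (2 : F) ≠ 0 := two_ne h.hF

/-- the full family -/
theorem full : OF Q (Sum.elim (fun _ => ce) d) (Sum.elim e f) := OF_sum h.he h.hf h.ef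

theorem full_card : Fintype.card (Fin 4 ⊕ (Fin 3 ⊕ Fin m)) = finrank F V := by
  rw [Fintype.card_sum, Fintype.card_sum, Fintype.card_fin, Fintype.card_fin, Fintype.card_fin, h.hn]

theorem ext {g k : V ≃ₗ[F] V} (h1 : ∀ i, g (e i) = k (e i)) (h3 : ∀ i, g (f i) = k (f i)) : g = k := by
  have h4 : ∀ v, (k⁻¹ * g) v = v := by
    apply ext_full h.h2 h.full h.full_card
    have h5 : ∀ v, g v = k v → (k⁻¹ * g) v = v := by
      intro v hv
      show k.symm (g v) = v
      rw [hv, k.symm_apply_apply]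
    rintro (i | i)
    · exact h5 _ (h1 i)
    · exact h5 _ (h3 i)
  ext v
  have h5 : k.symm (g v) = v := h4 v
  rw [← k.apply_symm_apply (g v), h5]

theorem xx : x * x = 1 := by
  apply h.ext
  · intro i
    show x (x (e i)) = e i
    rw [h.xe, map_neg, h.xe, neg_neg]
  · intro i
    show x (x (f i)) = f i
    rw [h.xf, h.xf]

theorem x_ne : x ≠ 1 := by
  intro h1
  have h3 := h.xe 0
  rw [h1] at h3
  have h4 : e 0 = -e 0 := h3
  have h5 : (2 : F) • e 0 = 0 := by
    rw [two_smul]; nth_rewrite 1 [h4]; abel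
  exact OF_ne_zero h.he 0 ((smul_eq_zero.1 h5).resolve_left h.h2)

theorem xx_apply (v : V) : x (x v) = v := by
  have := congrArg (fun l : V ≃ₗ[F] V => l v) h.xx
  exact this

/-- `V_+` -/
theorem mem_plus {v : V} (hv : x v = v) (i : Fin 4) : polar Q (e i) v = 0 := by
  rw [polar_comm]
  exact eig_orth h.h2 h.xO hv (h.xe i)

theorem mem_minus {v : V} (hv : x v = -v) (i : Fin 3 ⊕ Fin m) : polar Q (f i) v = 0 :=
  eig_orth h.h2 h.xO (h.xf i) hv

/-- an isometry fixing the `f i` fixes `V_+` -/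
theorem fix_plus {g : V ≃ₗ[F] V} (hg : ∀ i, g (f i) = f i) {v : V} (hv : x v = v) : g v = v := by
  have h1 : v - (h.hf.ad h.h2).L ((h.hf.ad h.h2).R v) = 0 := by
    apply h.full.eq_zero h.h2 h.full_card
    rintro (i | i)
    · show polar Q (e i) _ = 0
      rw [polar_sub_right, h.mem_plus hv, h.hf.L_apply h.h2]
      have h3 : polar Q (e i) (∑ k, (h.hf.ad h.h2).R v k • f k) = 0 := by
        rw [polar_comm, polar_sum_left]
        refine Finset.sum_eq_zero fun k _ => ?_
        rw [polar_comm, h.ef, mul_zero]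
      rw [h3, sub_zero]
    · exact OF_proj_mem h.h2 h.hf v i
  rw [sub_eq_zero] at h1
  rw [h1, h.hf.L_apply h.h2, map_sum]
  refine Finset.sum_congr rfl fun i _ => ?_
  rw [map_smul, hg]

/-- the elements of order 3 -/
theorem cube_fix {v : V ≃ₗ[F] V} (hvO : v ∈ O Q) (hvx : v * x = x * v) (hv3 : v * v * v = 1)
    (hc : ∀ (a b : Fin 3 ⊕ Fin m) (hab : a ≠ b), (∃ i, a = Sum.inl i) → (∃ i, b = Sum.inl i) →
      v * sg2 h.h2 h.hf hab = sg2 h.h2 h.hf hab * v) : ∀ i, v (f i) = f i := by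
  have h1 : ∀ i : Fin 3, v (f (Sum.inl i)) = f (Sum.inl i) := by
    intro i
    have key : ∀ i j k : Fin 3, i ≠ j → i ≠ k → j ≠ k → v (f (Sum.inl i)) = f (Sum.inl i) := by
      intro i j k hij hik hjk
      exact cubeA h.hF h.hf (a := Sum.inl i) (b := Sum.inl j) (c := Sum.inl k)
        (fun h => hij (Sum.inl_injective h)) (fun h => hik (Sum.inl_injective h))
        (fun h => hjk (Sum.inl_injective h)) hv3 (hc _ _ _ ⟨_, rfl⟩ ⟨_, rfl⟩) (hc _ _ _ ⟨_, rfl⟩ ⟨_, rfl⟩)
    fin_cases i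
    · exact key 0 1 2 (by decide) (by decide) (by decide)
    · exact key 1 0 2 (by decide) (by decide) (by decide)
    · exact key 2 0 1 (by decide) (by decide) (by decide)
  rintro (i | i)
  · exact h1 i
  · have hm := h.hm
    have hcx : x (v (f (Sum.inr i))) = v (f (Sum.inr i)) := by
      have h3 : (x * v) (f (Sum.inr i)) = (v * x) (f (Sum.inr i)) := by rw [hvx]
      have h4 : x (v (f (Sum.inr i))) = v (x (f (Sum.inr i))) := h3
      rw [h4, h.xf]
    obtain ⟨α, hα⟩ := line h.h2 h.full h.full_card (i₀ := Sum.inr (Sum.inr i)) (y := v (f (Sum.inr i))) (by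
      rintro (k | k | k) hk
      · exact h.mem_plus hcx k
      · show polar Q (f (Sum.inl k)) _ = 0
        rw [← h1 k, polar_map hvO]
        exact h.hf.orth _ _ (by simp)
      · exfalso
        apply hk
        have : k = i := Fin.ext (by omega)
        rw [this])
    exact cube_scalar h.hF (OF_ne_zero h.hf _) hv3 hα

/-- an isometry fixing the `e i` fixes `V_-` -/
theorem fix_minus {g : V ≃ₗ[F] V} (hg : ∀ i, g (e i) = e i) {v : V} (hv : x v = -v) : g v = v := by
  have h1 : v - (h.he.ad h.h2).L ((h.he.ad h.h2).R v) = 0 := by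
    apply h.full.eq_zero h.h2 h.full_card
    rintro (i | i)
    · exact OF_proj_mem h.h2 h.he v i
    · show polar Q (f i) _ = 0
      rw [polar_sub_right, h.mem_minus hv, h.he.L_apply h.h2]
      have h3 : polar Q (f i) (∑ k, (h.he.ad h.h2).R v k • e k) = 0 := by
        rw [polar_comm, polar_sum_left]
        refine Finset.sum_eq_zero fun k _ => ?_
        rw [h.ef, mul_zero]
      rw [h3, sub_zero]
  rw [sub_eq_zero] at h1
  rw [h1, h.he.L_apply h.h2, map_sum]
  refine Finset.sum_congr rfl fun i _ => ?_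
  rw [map_smul, hg]

omit h in
theorem conj_mem_Om {k g : V ≃ₗ[F] V} (hk : k ∈ O Q) (hg : g ∈ Om Q) : k * g * k⁻¹ ∈ Om Q := by
  have hle : Om Q ≤ O Q := Subgroup.commutator_le_self _
  have h1 : k * g * k⁻¹ = ⁅k, g⁆ * g := by rw [commutatorElement_def]; group
  rw [h1]
  exact (Om Q).mul_mem (Subgroup.commutator_mem_commutator hk (hle hg)) hg

omit h in
/-- the elementary abelian group of `Ω(V_+)`, `dim V_+ = 3` -/
def PP (Q : QuadraticForm F V) {m : ℕ} (e : Fin 4 → V) (f : Fin 3 ⊕ Fin m → V) : Subgroup (V ≃ₗ[F] V) where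
  carrier := {g | g ∈ Om Q ∧ (∀ i, g (e i) = e i) ∧ ∀ i, g (f i) = f i ∨ g (f i) = -f i}
  mul_mem' {a b} ha hb := by
    refine ⟨(Om Q).mul_mem ha.1 hb.1, fun i => ?_, fun i => ?_⟩
    · show a (b (e i)) = e i
      rw [hb.2.1, ha.2.1]
    · show a (b (f i)) = f i ∨ a (b (f i)) = -f i
      rcases hb.2.2 i with h1 | h1 <;> rcases ha.2.2 i with h3 | h3 <;> rw [h1]
      · left; exact h3
      · right; exact h3
      · right; rw [map_neg, h3]
      · left; rw [map_neg, h3, neg_neg]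
  one_mem' := ⟨(Om Q).one_mem, fun _ => rfl, fun _ => Or.inl rfl⟩
  inv_mem' {a} ha := by
    refine ⟨(Om Q).inv_mem ha.1, fun i => ?_, fun i => ?_⟩
    · show a.symm (e i) = e i
      rw [LinearEquiv.symm_apply_eq, ha.2.1]
    · show a.symm (f i) = f i ∨ a.symm (f i) = -f i
      rcases ha.2.2 i with h1 | h1
      · left; rw [LinearEquiv.symm_apply_eq, h1]
      · right; rw [LinearEquiv.symm_apply_eq, map_neg, h1, neg_neg]

theorem PP_sq {g : V ≃ₗ[F] V} (hg : g ∈ PP Q e f) : g * g = 1 := by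
  apply h.ext
  · intro i
    show g (g (e i)) = e i
    rw [hg.2.1, hg.2.1]
  · intro i
    show g (g (f i)) = f i
    rcases hg.2.2 i with h1 | h1
    · rw [h1, h1]
    · rw [h1, map_neg, h1, neg_neg]

theorem PP_comm {g : V ≃ₗ[F] V} (hg : g ∈ PP Q e f) : g * x = x * g := by
  apply h.ext
  · intro i
    show g (x (e i)) = x (g (e i))
    rw [h.xe, map_neg, hg.2.1, h.xe]
  · intro i
    show g (x (f i)) = x (g (f i))
    rw [h.xf]
    rcases hg.2.2 i with h1 | h1
    · rw [h1, h.xf]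
    · rw [h1, map_neg, h.xf]

theorem sg2_mem_PP {a b : Fin 3 ⊕ Fin m} (hab : a ≠ b) (hd : d a = d b) : sg2 h.h2 h.hf hab ∈ PP Q e f := by
  refine ⟨sg2_mem_Om h.h2 h.hf hab hd, fun i => ?_, fun i => ?_⟩
  · rw [sg2_iff]
    exact ⟨by rw [polar_comm]; exact h.ef i a, by rw [polar_comm]; exact h.ef i b⟩
  · by_cases ha : i = a
    · right; rw [ha]; exact sg2_left h.h2 h.hf hab
    · by_cases hb : i = b
      · right; rw [hb]; exact sg2_right h.h2 h.hf hab
      · left
        rw [sg2_iff]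
        exact ⟨h.hf.orth a i (Ne.symm ha), h.hf.orth b i (Ne.symm hb)⟩

/-- the vectors of `V_+` with value `c`, `dim V_+ = 3` -/
theorem norm_plus (hm0 : m = 0) {y : V} (hy : x y = y) (hQy : Q y = c) : ∃ i, y = f i ∨ y = -f i := by
  subst hm0
  have h1 : y = ∑ i, (h.hf.ad h.h2).R y i • f i := by
    have h3 : y - (h.hf.ad h.h2).L ((h.hf.ad h.h2).R y) = 0 := by
      apply h.full.eq_zero h.h2 h.full_card
      rintro (i | i)
      · show polar Q (e i) _ = 0
        rw [polar_sub_right, h.mem_plus hy, h.hf.L_apply h.h2]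
        have h3 : polar Q (e i) (∑ k, (h.hf.ad h.h2).R y k • f k) = 0 := by
          rw [polar_comm, polar_sum_left]
          refine Finset.sum_eq_zero fun k _ => ?_
          rw [polar_comm, h.ef, mul_zero]
        rw [h3, sub_zero]
      · exact OF_proj_mem h.h2 h.hf y i
    rw [h.hf.L_apply h.h2] at h3
    exact sub_eq_zero.1 h3
  set a := (h.hf.ad h.h2).R y with ha
  have h3 : Q y = c * (a (Sum.inl 0) * a (Sum.inl 0) + a (Sum.inl 1) * a (Sum.inl 1) +
      a (Sum.inl 2) * a (Sum.inl 2)) := by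
    have h4 : Q y = DQ d a := by
      rw [h1, ← h.hf.L_apply h.h2]
      exact (h.hf.ad h.h2).nm a
    rw [h4, DQ_apply, Fintype.sum_sum_type, Fin.sum_univ_three, h.hd, h.hd, h.hd]
    simp only [Finset.univ_eq_empty, Finset.sum_empty]
    ring
  have hc0 : c ≠ 0 := by rw [← h.hd 0]; exact h.hf.ne _
  have h4 : a (Sum.inl 0) * a (Sum.inl 0) + a (Sum.inl 1) * a (Sum.inl 1) +
      a (Sum.inl 2) * a (Sum.inl 2) = 1 := by
    rw [hQy] at h3
    exact mul_left_cancel₀ hc0 (by rw [← h3, mul_one])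
  rw [Fintype.sum_sum_type, Fin.sum_univ_three] at h1
  simp only [Finset.univ_eq_empty, Finset.sum_empty, add_zero] at h1
  have hsg : ∀ i, a i ≠ 0 → a i • f i = f i ∨ a i • f i = -f i := by
    intro i hi
    rcases cases h.hF (a i) with h5 | h5 | h5
    · exact absurd h5 hi
    · left; rw [h5, one_smul]
    · right; rw [h5, neg_smul, one_smul]
  have h20 := h.h2
  by_cases h0 : a (Sum.inl 0) = 0 <;> by_cases h5 : a (Sum.inl 1) = 0 <;> by_cases h6 : a (Sum.inl 2) = 0
  · exfalso; rw [h0, h5, h6] at h4; simp at h4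
  · refine ⟨Sum.inl 2, ?_⟩
    rw [h0, h5, zero_smul, zero_smul, zero_add, zero_add] at h1
    rw [h1]; exact hsg _ h6
  · refine ⟨Sum.inl 1, ?_⟩
    rw [h0, h6, zero_smul, zero_smul, zero_add, add_zero] at h1
    rw [h1]; exact hsg _ h5
  · exfalso
    rw [h0, mul_self_eq h.hF h5, mul_self_eq h.hF h6] at h4
    exact one_ne_zero (α := F) (by linear_combination h4)
  · refine ⟨Sum.inl 0, ?_⟩
    rw [h5, h6, zero_smul, zero_smul, add_zero, add_zero] at h1
    rw [h1]; exact hsg _ h0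
  · exfalso
    rw [h5, mul_self_eq h.hF h0, mul_self_eq h.hF h6] at h4
    exact one_ne_zero (α := F) (by linear_combination h4)
  · exfalso
    rw [h6, mul_self_eq h.hF h0, mul_self_eq h.hF h5] at h4
    exact one_ne_zero (α := F) (by linear_combination h4)
  · exfalso
    rw [mul_self_eq h.hF h0, mul_self_eq h.hF h5, mul_self_eq h.hF h6] at h4
    exact h20 (by linear_combination h4)

theorem PP_conj (hm0 : m = 0) {k g : V ≃ₗ[F] V} (hk : k ∈ O Q) (hkx : k * x = x * k) (hg : g ∈ PP Q e f) :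
    k * g * k⁻¹ ∈ PP Q e f := by
  have hki : ∀ v, x (k.symm v) = k.symm (x v) := by
    intro v
    rw [LinearEquiv.eq_symm_apply]
    have h1 : (k * x) (k.symm v) = (x * k) (k.symm v) := by rw [hkx]
    have h3 : k (x (k.symm v)) = x (k (k.symm v)) := h1
    rw [h3, k.apply_symm_apply]
  refine ⟨conj_mem_Om hk hg.1, fun i => ?_, fun i => ?_⟩
  · show k (g (k.symm (e i))) = e i
    rw [h.fix_minus hg.2.1 (v := k.symm (e i)) (by rw [hki, h.xe, map_neg]), k.apply_symm_apply]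
  · show k (g (k.symm (f i))) = f i ∨ k (g (k.symm (f i))) = -f i
    have h1 : x (k.symm (f i)) = k.symm (f i) := by rw [hki, h.xf]
    have h3 : Q (k.symm (f i)) = c := by
      have h4 : Q (k.symm (f i)) = Q (f i) := mem_O.1 ((O Q).inv_mem hk) (f i)
      rw [h4, h.hf.nm]
      rcases i with i | i
      · exact h.hd i
      · subst hm0; exact i.elim0
    obtain ⟨j, hj⟩ := h.norm_plus hm0 h1 h3
    have h5 : g (k.symm (f i)) = k.symm (f i) ∨ g (k.symm (f i)) = -(k.symm (f i)) := by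
      rcases hj with hj | hj <;> rcases hg.2.2 j with h6 | h6 <;> rw [hj]
      · left; exact h6
      · right; exact h6
      · left; rw [map_neg, h6]
      · right; rw [map_neg, h6]
    rcases h5 with h6 | h6
    · left; rw [h6, k.apply_symm_apply]
    · right; rw [h6, map_neg, k.apply_symm_apply]

/-- `-1` on `V_+` -/
theorem ng_f : (h.hf.ad h.h2).ng = LinearEquiv.neg F * x := by
  apply h.ext
  · intro i
    show (h.hf.ad h.h2).ng (e i) = -(x (e i))
    rw [h.xe, neg_neg, OF_ng_iff h.h2 h.hf]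
    intro k
    rw [polar_comm]; exact h.ef i k
  · intro i
    show (h.hf.ad h.h2).ng (f i) = -(x (f i))
    rw [h.xf, OF_ng_f h.h2 h.hf]

/-- `-1` on `V_-` -/
theorem ng_e : (h.he.ad h.h2).ng = x := by
  apply h.ext
  · intro i
    rw [h.xe, OF_ng_f h.h2 h.he]
  · intro i
    rw [h.xf, OF_ng_iff h.h2 h.he]
    intro k
    exact h.ef k i

theorem x_mem : x ∈ Om Q := by
  rw [← h.ng_e]
  exact Ad.B_le _ (h.he.ng_mem_B h.h2 (fun _ _ => rfl) (n := 2) (by simp))

/-- `-1 ∉ Ω(V_+)` -/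
theorem neg_f : ¬ Neg (DQ d) := by
  intro h1
  apply h.neg
  have h3 : (h.hf.ad h.h2).ng ∈ Om Q := Ad.B_le _ ⟨_, h1, rfl⟩
  have h4 : (h.hf.ad h.h2).ng * x = LinearEquiv.neg F := by rw [h.ng_f, mul_assoc, h.xx, mul_one]
  unfold Sim.Neg
  rw [← h4]
  exact (Om Q).mul_mem h3 h.x_mem

omit h in
theorem neg_comm (g : V ≃ₗ[F] V) : g * LinearEquiv.neg F = LinearEquiv.neg F * g := by
  ext v
  show g (-v) = -(g v)
  rw [map_neg]

theorem Fx_comm {g : V ≃ₗ[F] V} (hg : g ∈ (h.hf.ad h.h2).Fx) : g * x = x * g := by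
  have h1 : ∀ i, g (e i) = e i := fun i => hg.2 _ ((h.hf.R_eq_zero_iff h.h2 _).2 fun k => by
    rw [polar_comm]; exact h.ef i k)
  apply h.ext
  · intro i
    show g (x (e i)) = x (g (e i))
    rw [h.xe, map_neg, h1, h.xe]
  · intro i
    show g (x (f i)) = x (g (f i))
    rw [h.xf]
    -- `g (f i) ⊥ e`
    have h3 : (h.he.ad h.h2).ng (g (f i)) = g (f i) := by
      rw [OF_ng_iff h.h2 h.he]
      intro k
      rw [← h1 k, polar_map hg.1]
      exact h.ef k i
    rw [h.ng_e] at h3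
    exact h3.symm

omit h in
theorem qs_of {X : Type*} [Group X] (hs : IsSimpleGroup X) (hc : Subgroup.center X = ⊥) : Cfsg.IsQuasisimple X := by
  refine SignalizersComponents.IntrinsicDiag.quasisimple_of_simple hs ?_
  intro hcm
  have h1 : Subgroup.center X = ⊤ := by
    rw [eq_top_iff]
    intro a _
    rw [Subgroup.mem_center_iff]
    intro b
    exact hcm.is_comm.comm b a
  rw [hc] at h1
  obtain ⟨a, b, hab⟩ := hs.toNontrivial
  apply hab
  have ha : a ∈ (⊥ : Subgroup X) := by rw [h1]; trivial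
  have hb : b ∈ (⊥ : Subgroup X) := by rw [h1]; trivial
  rw [Subgroup.mem_bot] at ha hb
  rw [ha, hb]

/-- the component `Ω(V_+) = L₂(9)`, `dim V_+ = 4` -/
theorem qs_f (hm1 : m = 1) : Cfsg.IsQuasisimple ↥(h.hf.ad h.h2).B := by
  have hr : finrank F (Fin 3 ⊕ Fin m → F) = 4 := by
    rw [finrank_fintype_fun_eq_card, Fintype.card_sum, Fintype.card_fin, Fintype.card_fin, hm1]
  have hnd : Nondeg (DQ d) := h.hf.nondeg h.h2
  haveI : Fact (Nat.Prime 3) := ⟨Nat.prime_three⟩
  haveI : Fintype (GaloisField 3 2) := Fintype.ofFinite _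
  have hK : Fintype.card (GaloisField 3 2) = 9 := by
    rw [← Nat.card_eq_fintype_card, GaloisField.card 3 2 (by norm_num)]; norm_num
  obtain ⟨E⟩ := om4 h.hF hnd hr h.neg_f (K := GaloisField 3 2) hK
  have hs : IsSimpleGroup (Matrix.ProjectiveSpecialLinearGroup (Fin 2) (GaloisField 3 2)) :=
    Matrix.ProjectiveSpecialLinearGroup.rank_two_simple (by rw [Nat.card_eq_fintype_card, hK]; norm_num)
  have hs' : IsSimpleGroup (Om (DQ d)) := E.isSimpleGroup
  have hc : Subgroup.center (Om (DQ d)) = ⊥ := center_eq_bot hnd (by rw [hr]; norm_num) h.neg_f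
  exact SignalizersComponents.Components.isQuasisimple_of_mulEquiv (h.hf.ad h.h2).BEquiv (qs_of hs' hc)

variable {J : Subgroup (V ≃ₗ[F] V)}

theorem comm_sg2 (hJ : IsPr J x) (hs : Sn J (Om Q ⊓ Subgroup.centralizer {x})) {v : V ≃ₗ[F] V} (hv : v ∈ J)
    (h3 : v * v * v = 1) {a b : Fin 3 ⊕ Fin m} (hab : a ≠ b) (hd : d a = d b) :
    v * sg2 h.h2 h.hf hab = sg2 h.h2 h.hf hab * v := by
  haveI : Finite (V ≃ₗ[F] V) := finite_gl
  have hCO : ∀ k ∈ Om Q ⊓ Subgroup.centralizer ({x} : Set (V ≃ₗ[F] V)), k ∈ O Q ∧ k * x = x * k := by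
    intro k hk
    rw [Subgroup.mem_inf, Subgroup.mem_centralizer_singleton_iff] at hk
    exact ⟨Subgroup.commutator_le_self _ hk.1, hk.2⟩
  have hm := h.hm
  rcases Nat.le_one_iff_eq_zero_or_eq_one.1 hm with hm0 | hm1
  · refine T3.comm_of_sn hJ.t3 hs (P := PP Q e f) ?_ ?_ ?_ ?_ hv h3 (h.sg2_mem_PP hab hd)
    · intro g hg
      rw [Subgroup.mem_inf, Subgroup.mem_centralizer_singleton_iff]
      exact ⟨hg.1, h.PP_comm hg⟩
    · intro g
      refine ⟨1, ?_⟩
      rw [pow_one, pow_two]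
      exact Subtype.ext (h.PP_sq g.2)
    · intro k hk
      have h4 := hCO k (hs.1 hk)
      rw [Subgroup.mem_normalizer_iff]
      intro g
      constructor
      · intro hg
        exact h.PP_conj hm0 h4.1 h4.2 hg
      · intro hg
        have h5 := hCO k⁻¹ (Subgroup.inv_mem _ (hs.1 hk))
        have h6 := h.PP_conj hm0 h5.1 h5.2 hg
        have h7 : k⁻¹ * (k * g * k⁻¹) * k⁻¹⁻¹ = g := by group
        rwa [h7] at h6
    · intro hall
      obtain ⟨y, hy, _, _, hyy, _, _⟩ := hJ.t3.ex4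
      have h4 := h.PP_sq (hall y hy hyy)
      exact h.x_ne (hyy.symm.trans h4)
  · -- the component
    set C := Om Q ⊓ Subgroup.centralizer ({x} : Set (V ≃ₗ[F] V)) with hC
    set L := (h.hf.ad h.h2).B with hL
    have hLC : L ≤ C := by
      intro g hg
      rw [hC, Subgroup.mem_inf, Subgroup.mem_centralizer_singleton_iff]
      exact ⟨Ad.B_le _ hg, h.Fx_comm (Ad.B_le_Fx _ h.nd hg)⟩
    have hn : (L.subgroupOf C).Normal := by
      rw [Subgroup.normal_subgroupOf_iff_le_normalizer hLC]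
      intro k hk
      have h4 := hCO k hk
      refine Ad.normalizer_B_of_comm _ h.h2 h.nd h4.1 ?_
      rw [h.ng_f, ← mul_assoc, neg_comm, mul_assoc, h4.2, mul_assoc]
    have hcomp : Cfsg.IsComponent (L.subgroupOf C) :=
      ⟨hn.isSubnormal, SignalizersComponents.Components.isQuasisimple_of_mulEquiv
        (Subgroup.subgroupOfEquivOfLe hLC).symm (h.qs_f hm1)⟩
    have hJC := hs.1
    have hprC := hJ.subgroupOf hJC
    have h5 := comm_component hprC hs.2 hcomp ⟨v, hJC hv⟩ hv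
      ⟨sg2 h.h2 h.hf hab, hLC (sg2_mem_B h.h2 h.nd h.hf hab hd)⟩ (sg2_mem_B h.h2 h.nd h.hf hab hd)
    exact congrArg Subtype.val h5

/-- **`J` is trivial on `V_+`** -/
theorem triv (hJ : IsPr J x) (hs : Sn J (Om Q ⊓ Subgroup.centralizer {x})) {g : V ≃ₗ[F] V} (hg : g ∈ J) {v : V}
    (hv : x v = v) : g v = v := by
  let S : Subgroup (V ≃ₗ[F] V) :=
    { carrier := {g | ∀ v, x v = v → g v = v}
      mul_mem' := fun {a b} ha hb v hv => by
        show a (b v) = v
        rw [hb v hv, ha v hv]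
      one_mem' := fun _ _ => rfl
      inv_mem' := fun {a} ha v hv => by
        show a.symm v = v
        rw [LinearEquiv.symm_apply_eq, ha v hv] }
  have h1 : J ≤ S := by
    apply hJ.le_of_cube
    intro w hw hw3
    have h4 := hs.1 hw
    rw [Subgroup.mem_inf, Subgroup.mem_centralizer_singleton_iff] at h4
    have h5 := h.cube_fix (Subgroup.commutator_le_self _ h4.1) h4.2 hw3 (by
      rintro _ _ hab ⟨i, rfl⟩ ⟨k, rfl⟩
      exact h.comm_sg2 hJ hs hw hw3 hab (by rw [h.hd, h.hd]))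
    intro v hv
    exact h.fix_plus h5 hv
  exact h1 hg v hv

end Ctx3

end Cfsg.Agent.OddHalf.NI3.Bad.Triv
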